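import Mathlib
import Cfsg.Prelude.Def_GeometricClasses
import Cfsg.Agent.Lib.Helper99.AschDefs
import Cfsg.Agent.Lib.Helper5.AschODefs
import Cfsg.Agent.Lib.Helper5.AschODefsTr
import Cfsg.Agent.Lib.Helper94.OrthStd

/-!
# ASCHO-[FINAL] (helper5's project ASCHO, S5673) (helper95)

`inOrthogonalOddClass_of_inOrthClass`: the class predicate `InOrthClass` for the standard form implies the frozen
`InOrthogonalOddClass`.  Only class 5 needs work: the scalar `ζ` is removed by the discriminant argument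
(`det (ζ • Pᵀ G P) = ζ^(2m+1) (det P)² det G` with both determinants in the subfield).
-/

set_option autoImplicit false
set_option linter.unusedSectionVars false

namespace Cfsg.Agent.Lib.Helper95.AschOFinal

open Cfsg Cfsg.Geo Cfsg.Agent.Lib.Helper99.Asch Cfsg.Agent.Lib.Helper5.AschO
open scoped MatrixGroups Matrix Kronecker

variable {ι : Type} [Fintype ι] [DecidableEq ι] {F : Type*} [Field F]

/-- a bilinear form is given by its Gram matrix -/
theorem form_eq_gram (f : (ι → F) → (ι → F) → F) (hf : IsBilinearForm f) (u v : ι → F) :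
    f u v = u ⬝ᵥ (gramMatrix f *ᵥ v) := by
  have hsumL : ∀ (s : Finset ι) (g : ι → (ι → F)) (w : ι → F),
      f (∑ a ∈ s, g a) w = ∑ a ∈ s, f (g a) w := by
    intro s g w
    induction s using Finset.induction_on with
    | empty =>
      simp only [Finset.sum_empty]
      have := hf.smul_left 0 0 w
      simpa using this
    | insert a s ha ih =>
      rw [Finset.sum_insert ha, Finset.sum_insert ha, hf.add_left, ih]
  have hsumR : ∀ (s : Finset ι) (g : ι → (ι → F)) (w : ι → F),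
      f w (∑ a ∈ s, g a) = ∑ a ∈ s, f w (g a) := by
    intro s g w
    induction s using Finset.induction_on with
    | empty =>
      simp only [Finset.sum_empty]
      have := hf.smul_right 0 w 0
      simpa using this
    | insert a s ha ih =>
      rw [Finset.sum_insert ha, Finset.sum_insert ha, hf.add_right, ih]
  have hu : u = ∑ a, u a • (Pi.single a (1 : F) : ι → F) := by
    funext k
    simp [Finset.sum_apply, Pi.single_apply]
  have hv : v = ∑ b, v b • (Pi.single b (1 : F) : ι → F) := by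
    funext k
    simp [Finset.sum_apply, Pi.single_apply]
  conv_lhs => rw [hu, hv]
  rw [hsumL]
  show _ = ∑ a, u a * ∑ b, gramMatrix f a b * v b
  refine Finset.sum_congr rfl fun a _ => ?_
  rw [hf.smul_left, hsumR]
  congr 1
  refine Finset.sum_congr rfl fun b _ => ?_
  rw [hf.smul_right]
  unfold gramMatrix
  ring

/-- the Gram matrix of a non-degenerate bilinear form is invertible -/
theorem det_gram_ne_zero (f : (ι → F) → (ι → F) → F) (hf : IsBilinearForm f)
    (hnd : IsNondegenerateForm f) : (gramMatrix f).det ≠ 0 := by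
  intro h0
  obtain ⟨v, hv, hGv⟩ := Matrix.exists_mulVec_eq_zero_iff.mpr h0
  obtain ⟨⟨x, hx⟩, _⟩ := hnd v hv
  apply hx
  rw [form_eq_gram f hf, hGv, dotProduct_zero]

/-- the Gram matrix after a change of basis -/
theorem gram_conj (f : (ι → F) → (ι → F) → F) (hf : IsBilinearForm f) (P : Matrix ι ι F) (a b : ι) :
    (Pᵀ * gramMatrix f * P) a b = f (P *ᵥ Pi.single a 1) (P *ᵥ Pi.single b 1) := by
  rw [form_eq_gram f hf, Matrix.mulVec_single_one, Matrix.mulVec_single_one]
  show (Pᵀ * gramMatrix f * P) a b = ∑ j, P j a * ∑ k, gramMatrix f j k * P k b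
  rw [Matrix.mul_apply]
  simp only [Matrix.mul_apply, Matrix.transpose_apply, Finset.sum_mul, Finset.mul_sum]
  rw [Finset.sum_comm]
  refine Finset.sum_congr rfl fun j _ => Finset.sum_congr rfl fun k _ => ?_
  ring

/-- determinants of matrices over a subfield -/
theorem det_mem (F₀ : Subfield F) (A : Matrix ι ι F) (hA : ∀ a b, A a b ∈ F₀) : A.det ∈ F₀ := by
  rw [Matrix.det_apply']
  refine Subfield.sum_mem _ fun σ _ => ?_
  refine mul_mem (intCast_mem _ _) ?_
  exact Subfield.prod_mem _ fun i _ => hA _ _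

theorem single_mem (F₀ : Subfield F) (a k : ι) : (Pi.single a (1 : F) : ι → F) k ∈ F₀ := by
  rw [Pi.single_apply]
  split_ifs
  · exact one_mem _
  · exact zero_mem _

theorem two_ne_zero_of_odd_card [Fintype F] (hodd : Odd (Fintype.card F)) : (2 : F) ≠ 0 := by
  intro h2
  have h : ringChar F = 2 := CharP.ringChar_of_prime_eq_zero Nat.prime_two (by exact_mod_cast h2)
  have := FiniteField.even_card_iff_char_two.mp h
  rcases hodd with ⟨k, hk⟩
  omega

/-- a central scalar does not change the conjugation -/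
theorem conj_mul_scalar (P : GL ι F) (c : Fˣ) :
    (MulAut.conj (P * Units.map (Matrix.scalar ι : F →+* Matrix ι ι F).toMonoidHom c)).toMonoidHom =
      (MulAut.conj P).toMonoidHom := by
  ext x : 1
  show P * _ * x * (P * _)⁻¹ = P * x * P⁻¹
  set s : GL ι F := Units.map (Matrix.scalar ι : F →+* Matrix ι ι F).toMonoidHom c with hs
  have hcomm : s * x = x * s := by
    apply Units.ext
    rw [Units.val_mul, Units.val_mul, hs]
    show Matrix.scalar ι (c : F) * (x : Matrix ι ι F) = (x : Matrix ι ι F) * Matrix.scalar ι (c : F)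
    exact (Matrix.scalar_commute (c : F) (fun r' => Commute.all _ _) (x : Matrix ι ι F)).eq
  rw [mul_inv_rev, mul_assoc P s x, hcomm]
  group

section odd
variable [Fintype F] (m : ℕ)

theorem quadFormOdd_mem (F₀ : Subfield F) (v : Unit ⊕ (Fin m ⊕ Fin m) → F) (hv : ∀ i, v i ∈ F₀) :
    quadFormOdd m F v ∈ F₀ := by
  unfold quadFormOdd
  exact add_mem (pow_mem (hv _) 2) (Subfield.sum_mem _ fun i _ => mul_mem (hv _) (hv _))

/-- removal of the scalar in class 5 -/
theorem exists_rational_of_scaled (hodd : Odd (Fintype.card F)) (F₀ : Subfield F)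
    (P : GL (Unit ⊕ (Fin m ⊕ Fin m)) F) (ζ : F) (hζ : ζ ≠ 0)
    (hrat : IsQuadFormRationalStructure (fun v => ζ * quadFormOdd m F v) F₀ P) :
    ∃ P' : GL (Unit ⊕ (Fin m ⊕ Fin m)) F, IsQuadFormRationalStructure (quadFormOdd m F) F₀ P' ∧
      subfieldSubgroup F₀ P' = subfieldSubgroup F₀ P := by
  have h2 : (2 : F) ≠ 0 := two_ne_zero_of_odd_card hodd
  have hQ := Cfsg.Agent.Lib.Helper94.isNondegenerateQuadraticForm_quadFormOdd (F := F) m h2
  set Q := quadFormOdd m F with hQdef
  set f := QuadraticMap.polar Q with hf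
  set G := gramMatrix f with hG
  set Pm : Matrix (Unit ⊕ (Fin m ⊕ Fin m)) (Unit ⊕ (Fin m ⊕ Fin m)) F :=
    ((P : GL (Unit ⊕ (Fin m ⊕ Fin m)) F) :
      Matrix (Unit ⊕ (Fin m ⊕ Fin m)) (Unit ⊕ (Fin m ⊕ Fin m)) F) with hPm
  have hGmem : ∀ a b, G a b ∈ F₀ := by
    intro a b
    show Q (Pi.single a 1 + Pi.single b 1) - Q (Pi.single a 1) - Q (Pi.single b 1) ∈ F₀
    refine sub_mem (sub_mem ?_ ?_) ?_
    · exact quadFormOdd_mem m F₀ _ fun i => add_mem (single_mem F₀ a i) (single_mem F₀ b i)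
    · exact quadFormOdd_mem m F₀ _ fun i => single_mem F₀ a i
    · exact quadFormOdd_mem m F₀ _ fun i => single_mem F₀ b i
  set G₀ := ζ • (Pmᵀ * G * Pm) with hG₀
  have hG₀mem : ∀ a b, G₀ a b ∈ F₀ := by
    intro a b
    rw [hG₀, Matrix.smul_apply, gram_conj f hQ.polar_bilinear, smul_eq_mul]
    show ζ * (Q (Pm *ᵥ Pi.single a 1 + Pm *ᵥ Pi.single b 1) - Q (Pm *ᵥ Pi.single a 1) -
      Q (Pm *ᵥ Pi.single b 1)) ∈ F₀
    rw [← Matrix.mulVec_add, mul_sub, mul_sub]
    refine sub_mem (sub_mem ?_ ?_) ?_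
    · exact hrat _ fun i => add_mem (single_mem F₀ a i) (single_mem F₀ b i)
    · exact hrat _ fun i => single_mem F₀ a i
    · exact hrat _ fun i => single_mem F₀ b i
  have hcard : Fintype.card (Unit ⊕ (Fin m ⊕ Fin m)) = 2 * m + 1 := by
    simp only [Fintype.card_sum, Fintype.card_unit, Fintype.card_fin]
    ring
  have hdet : G₀.det = ζ ^ (2 * m + 1) * (Pm.det * Pm.det * G.det) := by
    rw [hG₀, Matrix.det_smul, Matrix.det_mul, Matrix.det_mul, Matrix.det_transpose, hcard]
    ring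
  have hGdet : G.det ≠ 0 := det_gram_ne_zero f hQ.polar_bilinear hQ.nondegenerate
  have hPdet : Pm.det ≠ 0 := (Matrix.isUnits_det_units P).ne_zero
  set t : F := ζ ^ m * Pm.det with ht
  have ht0 : t ≠ 0 := mul_ne_zero (pow_ne_zero _ hζ) hPdet
  set a : F := G₀.det / G.det with ha
  have ha_mem : a ∈ F₀ := div_mem (det_mem F₀ G₀ hG₀mem) (det_mem F₀ G hGmem)
  have ha_eq : a = ζ * t ^ 2 := by
    rw [ha, hdet, ht]
    field_simp
    ring
  have ha0 : a ≠ 0 := by
    rw [ha_eq]
    exact mul_ne_zero hζ (pow_ne_zero _ ht0)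
  refine ⟨P * Units.map (Matrix.scalar _ : F →+* Matrix _ _ F).toMonoidHom (Units.mk0 t⁻¹ (inv_ne_zero ht0)),
    ?_, ?_⟩
  · intro u hu
    have hval : ((P * Units.map (Matrix.scalar _ : F →+* Matrix _ _ F).toMonoidHom
        (Units.mk0 t⁻¹ (inv_ne_zero ht0)) : GL (Unit ⊕ (Fin m ⊕ Fin m)) F) : Matrix _ _ F) *ᵥ u =
        t⁻¹ • (Pm *ᵥ u) := by
      rw [Units.val_mul]
      show (Pm * Matrix.scalar _ t⁻¹) *ᵥ u = _
      rw [← Matrix.mulVec_mulVec, Matrix.scalar_apply, ← Matrix.smul_one_eq_diagonal, Matrix.smul_mulVec,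
        Matrix.one_mulVec, Matrix.mulVec_smul]
    rw [hval, hQ.smul]
    have h1 : (t⁻¹) ^ 2 * Q (Pm *ᵥ u) = a⁻¹ * (ζ * Q (Pm *ᵥ u)) := by
      rw [ha_eq]
      field_simp
    rw [h1]
    exact mul_mem (inv_mem ha_mem) (hrat u hu)
  · unfold subfieldSubgroup
    rw [conj_mul_scalar]

end odd

end Cfsg.Agent.Lib.Helper95.AschOFinal

namespace Cfsg.Agent.Lib.Helper5.AschO

open Cfsg Cfsg.Geo Cfsg.Agent.Lib.Helper99.Asch
open scoped MatrixGroups Matrix Kronecker

variable {n : ℕ} {F : Type*} [Field F] [Fintype F]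

section transport

variable {ι : Type} [Fintype ι] [DecidableEq ι]

/-- ASCHO-[FINAL] -/
theorem inOrthogonalOddClass_of_inOrthClass (hodd : Odd (Fintype.card F)) (m : ℕ)
    (M : Subgroup (GL (Unit ⊕ (Fin m ⊕ Fin m)) F)) (h : InOrthClass (quadFormOdd m F) M) :
    InOrthogonalOddClass m F M := by
  have hcard : Fintype.card (Unit ⊕ (Fin m ⊕ Fin m)) = 2 * m + 1 := by
    simp only [Fintype.card_sum, Fintype.card_unit, Fintype.card_fin]
    ring
  unfold InOrthogonalOddClass
  rcases h with h | h | h | h | h | h | h | h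
  · exact Or.inl h
  · exact Or.inr (Or.inl h)
  · exact Or.inr (Or.inr (Or.inl h))
  · exact Or.inr (Or.inr (Or.inr (Or.inl h)))
  · obtain ⟨r, K, h1, h2, h3, h4, h5⟩ := h
    refine Or.inr (Or.inr (Or.inr (Or.inr (Or.inl ⟨r, K, h1, ?_, h3, h4, h5⟩))))
    rw [← hcard]
    exact h2
  · exact Or.inr (Or.inr (Or.inr (Or.inr (Or.inr (Or.inl h)))))
  · obtain ⟨F₀, r, P, ζ, h1, h2, h3, h4, h5⟩ := h
    obtain ⟨P', hP', hsub⟩ :=
      Cfsg.Agent.Lib.Helper95.AschOFinal.exists_rational_of_scaled m hodd F₀ P ζ h3 h4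
    refine Or.inr (Or.inr (Or.inr (Or.inr (Or.inr (Or.inr (Or.inl ⟨F₀, r, P', h1, h2, hP', ?_⟩))))))
    rw [hsub]
    exact h5
  · exact Or.inr (Or.inr (Or.inr (Or.inr (Or.inr (Or.inr (Or.inr h))))))

end transport

end Cfsg.Agent.Lib.Helper5.AschO
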