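import Mathlib
import Cfsg.Prelude.Def_GeometricClasses
import Cfsg.Agent.Lib.Helper99.AschDefs
import Cfsg.Agent.Lib.Helper5.AschODefs
import Cfsg.Agent.Lib.Helper5.AschODefsTr

/-!
# ASCHO transport kit (helper95): reindexing `GL ι F ≃* GL (Fin n) F` along `e : ι ≃ Fin n`

Basic dictionary for the `[TR-*]` modules of helper5's project ASCHO (S5673).
-/

set_option autoImplicit false
set_option linter.unusedSectionVars false

namespace Cfsg.Agent.Lib.Helper95.AschOTr

open Cfsg Cfsg.Geo Cfsg.Agent.Lib.Helper99.Asch Cfsg.Agent.Lib.Helper5.AschO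
open scoped MatrixGroups Matrix Kronecker

variable {ι : Type} [Fintype ι] [DecidableEq ι] {κ : Type} [Fintype κ] [DecidableEq κ]
  {F : Type*} [Field F]

/-- the matrix of a reindexed element -/
theorem glReindex_val (e : ι ≃ κ) (g : GL ι F) :
    ((glReindex e g : GL κ F) : Matrix κ κ F) = (g : Matrix ι ι F).submatrix e.symm e.symm := rfl

theorem glReindex_symm_apply (e : ι ≃ κ) (g : GL κ F) :
    (glReindex e).symm g = glReindex e.symm g := by
  apply (glReindex e).injective
  rw [MulEquiv.apply_symm_apply]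
  apply Units.ext
  rw [glReindex_val, glReindex_val, Matrix.submatrix_submatrix]
  simp

theorem glReindex_glReindex_symm (e : ι ≃ κ) (g : GL κ F) :
    glReindex e (glReindex e.symm g) = g := by
  rw [← glReindex_symm_apply, MulEquiv.apply_symm_apply]

theorem glReindex_symm_glReindex (e : ι ≃ κ) (g : GL ι F) :
    glReindex e.symm (glReindex e g) = g := by
  rw [← glReindex_symm_apply, MulEquiv.symm_apply_apply]

theorem glReindex_trans {μ : Type} [Fintype μ] [DecidableEq μ] (e : ι ≃ κ) (e' : κ ≃ μ) (g : GL ι F) :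
    glReindex e' (glReindex e g) = glReindex (e.trans e') g := by
  apply Units.ext
  rw [glReindex_val, glReindex_val, glReindex_val, Matrix.submatrix_submatrix]
  rfl

/-- action on vectors -/
theorem glReindex_mulVec (e : ι ≃ κ) (g : GL ι F) (w : κ → F) :
    ((glReindex e g : GL κ F) : Matrix κ κ F) *ᵥ w = ((g : Matrix ι ι F) *ᵥ (w ∘ e)) ∘ e.symm := by
  rw [glReindex_val, Matrix.submatrix_mulVec_equiv]
  rfl

theorem glReindex_mulVec_comp (e : ι ≃ κ) (g : GL ι F) (w : κ → F) :
    (((glReindex e g : GL κ F) : Matrix κ κ F) *ᵥ w) ∘ e = (g : Matrix ι ι F) *ᵥ (w ∘ e) := by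
  rw [glReindex_mulVec]
  funext i
  simp

theorem glReindex_mulVec_symm (e : ι ≃ κ) (g : GL ι F) (u : ι → F) :
    ((glReindex e g : GL κ F) : Matrix κ κ F) *ᵥ (u ∘ e.symm) = ((g : Matrix ι ι F) *ᵥ u) ∘ e.symm := by
  rw [glReindex_mulVec]
  congr 2
  funext i
  simp

theorem comp_symm_comp (e : ι ≃ κ) (u : ι → F) : (u ∘ e.symm) ∘ e = u := by
  funext i
  simp

theorem comp_comp_symm (e : ι ≃ κ) (w : κ → F) : (w ∘ e) ∘ e.symm = w := by
  funext i
  simp

section quad
variable {n : ℕ} (e : ι ≃ Fin n) (Q : (ι → F) → F)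

theorem reQ_apply (w : Fin n → F) : reQ e Q w = Q (w ∘ e) := rfl

theorem reQ_comp_symm (u : ι → F) : reQ e Q (u ∘ e.symm) = Q u := by
  rw [reQ_apply, comp_symm_comp]

theorem polar_reQ (w w' : Fin n → F) :
    QuadraticMap.polar (reQ e Q) w w' = QuadraticMap.polar Q (w ∘ e) (w' ∘ e) := by
  unfold QuadraticMap.polar
  rw [reQ_apply, reQ_apply, reQ_apply]
  rfl

theorem polar_reQ_symm (u u' : ι → F) :
    QuadraticMap.polar (reQ e Q) (u ∘ e.symm) (u' ∘ e.symm) = QuadraticMap.polar Q u u' := by
  rw [polar_reQ, comp_symm_comp, comp_symm_comp]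

theorem mem_isometryGroup_iff' {μ : Type} [Fintype μ] [DecidableEq μ] (Q' : (μ → F) → F) (g : GL μ F) :
    g ∈ isometryGroup F Q' ↔ ∀ u, Q' ((g : Matrix μ μ F) *ᵥ u) = Q' u := by
  constructor
  · intro h u
    exact h u u
  · intro h u _
    exact h u

theorem glReindex_mem_isometryGroup (g : GL ι F) :
    glReindex e g ∈ isometryGroup F (reQ e Q) ↔ g ∈ isometryGroup F Q := by
  rw [mem_isometryGroup_iff', mem_isometryGroup_iff']
  constructor
  · intro h u
    have := h (u ∘ e.symm)
    rwa [glReindex_mulVec_symm, reQ_comp_symm, reQ_comp_symm] at this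
  · intro h w
    rw [reQ_apply, reQ_apply, glReindex_mulVec_comp]
    exact h _

theorem comap_isometryGroup :
    (isometryGroup F (reQ e Q)).comap (glReindex e).toMonoidHom = isometryGroup F Q := by
  ext g
  rw [Subgroup.mem_comap]
  exact glReindex_mem_isometryGroup e Q g

/-- the pull-back of a member `X' ⊓ I'` -/
theorem comap_inf_isometryGroup (X' : Subgroup (GL (Fin n) F)) :
    (X' ⊓ isometryGroup F (reQ e Q)).comap (glReindex e).toMonoidHom =
      X'.comap (glReindex e).toMonoidHom ⊓ isometryGroup F Q := by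
  rw [Subgroup.comap_inf, comap_isometryGroup]

end quad

/-- comap along the reindexing isomorphism is map along its inverse -/
theorem comap_eq_map_symm (e : ι ≃ κ) (X' : Subgroup (GL κ F)) :
    X'.comap (glReindex e).toMonoidHom = X'.map (glReindex e.symm).toMonoidHom := by
  ext g
  rw [Subgroup.mem_comap, Subgroup.mem_map]
  constructor
  · intro h
    exact ⟨glReindex e g, h, glReindex_symm_glReindex e g⟩
  · rintro ⟨x, hx, rfl⟩
    show glReindex e (glReindex e.symm x) ∈ X'
    rw [glReindex_glReindex_symm]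
    exact hx

/-- reindexing a conjugate -/
theorem map_conj_map_reindex (e : κ ≃ ι) (P' : GL κ F) (S : Subgroup (GL κ F)) :
    (S.map (MulAut.conj P').toMonoidHom).map (glReindex e).toMonoidHom =
      (S.map (glReindex e).toMonoidHom).map (MulAut.conj (glReindex e P')).toMonoidHom := by
  rw [Subgroup.map_map, Subgroup.map_map]
  congr 1
  ext x : 1
  show glReindex e (P' * x * P'⁻¹) = glReindex e P' * glReindex e x * (glReindex e P')⁻¹
  rw [map_mul, map_mul, map_inv]

/-- scalars go to scalars -/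
theorem glReindex_mem_scalars (e : ι ≃ κ) (g : GL ι F) :
    glReindex e g ∈ scalars κ F ↔ g ∈ scalars ι F := by
  rw [mem_scalars_iff, mem_scalars_iff]
  constructor
  · rintro ⟨c, hc⟩
    refine ⟨c, ?_⟩
    rw [glReindex_val] at hc
    ext i j
    have := congrFun (congrFun hc (e i)) (e j)
    simpa [Matrix.smul_apply, Matrix.one_apply] using this
  · rintro ⟨c, hc⟩
    refine ⟨c, ?_⟩
    rw [glReindex_val, hc]
    ext i j
    simp [Matrix.smul_apply, Matrix.one_apply]

theorem map_scalars (e : κ ≃ ι) :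
    (scalars κ F).map (glReindex e).toMonoidHom = scalars ι F := by
  ext g
  rw [Subgroup.mem_map]
  constructor
  · rintro ⟨x, hx, rfl⟩
    exact (glReindex_mem_scalars e x).mpr hx
  · intro hg
    refine ⟨glReindex e.symm g, ?_, glReindex_glReindex_symm e g⟩
    rw [glReindex_mem_scalars]
    exact hg

end Cfsg.Agent.Lib.Helper95.AschOTr
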