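import Mathlib
import Cfsg.Prelude.Def_GeometricClasses
import Cfsg.Agent.Lib.Helper99.AschDefs
import Cfsg.Agent.Lib.Helper5.AschODefs
import Cfsg.Agent.Lib.Helper5.AschODefsTr
import Cfsg.Agent.Lib.Helper95.AschOTrKit

/-!
# ASCHO-[TR-35] (helper5's project ASCHO, S5673) (helper95): transport of classes 3 and 5
-/

set_option autoImplicit false
set_option linter.unusedSectionVars false

namespace Cfsg.Agent.Lib.Helper95.AschOTr

open Cfsg Cfsg.Geo Cfsg.Agent.Lib.Helper99.Asch Cfsg.Agent.Lib.Helper5.AschO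
open scoped MatrixGroups Matrix Kronecker

variable {ι : Type} [Fintype ι] [DecidableEq ι] {n : ℕ} {F : Type*} [Field F]

/-- the algebra isomorphism of matrix algebras -/
noncomputable abbrev psi (e : ι ≃ Fin n) : Matrix ι ι F ≃ₐ[F] Matrix (Fin n) (Fin n) F :=
  Matrix.reindexAlgEquiv F F e

theorem psi_apply (e : ι ≃ Fin n) (x : Matrix ι ι F) :
    psi e x = x.submatrix e.symm e.symm := rfl

theorem psi_val (e : ι ≃ Fin n) (g : GL ι F) :
    psi e (g : Matrix ι ι F) = ((glReindex e g : GL (Fin n) F) : Matrix (Fin n) (Fin n) F) := rfl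

theorem psi_mulVec_symm (e : ι ≃ Fin n) (k : Matrix ι ι F) (u : ι → F) :
    (psi e k) *ᵥ (u ∘ e.symm) = (k *ᵥ u) ∘ e.symm := by
  rw [psi_apply, Matrix.submatrix_mulVec_equiv]
  congr 2
  funext i
  simp

theorem psi_conj (e : ι ≃ Fin n) (g : GL ι F) (k : Matrix ι ι F) :
    psi e ((g : Matrix ι ι F) * k * ((g⁻¹ : GL ι F) : Matrix ι ι F)) =
      ((glReindex e g : GL (Fin n) F) : Matrix (Fin n) (Fin n) F) * psi e k *
        (((glReindex e g)⁻¹ : GL (Fin n) F) : Matrix (Fin n) (Fin n) F) := by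
  rw [map_mul, map_mul, psi_val, psi_val, map_inv]

/-- the pulled-back subalgebra -/
noncomputable def pullK (e : ι ≃ Fin n) (K' : Subalgebra F (Matrix (Fin n) (Fin n) F)) :
    Subalgebra F (Matrix ι ι F) := K'.comap (psi (F := F) e).toAlgHom

theorem mem_pullK (e : ι ≃ Fin n) (K' : Subalgebra F (Matrix (Fin n) (Fin n) F)) (x : Matrix ι ι F) :
    x ∈ pullK e K' ↔ psi e x ∈ K' := Iff.rfl

theorem symm_mem_pullK (e : ι ≃ Fin n) (K' : Subalgebra F (Matrix (Fin n) (Fin n) F))
    {y : Matrix (Fin n) (Fin n) F} (hy : y ∈ K') : (psi e).symm y ∈ pullK e K' := by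
  rw [mem_pullK, AlgEquiv.apply_symm_apply]
  exact hy

/-- the linear equivalence between the pulled-back subalgebra and the original -/
noncomputable def pullKEquiv (e : ι ≃ Fin n) (K' : Subalgebra F (Matrix (Fin n) (Fin n) F)) :
    ↥(pullK e K') ≃ₗ[F] ↥K' where
  toFun x := ⟨psi e x, (mem_pullK e K' x).mp x.2⟩
  invFun y := ⟨(psi e).symm y, symm_mem_pullK e K' y.2⟩
  map_add' x y := Subtype.ext (map_add (psi e) (x : Matrix ι ι F) (y : Matrix ι ι F))
  map_smul' c x := Subtype.ext (map_smul (psi e) c (x : Matrix ι ι F))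
  left_inv x := Subtype.ext ((psi e).symm_apply_apply (x : Matrix ι ι F))
  right_inv y := Subtype.ext ((psi e).apply_symm_apply (y : Matrix (Fin n) (Fin n) F))

theorem isFieldSubalgebra_pullK (e : ι ≃ Fin n) (K' : Subalgebra F (Matrix (Fin n) (Fin n) F)) (r : ℕ)
    (h : IsFieldSubalgebra r K') : IsFieldSubalgebra r (pullK e K') where
  comm x hx y hy := by
    apply (psi e).injective
    rw [map_mul, map_mul]
    exact h.comm (psi e x) ((mem_pullK e K' x).mp hx) (psi e y) ((mem_pullK e K' y).mp hy)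
  inv x hx hx0 := by
    have h0 : psi e x ≠ 0 := by
      intro h0
      apply hx0
      apply (psi e).injective
      rw [h0, map_zero]
    obtain ⟨y, hy, hxy⟩ := h.inv (psi e x) ((mem_pullK e K' x).mp hx) h0
    refine ⟨(psi e).symm y, symm_mem_pullK e K' hy, ?_⟩
    apply (psi e).injective
    rw [map_mul, AlgEquiv.apply_symm_apply, map_one]
    exact hxy
  finrank_eq := by
    rw [← h.finrank_eq]
    exact (pullKEquiv e K').finrank_eq

theorem isSelfAdjointFor_pullK (e : ι ≃ Fin n) (Q : (ι → F) → F)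
    (K' : Subalgebra F (Matrix (Fin n) (Fin n) F))
    (h : IsSelfAdjointFor (QuadraticMap.polar (reQ e Q)) K') :
    IsSelfAdjointFor (QuadraticMap.polar Q) (pullK e K') := by
  intro k hk u v
  have := h (psi e k) ((mem_pullK e K' k).mp hk) (u ∘ e.symm) (v ∘ e.symm)
  rwa [psi_mulVec_symm, psi_mulVec_symm, polar_reQ_symm, polar_reQ_symm] at this

theorem comap_subalgebraNormalizer (e : ι ≃ Fin n) (K' : Subalgebra F (Matrix (Fin n) (Fin n) F)) :
    (subalgebraNormalizer K').comap (glReindex e).toMonoidHom = subalgebraNormalizer (pullK e K') := by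
  ext g
  rw [Subgroup.mem_comap]
  show (∀ k' : Matrix (Fin n) (Fin n) F, k' ∈ K' ↔
      ((glReindex e g : GL (Fin n) F) : Matrix (Fin n) (Fin n) F) * k' *
        (((glReindex e g)⁻¹ : GL (Fin n) F) : Matrix (Fin n) (Fin n) F) ∈ K') ↔
    (∀ k : Matrix ι ι F, k ∈ pullK e K' ↔
      (g : Matrix ι ι F) * k * ((g⁻¹ : GL ι F) : Matrix ι ι F) ∈ pullK e K')
  constructor
  · intro h k
    rw [mem_pullK, mem_pullK, psi_conj]
    exact h (psi e k)
  · intro h k'
    have := h ((psi e).symm k')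
    rw [mem_pullK, mem_pullK, psi_conj, AlgEquiv.apply_symm_apply] at this
    exact this

/-- the range of `GL.map` is stable under reindexing -/
theorem map_range_glMap {R : Type*} [Field R] (f : R →+* F) (e : Fin n ≃ ι) :
    ((Matrix.GeneralLinearGroup.map f : GL (Fin n) R →* GL (Fin n) F).range).map
        (glReindex e).toMonoidHom =
      (Matrix.GeneralLinearGroup.map f : GL ι R →* GL ι F).range := by
  have key : ∀ (μ ν : Type) [Fintype μ] [DecidableEq μ] [Fintype ν] [DecidableEq ν] (e₀ : μ ≃ ν)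
      (a : GL μ R), glReindex e₀ (Matrix.GeneralLinearGroup.map f a) =
        Matrix.GeneralLinearGroup.map f (glReindex e₀ a) := by
    intro μ ν _ _ _ _ e₀ a
    apply Units.ext
    ext i j
    rfl
  ext g
  rw [Subgroup.mem_map]
  constructor
  · rintro ⟨x, ⟨a, rfl⟩, rfl⟩
    exact ⟨glReindex e a, (key _ _ e a).symm⟩
  · rintro ⟨a, rfl⟩
    refine ⟨Matrix.GeneralLinearGroup.map f (glReindex e.symm a), ⟨_, rfl⟩, ?_⟩
    show glReindex e (Matrix.GeneralLinearGroup.map f (glReindex e.symm a)) = _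
    rw [key, glReindex_glReindex_symm]

theorem comap_subfieldSubgroup (e : ι ≃ Fin n) (F₀ : Subfield F) (P' : GL (Fin n) F) :
    (subfieldSubgroup F₀ P').comap (glReindex e).toMonoidHom =
      subfieldSubgroup F₀ (glReindex e.symm P') := by
  unfold subfieldSubgroup
  rw [comap_eq_map_symm, map_conj_map_reindex, Subgroup.map_sup, map_scalars, map_range_glMap]

end Cfsg.Agent.Lib.Helper95.AschOTr

namespace Cfsg.Agent.Lib.Helper5.AschO

open Cfsg Cfsg.Geo Cfsg.Agent.Lib.Helper99.Asch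
open scoped MatrixGroups Matrix Kronecker

variable {n : ℕ} {F : Type*} [Field F] [Fintype F]

section transport

variable {ι : Type} [Fintype ι] [DecidableEq ι]

open Cfsg.Agent.Lib.Helper95.AschOTr

/-- ASCHO-[TR-35] -/
theorem isO3_comap (e : ι ≃ Fin n) (Q : (ι → F) → F) (M' : Subgroup (GL (Fin n) F))
    (h : IsO3 (reQ e Q) M') : IsO3 Q (M'.comap (glReindex e).toMonoidHom) := by
  obtain ⟨r, K', h1, h2, h3, h4, rfl⟩ := h
  refine ⟨r, pullK e K', h1, ?_, isFieldSubalgebra_pullK e K' r h3, isSelfAdjointFor_pullK e Q K' h4, ?_⟩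
  · rw [Fintype.card_congr e]
    exact h2
  · rw [comap_inf_isometryGroup, comap_subalgebraNormalizer]

/-- ASCHO-[TR-35] -/
theorem isO5_comap (e : ι ≃ Fin n) (Q : (ι → F) → F) (M' : Subgroup (GL (Fin n) F))
    (h : IsO5 (reQ e Q) M') : IsO5 Q (M'.comap (glReindex e).toMonoidHom) := by
  obtain ⟨F₀, r, P', ζ, h1, h2, h3, h4, rfl⟩ := h
  refine ⟨F₀, r, glReindex e.symm P', ζ, h1, h2, h3, ?_, ?_⟩
  · intro u hu
    have := h4 (u ∘ e.symm) (fun i => hu _)
    have hP : ((P' : Matrix (Fin n) (Fin n) F) *ᵥ (u ∘ e.symm)) ∘ e =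
        ((glReindex e.symm P' : GL ι F) : Matrix ι ι F) *ᵥ u := by
      conv_lhs => rw [← glReindex_glReindex_symm e P']
      rw [glReindex_mulVec_comp, comp_symm_comp]
    show ζ * Q _ ∈ F₀
    rw [← hP]
    exact this
  · rw [comap_inf_isometryGroup, comap_subfieldSubgroup]

end transport

end Cfsg.Agent.Lib.Helper5.AschO
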