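import Mathlib
import Cfsg.Prelude.Def_GeometricClasses
import Cfsg.Agent.Lib.Helper99.AschDefs
import Cfsg.Agent.Lib.Helper5.AschODefs
import Cfsg.Agent.Lib.Helper5.AschODefsTr
import Cfsg.Agent.Lib.Helper95.AschOTrKit
import Cfsg.Agent.Lib.Helper95.AschOTr35

/-!
# ASCHO-[TR-RES] (helper5's project ASCHO, S5673) (helper95): transport of the residual class
-/

set_option autoImplicit false
set_option linter.unusedSectionVars false

namespace Cfsg.Agent.Lib.Helper95.AschOTr

open Cfsg Cfsg.Geo Cfsg.Agent.Lib.Helper99.Asch Cfsg.Agent.Lib.Helper5.AschO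
open scoped MatrixGroups Matrix Kronecker

variable {ι : Type} [Fintype ι] [DecidableEq ι] {n : ℕ} {F : Type*} [Field F]

section res
variable (e : ι ≃ Fin n) (P' : Subgroup (GL (Fin n) F))

/-- the pulled-back subgroup -/
def pullP : Subgroup (GL ι F) := P'.comap (glReindex e).toMonoidHom

theorem mem_pullP (x : GL ι F) : x ∈ pullP e P' ↔ glReindex e x ∈ P' := Iff.rfl

theorem symm_mem_pullP {x' : GL (Fin n) F} (hx' : x' ∈ P') : glReindex e.symm x' ∈ pullP e P' := by
  rw [mem_pullP, glReindex_glReindex_symm]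
  exact hx'

/-- the isomorphism `P ≃* P'` -/
def pullPEquiv : ↥(pullP e P') ≃* ↥P' where
  toFun x := ⟨glReindex e x, (mem_pullP e P' x).mp x.2⟩
  invFun y := ⟨glReindex e.symm y, symm_mem_pullP e P' y.2⟩
  left_inv x := by
    apply Subtype.ext
    exact glReindex_symm_glReindex e (x : GL ι F)
  right_inv y := by
    apply Subtype.ext
    exact glReindex_glReindex_symm e (y : GL (Fin n) F)
  map_mul' x y := Subtype.ext (map_mul (glReindex e) (x : GL ι F) (y : GL ι F))

theorem map_subgroupOf_scalars :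
    ((scalars ι F).subgroupOf (pullP e P')).map (pullPEquiv e P').toMonoidHom =
      (scalars (Fin n) F).subgroupOf P' := by
  ext y
  rw [Subgroup.mem_map, Subgroup.mem_subgroupOf]
  constructor
  · rintro ⟨x, hx, rfl⟩
    rw [Subgroup.mem_subgroupOf] at hx
    show glReindex e (x : GL ι F) ∈ scalars (Fin n) F
    exact (glReindex_mem_scalars e _).mpr hx
  · intro hy
    refine ⟨(pullPEquiv e P').symm y, ?_, (pullPEquiv e P').apply_symm_apply y⟩
    rw [Subgroup.mem_subgroupOf]
    have hy' : (((pullPEquiv e P').symm y : ↥(pullP e P')) : GL ι F) =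
        glReindex e.symm (y : GL (Fin n) F) := rfl
    rw [hy', glReindex_mem_scalars]
    exact hy

/-- the isomorphism of the quotients modulo scalars -/
noncomputable def quotEquiv :
    (↥(pullP e P') ⧸ (scalars ι F).subgroupOf (pullP e P')) ≃*
      (↥P' ⧸ (scalars (Fin n) F).subgroupOf P') :=
  QuotientGroup.congr _ _ (pullPEquiv e P') (map_subgroupOf_scalars e P')

theorem matrixSet_pull {s' : Matrix (Fin n) (Fin n) F} (hs' : s' ∈ matrixSet P') :
    ∃ x ∈ pullP e P', ((glReindex e x : GL (Fin n) F) : Matrix (Fin n) (Fin n) F) = s' ∧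
      (x : Matrix ι ι F) ∈ matrixSet (pullP e P') := by
  obtain ⟨x', hx', rfl⟩ := hs'
  refine ⟨glReindex e.symm x', symm_mem_pullP e P' hx', ?_, ⟨_, symm_mem_pullP e P' hx', rfl⟩⟩
  rw [glReindex_glReindex_symm]

theorem actsIrreducibly_pull (h : ActsIrreducibly (matrixSet P')) :
    ActsIrreducibly (matrixSet (pullP e P')) := by
  intro W hW
  let L : (ι → F) ≃ₗ[F] (Fin n → F) := LinearEquiv.funCongrLeft F F e.symm
  have hL : ∀ v : ι → F, L v = v ∘ e.symm := fun v => rfl
  have hW' : ∀ s' ∈ matrixSet P', (W.map (L : (ι → F) →ₗ[F] (Fin n → F))).map (Matrix.toLin' s') ≤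
      W.map (L : (ι → F) →ₗ[F] (Fin n → F)) := by
    intro s' hs'
    obtain ⟨x, hx, rfl, hxs⟩ := matrixSet_pull e P' hs'
    rintro _ ⟨_, ⟨w, hw, rfl⟩, rfl⟩
    refine ⟨(x : Matrix ι ι F) *ᵥ w, hW _ hxs ⟨w, hw, by rw [Matrix.toLin'_apply]⟩, ?_⟩
    rw [Matrix.toLin'_apply]
    show L ((x : Matrix ι ι F) *ᵥ w) = _ *ᵥ L w
    rw [hL, hL, glReindex_mulVec_symm]
  rcases h _ hW' with h0 | h1
  · left
    rw [eq_bot_iff]
    intro w hw
    have : L w ∈ W.map (L : (ι → F) →ₗ[F] (Fin n → F)) := ⟨w, hw, rfl⟩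
    rw [h0, Submodule.mem_bot] at this
    rw [Submodule.mem_bot]
    exact L.map_eq_zero_iff.mp this
  · right
    rw [eq_top_iff]
    intro v _
    have : L v ∈ W.map (L : (ι → F) →ₗ[F] (Fin n → F)) := by rw [h1]; exact Submodule.mem_top
    obtain ⟨w, hw, hwv⟩ := this
    have := L.injective hwv
    rw [← this]
    exact hw

theorem actsAbsolutelyIrreducibly_pull (h : ActsAbsolutelyIrreducibly (matrixSet P')) :
    ActsAbsolutelyIrreducibly (matrixSet (pullP e P')) := by
  refine ⟨actsIrreducibly_pull e P' h.1, fun M hM => ?_⟩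
  obtain ⟨c, hc⟩ := h.2 (psi e M) (by
    intro s' hs'
    obtain ⟨x, hx, rfl, hxs⟩ := matrixSet_pull e P' hs'
    rw [← psi_val, ← map_mul, ← map_mul, hM _ hxs])
  refine ⟨c, ?_⟩
  apply (psi e).injective
  rw [hc, map_smul, map_one]

theorem realisableOver_push (F₀ : Subfield F) (h : RealisableOver F₀ (matrixSet (pullP e P'))) :
    RealisableOver F₀ (matrixSet P') := by
  obtain ⟨B, hB⟩ := h
  refine ⟨glReindex e B, fun s' hs' i j => ?_⟩
  obtain ⟨x, hx, rfl, hxs⟩ := matrixSet_pull e P' hs'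
  have := hB _ hxs (e.symm i) (e.symm j)
  have key : ((glReindex e B : GL (Fin n) F) : Matrix (Fin n) (Fin n) F) *
      ((glReindex e x : GL (Fin n) F) : Matrix (Fin n) (Fin n) F) *
      (((glReindex e B)⁻¹ : GL (Fin n) F) : Matrix (Fin n) (Fin n) F) =
      psi e ((B : Matrix ι ι F) * (x : Matrix ι ι F) * ((B⁻¹ : GL ι F) : Matrix ι ι F)) := by
    rw [psi_conj]
    rfl
  rw [key]
  exact this

theorem isUnitaryForm_push (σ : F ≃+* F) (f : (ι → F) → (ι → F) → F) (h : IsUnitaryForm σ f) :
    IsUnitaryForm σ (fun u v : Fin n → F => f (u ∘ e) (v ∘ e)) where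
  ne_refl := h.ne_refl
  involutive := h.involutive
  add_left x y v := h.add_left _ _ _
  smul_left c x v := h.smul_left c _ _
  herm v w := h.herm _ _
  nondegenerate := by
    intro v hv
    have hv' : v ∘ e ≠ 0 := by
      intro h0
      apply hv
      rw [← comp_comp_symm e v, h0]
      rfl
    obtain ⟨⟨x, hx⟩, ⟨y, hy⟩⟩ := h.nondegenerate _ hv'
    refine ⟨⟨x ∘ e.symm, ?_⟩, ⟨y ∘ e.symm, ?_⟩⟩
    · show f ((x ∘ e.symm) ∘ e) (v ∘ e) ≠ 0
      rw [comp_symm_comp]
      exact hx
    · show f (v ∘ e) ((y ∘ e.symm) ∘ e) ≠ 0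
      rw [comp_symm_comp]
      exact hy

theorem fixesForm_push (f : (ι → F) → (ι → F) → F) (h : FixesForm (matrixSet (pullP e P')) f) :
    FixesForm (matrixSet P') (fun u v : Fin n → F => f (u ∘ e) (v ∘ e)) := by
  intro s' hs' u v
  obtain ⟨x, hx, rfl, hxs⟩ := matrixSet_pull e P' hs'
  show f (_ ∘ e) (_ ∘ e) = f (u ∘ e) (v ∘ e)
  rw [glReindex_mulVec_comp, glReindex_mulVec_comp]
  exact h _ hxs _ _

end res

end Cfsg.Agent.Lib.Helper95.AschOTr

namespace Cfsg.Agent.Lib.Helper5.AschO

open Cfsg Cfsg.Geo Cfsg.Agent.Lib.Helper99.Asch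
open scoped MatrixGroups Matrix Kronecker

variable {n : ℕ} {F : Type*} [Field F] [Fintype F]

section transport

variable {ι : Type} [Fintype ι] [DecidableEq ι]

open Cfsg.Agent.Lib.Helper95.AschOTr

/-- ASCHO-[TR-RES] -/
theorem inOrthogonalResidualClass_of_map (e : ι ≃ Fin n) (H : Subgroup (GL ι F))
    (h : InOrthogonalResidualClass (H.map (glReindex e).toMonoidHom)) : InOrthogonalResidualClass H := by
  obtain ⟨P', hcore, hno⟩ := h
  refine ⟨pullP e P', ?_, ?_⟩
  · refine
      { le := ?_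
        normal := ?_
        perfect := ?_
        simple := ?_
        nonabelian := ?_
        centralizer_scalar := ?_
        absIrred := actsAbsolutelyIrreducibly_pull e P' hcore.absIrred
        no_subfield := fun F₀ hF₀ hR => hcore.no_subfield F₀ hF₀ (realisableOver_push e P' F₀ hR) }
    · intro x hx
      obtain ⟨y, hy, hyx⟩ := hcore.le ((mem_pullP e P' x).mp hx)
      have : y = x := (glReindex e).injective hyx
      rw [← this]
      exact hy
    · intro g hg x hx
      rw [mem_pullP, map_mul, map_mul, map_inv]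
      exact hcore.normal _ (Subgroup.mem_map_of_mem _ hg) _ ((mem_pullP e P' x).mp hx)
    · have hP : pullP e P' = P'.map (glReindex e.symm).toMonoidHom := comap_eq_map_symm e P'
      rw [hP, ← Subgroup.map_commutator, hcore.perfect]
    · have := hcore.simple
      exact (quotEquiv e P').isSimpleGroup
    · intro hc
      apply hcore.nonabelian
      refine ⟨⟨fun a b => ?_⟩⟩
      have h1 := mul_comm' ((quotEquiv e P').symm a) ((quotEquiv e P').symm b)
      have h2 := congrArg (quotEquiv e P') h1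
      simpa using h2
    · intro g hg hcent
      have h1 : glReindex e g ∈ scalars (Fin n) F := by
        apply hcore.centralizer_scalar _ (Subgroup.mem_map_of_mem _ hg)
        intro x' hx'
        have h2 := hcent _ (symm_mem_pullP e P' hx')
        rw [← glReindex_mem_scalars e, map_mul, map_mul, map_mul, map_inv, map_inv,
          glReindex_glReindex_symm] at h2
        exact h2
      exact (glReindex_mem_scalars e g).mp h1
  · rintro ⟨σ, f, hf, hfix⟩
    exact hno ⟨σ, _, isUnitaryForm_push e σ f hf, fixesForm_push e P' f hfix⟩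

end transport

end Cfsg.Agent.Lib.Helper5.AschO
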