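import Mathlib
import Cfsg.Agent.Lib.Helper54.TypePTransport
import Cfsg.Agent.Lib.Helper4.PFTypes

set_option autoImplicit false
set_option linter.unusedSectionVars false
set_option linter.unusedSimpArgs false

/-!
# MODULE [TYPE-CONJ]: the type predicates `IsOfTypeII/III/IV/V` and `IsCoatom` are invariant under
an automorphism `φ` of `G` (`M ↦ M.map φ`).
-/

namespace Cfsg.Agent.Lib.Helper95.TypeConj

open Cfsg Cfsg.Agent.Lib.Helper4.PF Cfsg.Agent.Lib.Helper54.TypePTransport
open Cfsg.Agent.Lib.Helper34.TildeEquiv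

universe u

open scoped Pointwise

section abstract

variable {X Y : Type u} [Group X] [Group Y]

theorem pCore_map_le' (p : ℕ) (e : X ≃* Y) : (pCore p X).map e.toMonoidHom ≤ pCore p Y := by
  unfold pCore
  rw [(Subgroup.gc_map_comap e.toMonoidHom).l_sSup]
  refine iSup₂_le fun N hN => le_sSup ⟨hN.1.map e.toMonoidHom e.surjective, ?_⟩
  exact hN.2.map _

theorem pCore_map_equiv' (p : ℕ) (e : X ≃* Y) : (pCore p X).map e.toMonoidHom = pCore p Y := by
  apply le_antisymm (pCore_map_le' p e)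
  have h := Subgroup.map_mono (f := e.toMonoidHom) (pCore_map_le' p e.symm)
  rwa [map_symm_map] at h

theorem pPrimeCore_map_le' (p : ℕ) (e : X ≃* Y) :
    (pPrimeCore p X).map e.toMonoidHom ≤ pPrimeCore p Y := by
  unfold pPrimeCore
  rw [(Subgroup.gc_map_comap e.toMonoidHom).l_sSup]
  refine iSup₂_le fun N hN => le_sSup ⟨hN.1.map e.toMonoidHom e.surjective, ?_⟩
  rw [card_map_equiv]
  exact hN.2

theorem pPrimeCore_map_equiv' (p : ℕ) (e : X ≃* Y) :
    (pPrimeCore p X).map e.toMonoidHom = pPrimeCore p Y := by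
  apply le_antisymm (pPrimeCore_map_le' p e)
  have h := Subgroup.map_mono (f := e.toMonoidHom) (pPrimeCore_map_le' p e.symm)
  rwa [map_symm_map] at h

theorem isCyclic_pPrimeCore_of_mulEquiv (p : ℕ) (e : X ≃* Y) (h : IsCyclic (pPrimeCore p X)) :
    IsCyclic (pPrimeCore p Y) := by
  rw [← pPrimeCore_map_equiv' p e]
  have e' := (pPrimeCore p X).equivMapOfInjective e.toMonoidHom e.injective
  exact isCyclic_of_surjective e'.toMonoidHom e'.surjective

theorem card_pCore_of_mulEquiv (p : ℕ) (e : X ≃* Y) :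
    Nat.card (pCore p Y) = Nat.card (pCore p X) := by
  rw [← pCore_map_equiv' p e, card_map_equiv]

theorem isMulCommutative_map {X Y : Type*} [Group X] [Group Y] (e : X ≃* Y) {U : Subgroup X}
    (h : IsMulCommutative U) : IsMulCommutative (U.map e.toMonoidHom : Subgroup Y) := by
  refine ⟨⟨?_⟩⟩
  rintro ⟨_, a, ha, rfl⟩ ⟨_, b, hb, rfl⟩
  apply Subtype.ext
  show e a * e b = e b * e a
  have := h.is_comm.comm (⟨a, ha⟩ : U) ⟨b, hb⟩
  have h2 : a * b = b * a := congrArg Subtype.val this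
  rw [← map_mul, ← map_mul, h2]

theorem isMulCommutative_of_map {X Y : Type*} [Group X] [Group Y] (e : X ≃* Y) {U : Subgroup X}
    (h : IsMulCommutative (U.map e.toMonoidHom : Subgroup Y)) : IsMulCommutative U := by
  refine ⟨⟨?_⟩⟩
  rintro ⟨a, ha⟩ ⟨b, hb⟩
  apply Subtype.ext
  show a * b = b * a
  have := h.is_comm.comm (⟨e a, a, ha, rfl⟩ : U.map e.toMonoidHom) ⟨e b, b, hb, rfl⟩
  have h2 : e a * e b = e b * e a := congrArg Subtype.val this
  apply e.injective
  rw [map_mul, map_mul, h2]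

/-- `IsOfTypeF` is a property of the abstract group. -/
theorem isOfTypeF_of_mulEquiv (e : X ≃* Y) (h : IsOfTypeF X) : IsOfTypeF Y := by
  obtain ⟨hsol, hodd, hne, hnt, U, hU, hcompl, ⟨U₁, hU₁U, hU₁n, hU₁c, hU₁cent⟩,
    ⟨U₀, hU₀U, hexp, hfpf⟩⟩ := h
  have hF : fittingHall Y = (fittingHall X).map e.toMonoidHom := (fittingHall_map_equiv e).symm
  refine ⟨?_, ?_, ?_, ?_, U.map e.toMonoidHom, ?_, ?_, ⟨U₁.map e.toMonoidHom, ?_, ?_, ?_, ?_⟩,
    ⟨U₀.map e.toMonoidHom, ?_, ?_, ?_⟩⟩
  · exact Group.isSolvable_of_surjective (f := e.toMonoidHom) e.surjective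
  · rw [← Nat.card_congr e.toEquiv]
    exact hodd
  · rw [hF]
    intro h0
    exact hne ((Subgroup.map_eq_bot_iff_of_injective _ e.injective).1 h0)
  · rw [hF]
    intro h0
    apply hnt
    have := congrArg (Subgroup.comap e.toMonoidHom) h0
    rwa [Subgroup.comap_map_eq_self_of_injective e.injective, Subgroup.comap_top] at this
  · intro h0
    exact hU ((Subgroup.map_eq_bot_iff_of_injective _ e.injective).1 h0)
  · rw [hF]
    apply Subgroup.isComplement'_of_disjoint_and_mul_eq_univ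
    · rw [disjoint_iff, ← Subgroup.map_inf _ _ _ e.injective, hcompl.disjoint.eq_bot,
        Subgroup.map_bot]
    · rw [Set.eq_univ_iff_forall]
      intro y
      obtain ⟨x, rfl⟩ := e.surjective y
      have hx : x ∈ ((fittingHall X : Subgroup X) : Set X) * (U : Set X) := by
        have := Subgroup.IsComplement.mul_eq hcompl
        rw [this]
        exact Set.mem_univ x
      obtain ⟨a, ha, b, hb, rfl⟩ := hx
      exact ⟨e a, ⟨a, ha, rfl⟩, e b, ⟨b, hb, rfl⟩, (map_mul e a b).symm⟩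
  · exact Subgroup.map_mono hU₁U
  · have h1 := Subgroup.map_equiv_normalizer_eq U₁ e
    have h2 : Subgroup.normalizer ((U₁.map e.toMonoidHom : Subgroup Y) : Set Y) =
        (Subgroup.normalizer (U₁ : Set X)).map e.toMonoidHom := h1.symm
    rw [h2]
    exact Subgroup.map_mono hU₁n
  · exact isMulCommutative_map e hU₁c
  · intro y hy hy1 z hz
    rw [Subgroup.mem_inf] at hz
    obtain ⟨⟨u, hu, rfl⟩, hz⟩ := hz
    rw [hF] at hy
    obtain ⟨x, hx, rfl⟩ := hy
    have hx1 : x ≠ 1 := by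
      rintro rfl
      exact hy1 (map_one e)
    have hmem : u ∈ U ⊓ Subgroup.centralizer ({x} : Set X) := by
      rw [Subgroup.mem_inf]
      refine ⟨hu, ?_⟩
      rw [Subgroup.mem_centralizer_iff] at hz ⊢
      intro w hw
      rw [Set.mem_singleton_iff] at hw
      subst hw
      have := hz (e w) (Set.mem_singleton _)
      apply e.injective
      rw [map_mul, map_mul]
      exact this
    exact ⟨u, hU₁cent x hx hx1 hmem, rfl⟩
  · exact Subgroup.map_mono hU₀U
  · rw [← Monoid.exponent_eq_of_mulEquiv (U₀.equivMapOfInjective e.toMonoidHom e.injective),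
      ← Monoid.exponent_eq_of_mulEquiv (U.equivMapOfInjective e.toMonoidHom e.injective)]
    exact hexp
  · rintro _ ⟨u, hu, rfl⟩ hu1 y hy hc
    rw [hF] at hy
    obtain ⟨x, hx, rfl⟩ := hy
    have hu1' : u ≠ 1 := by
      rintro rfl
      exact hu1 (map_one e)
    have : x = 1 := by
      apply hfpf u hu hu1' x hx
      apply e.injective
      rw [map_mul, map_mul]
      exact hc
    rw [this, map_one]

end abstract

variable {G : Type u} [Group G]

theorem isTISubset_image (φ : G ≃* G) {X : Set G} (h : IsTISubset X) : IsTISubset (φ '' X) := by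
  intro g hg x hx hgx
  obtain ⟨x', hx', rfl⟩ := hx
  rw [normalizer_image] at hg
  have hg' : φ.symm g ∉ Subgroup.normalizer X := by
    intro hmem
    exact hg ⟨φ.symm g, hmem, by simp⟩
  have hconj : φ.symm g * x' * (φ.symm g)⁻¹ ∈ X := by
    obtain ⟨z, hz, hzz⟩ := hgx
    have : z = φ.symm g * x' * (φ.symm g)⁻¹ := by
      apply φ.injective
      rw [hzz]
      simp
    rwa [← this]
  rw [h _ hg' x' hx' hconj, map_one]

theorem coe_map_eq_image (φ : G ≃* G) (H : Subgroup G) :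
    ((H.map φ.toMonoidHom : Subgroup G) : Set G) = φ '' (H : Set G) := by
  ext x; simp [Subgroup.mem_map]

theorem isTISubset_map (φ : G ≃* G) {H : Subgroup G} (h : IsTISubset (H : Set G)) :
    IsTISubset ((H.map φ.toMonoidHom : Subgroup G) : Set G) := by
  rw [coe_map_eq_image]
  exact isTISubset_image φ h

theorem derived_map (φ : G ≃* G) (M : Subgroup G) :
    ⁅M.map φ.toMonoidHom, M.map φ.toMonoidHom⁆ = (⁅M, M⁆).map φ.toMonoidHom :=
  (Subgroup.map_commutator M M φ.toMonoidHom).symm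

/-- the isomorphism `H ≃* K` when `K = φ(H)` -/
noncomputable def equivOfMapEq (φ : G ≃* G) {H K : Subgroup G} (h : K = H.map φ.toMonoidHom) :
    H ≃* K :=
  (mapEquiv φ H).trans (MulEquiv.subgroupCongr h.symm)

variable [Finite G]

/-- MODULE [TYPE-CONJ] (0) -/
theorem isCoatom_map (φ : G ≃* G) {M : Subgroup G} (h : IsCoatom M) :
    IsCoatom (M.map φ.toMonoidHom) :=
  Cfsg.Agent.Lib.Helper34.TildeEquiv.isCoatom_map φ h

/-- MODULE [TYPE-CONJ] (1) -/
theorem isOfTypeII_map (φ : G ≃* G) {M : Subgroup G} (h : IsOfTypeII M) :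
    IsOfTypeII (M.map φ.toMonoidHom) := by
  obtain ⟨W₁, U, W₂, hP, hU, hpr, hTI, hcomm, hnorm, hF, hFH⟩ := h
  refine ⟨W₁.map φ.toMonoidHom, U.map φ.toMonoidHom, W₂.map φ.toMonoidHom, IsTypePWith.map φ hP,
    map_ne_bot φ hU, ?_, ?_, isMulCommutative_map φ hcomm, ?_, ?_, ?_⟩
  · rw [card_map_equiv]
    exact hpr
  · rw [fittingOf_map]
    exact isTISubset_map φ hTI
  · rw [normalizer_map, map_le_map_iff_equiv]
    exact hnorm
  · exact isOfTypeF_of_mulEquiv (equivOfMapEq φ (derived_map φ M)) hF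
  · rw [derived_map, fittingHallOf_map, fittingHallOf_map, hFH]

/-- MODULE [TYPE-CONJ] (2) -/
theorem isOfTypeIII_map (φ : G ≃* G) {M : Subgroup G} (h : IsOfTypeIII M) :
    IsOfTypeIII (M.map φ.toMonoidHom) := by
  obtain ⟨W₁, U, W₂, hP, hU, hpr, hTI, hcomm, hnorm⟩ := h
  refine ⟨W₁.map φ.toMonoidHom, U.map φ.toMonoidHom, W₂.map φ.toMonoidHom, IsTypePWith.map φ hP,
    map_ne_bot φ hU, ?_, ?_, isMulCommutative_map φ hcomm, ?_⟩
  · rw [card_map_equiv]
    exact hpr
  · rw [fittingOf_map]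
    exact isTISubset_map φ hTI
  · rw [normalizer_map, map_le_map_iff_equiv]
    exact hnorm

/-- MODULE [TYPE-CONJ] (3) -/
theorem isOfTypeIV_map (φ : G ≃* G) {M : Subgroup G} (h : IsOfTypeIV M) :
    IsOfTypeIV (M.map φ.toMonoidHom) := by
  obtain ⟨W₁, U, W₂, hP, hU, hpr, hTI, hcomm, hnorm⟩ := h
  refine ⟨W₁.map φ.toMonoidHom, U.map φ.toMonoidHom, W₂.map φ.toMonoidHom, IsTypePWith.map φ hP,
    map_ne_bot φ hU, ?_, ?_, fun hc => hcomm (isMulCommutative_of_map φ hc), ?_⟩
  · rw [card_map_equiv]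
    exact hpr
  · rw [fittingOf_map]
    exact isTISubset_map φ hTI
  · rw [normalizer_map, map_le_map_iff_equiv]
    exact hnorm

/-- MODULE [TYPE-CONJ] (4) -/
theorem isOfTypeV_map (φ : G ≃* G) {M : Subgroup G} (h : IsOfTypeV M) :
    IsOfTypeV (M.map φ.toMonoidHom) := by
  obtain ⟨W₁, U, W₂, hP, hU, hcases⟩ := h
  have hcard : Nat.card (fittingHallOf (M.map φ.toMonoidHom)) = Nat.card (fittingHallOf M) := by
    rw [fittingHallOf_map, card_map_equiv]
  have e : ↥(fittingHallOf M) ≃* ↥(fittingHallOf (M.map φ.toMonoidHom)) :=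
    equivOfMapEq φ (fittingHallOf_map φ M)
  refine ⟨W₁.map φ.toMonoidHom, U.map φ.toMonoidHom, W₂.map φ.toMonoidHom, IsTypePWith.map φ hP,
    ?_, ?_⟩
  · rw [hU, Subgroup.map_bot]
  · rcases hcases with hTI | ⟨p, hp, hdvd, hW, hcyc⟩ | ⟨p, hp, hdvd, hc3, hW, hcyc⟩
    · left
      rw [fittingHallOf_map]
      exact isTISubset_map φ hTI
    · right; left
      refine ⟨p, hp, ?_, ?_, isCyclic_pPrimeCore_of_mulEquiv p e hcyc⟩
      · rw [hcard]; exact hdvd
      · rw [card_map_equiv]; exact hW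
    · right; right
      refine ⟨p, hp, ?_, ?_, ?_, isCyclic_pPrimeCore_of_mulEquiv p e hcyc⟩
      · rw [hcard]; exact hdvd
      · rw [card_pCore_of_mulEquiv p e]; exact hc3
      · rw [card_map_equiv]; exact hW

end Cfsg.Agent.Lib.Helper95.TypeConj
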