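import Mathlib
import Cfsg.Agent.Lib.Helper2.FWDefs

/-!
# Project FW (helper2, S3211): module FW-[FLIP] (helper95)
-/

set_option autoImplicit false

namespace Cfsg.Agent.Lib.Helper95.FW

open Cfsg.Agent.Lib.Helper2.FW

variable {G : Type*} [Group G] {L₁ L₂ : Subgroup G} {j n : G}

/-- [FW-FLIP] every involution `x y` of the third kind is conjugate in `C_G(j)` to `x y j`. -/
theorem flip (H : Hyp L₁ L₂ j n) {x y : G} (hx : x ∈ L₁) (hy : y ∈ L₂) (hxx : x * x = j)
    (hyy : y * y = j) : ∃ w, w * j = j * w ∧ w * (x * y) * w⁻¹ = (x * y) * j := by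
  have hjinv : j⁻¹ = j := inv_eq_of_mul_eq_one_left H.j_sq
  have hxi : x⁻¹ * x⁻¹ = j := by
    calc x⁻¹ * x⁻¹ = (x * x)⁻¹ := by group
      _ = j := by rw [hxx, hjinv]
  obtain ⟨w, hw, hwx⟩ := H.conj₁ x⁻¹ (L₁.inv_mem hx) x hx hxi hxx
  have hxinv : x⁻¹ = x * j := by
    have : x * (x * j) = 1 := by
      calc x * (x * j) = (x * x) * j := by group
        _ = 1 := by rw [hxx, H.j_sq]
    exact inv_eq_of_mul_eq_one_right this
  have hwy : w * y = y * w := H.comm w hw y hy
  have hyj : y * j = j * y := H.cent₂ y hy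
  refine ⟨w, H.cent₁ w hw, ?_⟩
  calc w * (x * y) * w⁻¹ = w * x * (y * w⁻¹) := by group
    _ = w * x * (w⁻¹ * y) := by
        congr 1
        calc y * w⁻¹ = w⁻¹ * (w * y) * w⁻¹ := by group
          _ = w⁻¹ * (y * w) * w⁻¹ := by rw [hwy]
          _ = w⁻¹ * y := by group
    _ = (w * x * w⁻¹) * y := by group
    _ = x * j * y := by rw [hwx, hxinv]
    _ = x * (j * y) := by group
    _ = x * (y * j) := by rw [hyj]
    _ = (x * y) * j := by group

end Cfsg.Agent.Lib.Helper95.FW
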