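import Mathlib
import Cfsg.Agent.Lib.Helper2.FWDefs

/-!
# Project FW (helper2, S3211): modules FW-[INV] (and a private copy of FW-[NL]) (helper95)
-/

set_option autoImplicit false

namespace Cfsg.Agent.Lib.Helper95.FW

open Cfsg.Agent.Lib.Helper2.FW

variable {G : Type*} [Group G] {L₁ L₂ : Subgroup G} {j n : G}

/-- conjugating twice by `n` is the identity on `C(j)` -/
theorem conj_conj (H : Hyp L₁ L₂ j n) {k : G} (hk : k * j = j * k) :
    n * (n * k * n⁻¹) * n⁻¹ = k := by
  calc n * (n * k * n⁻¹) * n⁻¹ = (n * n) * k * (n * n)⁻¹ := by group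
    _ = j * k * j⁻¹ := by rw [H.n_sq]
    _ = k := by rw [← hk]; group

theorem conj_j (H : Hyp L₁ L₂ j n) : n * j * n⁻¹ = j := by
  rw [H.n_comm]; group

theorem j_inv (H : Hyp L₁ L₂ j n) : j⁻¹ = j := inv_eq_of_mul_eq_one_left H.j_sq

/-- [FW-NL] no involution in the coset `n L₁L₂` (copy, used for [FW-INV]). -/
theorem no_invol_nL' (H : Hyp L₁ L₂ j n) {x y : G} (hx : x ∈ L₁) (hy : y ∈ L₂) :
    (n * (x * y)) * (n * (x * y)) ≠ 1 := by
  intro ht
  set cx := n * x * n⁻¹ with hcx
  set cy := n * y * n⁻¹ with hcy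
  have hcx2 : cx ∈ L₂ := H.swap₁ x hx
  have hcy1 : cy ∈ L₁ := H.swap₂ y hy
  -- t*t = cx * cy * j * x * y
  have e1 : (n * (x * y)) * (n * (x * y)) = cx * cy * (n * n) * x * y := by
    rw [hcx, hcy]; group
  rw [H.n_sq] at e1
  have c1 : cy * cx = cx * cy := H.comm cy hcy1 cx hcx2
  have c2 : cx * j = j * cx := H.cent₂ cx hcx2
  have c3 : cy * j = j * cy := H.cent₁ cy hcy1
  have c4 : x * cx = cx * x := H.comm x hx cx hcx2
  set p := cy * x with hp
  set r := cx * y with hr
  have hp1 : p ∈ L₁ := L₁.mul_mem hcy1 hx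
  have hr2 : r ∈ L₂ := L₂.mul_mem hcx2 hy
  have e2 : cx * cy * j * x * y = j * p * r := by
    calc cx * cy * j * x * y = cy * cx * j * x * y := by rw [c1]
      _ = cy * (cx * j) * x * y := by group
      _ = cy * (j * cx) * x * y := by rw [c2]
      _ = (cy * j) * cx * x * y := by group
      _ = (j * cy) * cx * x * y := by rw [c3]
      _ = j * cy * (cx * x) * y := by group
      _ = j * cy * (x * cx) * y := by rw [c4]
      _ = j * p * r := by rw [hp, hr]; group
  have e3 : j * p * r = 1 := by rw [← e2, ← e1]; exact ht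
  -- p ∈ L₂
  have hpeq : p = j * r⁻¹ := by
    have : p = j⁻¹ * r⁻¹ := by
      have h := e3
      calc p = j⁻¹ * (j * p * r) * r⁻¹ := by group
        _ = j⁻¹ * r⁻¹ := by rw [h]; group
    rw [this, j_inv H]
  have hp2 : p ∈ L₂ := by
    rw [hpeq]; exact L₂.mul_mem H.j_mem₂ (L₂.inv_mem hr2)
  have hp1j : p = 1 ∨ p = j := H.inter p hp1 hp2
  -- r = p * j
  have hrpj : r = p * j := by
    have hr' : r = p⁻¹ * j⁻¹ := by
      calc r = p⁻¹ * j⁻¹ * (j * p * r) := by group
        _ = p⁻¹ * j⁻¹ := by rw [e3]; group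
    rcases hp1j with h | h
    · rw [hr', h, j_inv H]; group
    · rw [hr', h, j_inv H]
  -- c(p) = p, and c(p) = y * cx
  have hyj : y * j = j * y := H.cent₂ y hy
  have hcp : n * p * n⁻¹ = y * cx := by
    have : n * p * n⁻¹ = (n * cy * n⁻¹) * (n * x * n⁻¹) := by rw [hp]; group
    rw [this, hcy, conj_conj H hyj]
  have hcpp : n * p * n⁻¹ = p := by
    rcases hp1j with h | h
    · rw [h]; group
    · rw [h]; exact conj_j H
  have hpy : y⁻¹ * p * y = p := by
    rcases hp1j with h | h
    · rw [h]; group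
    · rw [h]
      calc y⁻¹ * j * y = y⁻¹ * (j * y) := by group
        _ = y⁻¹ * (y * j) := by rw [hyj]
        _ = j := by group
  have hrp : r = p := by
    calc r = y⁻¹ * (y * cx) * y := by rw [hr]; group
      _ = y⁻¹ * p * y := by rw [← hcp, hcpp]
      _ = p := hpy
  have : j = 1 := by
    have h := hrpj
    rw [hrp] at h
    calc j = p⁻¹ * (p * j) := by group
      _ = p⁻¹ * p := by rw [← h]
      _ = 1 := by group
  exact H.j_ne this

/-- [FW-INV] the involutions of `C_G(j)`. -/
theorem invol_cases (H : Hyp L₁ L₂ j n) {t : G} (htj : t * j = j * t) (ht : t * t = 1) :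
    t = 1 ∨ t = j ∨ ∃ x ∈ L₁, ∃ y ∈ L₂, x * x = j ∧ y * y = j ∧ t = x * y := by
  rcases H.cover t htj with ⟨x, hx, y, hy, rfl⟩ | ⟨x, hx, y, hy, rfl⟩
  · -- t = x * y
    have hc : x * y = y * x := H.comm x hx y hy
    have e1 : (x * x) * (y * y) = 1 := by
      calc (x * x) * (y * y) = x * (x * y) * y := by group
        _ = x * (y * x) * y := by rw [hc]
        _ = (x * y) * (x * y) := by group
        _ = 1 := ht
    have hxx : x * x = (y * y)⁻¹ := eq_inv_of_mul_eq_one_left e1
    have hxx2 : x * x ∈ L₂ := by rw [hxx]; exact L₂.inv_mem (L₂.mul_mem hy hy)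
    rcases H.inter (x * x) (L₁.mul_mem hx hx) hxx2 with h | h
    · -- x*x = 1, y*y = 1
      have hyy : y * y = 1 := by
        rw [h, one_mul] at e1; exact e1
      rcases H.invol₁ x hx h with rfl | rfl
      · rcases H.invol₂ y hy hyy with rfl | rfl
        · left; group
        · right; left; group
      · rcases H.invol₂ y hy hyy with rfl | rfl
        · right; left; group
        · left; exact H.j_sq
    · -- x*x = j
      have hyy : y * y = j := by
        rw [h] at e1
        calc y * y = j⁻¹ * (j * (y * y)) := by group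
          _ = j⁻¹ := by rw [e1, mul_one]
          _ = j := j_inv H
      exact Or.inr (Or.inr ⟨x, hx, y, hy, h, hyy, rfl⟩)
  · exact absurd ht (no_invol_nL' H hx hy)

end Cfsg.Agent.Lib.Helper95.FW
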