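import Mathlib
import Cfsg.Agent.Lib.Helper2.FWDefs
import Cfsg.Agent.Lib.Helper95.FWInv

/-!
# Project FW (helper2, S3211): module FW-[NORM] (helper95)
-/

set_option autoImplicit false

namespace Cfsg.Agent.Lib.Helper95.FW

open Cfsg.Agent.Lib.Helper2.FW

variable {G : Type*} [Group G] {L₁ L₂ : Subgroup G} {j n : G}

/-- [FW-NORM] a non-isolated `j` has a conjugate of the special shape `a * (n a n⁻¹)`. -/
theorem normalize (H : Hyp L₁ L₂ j n) {g : G} (hne : g * j * g⁻¹ ≠ j)
    (hcomm : (g * j * g⁻¹) * j = j * (g * j * g⁻¹)) :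
    ∃ g' a, a ∈ L₁ ∧ a * a = j ∧ g' * j * g'⁻¹ = a * (n * a * n⁻¹) := by
  set u := g * j * g⁻¹ with hu
  have huu : u * u = 1 := by
    calc u * u = g * (j * j) * g⁻¹ := by rw [hu]; group
      _ = 1 := by rw [H.j_sq]; group
  have hu1 : u ≠ 1 := by
    intro h
    apply H.j_ne
    calc j = g⁻¹ * u * g := by rw [hu]; group
      _ = 1 := by rw [h]; group
  rcases invol_cases H hcomm huu with h | h | ⟨x, hx, y, hy, hxx, hyy, hxy⟩
  · exact absurd h hu1
  · exact absurd h hne
  · set ca := n * x * n⁻¹ with hca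
    have hca2 : ca ∈ L₂ := H.swap₁ x hx
    have hcaca : ca * ca = j := by
      calc ca * ca = n * (x * x) * n⁻¹ := by rw [hca]; group
        _ = j := by rw [hxx]; exact conj_j H
    obtain ⟨w, hw, hwy⟩ := H.conj₂ ca hca2 y hy hcaca hyy
    have hxw : x * w = w * x := H.comm x hx w hw
    refine ⟨w * g, x, hx, hxx, ?_⟩
    calc w * g * j * (w * g)⁻¹ = w * u * w⁻¹ := by rw [hu]; group
      _ = w * (x * y) * w⁻¹ := by rw [hxy]
      _ = (w * x) * y * w⁻¹ := by group
      _ = (x * w) * y * w⁻¹ := by rw [hxw]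
      _ = x * (w * y * w⁻¹) := by group
      _ = x * ca := by rw [hwy]

end Cfsg.Agent.Lib.Helper95.FW
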