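import Mathlib

/-!
# Recognising generalised quaternion groups from generators and relations (helper95)

`closure_equiv_quaternionGroup`: if `a` has order `2 * n` (`2 ≤ n`), `w ^ 2 = a ^ n` and
`w * a * w⁻¹ = a⁻¹`, then `Subgroup.closure {a, w} ≃* QuaternionGroup n`.
-/

set_option autoImplicit false
set_option linter.unusedSectionVars false

namespace Cfsg.Agent.Lib.Helper95

variable {G : Type*} [Group G]

section

variable (n : ℕ) [NeZero n] (a : G)

/-- The power map `ZMod (2 * n) → G`, `i ↦ a ^ i.val`. -/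
def qe (i : ZMod (2 * n)) : G := a ^ i.val

variable {n a}

theorem qe_zero : qe n a 0 = 1 := by simp [qe]

theorem qe_add (ha : orderOf a = 2 * n) (i j : ZMod (2 * n)) :
    qe n a (i + j) = qe n a i * qe n a j := by
  unfold qe
  rw [← pow_add, pow_eq_pow_iff_modEq, ha, ZMod.val_add]
  exact Nat.mod_modEq _ _

theorem qe_neg (ha : orderOf a = 2 * n) (i : ZMod (2 * n)) : qe n a (-i) = (qe n a i)⁻¹ := by
  rw [eq_inv_iff_mul_eq_one, ← qe_add ha, neg_add_cancel, qe_zero]

theorem qe_sub (ha : orderOf a = 2 * n) (i j : ZMod (2 * n)) :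
    qe n a (i - j) = qe n a i * (qe n a j)⁻¹ := by
  rw [sub_eq_add_neg, qe_add ha, qe_neg ha]

theorem qe_natCast (ha : orderOf a = 2 * n) (k : ℕ) : qe n a (k : ZMod (2 * n)) = a ^ k := by
  unfold qe
  rw [pow_eq_pow_iff_modEq, ha, ZMod.val_natCast]
  exact Nat.mod_modEq _ _

theorem qe_one (ha : orderOf a = 2 * n) : qe n a 1 = a := by
  have := qe_natCast ha 1
  simpa using this

theorem qe_mem_zpowers (i : ZMod (2 * n)) : qe n a i ∈ Subgroup.zpowers a :=
  Subgroup.npow_mem_zpowers a _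

theorem qe_eq_one_iff (ha : orderOf a = 2 * n) (i : ZMod (2 * n)) : qe n a i = 1 ↔ i = 0 := by
  constructor
  · intro h
    unfold qe at h
    rw [← orderOf_dvd_iff_pow_eq_one, ha] at h
    have hlt : i.val < 2 * n := ZMod.val_lt i
    have h0 : i.val = 0 := Nat.eq_zero_of_dvd_of_lt h hlt
    exact (ZMod.val_eq_zero i).mp h0
  · rintro rfl; exact qe_zero

theorem qe_comm (i j : ZMod (2 * n)) : qe n a i * qe n a j = qe n a j * qe n a i := by
  unfold qe
  rw [← pow_add, ← pow_add, add_comm]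

/-- `w` inverts all powers of `a`. -/
theorem conj_qe {w : G} (hw : w * a * w⁻¹ = a⁻¹) (i : ZMod (2 * n)) :
    w * qe n a i * w⁻¹ = (qe n a i)⁻¹ := by
  unfold qe
  rw [← conj_pow, hw, inv_pow]

theorem qe_mul_w {w : G} (hw : w * a * w⁻¹ = a⁻¹) (i : ZMod (2 * n)) :
    qe n a i * w = w * (qe n a i)⁻¹ := by
  have h := conj_qe (n := n) hw i
  generalize qe n a i = e at h ⊢
  -- w * e * w⁻¹ = e⁻¹
  have h2 : w * e⁻¹ * w⁻¹ = e := by
    calc w * e⁻¹ * w⁻¹ = (w * e * w⁻¹)⁻¹ := by group
      _ = e := by rw [h, inv_inv]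
  calc e * w = (w * e⁻¹ * w⁻¹) * w := by rw [h2]
    _ = w * e⁻¹ := by group

end

section hom

variable {n : ℕ} [NeZero n] {a w : G}

/-- The map `QuaternionGroup n → G` determined by `a` and `w`. -/
def quatFun (n : ℕ) [NeZero n] (a w : G) : QuaternionGroup n → G
  | QuaternionGroup.a i => qe n a i
  | QuaternionGroup.xa i => w * qe n a i

/-- The homomorphism `QuaternionGroup n →* G` determined by `a` and `w`. -/
def quatHom (ha : orderOf a = 2 * n) (hw2 : w ^ 2 = a ^ n) (hw : w * a * w⁻¹ = a⁻¹) :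
    QuaternionGroup n →* G :=
  MonoidHom.mk' (quatFun n a w) (by
    rintro (i | i) (j | j)
    · show qe n a (i + j) = qe n a i * qe n a j
      exact qe_add ha i j
    · show w * qe n a (j - i) = qe n a i * (w * qe n a j)
      rw [qe_sub ha, ← mul_assoc (qe n a i), qe_mul_w hw, mul_assoc]
      congr 1
      rw [← qe_neg ha, qe_comm]
    · show w * qe n a (i + j) = w * qe n a i * qe n a j
      rw [qe_add ha, mul_assoc]
    · show qe n a ((n : ZMod (2 * n)) + j - i) = w * qe n a i * (w * qe n a j)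
      rw [qe_sub ha, qe_add ha, qe_natCast ha, ← hw2]
      have : w * qe n a i * (w * qe n a j) = w * (qe n a i * w) * qe n a j := by group
      rw [this, qe_mul_w hw, sq]
      have h2 : w * (w * (qe n a i)⁻¹) * qe n a j = w * w * ((qe n a i)⁻¹ * qe n a j) := by group
      rw [h2, mul_assoc (w * w)]
      congr 1
      rw [← qe_neg ha, qe_comm, qe_neg ha])

theorem quatHom_a (ha : orderOf a = 2 * n) (hw2 : w ^ 2 = a ^ n) (hw : w * a * w⁻¹ = a⁻¹)
    (i : ZMod (2 * n)) : quatHom ha hw2 hw (QuaternionGroup.a i) = qe n a i := rfl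

theorem quatHom_xa (ha : orderOf a = 2 * n) (hw2 : w ^ 2 = a ^ n) (hw : w * a * w⁻¹ = a⁻¹)
    (i : ZMod (2 * n)) : quatHom ha hw2 hw (QuaternionGroup.xa i) = w * qe n a i := rfl

theorem quatHom_injective (hn : 2 ≤ n) (ha : orderOf a = 2 * n) (hw2 : w ^ 2 = a ^ n)
    (hw : w * a * w⁻¹ = a⁻¹) : Function.Injective (quatHom ha hw2 hw) := by
  rw [injective_iff_map_eq_one]
  rintro (i | i) h
  · rw [quatHom_a, qe_eq_one_iff ha] at h
    rw [h]; rfl
  · exfalso
    rw [quatHom_xa] at h
    -- w is a power of a, hence commutes with a, so a = a⁻¹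
    have hwz : w ∈ Subgroup.zpowers a := by
      have : w = (qe n a i)⁻¹ := eq_inv_of_mul_eq_one_left h
      rw [this]
      exact Subgroup.inv_mem _ (qe_mem_zpowers i)
    obtain ⟨k, hk⟩ := Subgroup.mem_zpowers_iff.mp hwz
    have hcomm : w * a = a * w := by
      rw [← hk]
      exact ((Commute.refl a).zpow_left k).eq
    have : a = a⁻¹ := by
      rw [← hw, hcomm]; group
    have ha2 : a ^ 2 = 1 := by
      rw [sq]
      nth_rewrite 2 [this]
      exact mul_inv_cancel a
    have := orderOf_dvd_of_pow_eq_one ha2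
    rw [ha] at this
    have := Nat.le_of_dvd (by norm_num) this
    omega

theorem quatHom_range (ha : orderOf a = 2 * n) (hw2 : w ^ 2 = a ^ n) (hw : w * a * w⁻¹ = a⁻¹) :
    (quatHom ha hw2 hw).range = Subgroup.closure {a, w} := by
  apply le_antisymm
  · rintro _ ⟨x, rfl⟩
    have haz : ∀ i : ZMod (2 * n), qe n a i ∈ Subgroup.closure ({a, w} : Set G) := fun i =>
      Subgroup.pow_mem _ (Subgroup.subset_closure (by simp)) _
    rcases x with i | i
    · exact haz i
    · exact Subgroup.mul_mem _ (Subgroup.subset_closure (by simp)) (haz i)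
  · rw [Subgroup.closure_le]
    rintro x (rfl | rfl)
    · exact ⟨QuaternionGroup.a 1, by rw [quatHom_a, qe_one ha]⟩
    · exact ⟨QuaternionGroup.xa 0, by rw [quatHom_xa, qe_zero, mul_one]⟩

/-- Recognition of generalised quaternion groups. -/
theorem closure_equiv_quaternionGroup (hn : 2 ≤ n) (ha : orderOf a = 2 * n)
    (hw2 : w ^ 2 = a ^ n) (hw : w * a * w⁻¹ = a⁻¹) :
    Nonempty (Subgroup.closure ({a, w} : Set G) ≃* QuaternionGroup n) := by
  have e1 := MonoidHom.ofInjective (quatHom_injective hn ha hw2 hw)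
  rw [quatHom_range ha hw2 hw] at e1
  exact ⟨e1.symm⟩

theorem card_closure_quaternion (hn : 2 ≤ n) (ha : orderOf a = 2 * n)
    (hw2 : w ^ 2 = a ^ n) (hw : w * a * w⁻¹ = a⁻¹) :
    Nat.card (Subgroup.closure ({a, w} : Set G)) = 4 * n := by
  obtain ⟨e⟩ := closure_equiv_quaternionGroup hn ha hw2 hw
  rw [Nat.card_congr e.toEquiv, Nat.card_eq_fintype_card, QuaternionGroup.card]

end hom

end Cfsg.Agent.Lib.Helper95
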