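import Mathlib
import Cfsg.Prelude.Def_Local
import Cfsg.Prelude.Def_Transfer
import Cfsg.Agent.Lib.Helper41.PGV.Defs
import Cfsg.Agent.Lib.Helper21.Quasisimple

/-!
# Project PGV (S3086), sub-project RED (helper41's sheet `RED_SHEET1`): leaves [T5-DISTINCT], [T5-CENTRAL], [T5-COMMGEN]
(helper95).  Exact statements of the sheet, official namespace.
-/

set_option autoImplicit false

universe v

namespace Cfsg.Agent.Lib.Helper41.PGV

open Cfsg
open scoped commutatorElement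

variable {G : Type v} [Group G] [Finite G]

/-- **[T5-DISTINCT]** distinct components commute -/
theorem components_commute {L M : Subgroup G} (hL : IsComponent L) (hM : IsComponent M) (hne : L ≠ M) :
    ∀ x ∈ L, ∀ y ∈ M, x * y = y * x := by
  rcases Cfsg.Agent.Lib.Helper21.component_le_or_commutator_eq_bot hL hM.1 with h1 | h1
  · rcases Cfsg.Agent.Lib.Helper21.component_le_or_commutator_eq_bot hM hL.1 with h2 | h2
    · exact absurd (le_antisymm h1 h2) hne
    · intro x hx y hy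
      exact ((Cfsg.Agent.Lib.Helper21.commutator_eq_bot_iff_commute.1 h2) y hy x hx).symm
  · exact Cfsg.Agent.Lib.Helper21.commutator_eq_bot_iff_commute.1 h1

/-- **[T5-CENTRAL]** an element `q` normalizing the component `L` with `[L, q] ≤ Z(L)` centralizes `L` -/
theorem centralizes_of_comm_central {L : Subgroup G} (hL : IsComponent L) (q : G)
    (hqN : ∀ x ∈ L, q * x * q⁻¹ ∈ L)
    (hc : ∀ x ∈ L, ∀ y ∈ L, (q * x * q⁻¹ * x⁻¹) * y = y * (q * x * q⁻¹ * x⁻¹)) :
    ∀ x ∈ L, q * x = x * q := by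
  -- the commutator map `x ↦ q x q⁻¹ x⁻¹` is a homomorphism `L → G` with commuting values
  have hmemL : ∀ x ∈ L, q * x * q⁻¹ * x⁻¹ ∈ L := fun x hx =>
    L.mul_mem (hqN x hx) (L.inv_mem hx)
  let f : ↥L →* G := MonoidHom.mk' (fun x => q * (x : G) * q⁻¹ * (x : G)⁻¹) (by
    intro x y
    have h1 := hc (y : G) y.2 ((x : G)⁻¹) (L.inv_mem x.2)
    show q * ((x : G) * (y : G)) * q⁻¹ * ((x : G) * (y : G))⁻¹
      = q * (x : G) * q⁻¹ * (x : G)⁻¹ * (q * (y : G) * q⁻¹ * (y : G)⁻¹)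
    calc q * ((x : G) * (y : G)) * q⁻¹ * ((x : G) * (y : G))⁻¹
        = q * (x : G) * q⁻¹ * ((q * (y : G) * q⁻¹ * (y : G)⁻¹) * (x : G)⁻¹) := by group
      _ = q * (x : G) * q⁻¹ * ((x : G)⁻¹ * (q * (y : G) * q⁻¹ * (y : G)⁻¹)) := by rw [h1]
      _ = q * (x : G) * q⁻¹ * (x : G)⁻¹ * (q * (y : G) * q⁻¹ * (y : G)⁻¹) := by group)
  have hf : ∀ x : ↥L, f x = q * (x : G) * q⁻¹ * (x : G)⁻¹ := fun _ => rfl
  have hfcomm : ∀ x y : ↥L, f x * f y = f y * f x := by
    intro x y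
    rw [hf x, hf y]
    exact hc (x : G) x.2 _ (hmemL (y : G) y.2)
  -- `f` kills commutators, and `L` is perfect
  have hker : commutator ↥L ≤ f.ker := by
    rw [commutator_eq_closure, Subgroup.closure_le]
    rintro g ⟨a, b, rfl⟩
    show f ⁅a, b⁆ = 1
    rw [map_commutatorElement, commutatorElement_def, hfcomm a b]
    group
  have hperf : commutator ↥L = ⊤ := by
    have : Group.IsPerfect ↥L := hL.2.1
    exact Group.IsPerfect.commutator_eq_top
  intro x hx
  have h1 : f ⟨x, hx⟩ = 1 := by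
    have : (⟨x, hx⟩ : ↥L) ∈ f.ker := hker (by rw [hperf]; trivial)
    exact this
  rw [hf] at h1
  have h2 : q * x * q⁻¹ * x⁻¹ = 1 := h1
  calc q * x = (q * x * q⁻¹ * x⁻¹) * (x * q) := by group
    _ = x * q := by rw [h2, one_mul]

/-- **[T5-COMMGEN]** `q` normalizes the component `L` and does not centralize it: then `[L, q] = L` -/
theorem comm_gen_of_not_centralizes {L : Subgroup G} (hL : IsComponent L) (q : G)
    (hqN : ∀ x ∈ L, q * x * q⁻¹ ∈ L)
    (hqN' : ∀ x ∈ L, q⁻¹ * x * q ∈ L) (hnc : ¬ ∀ x ∈ L, q * x = x * q) :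
    L ≤ Subgroup.closure {u | ∃ x ∈ L, u = q⁻¹ * x⁻¹ * q * x} := by
  set N : Subgroup G := Subgroup.closure {u | ∃ x ∈ L, u = q⁻¹ * x⁻¹ * q * x} with hN
  have hgen : ∀ x ∈ L, q⁻¹ * x⁻¹ * q * x ∈ N := fun x hx =>
    Subgroup.subset_closure ⟨x, hx, rfl⟩
  have hNL : N ≤ L := by
    rw [hN, Subgroup.closure_le]
    rintro u ⟨x, hx, rfl⟩
    exact L.mul_mem (hqN' _ (L.inv_mem hx)) hx
  -- `L` normalizes `N`
  have hconj : ∀ y ∈ L, ∀ n ∈ N, y⁻¹ * n * y ∈ N := by
    intro y hy n hn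
    induction hn using Subgroup.closure_induction with
    | mem u hu =>
      obtain ⟨x, hx, rfl⟩ := hu
      have e : y⁻¹ * (q⁻¹ * x⁻¹ * q * x) * y
          = (q⁻¹ * y⁻¹ * q * y)⁻¹ * (q⁻¹ * (x * y)⁻¹ * q * (x * y)) := by group
      rw [e]
      exact N.mul_mem (N.inv_mem (hgen y hy)) (hgen (x * y) (L.mul_mem hx hy))
    | one => simp
    | mul a b _ _ ha hb =>
      have e : y⁻¹ * (a * b) * y = (y⁻¹ * a * y) * (y⁻¹ * b * y) := by group
      rw [e]
      exact N.mul_mem ha hb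
    | inv a _ ha =>
      have e : y⁻¹ * a⁻¹ * y = (y⁻¹ * a * y)⁻¹ := by group
      rw [e]
      exact N.inv_mem ha
  have hnorm : L ≤ Subgroup.normalizer (N : Set G) := by
    intro y hy
    rw [Subgroup.mem_set_normalizer_iff]
    intro n
    constructor
    · intro hn
      have := hconj y⁻¹ (L.inv_mem hy) n hn
      simpa using this
    · intro hn
      have := hconj y hy _ hn
      have e : y⁻¹ * (y * n * y⁻¹) * y = n := by group
      rwa [e] at this
  rcases Cfsg.Agent.Lib.Helper21.qs_eq_or_commutator_eq_bot hL.2 hNL hnorm with h1 | h1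
  · exact h1.ge
  · exfalso
    apply hnc
    have hcomm := Cfsg.Agent.Lib.Helper21.commutator_eq_bot_iff_commute.1 h1
    apply centralizes_of_comm_central hL q hqN
    intro z hz y hy
    have hx : q * z⁻¹ * q⁻¹ ∈ L := hqN _ (L.inv_mem hz)
    have hmem : q * z * q⁻¹ * z⁻¹ ∈ N := by
      have := N.inv_mem (hgen _ hx)
      have e : (q⁻¹ * (q * z⁻¹ * q⁻¹)⁻¹ * q * (q * z⁻¹ * q⁻¹))⁻¹ = q * z * q⁻¹ * z⁻¹ := by group
      rwa [e] at this
    exact (hcomm y hy _ hmem).symm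

end Cfsg.Agent.Lib.Helper41.PGV
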