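import Mathlib
import Cfsg.Prelude.Def_Local
import Cfsg.Prelude.Def_Transfer
import Cfsg.Agent.Lib.Helper41.PGV.Defs
import Cfsg.Agent.Lib.Helper41.PGV.Defs2
import Cfsg.Agent.Lib.Helper22.Components
import Cfsg.Agent.Lib.Helper22.ComponentsMap
import Cfsg.Agent.Lib.Helper95.PgvT5

/-!
# Project PGV (S3086), sub-project RED (helper41's sheet `RED_SHEET2`): leaves [DELTA-BASIC], [DELTA-CONJ], [DELTA-COMP]
(helper95).  Exact statements of the sheet, official namespace.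
-/

set_option autoImplicit false

universe v

namespace Cfsg.Agent.Lib.Helper41.PGV

open Cfsg

section general

variable {G : Type v} [Group G]

theorem h95_cj_cj (K : Subgroup G) (x y : G) : cj (cj K x) y = cj K (y * x) := by
  ext u
  rw [mem_cj, mem_cj]
  constructor
  · rintro ⟨w, hw, rfl⟩
    rw [mem_cj] at hw
    obtain ⟨k, hk, rfl⟩ := hw
    exact ⟨k, hk, by group⟩
  · rintro ⟨k, hk, rfl⟩
    exact ⟨x * k * x⁻¹, mem_cj.2 ⟨k, hk, rfl⟩, by group⟩

theorem h95_cj_one (K : Subgroup G) : cj K 1 = K := by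
  ext u
  rw [mem_cj]
  constructor
  · rintro ⟨k, hk, rfl⟩
    simpa using hk
  · intro hu
    exact ⟨u, hu, by simp⟩

theorem h95_cj_inj {K L : Subgroup G} {x : G} (h : cj K x = cj L x) : K = L := by
  have h1 := congrArg (fun M => cj M x⁻¹) h
  simp only [h95_cj_cj, inv_mul_cancel, h95_cj_one] at h1
  exact h1

theorem h95_le_normalizer {K N : Subgroup G} (h : ∀ g ∈ K, ∀ n ∈ N, g * n * g⁻¹ ∈ N) :
    K ≤ Subgroup.normalizer (N : Set G) := by
  intro g hg
  rw [Subgroup.mem_set_normalizer_iff]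
  intro n
  constructor
  · exact h g hg n
  · intro hn
    have := h g⁻¹ (K.inv_mem hg) _ hn
    have e : g⁻¹ * (g * n * g⁻¹) * g⁻¹⁻¹ = n := by group
    rwa [e] at this

end general

variable {p : ℕ} [Fact p.Prime] {G V : Type v} [Group G] [Finite G] [AddCommGroup V] [Finite V] [Module (ZMod p) V]
  {ρ : Representation (ZMod p) G V} {A K1 : Subgroup G} {a : G}

/-- basic facts from a counterexample with `p = 2` -/
theorem h95_ce_facts (hp : p = 2) (h : CE ρ A K1 a) :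
    a * a = 1 ∧ IsComponent (cj K1 a) ∧ cj K1 a ≠ K1 ∧ (∀ x ∈ K1, ∀ y ∈ cj K1 a, x * y = y * x) := by
  have ha2 : a * a = 1 := by
    have := h.el.2 a h.mem
    rw [hp, pow_two] at this
    exact this
  have hc : IsComponent (cj K1 a) := Cfsg.Agent.Lib.Helper22.component_conj h.comp a
  have hne : cj K1 a ≠ K1 := h.move
  exact ⟨ha2, hc, hne, components_commute h.comp hc (Ne.symm hne)⟩

/-- the diagonal homomorphism `x ↦ x x^a` -/
theorem h95_exists_phi (hcomm : ∀ x ∈ K1, ∀ y ∈ cj K1 a, x * y = y * x) :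
    ∃ φ : ↥K1 →* G, ∀ x : ↥K1, φ x = (x : G) * (a * (x : G) * a⁻¹) := by
  refine ⟨MonoidHom.mk' (fun x => (x : G) * (a * (x : G) * a⁻¹)) ?_, fun _ => rfl⟩
  intro x y
  have h1 := hcomm (y : G) y.2 (a * (x : G) * a⁻¹) (mem_cj.2 ⟨x, x.2, rfl⟩)
  show (x : G) * (y : G) * (a * ((x : G) * (y : G)) * a⁻¹)
    = (x : G) * (a * (x : G) * a⁻¹) * ((y : G) * (a * (y : G) * a⁻¹))
  calc (x : G) * (y : G) * (a * ((x : G) * (y : G)) * a⁻¹)
      = (x : G) * ((y : G) * (a * (x : G) * a⁻¹)) * (a * (y : G) * a⁻¹) := by group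
    _ = (x : G) * ((a * (x : G) * a⁻¹) * (y : G)) * (a * (y : G) * a⁻¹) := by rw [h1]
    _ = (x : G) * (a * (x : G) * a⁻¹) * ((y : G) * (a * (y : G) * a⁻¹)) := by group

/-- **[DELTA-BASIC]** -/
theorem delta_basic (hp : p = 2) (h : CE ρ A K1 a) :
    (∀ u, u ∈ Delta K1 a ↔ ∃ x ∈ K1, u = x * (a * x * a⁻¹)) ∧ (∀ u ∈ Delta K1 a, a * u = u * a) ∧
      IsQuasisimple (Delta K1 a) := by
  obtain ⟨ha2, hc, hne, hcomm⟩ := h95_ce_facts hp h
  obtain ⟨φ, hφ⟩ := h95_exists_phi hcomm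
  have hΔ : Delta K1 a = φ.range := by
    unfold Delta
    have hset : {u | ∃ x ∈ K1, u = x * (a * x * a⁻¹)} = (φ.range : Set G) := by
      ext u
      constructor
      · rintro ⟨x, hx, rfl⟩
        exact ⟨⟨x, hx⟩, hφ _⟩
      · rintro ⟨x, rfl⟩
        exact ⟨x.1, x.2, hφ x⟩
    rw [hset, Subgroup.closure_eq]
  have h1 : ∀ u, u ∈ Delta K1 a ↔ ∃ x ∈ K1, u = x * (a * x * a⁻¹) := by
    intro u
    rw [hΔ, MonoidHom.mem_range]
    constructor
    · rintro ⟨x, rfl⟩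
      exact ⟨x.1, x.2, hφ x⟩
    · rintro ⟨x, hx, rfl⟩
      exact ⟨⟨x, hx⟩, hφ _⟩
  have hai : a⁻¹ = a := inv_eq_of_mul_eq_one_right ha2
  refine ⟨h1, ?_, ?_⟩
  · intro u hu
    obtain ⟨x, hx, rfl⟩ := (h1 u).1 hu
    have hc1 := hcomm x hx (a * x * a⁻¹) (mem_cj.2 ⟨x, hx, rfl⟩)
    calc a * (x * (a * x * a⁻¹)) = (a * x * a⁻¹) * ((a * a) * x * a⁻¹) := by group
      _ = (a * x * a⁻¹) * (x * a⁻¹) := by rw [ha2, one_mul]
      _ = ((a * x * a⁻¹) * x) * a⁻¹ := by group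
      _ = (x * (a * x * a⁻¹)) * a⁻¹ := by rw [hc1]
      _ = (x * (a * x * a⁻¹)) * a := by rw [hai]
  · -- quasisimple
    have hker : φ.ker ≠ ⊤ := by
      intro htop
      apply hne
      have hx : ∀ x ∈ K1, a * x * a⁻¹ = x⁻¹ := by
        intro x hx
        have : (⟨x, hx⟩ : ↥K1) ∈ φ.ker := by rw [htop]; trivial
        rw [MonoidHom.mem_ker, hφ] at this
        exact (eq_inv_of_mul_eq_one_right this)
      apply le_antisymm
      · intro y hy
        obtain ⟨x, hx', rfl⟩ := mem_cj.1 hy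
        rw [hx x hx']
        exact K1.inv_mem hx'
      · intro x hx'
        refine mem_cj.2 ⟨x⁻¹, K1.inv_mem hx', ?_⟩
        have := hx x⁻¹ (K1.inv_mem hx')
        rw [this, inv_inv]
    have hq := Cfsg.Agent.Lib.Helper22.quasisimple_quotient h.comp.2 φ.ker hker
    have e : ↥K1 ⧸ φ.ker ≃* ↥φ.range := QuotientGroup.quotientKerEquivRange φ
    have := Cfsg.Agent.Lib.Helper29.isQuasisimple_of_mulEquiv e hq
    rw [hΔ]
    exact this

/-- `Δ^b` is the diagonal of `K1^b` -/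
theorem h95_mem_cj_delta (hp : p = 2) (h : CE ρ A K1 a) (b : G) (hb : b ∈ A) (y : G) :
    y ∈ cj (Delta K1 a) b ↔ ∃ x' ∈ cj K1 b, y = x' * (a * x' * a⁻¹) := by
  have hab : a * b = b * a := by
    have := h.el.1
    exact setLike_mul_comm h.mem hb
  have key : ∀ x : G, b * (x * (a * x * a⁻¹)) * b⁻¹ = (b * x * b⁻¹) * (a * (b * x * b⁻¹) * a⁻¹) := by
    intro x
    have e1 : b * (x * (a * x * a⁻¹)) * b⁻¹ = (b * x * b⁻¹) * ((b * a) * x * (b * a)⁻¹) := by group
    have e2 : a * (b * x * b⁻¹) * a⁻¹ = (a * b) * x * (a * b)⁻¹ := by group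
    rw [e1, e2, hab]
  rw [mem_cj]
  constructor
  · rintro ⟨u, hu, rfl⟩
    obtain ⟨x, hx, rfl⟩ := ((delta_basic hp h).1 u).1 hu
    exact ⟨b * x * b⁻¹, mem_cj.2 ⟨x, hx, rfl⟩, key x⟩
  · rintro ⟨x', hx', rfl⟩
    obtain ⟨x, hx, rfl⟩ := mem_cj.1 hx'
    exact ⟨x * (a * x * a⁻¹), ((delta_basic hp h).1 _).2 ⟨x, hx, rfl⟩, (key x).symm⟩

/-- the diagonal of `K1^a` is `Δ` -/
theorem h95_diag_cj_a (hp : p = 2) (h : CE ρ A K1 a) (y : G) :
    (∃ x' ∈ cj K1 a, y = x' * (a * x' * a⁻¹)) ↔ y ∈ Delta K1 a := by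
  obtain ⟨ha2, hc, hne, hcomm⟩ := h95_ce_facts hp h
  have key : ∀ x ∈ K1, (a * x * a⁻¹) * (a * (a * x * a⁻¹) * a⁻¹) = x * (a * x * a⁻¹) := by
    intro x hx
    have hc1 := hcomm x hx (a * x * a⁻¹) (mem_cj.2 ⟨x, hx, rfl⟩)
    have hai : a⁻¹ = a := inv_eq_of_mul_eq_one_right ha2
    have e1 : a * (a * x * a⁻¹) * a⁻¹ = (a * a) * x * (a * a)⁻¹ := by group
    rw [e1, ha2, inv_one, one_mul, mul_one, hc1]
  rw [(delta_basic hp h).1 y]
  constructor
  · rintro ⟨x', hx', rfl⟩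
    obtain ⟨x, hx, rfl⟩ := mem_cj.1 hx'
    exact ⟨x, hx, key x hx⟩
  · rintro ⟨x, hx, rfl⟩
    exact ⟨a * x * a⁻¹, mem_cj.2 ⟨x, hx, rfl⟩, (key x hx).symm⟩

/-- **[DELTA-CONJ]** -/
theorem delta_conj (hp : p = 2) (h : CE ρ A K1 a) (b : G) (hb : b ∈ A) :
    (cj K1 b = K1 ∨ cj K1 b = cj K1 a → cj (Delta K1 a) b = Delta K1 a) ∧
    (¬ (cj K1 b = K1 ∨ cj K1 b = cj K1 a) → ∀ u ∈ Delta K1 a, ∀ w ∈ Delta K1 a,
      (b * u * b⁻¹) * w = w * (b * u * b⁻¹)) := by
  obtain ⟨ha2, hc, hne, hcomm⟩ := h95_ce_facts hp h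
  constructor
  · rintro (h1 | h1)
    · ext y
      rw [h95_mem_cj_delta hp h b hb, h1, (delta_basic hp h).1 y]
    · ext y
      rw [h95_mem_cj_delta hp h b hb, h1]
      exact h95_diag_cj_a hp h y
  · intro hnot
    push Not at hnot
    obtain ⟨hn1, hn2⟩ := hnot
    -- the four components
    have hcb : IsComponent (cj K1 b) := Cfsg.Agent.Lib.Helper22.component_conj h.comp b
    have hcba : IsComponent (cj (cj K1 b) a) := Cfsg.Agent.Lib.Helper22.component_conj hcb a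
    have hn3 : cj (cj K1 b) a ≠ K1 := by
      intro he
      apply hn2
      have := congrArg (fun M => cj M a) he
      simp only [h95_cj_cj] at this
      rw [← mul_assoc, ha2, one_mul] at this
      exact this
    have hn4 : cj (cj K1 b) a ≠ cj K1 a := fun he => hn1 (h95_cj_inj he)
    have c1 := components_commute hcb h.comp hn1
    have c2 := components_commute hcb hc hn2
    have c3 := components_commute hcba h.comp hn3
    have c4 := components_commute hcba hc hn4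
    intro u hu w hw
    have hu' : b * u * b⁻¹ ∈ cj (Delta K1 a) b := mem_cj.2 ⟨u, hu, rfl⟩
    obtain ⟨X, hX, hXe⟩ := (h95_mem_cj_delta hp h b hb _).1 hu'
    obtain ⟨z, hz, rfl⟩ := ((delta_basic hp h).1 w).1 hw
    rw [hXe]
    have hX' : a * X * a⁻¹ ∈ cj (cj K1 b) a := mem_cj.2 ⟨X, hX, rfl⟩
    have hz' : a * z * a⁻¹ ∈ cj K1 a := mem_cj.2 ⟨z, hz, rfl⟩
    have e1 := c1 X hX z hz
    have e2 := c2 X hX _ hz'
    have e3 := c3 _ hX' z hz
    have e4 := c4 _ hX' _ hz'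
    calc X * (a * X * a⁻¹) * (z * (a * z * a⁻¹))
        = X * ((a * X * a⁻¹) * z) * (a * z * a⁻¹) := by group
      _ = X * (z * (a * X * a⁻¹)) * (a * z * a⁻¹) := by rw [e3]
      _ = (X * z) * ((a * X * a⁻¹) * (a * z * a⁻¹)) := by group
      _ = (z * X) * ((a * z * a⁻¹) * (a * X * a⁻¹)) := by rw [e1, e4]
      _ = z * (X * (a * z * a⁻¹)) * (a * X * a⁻¹) := by group
      _ = z * ((a * z * a⁻¹) * X) * (a * X * a⁻¹) := by rw [e2]
      _ = z * (a * z * a⁻¹) * (X * (a * X * a⁻¹)) := by group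

/-- **[DELTA-COMP]** `Δ` is a component of `H = ⟨Δ, A⟩` -/
theorem delta_comp (hp : p = 2) (h : CE ρ A K1 a) :
    IsComponent ((Delta K1 a).subgroupOf (Delta K1 a ⊔ A)) := by
  set Δ : Subgroup G := Delta K1 a with hΔdef
  set H : Subgroup G := Δ ⊔ A with hH
  have hΔH : Δ ≤ H := le_sup_left
  have hAH : A ≤ H := le_sup_right
  -- `E' = ⟨Δ^b | b ∈ A⟩`
  set E' : Subgroup G := Subgroup.closure {y | ∃ b ∈ A, ∃ u ∈ Δ, y = b * u * b⁻¹} with hE'
  have hΔE' : Δ ≤ E' := by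
    intro u hu
    exact Subgroup.subset_closure ⟨1, A.one_mem, u, hu, by simp⟩
  have hE'H : E' ≤ H := by
    rw [hE', Subgroup.closure_le]
    rintro y ⟨b, hb, u, hu, rfl⟩
    exact H.mul_mem (H.mul_mem (hAH hb) (hΔH hu)) (H.inv_mem (hAH hb))
  -- `E'` normalizes `Δ`
  have hN1 : E' ≤ Subgroup.normalizer (Δ : Set G) := by
    rw [hE', Subgroup.closure_le]
    rintro y ⟨b, hb, u, hu, rfl⟩
    by_cases hcase : cj K1 b = K1 ∨ cj K1 b = cj K1 a
    · have he := (delta_conj hp h b hb).1 hcase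
      have : b * u * b⁻¹ ∈ Δ := by
        rw [hΔdef, ← he]
        exact mem_cj.2 ⟨u, hu, rfl⟩
      exact Subgroup.le_normalizer this
    · have hcomm := (delta_conj hp h b hb).2 hcase u hu
      have hcen : b * u * b⁻¹ ∈ Subgroup.centralizer (Δ : Set G) := by
        rw [Subgroup.mem_centralizer_iff]
        intro w hw
        exact (hcomm w hw).symm
      exact Subgroup.centralizer_le_normalizer _ hcen
  -- `H` normalizes `E'`
  have hN2 : H ≤ Subgroup.normalizer (E' : Set G) := by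
    rw [hH]
    refine sup_le (le_trans hΔE' Subgroup.le_normalizer) ?_
    apply h95_le_normalizer
    intro b' hb' n hn
    rw [hE'] at hn
    induction hn using Subgroup.closure_induction with
    | mem y hy =>
      obtain ⟨b, hb, u, hu, rfl⟩ := hy
      refine Subgroup.subset_closure ⟨b' * b, A.mul_mem hb' hb, u, hu, by group⟩
    | one => simp
    | mul x y _ _ hx hy =>
      have e : b' * (x * y) * b'⁻¹ = (b' * x * b'⁻¹) * (b' * y * b'⁻¹) := by group
      rw [e]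
      exact E'.mul_mem hx hy
    | inv x _ hx =>
      have e : b' * x⁻¹ * b'⁻¹ = (b' * x * b'⁻¹)⁻¹ := by group
      rw [e]
      exact E'.inv_mem hx
  refine ⟨?_, ?_⟩
  · -- subnormal
    have hnE : (E'.subgroupOf H).Normal := (Subgroup.normal_subgroupOf_iff_le_normalizer hE'H).mpr hN2
    have hsE : (E'.subgroupOf H).IsSubnormal := hnE.isSubnormal
    have hle : Δ.subgroupOf H ≤ E'.subgroupOf H := by
      intro x hx
      rw [Subgroup.mem_subgroupOf] at hx ⊢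
      exact hΔE' hx
    refine Subgroup.IsSubnormal.step _ _ hle hsE ?_
    rw [Subgroup.normal_subgroupOf_iff_le_normalizer hle]
    apply h95_le_normalizer
    intro g hg n hn
    rw [Subgroup.mem_subgroupOf] at hg hn ⊢
    have hgN := hN1 hg
    rw [Subgroup.mem_set_normalizer_iff] at hgN
    have := (hgN _).1 hn
    simpa using this
  · -- quasisimple
    have hq : IsQuasisimple ↥Δ := (delta_basic hp h).2.2
    exact Cfsg.Agent.Lib.Helper29.isQuasisimple_of_mulEquiv (Subgroup.subgroupOfEquivOfLe hΔH).symm hq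

end Cfsg.Agent.Lib.Helper41.PGV
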