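import Mathlib
import Cfsg.Prelude.Def_GeometricClasses
import Cfsg.Agent.Lib.Helper99.AschDefs
import Cfsg.Agent.Lib.Helper99.U92.Defs

/-!
# U92-[F4] (helper99's sub-sheet U92 of project ASCHU) (helper95): the field with four elements
-/

set_option autoImplicit false
set_option linter.unusedSectionVars false

namespace Cfsg.Agent.Lib.Helper99.U92

open Cfsg Cfsg.Geo Cfsg.Agent.Lib.Helper99.Asch Cfsg.Agent.Lib.Helper70.AschU
open Cfsg.Agent.Lib.Helper15.AschSlotNorm Cfsg.Agent.Lib.Helper15.AschUPure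
open scoped MatrixGroups Matrix

variable {F : Type*} [Field F] [Fintype F] {σ : F ≃+* F} {ω : F}

/-- U92-[F4] -/
theorem two_eq_zero (hF : Fintype.card F = 2 ^ 2) : (2 : F) = 0 := by
  have h : ringChar F = 2 := FiniteField.even_card_iff_char_two.mpr (by rw [hF]; norm_num)
  have : CharP F 2 := ringChar.of_eq h
  exact_mod_cast CharP.cast_eq_zero F 2

theorem exists_omega (hF : Fintype.card F = 2 ^ 2) : ∃ ω : F, ω ^ 2 + ω + 1 = 0 := by
  classical
  obtain ⟨x, hx0, hx1⟩ : ∃ x : F, x ≠ 0 ∧ x ≠ 1 := by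
    by_contra hcon
    push Not at hcon
    have hsub : (Finset.univ : Finset F) ⊆ {0, 1} := by
      intro x _
      by_cases h0 : x = 0
      · simp [h0]
      · simp [hcon x h0]
    have := Finset.card_le_card hsub
    rw [Finset.card_univ, hF] at this
    have h2 : ({0, 1} : Finset F).card ≤ 2 := Finset.card_le_two
    omega
  have h3 : x ^ 3 = 1 := by
    have := FiniteField.pow_card_sub_one_eq_one x hx0
    rwa [hF] at this
  refine ⟨x, ?_⟩
  have h4 : (x - 1) * (x ^ 2 + x + 1) = 0 := by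
    have : (x - 1) * (x ^ 2 + x + 1) = x ^ 3 - 1 := by ring
    rw [this, h3, sub_self]
  rcases mul_eq_zero.mp h4 with h | h
  · exact absurd (sub_eq_zero.mp h) hx1
  · exact h

theorem omega_pow_three (hω : ω ^ 2 + ω + 1 = 0) : ω ^ 3 = 1 := by
  linear_combination (ω - 1) * hω

theorem omega_ne_one (hF : Fintype.card F = 2 ^ 2) (hω : ω ^ 2 + ω + 1 = 0) : ω ≠ 1 := by
  intro h
  rw [h] at hω
  have h2 := two_eq_zero hF
  have : (1 : F) = 0 := by linear_combination hω - h2
  exact one_ne_zero this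

theorem eq_zero_or_pow (hF : Fintype.card F = 2 ^ 2) (hω : ω ^ 2 + ω + 1 = 0) (x : F) :
    x = 0 ∨ x = 1 ∨ x = ω ∨ x = ω ^ 2 := by
  by_cases hx0 : x = 0
  · exact Or.inl hx0
  right
  have h3 : x ^ 3 = 1 := by
    have := FiniteField.pow_card_sub_one_eq_one x hx0
    rwa [hF] at this
  have hω3 := omega_pow_three hω
  have h4 : (x - 1) * ((x - ω) * (x - ω ^ 2)) = 0 := by
    have : (x - 1) * ((x - ω) * (x - ω ^ 2)) =
        x ^ 3 - 1 - (ω ^ 2 + ω + 1) * x ^ 2 + (ω ^ 2 + ω + 1) * x + (ω ^ 3 - 1) * (x - 1) := by ring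
    rw [this, h3, hω, hω3]
    ring
  rcases mul_eq_zero.mp h4 with h | h
  · exact Or.inl (sub_eq_zero.mp h)
  · rcases mul_eq_zero.mp h with h' | h'
    · exact Or.inr (Or.inl (sub_eq_zero.mp h'))
    · exact Or.inr (Or.inr (sub_eq_zero.mp h'))

theorem sigma_sigma (hσ : UCtx σ 2) (x : F) : σ (σ x) = x := hσ.invol x

end Cfsg.Agent.Lib.Helper99.U92
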