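import Mathlib
import Cfsg.Prelude.Def_GeometricClasses
import Cfsg.Agent.Lib.Helper99.AschDefs
import Cfsg.Agent.Lib.Helper99.U92.Defs
import Cfsg.Agent.Lib.Helper95.U92F4

/-!
# U92-[R3-GROUP] (helper99's sub-sheet U92 of project ASCHU) (helper95): the group `3^{1+2}` in `3 × 3` matrices
-/

set_option autoImplicit false
set_option linter.unusedSectionVars false

namespace Cfsg.Agent.Lib.Helper95.U92R3

open Cfsg Cfsg.Geo Cfsg.Agent.Lib.Helper99.U92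
open scoped MatrixGroups Matrix

variable {F : Type*} [Field F] {ω : F}

theorem Y3_mul_X3' (hω3 : ω ^ 3 = 1) : (Y3 : Matrix (Fin 3) (Fin 3) F) * X3 ω = ω • (X3 ω * Y3) := by
  ext i j
  fin_cases i <;> fin_cases j <;>
    simp [Y3, X3, Matrix.mul_apply, Matrix.diagonal_apply, Matrix.smul_apply] <;>
    first | rfl | (linear_combination hω3) | (linear_combination -hω3) | ring

/-- `Y X^b = ω^b X^b Y` -/
theorem Y3_mul_X3_pow (hω3 : ω ^ 3 = 1) (b : ℕ) :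
    (Y3 : Matrix (Fin 3) (Fin 3) F) * X3 ω ^ b = ω ^ b • (X3 ω ^ b * Y3) := by
  induction b with
  | zero => simp
  | succ b ih =>
    rw [pow_succ, ← mul_assoc, ih, Matrix.smul_mul, mul_assoc, Y3_mul_X3' hω3, Matrix.mul_smul, smul_smul,
      ← mul_assoc, pow_succ ω]

/-- `Y^c X^b = ω^(b c) X^b Y^c` -/
theorem Y3_pow_mul_X3_pow (hω3 : ω ^ 3 = 1) (b c : ℕ) :
    (Y3 : Matrix (Fin 3) (Fin 3) F) ^ c * X3 ω ^ b = ω ^ (b * c) • (X3 ω ^ b * Y3 ^ c) := by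
  induction c with
  | zero => simp
  | succ c ih =>
    rw [pow_succ, mul_assoc, Y3_mul_X3_pow hω3, Matrix.mul_smul, ← mul_assoc, ih, Matrix.smul_mul, smul_smul,
      mul_assoc, ← pow_succ, ← pow_add]
    congr 2
    ring

theorem X3_pow_three' (hω3 : ω ^ 3 = 1) : X3 ω ^ 3 = 1 := by
  unfold X3
  rw [Matrix.diagonal_pow, ← Matrix.diagonal_one]
  congr 1
  funext i
  fin_cases i
  · simp
  · simpa using hω3
  · show (ω ^ 2) ^ 3 = 1
    rw [← pow_mul, show 2 * 3 = 3 * 2 from rfl, pow_mul, hω3, one_pow]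

theorem Y3_pow_three' : (Y3 : Matrix (Fin 3) (Fin 3) F) ^ 3 = 1 := by
  ext i j
  fin_cases i <;> fin_cases j <;>
    simp [Y3, pow_succ, Matrix.mul_apply, Fin.sum_univ_three]

theorem pow_mod_three {M : Type*} [Monoid M] {x : M} (hx : x ^ 3 = 1) (n : ℕ) : x ^ (3 * n) = 1 := by
  rw [pow_mul, hx, one_pow]

end Cfsg.Agent.Lib.Helper95.U92R3

namespace Cfsg.Agent.Lib.Helper99.U92

open Cfsg Cfsg.Geo Cfsg.Agent.Lib.Helper99.Asch Cfsg.Agent.Lib.Helper70.AschU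
open Cfsg.Agent.Lib.Helper15.AschSlotNorm Cfsg.Agent.Lib.Helper15.AschUPure
open scoped MatrixGroups Matrix

variable {F : Type*} [Field F] [Fintype F] {σ : F ≃+* F} {ω : F}

open Cfsg.Agent.Lib.Helper95.U92R3

/-- U92-[R3-GROUP] -/
theorem X3_pow_three (hω : ω ^ 2 + ω + 1 = 0) : X3 ω ^ 3 = 1 := X3_pow_three' (omega_pow_three hω)

theorem Y3_pow_three : (Y3 : Matrix (Fin 3) (Fin 3) F) ^ 3 = 1 := Y3_pow_three'

theorem Y3_mul_X3 (hω : ω ^ 2 + ω + 1 = 0) : Y3 * X3 ω = ω • (X3 ω * Y3) := Y3_mul_X3' (omega_pow_three hω)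

theorem one_mem_R3set : (1 : Matrix (Fin 3) (Fin 3) F) ∈ R3set ω := ⟨0, 0, 0, by simp⟩

theorem smul_mem_R3set {m : Matrix (Fin 3) (Fin 3) F} (hm : m ∈ R3set ω) (a : ℕ) : ω ^ a • m ∈ R3set ω := by
  obtain ⟨a', b, c, rfl⟩ := hm
  exact ⟨a + a', b, c, by rw [smul_smul, pow_add]⟩

theorem mul_mem_R3set (hω : ω ^ 2 + ω + 1 = 0) {m m' : Matrix (Fin 3) (Fin 3) F} (hm : m ∈ R3set ω)
    (hm' : m' ∈ R3set ω) : m * m' ∈ R3set ω := by
  obtain ⟨a, b, c, rfl⟩ := hm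
  obtain ⟨a', b', c', rfl⟩ := hm'
  have hω3 := omega_pow_three hω
  refine ⟨a + a' + b' * c, b + b', c + c', ?_⟩
  rw [Matrix.smul_mul, Matrix.mul_smul, smul_smul, mul_assoc (X3 ω ^ b), ← mul_assoc (Y3 ^ c),
    Y3_pow_mul_X3_pow hω3, Matrix.smul_mul, Matrix.mul_smul, smul_smul, mul_assoc (X3 ω ^ b'), ← pow_add,
    ← mul_assoc, ← pow_add, ← pow_add, ← pow_add]

theorem pow_three_of_mem_R3set (hω : ω ^ 2 + ω + 1 = 0) {m : Matrix (Fin 3) (Fin 3) F} (hm : m ∈ R3set ω) :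
    m ^ 3 = 1 := by
  obtain ⟨a, b, c, rfl⟩ := hm
  have hω3 := omega_pow_three hω
  have hX := X3_pow_three' hω3
  have hY : (Y3 : Matrix (Fin 3) (Fin 3) F) ^ 3 = 1 := Y3_pow_three'
  have h1 : (X3 ω ^ b * Y3 ^ c) ^ 3 = ω ^ (3 * (b * c)) • (X3 ω ^ (3 * b) * Y3 ^ (3 * c)) := by
    have e1 : (X3 ω ^ b * Y3 ^ c) ^ 3 =
        X3 ω ^ b * (Y3 ^ c * X3 ω ^ b) * (Y3 ^ c * X3 ω ^ b) * Y3 ^ c := by
      rw [pow_succ, pow_two]
      simp only [mul_assoc]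
    rw [e1, Y3_pow_mul_X3_pow hω3]
    simp only [Matrix.mul_smul, Matrix.smul_mul, smul_smul]
    have e2 : X3 ω ^ b * (X3 ω ^ b * Y3 ^ c) * (X3 ω ^ b * Y3 ^ c) * Y3 ^ c =
        X3 ω ^ (b + b) * (Y3 ^ c * X3 ω ^ b) * Y3 ^ (c + c) := by
      rw [pow_add, pow_add]
      simp only [mul_assoc]
    rw [e2, Y3_pow_mul_X3_pow hω3]
    simp only [Matrix.mul_smul, Matrix.smul_mul, smul_smul]
    have e3 : X3 ω ^ (b + b) * (X3 ω ^ b * Y3 ^ c) * Y3 ^ (c + c) =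
        X3 ω ^ (3 * b) * Y3 ^ (3 * c) := by
      rw [← mul_assoc, ← pow_add, mul_assoc, ← pow_add]
      congr 2 <;> ring
    rw [e3, ← pow_add, ← pow_add]
    congr 2
    ring
  rw [smul_pow, h1, pow_mod_three hX, pow_mod_three hY, pow_mod_three hω3, ← pow_mul, mul_comm a 3,
    pow_mod_three hω3]
  simp

end Cfsg.Agent.Lib.Helper99.U92
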