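import Mathlib
import Cfsg.Prelude.Def_GeometricClasses
import Cfsg.Agent.Lib.Helper99.AschDefs
import Cfsg.Agent.Lib.Helper99.U92.Defs
import Cfsg.Agent.Lib.Helper95.U92F4

/-!
# U92-[R3-U] (helper99's sub-sheet U92 of project ASCHU) (helper95): the elements of `R3set` are unitary
-/

set_option autoImplicit false
set_option linter.unusedSectionVars false

namespace Cfsg.Agent.Lib.Helper95.U92R3U

open Cfsg Cfsg.Geo Cfsg.Agent.Lib.Helper99.U92
open scoped MatrixGroups Matrix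

variable {F : Type*} [Field F] {σ : F ≃+* F} {ω : F}

theorem isU_one {κ : Type*} [Fintype κ] [DecidableEq κ] : IsU σ (1 : Matrix κ κ F) := by
  unfold IsU
  rw [Matrix.transpose_one, Matrix.one_mul]
  ext i j
  simp [Matrix.map_apply, Matrix.one_apply, apply_ite σ]

theorem isU_mul' {κ : Type*} [Fintype κ] [DecidableEq κ] {A B : Matrix κ κ F} (hA : IsU σ A)
    (hB : IsU σ B) : IsU σ (A * B) := by
  unfold IsU at *
  have hmap : (A * B).map σ = A.map σ * B.map σ := Matrix.map_mul (f := (σ : F →+* F))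
  rw [Matrix.transpose_mul, hmap, mul_assoc, ← mul_assoc Aᵀ, hA, one_mul, hB]

theorem isU_pow {κ : Type*} [Fintype κ] [DecidableEq κ] {A : Matrix κ κ F} (hA : IsU σ A) (n : ℕ) :
    IsU σ (A ^ n) := by
  induction n with
  | zero => rw [pow_zero]; exact isU_one
  | succ n ih => rw [pow_succ]; exact isU_mul' ih hA

theorem isU_X3 (hσω : σ ω = ω ^ 2) (hω3 : ω ^ 3 = 1) : IsU σ (X3 ω) := by
  unfold IsU X3
  rw [Matrix.diagonal_transpose]
  have hmap : (Matrix.diagonal ![1, ω, ω ^ 2]).map σ = Matrix.diagonal ![1, ω ^ 2, (ω ^ 2) ^ 2] := by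
    ext i j
    fin_cases i <;> fin_cases j <;> simp [hσω]
  rw [hmap, Matrix.diagonal_mul_diagonal, ← Matrix.diagonal_one]
  congr 1
  funext i
  fin_cases i
  · simp
  · show ω * ω ^ 2 = 1
    rw [← hω3]; ring
  · show ω ^ 2 * (ω ^ 2) ^ 2 = 1
    have : ω ^ 2 * (ω ^ 2) ^ 2 = (ω ^ 3) ^ 2 := by ring
    rw [this, hω3, one_pow]

theorem isU_Y3 : IsU σ (Y3 : Matrix (Fin 3) (Fin 3) F) := by
  unfold IsU
  ext i j
  fin_cases i <;> fin_cases j <;>
    simp [Y3, Matrix.mul_apply, Fin.sum_univ_three, Matrix.transpose_apply, Matrix.map_apply]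

theorem isU_smul_one {κ : Type*} [Fintype κ] [DecidableEq κ] (c : F) (hc : c * σ c = 1) :
    IsU σ (c • (1 : Matrix κ κ F)) := by
  unfold IsU
  ext i j
  simp only [Matrix.transpose_smul, Matrix.transpose_one, Matrix.mul_apply, Matrix.smul_apply,
    Matrix.one_apply, Matrix.map_apply, smul_eq_mul]
  by_cases hij : i = j
  · subst hij
    rw [Finset.sum_eq_single i]
    · simp [hc]
    · intro k _ hk
      simp [Ne.symm hk]
    · intro h
      exact absurd (Finset.mem_univ i) h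
  · simp only [hij, if_false]
    apply Finset.sum_eq_zero
    intro k _
    by_cases hik : i = k
    · subst hik
      simp [hij]
    · simp [hik]

end Cfsg.Agent.Lib.Helper95.U92R3U

namespace Cfsg.Agent.Lib.Helper99.U92

open Cfsg Cfsg.Geo Cfsg.Agent.Lib.Helper99.Asch Cfsg.Agent.Lib.Helper70.AschU
open Cfsg.Agent.Lib.Helper15.AschSlotNorm Cfsg.Agent.Lib.Helper15.AschUPure
open scoped MatrixGroups Matrix

variable {F : Type*} [Field F] [Fintype F] {σ : F ≃+* F} {ω : F}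

open Cfsg.Agent.Lib.Helper95.U92R3U

/-- U92-[R3-U] -/
theorem isU_mul {κ : Type*} [Fintype κ] [DecidableEq κ] {A B : Matrix κ κ F} (hA : IsU σ A) (hB : IsU σ B) :
    IsU σ (A * B) := isU_mul' hA hB

theorem isU_of_mem_R3set (hσ : UCtx σ 2) (hω : ω ^ 2 + ω + 1 = 0) {m : Matrix (Fin 3) (Fin 3) F}
    (hm : m ∈ R3set ω) : IsU σ m := by
  obtain ⟨a, b, c, rfl⟩ := hm
  have hω3 := omega_pow_three hω
  have hσω : σ ω = ω ^ 2 := hσ.frob ω
  have h1 : ω ^ a • (X3 ω ^ b * Y3 ^ c) = (ω ^ a • (1 : Matrix (Fin 3) (Fin 3) F)) * (X3 ω ^ b * Y3 ^ c) := by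
    rw [Matrix.smul_mul, Matrix.one_mul]
  rw [h1]
  refine isU_mul' (isU_smul_one _ ?_) (isU_mul' (isU_pow (isU_X3 hσω hω3) b) (isU_pow isU_Y3 c))
  rw [map_pow, hσω, ← pow_mul, ← pow_add]
  have : a + 2 * a = 3 * a := by ring
  rw [this, pow_mul, hω3, one_pow]

end Cfsg.Agent.Lib.Helper99.U92
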