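import Mathlib
import Cfsg.Agent.Lib.Helper3.CharValues

/-!
# A Landazuri–Seitz type bound via a Heisenberg-like 2-group (helper95)

Abstract setting: a finite field `F` of characteristic 2 with `#F = 2^(2m+1)`, a ring endomorphism `σ` with
`σ² = Frobenius` and fixed points `{0,1}`, and a group `S = {t a b}` with
`t a b * t c d = t (a+c) (b+d+σ a * c)` (the Sylow 2-subgroup of `Sz(q)`).

* `card_le_sum_normSq` : `#S ≤ ∑ ‖χ(s)‖²` for a nonzero complex representation.
* `exists_invariant_addChar` : a `σ`-invariant nontrivial `±1` additive character `ψ` of `F`.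
* `heis_bound` : a nonzero representation of `S` on which `t 0 b` acts as `ψ b` has dimension `≥ 2^m`.
* `eproj`, `wsub` : the weight projections for the centre `{t 0 b}` and the weight subrepresentation.
* `ls_bound` : if `S → G`, the `t 0 l` (`l ≠ 0`) are all `G`-conjugate to `t 0 1`, and `ρ (t 0 1) ≠ 1`, then
  `2^m (2^(2m+1) - 1) ≤ dim ρ`.
-/

set_option autoImplicit false
set_option linter.unusedSectionVars false
set_option linter.unusedSimpArgs false

namespace Cfsg.Agent.Lib.Helper95.LS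

open Module Representation
open scoped ComplexConjugate



/-- `⟨χ,χ⟩ ≥ 1` for a nonzero complex representation of a finite group. -/
theorem card_le_sum_normSq {S : Type*} [Group S] [Fintype S] {W : Type*} [AddCommGroup W]
    [Module ℂ W] [FiniteDimensional ℂ W] [Nontrivial W] (τ : Representation ℂ S W) :
    (Nat.card S : ℝ) ≤ ∑ s : S, ‖τ.character s‖ ^ 2 := by
  classical
  have hS : (Nat.card S : ℂ) ≠ 0 := by
    exact_mod_cast (Nat.card_pos (α := S)).ne'
  have : Invertible (Nat.card S : ℂ) := invertibleOfNonzero hS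
  have h := Representation.card_inv_mul_sum_char_mul_char_eq_finrank τ τ
  have hfin : Module.Finite ℂ (IntertwiningMap τ τ) := by
    have hinj : Function.Injective (fun f : IntertwiningMap τ τ => f.toLinearMap) :=
      IntertwiningMap.toLinearMap_injective τ τ
    let L : IntertwiningMap τ τ →ₗ[ℂ] (W →ₗ[ℂ] W) :=
      { toFun := fun f => f.toLinearMap
        map_add' := fun f g => rfl
        map_smul' := fun c f => rfl }
    exact Module.Finite.of_injective L hinj
  have hpos : 1 ≤ finrank ℂ (IntertwiningMap τ τ) := by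
    by_contra hlt
    have h0 : finrank ℂ (IntertwiningMap τ τ) = 0 := by omega
    have hz : Subsingleton (IntertwiningMap τ τ) := Module.finrank_zero_iff.mp h0
    obtain ⟨w, hw⟩ := exists_ne (0 : W)
    have := congrArg (fun f : IntertwiningMap τ τ => f w) (Subsingleton.elim (IntertwiningMap.id τ) 0)
    simp at this
    exact hw this
  have hsum : ∑ s : S, τ.character s * τ.character s⁻¹ = ((∑ s : S, ‖τ.character s‖ ^ 2 : ℝ) : ℂ) := by
    push_cast
    refine Finset.sum_congr rfl fun s _ => ?_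
    rw [Cfsg.Agent.Lib.Helper3.character_inv, Complex.mul_conj, Complex.normSq_eq_norm_sq]
    push_cast; rfl
  rw [hsum] at h
  have h2 : ((∑ s : S, ‖τ.character s‖ ^ 2 : ℝ) : ℂ) = (Nat.card S : ℂ) * (finrank ℂ (IntertwiningMap τ τ) : ℂ) := by
    rw [← h, ← mul_assoc, mul_inv_cancel₀ hS, one_mul]
  have h3 : (∑ s : S, ‖τ.character s‖ ^ 2 : ℝ) = (Nat.card S : ℝ) * (finrank ℂ (IntertwiningMap τ τ) : ℝ) := by
    exact_mod_cast h2
  rw [h3]
  have : (1 : ℝ) ≤ (finrank ℂ (IntertwiningMap τ τ) : ℝ) := by exact_mod_cast hpos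
  nlinarith [Nat.cast_nonneg (α := ℝ) (Nat.card S)]



/-- A nontrivial `±1`-valued additive character of a finite field of characteristic 2 which is invariant
under a ring endomorphism `σ` whose only fixed points are `0` and `1`. -/
theorem exists_invariant_addChar {F : Type*} [Field F] [Fintype F] [CharP F 2]
    (σ : F →+* F) (hfix : ∀ c : F, σ c = c → c = 0 ∨ c = 1) :
    ∃ ψ : F → ℂ, (∀ x y, ψ (x + y) = ψ x * ψ y) ∧ (∀ x, ψ (σ x) = ψ x) ∧ (∃ x₀, ψ x₀ = -1) ∧
      (∀ x, ψ x = 1 ∨ ψ x = -1) := by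
  classical
  let P : F →+ F := (σ : F →+ F) - AddMonoidHom.id F
  have hP : ∀ x, P x = σ x - x := fun x => rfl
  let A : AddSubgroup F := P.range
  have hker : (P.ker : Set F) = {0, 1} := by
    ext x
    simp only [SetLike.mem_coe, AddMonoidHom.mem_ker, hP, sub_eq_zero, Set.mem_insert_iff,
      Set.mem_singleton_iff]
    constructor
    · exact hfix x
    · rintro (rfl | rfl) <;> simp
  have hkcard : Nat.card P.ker = 2 := by
    have : Nat.card P.ker = Nat.card ((P.ker : Set F)) := rfl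
    rw [this, hker, Nat.card_coe_set_eq, Set.ncard_pair zero_ne_one]
  have hidx : A.index = 2 := by
    have h1 := AddSubgroup.index_ker P
    have h2 := AddSubgroup.card_mul_index P.ker
    have h3 := AddSubgroup.card_mul_index A
    rw [hkcard, h1] at h2
    have hA : Nat.card A = Nat.card P.range := rfl
    rw [hA] at h3
    have hpos : 0 < Nat.card P.range := Nat.card_pos
    have : Nat.card P.range * A.index = Nat.card P.range * 2 := by rw [h3, ← h2, mul_comm]
    exact Nat.eq_of_mul_eq_mul_left hpos this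
  have hmem : ∀ x y, x + y ∈ A ↔ (x ∈ A ↔ y ∈ A) := fun x y =>
    AddSubgroup.add_mem_iff_of_index_two hidx
  refine ⟨fun x => if x ∈ A then 1 else -1, ?_, ?_, ?_, ?_⟩
  · intro x y
    by_cases hx : x ∈ A <;> by_cases hy : y ∈ A <;> simp [hmem, hx, hy]
  · intro x
    have h1 : σ x - x ∈ A := ⟨x, rfl⟩
    have h2 : σ x + x ∈ A := by
      have : σ x + x = σ x - x := by
        rw [sub_eq_add_neg]; congr 1; exact (CharTwo.neg_eq x).symm
      rw [this]; exact h1
    have := (hmem (σ x) x).mp h2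
    by_cases hx : x ∈ A <;> simp [this, hx]
  · have hne : A ≠ ⊤ := by
      intro h; rw [h, AddSubgroup.index_top] at hidx; omega
    obtain ⟨x₀, hx₀⟩ : ∃ x₀, x₀ ∉ A := by
      by_contra hcon
      simp only [not_exists, not_not] at hcon
      exact hne (eq_top_iff.mpr fun x _ => hcon x)
    exact ⟨x₀, by simp [hx₀]⟩
  · intro x
    by_cases hx : x ∈ A <;> simp [hx]




section heis

variable {S : Type*} [Group S] [Fintype S] {F : Type*} [Field F] [Fintype F] [CharP F 2]
  (σ : F →+* F) (hσ2 : ∀ x, σ (σ x) = x ^ 2)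
  (t : F → F → S) (ht : ∀ a b c d, t a b * t c d = t (a + c) (b + d + σ a * c))
  (htbij : Function.Bijective (fun ab : F × F => t ab.1 ab.2))
  (ψ : F → ℂ) (hψadd : ∀ x y, ψ (x + y) = ψ x * ψ y) (hψσ : ∀ x, ψ (σ x) = ψ x)
  (x₀ : F) (hx₀ : ψ x₀ = -1)
  {W : Type*} [AddCommGroup W] [Module ℂ W] [FiniteDimensional ℂ W]
  (τ : Representation ℂ S W) (hz : ∀ b w, τ (t 0 b) w = ψ b • w)

include hσ2 ht hψadd hψσ hx₀ hz in
theorem char_eq_zero (a b : F) (ha0 : a ≠ 0) (ha1 : a ≠ 1) : τ.character (t a b) = 0 := by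
  have h2 : (2 : F) = 0 := CharTwo.two_eq_zero
  have hσsurj : Function.Surjective σ :=
    Finite.surjective_of_injective σ.injective
  have hne : a ^ 2 + a ≠ 0 := by
    intro h
    have : a * (a + 1) = 0 := by rw [← h]; ring
    rcases mul_eq_zero.mp this with h | h
    · exact ha0 h
    · apply ha1
      have : a = -1 := eq_neg_of_add_eq_zero_left h
      rw [this, CharTwo.neg_eq]
  obtain ⟨c, hc⟩ := hσsurj (x₀ / (a ^ 2 + a))
  set z : F := σ c * a + σ a * c with hzdef
  have hconj : t c 0 * t a b = t a b * t 0 z * t c 0 := by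
    rw [ht, ht, ht]
    congr 1
    · ring
    · simp only [zero_mul, add_zero, zero_add, hzdef]
      linear_combination (-(σ a * c)) * h2
  have hψz : ψ z = -1 := by
    rw [hzdef, hψadd, ← hψσ (σ a * c), map_mul, hσ2, ← hψadd]
    have : σ c * a + a ^ 2 * σ c = x₀ := by
      rw [hc]
      have : x₀ / (a ^ 2 + a) * a + a ^ 2 * (x₀ / (a ^ 2 + a)) = x₀ * ((a ^ 2 + a) / (a ^ 2 + a)) := by ring
      rw [this, div_self hne, mul_one]
    rw [this, hx₀]
  have h1 : τ.character (t a b) = τ.character (t a b * t 0 z) := by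
    have : t a b * t 0 z = t c 0 * t a b * (t c 0)⁻¹ := by
      rw [hconj, mul_inv_cancel_right]
    rw [this, Representation.char_conj]
  have h3 : τ.character (t a b * t 0 z) = ψ z * τ.character (t a b) := by
    unfold Representation.character
    have : τ (t a b * t 0 z) = ψ z • τ (t a b) := by
      ext w
      rw [map_mul, Module.End.mul_apply, hz, map_smul, LinearMap.smul_apply]
    rw [this, map_smul, smul_eq_mul]
  rw [h3, hψz] at h1
  have : (2 : ℂ) * τ.character (t a b) = 0 := by linear_combination h1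
  simpa using this

include hσ2 ht htbij hψadd hψσ hx₀ hz in
theorem heis_bound [Nontrivial W] (m : ℕ) (hq : Fintype.card F = 2 ^ (2 * m + 1)) :
    2 ^ m ≤ finrank ℂ W := by
  classical
  set d : ℝ := (finrank ℂ W : ℝ) with hd
  have hle : ∀ s : S, ‖τ.character s‖ ^ 2 ≤ d ^ 2 := by
    intro s
    have h1 := Cfsg.Agent.Lib.Helper3.norm_character_le τ s
    have h0 : 0 ≤ ‖τ.character s‖ := norm_nonneg _
    nlinarith
  have hcardS : Nat.card S = Fintype.card F ^ 2 := by
    rw [← Nat.card_congr (Equiv.ofBijective _ htbij), Nat.card_prod, Nat.card_eq_fintype_card, sq]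
  have h1 := card_le_sum_normSq τ
  have h2 : ∑ s : S, ‖τ.character s‖ ^ 2 = ∑ a : F, ∑ b : F, ‖τ.character (t a b)‖ ^ 2 := by
    rw [← Fintype.sum_prod_type']
    exact (Fintype.sum_bijective _ htbij _ _ (fun _ => rfl)).symm
  have h3 : ∀ a : F, ∑ b : F, ‖τ.character (t a b)‖ ^ 2 ≤
      (if a = 0 then (Fintype.card F : ℝ) * d ^ 2 else 0) +
        (if a = 1 then (Fintype.card F : ℝ) * d ^ 2 else 0) := by
    intro a
    have hb : ∑ b : F, ‖τ.character (t a b)‖ ^ 2 ≤ (Fintype.card F : ℝ) * d ^ 2 := by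
      calc ∑ b : F, ‖τ.character (t a b)‖ ^ 2 ≤ ∑ _b : F, d ^ 2 :=
            Finset.sum_le_sum fun b _ => hle _
        _ = (Fintype.card F : ℝ) * d ^ 2 := by
            rw [Finset.sum_const, Finset.card_univ, nsmul_eq_mul]
    have hnn : 0 ≤ (Fintype.card F : ℝ) * d ^ 2 := by positivity
    split_ifs with ha0 ha1 ha1
    · linarith
    · linarith
    · linarith
    · rw [add_zero]
      apply le_of_eq
      apply Finset.sum_eq_zero
      intro b _
      rw [char_eq_zero σ hσ2 t ht ψ hψadd hψσ x₀ hx₀ τ hz a b ha0 ha1]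
      simp
  have h4 : ∑ a : F, ∑ b : F, ‖τ.character (t a b)‖ ^ 2 ≤ 2 * ((Fintype.card F : ℝ) * d ^ 2) := by
    calc ∑ a : F, ∑ b : F, ‖τ.character (t a b)‖ ^ 2
        ≤ ∑ a : F, ((if a = 0 then (Fintype.card F : ℝ) * d ^ 2 else 0) +
            (if a = 1 then (Fintype.card F : ℝ) * d ^ 2 else 0)) :=
          Finset.sum_le_sum fun a _ => h3 a
      _ = 2 * ((Fintype.card F : ℝ) * d ^ 2) := by
          rw [Finset.sum_add_distrib, Finset.sum_ite_eq' Finset.univ (0 : F),
            Finset.sum_ite_eq' Finset.univ (1 : F)]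
          simp only [Finset.mem_univ, if_true]
          ring
  rw [h2] at h1
  have h5 : (Nat.card S : ℝ) ≤ 2 * ((Fintype.card F : ℝ) * d ^ 2) := le_trans h1 h4
  rw [hcardS] at h5
  push_cast at h5
  have hqpos : (0 : ℝ) < (Fintype.card F : ℝ) := by
    have : 0 < Fintype.card F := Fintype.card_pos
    exact_mod_cast this
  have h6 : (Fintype.card F : ℝ) ≤ 2 * d ^ 2 := by
    have : (Fintype.card F : ℝ) * (Fintype.card F : ℝ) ≤ (Fintype.card F : ℝ) * (2 * d ^ 2) := by
      nlinarith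
    exact le_of_mul_le_mul_left this hqpos
  have h7 : (Fintype.card F : ℝ) = 2 * (2 ^ m : ℝ) ^ 2 := by
    rw [hq]; push_cast; ring
  rw [h7] at h6
  have h8 : ((2 : ℝ) ^ m) ^ 2 ≤ d ^ 2 := by linarith
  have h9 : (2 : ℝ) ^ m ≤ d := by
    have hd0 : 0 ≤ d := by rw [hd]; positivity
    exact (pow_le_pow_iff_left₀ (by positivity) hd0 (by norm_num)).mp h8
  rw [hd] at h9
  exact_mod_cast h9

end heis




section proj

variable {S : Type*} [Group S] {F : Type*} [Field F] [Fintype F] [CharP F 2]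
  (σ : F →+* F)
  (t : F → F → S) (ht : ∀ a b c d, t a b * t c d = t (a + c) (b + d + σ a * c))
  (htsurj : ∀ s : S, ∃ a b, s = t a b)
  (φ : F → ℂ) (hφadd : ∀ x y, φ (x + y) = φ x * φ y) (hφsq : ∀ x, φ x * φ x = 1)
  {V : Type*} [AddCommGroup V] [Module ℂ V] [FiniteDimensional ℂ V]
  (ρ : Representation ℂ S V)

/-- the weight projection -/
noncomputable def eproj : Module.End ℂ V := ((Fintype.card F : ℂ)⁻¹) • ∑ b : F, φ b • ρ (t 0 b)

include ht hφadd hφsq in
theorem rho_mul_eproj (d : F) : ρ (t 0 d) * eproj t φ ρ = φ d • eproj t φ ρ := by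
  unfold eproj
  rw [mul_smul_comm, smul_comm]
  congr 1
  rw [Finset.mul_sum, Finset.smul_sum]
  rw [← Equiv.sum_comp (Equiv.addRight d)]
  refine Finset.sum_congr rfl fun b _ => ?_
  simp only [Equiv.coe_addRight]
  rw [mul_smul_comm, smul_smul]
  have e1 : ρ (t 0 d) * ρ (t 0 (b + d)) = ρ (t 0 b) := by
    have : t 0 d * t 0 (b + d) = t 0 b := by
      rw [ht]; congr 1
      · simp
      · simp only [map_zero, zero_mul, add_zero]
        rw [add_comm b d, ← add_assoc, CharTwo.add_self_eq_zero, zero_add]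
    rw [← this, map_mul]
  rw [e1, hφadd b d, mul_comm]

include ht hφadd hφsq in
theorem eproj_idem : eproj t φ ρ * eproj t φ ρ = eproj t φ ρ := by
  have hq : (Fintype.card F : ℂ) ≠ 0 := by
    have : 0 < Fintype.card F := Fintype.card_pos
    exact_mod_cast this.ne'
  change ((Fintype.card F : ℂ)⁻¹ • ∑ b : F, φ b • ρ (t 0 b)) * eproj t φ ρ = eproj t φ ρ
  rw [smul_mul_assoc, Finset.sum_mul]
  have : ∀ b : F, (φ b • ρ (t 0 b)) * eproj t φ ρ = eproj t φ ρ := by
    intro b
    rw [smul_mul_assoc, rho_mul_eproj σ t ht φ hφadd hφsq ρ b, smul_smul, hφsq, one_smul]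
  rw [Finset.sum_congr rfl fun b _ => this b, Finset.sum_const, Finset.card_univ, ← Nat.cast_smul_eq_nsmul ℂ,
    smul_smul, inv_mul_cancel₀ hq, one_smul]

include ht htsurj in
theorem eproj_comm (s : S) : ρ s * eproj t φ ρ = eproj t φ ρ * ρ s := by
  unfold eproj
  rw [mul_smul_comm, smul_mul_assoc, Finset.mul_sum, Finset.sum_mul]
  congr 1
  refine Finset.sum_congr rfl fun b _ => ?_
  rw [mul_smul_comm, smul_mul_assoc]
  congr 1
  obtain ⟨a, b', rfl⟩ := htsurj s
  have : t a b' * t 0 b = t 0 b * t a b' := by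
    rw [ht, ht]; congr 1
    · simp [add_comm]
    · simp; ring
  have h := congrArg ρ this
  rw [map_mul, map_mul] at h
  exact h

omit [CharP F 2] [FiniteDimensional ℂ V] in
theorem trace_eproj : LinearMap.trace ℂ V (eproj t φ ρ) =
    (Fintype.card F : ℂ)⁻¹ * ∑ b : F, φ b * ρ.character (t 0 b) := by
  unfold eproj Representation.character
  rw [map_smul, map_sum, smul_eq_mul]
  congr 1
  refine Finset.sum_congr rfl fun b _ => ?_
  rw [map_smul, smul_eq_mul]

include ht hφadd hφsq in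
theorem isProj_eproj : LinearMap.IsProj (LinearMap.range (eproj t φ ρ)) (eproj t φ ρ) := by
  refine ⟨fun x => LinearMap.mem_range_self _ x, ?_⟩
  rintro x ⟨y, rfl⟩
  have := eproj_idem σ t ht φ hφadd hφsq ρ
  exact LinearMap.congr_fun this y

include ht hφadd hφsq in
theorem finrank_range_eproj : (finrank ℂ (LinearMap.range (eproj t φ ρ)) : ℂ) =
    (Fintype.card F : ℂ)⁻¹ * ∑ b : F, φ b * ρ.character (t 0 b) := by
  rw [← trace_eproj, (isProj_eproj σ t ht φ hφadd hφsq ρ).trace]

/-- the weight space as a subrepresentation -/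
noncomputable def wsub : Subrepresentation ρ where
  toSubmodule := LinearMap.range (eproj t φ ρ)
  apply_mem_toSubmodule := by
    rintro s v ⟨y, rfl⟩
    refine ⟨ρ s y, ?_⟩
    have := eproj_comm σ t ht htsurj φ ρ s
    exact (LinearMap.congr_fun this y).symm

include hφadd hφsq in
theorem wsub_center (b : F) (w : (wsub σ t ht htsurj φ ρ).toSubmodule) :
    (wsub σ t ht htsurj φ ρ).toRepresentation (t 0 b) w = φ b • w := by
  obtain ⟨w, y, rfl⟩ := w
  apply Subtype.ext
  have := rho_mul_eproj σ t ht φ hφadd hφsq ρ b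
  exact LinearMap.congr_fun this y

end proj


section assembly

variable {G : Type*} [Group G] [Finite G] {S : Type*} [Group S] [Fintype S] (ι : S →* G)
  {F : Type*} [Field F] [Fintype F] [CharP F 2] (m : ℕ) (hq : Fintype.card F = 2 ^ (2 * m + 1))
  (σ : F →+* F) (hσ2 : ∀ x, σ (σ x) = x ^ 2) (hfix : ∀ c : F, σ c = c → c = 0 ∨ c = 1)
  (t : F → F → S) (ht : ∀ a b c d, t a b * t c d = t (a + c) (b + d + σ a * c))
  (htbij : Function.Bijective (fun ab : F × F => t ab.1 ab.2))
  (hconj : ∀ l : F, l ≠ 0 → ∃ h : G, h * ι (t 0 1) * h⁻¹ = ι (t 0 l))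
  {V : Type*} [AddCommGroup V] [Module ℂ V] [FiniteDimensional ℂ V]
  (ρ : Representation ℂ G V)

include hq hσ2 hfix ht htbij hconj in
theorem ls_bound (hne : ρ (ι (t 0 1)) ≠ 1) : 2 ^ m * (2 ^ (2 * m + 1) - 1) ≤ finrank ℂ V := by
  classical
  obtain ⟨ψ, hψadd, hψσ, ⟨x₀, hx₀⟩, hψpm⟩ := exists_invariant_addChar σ hfix
  have htsurj : ∀ s : S, ∃ a b, s = t a b := fun s => by
    obtain ⟨⟨a, b⟩, h⟩ := htbij.2 s; exact ⟨a, b, h.symm⟩
  have hψsq : ∀ x, ψ x * ψ x = 1 := fun x => by
    rcases hψpm x with h | h <;> rw [h] <;> norm_num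
  have hψ0 : ψ 0 = 1 := by
    have := hψadd 0 0
    rw [add_zero, hψsq] at this; exact this
  let ρS : Representation ℂ S V := ρ.comp ι
  have hχ : ∀ s, ρS.character s = ρ.character (ι s) := fun s => rfl
  set k : ℂ := (finrank ℂ V : ℂ) with hk
  set t₁ : ℂ := ρ.character (ι (t 0 1)) with ht₁
  have hχb : ∀ b : F, b ≠ 0 → ρS.character (t 0 b) = t₁ := by
    intro b hb
    obtain ⟨h, hh⟩ := hconj b hb
    rw [hχ, ← hh, Representation.char_conj]
  have ht00 : t 0 0 = (1 : S) := by
    have h := ht 0 0 0 0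
    simp only [add_zero, map_zero, zero_mul] at h
    exact mul_eq_left.mp h
  have hχ0 : ρS.character (t 0 0) = k := by
    rw [ht00, Representation.char_one]
  have hsumψ : ∑ b : F, ψ b = 0 := by
    have h1 : ∑ b : F, ψ b = ∑ b : F, ψ (b + x₀) := (Equiv.sum_comp (Equiv.addRight x₀) ψ).symm
    have h2 : ∑ b : F, ψ (b + x₀) = - ∑ b : F, ψ b := by
      rw [← Finset.sum_neg_distrib]
      refine Finset.sum_congr rfl fun b _ => ?_
      rw [hψadd, hx₀]; ring
    have : (2 : ℂ) * ∑ b : F, ψ b = 0 := by linear_combination h1 + h2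
    simpa using this
  have hqpos : 0 < Fintype.card F := Fintype.card_pos
  have hq0 : (Fintype.card F : ℂ) ≠ 0 := by exact_mod_cast hqpos.ne'
  have h1 := finrank_range_eproj σ t ht ψ hψadd hψsq ρS
  have h2 := finrank_range_eproj σ t ht (fun _ => (1 : ℂ)) (by simp) (by simp) ρS
  have hψerase : ∑ b ∈ Finset.univ.erase (0 : F), ψ b = -1 := by
    have := Finset.add_sum_erase Finset.univ ψ (Finset.mem_univ (0 : F))
    rw [hsumψ, hψ0] at this
    linear_combination this
  have hs1 : ∑ b : F, ψ b * ρS.character (t 0 b) = k - t₁ := by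
    rw [← Finset.add_sum_erase Finset.univ _ (Finset.mem_univ (0 : F)), hψ0, one_mul, hχ0]
    have : ∑ b ∈ Finset.univ.erase (0 : F), ψ b * ρS.character (t 0 b) =
        ∑ b ∈ Finset.univ.erase (0 : F), ψ b * t₁ :=
      Finset.sum_congr rfl fun b hb => by rw [hχb b (Finset.ne_of_mem_erase hb)]
    rw [this, ← Finset.sum_mul, hψerase]; ring
  have hs2 : ∑ b : F, (1 : ℂ) * ρS.character (t 0 b) = k + ((Fintype.card F : ℂ) - 1) * t₁ := by
    rw [← Finset.add_sum_erase Finset.univ _ (Finset.mem_univ (0 : F)), one_mul, hχ0]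
    have : ∑ b ∈ Finset.univ.erase (0 : F), (1 : ℂ) * ρS.character (t 0 b) =
        ∑ _b ∈ Finset.univ.erase (0 : F), t₁ :=
      Finset.sum_congr rfl fun b hb => by rw [one_mul, hχb b (Finset.ne_of_mem_erase hb)]
    rw [this, Finset.sum_const, Finset.card_erase_of_mem (Finset.mem_univ _), Finset.card_univ,
      ← Nat.cast_smul_eq_nsmul ℂ, smul_eq_mul, Nat.cast_sub hqpos, Nat.cast_one]
  rw [hs1] at h1
  rw [hs2] at h2
  set dψ := finrank ℂ (LinearMap.range (eproj t ψ ρS)) with hdψ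
  set d1 := finrank ℂ (LinearMap.range (eproj t (fun _ => (1 : ℂ)) ρS)) with hd1
  have hkey : (finrank ℂ V : ℂ) = ((Fintype.card F - 1 : ℕ) : ℂ) * (dψ : ℂ) + (d1 : ℂ) := by
    rw [h1, h2, Nat.cast_sub hqpos, Nat.cast_one, ← hk]
    field_simp
    ring
  have hkeyN : finrank ℂ V = (Fintype.card F - 1) * dψ + d1 := by exact_mod_cast hkey
  have hdψ0 : dψ ≠ 0 := by
    intro h0
    rw [h0] at h1
    have : k = t₁ := by
      have h3 : (Fintype.card F : ℂ)⁻¹ * (k - t₁) = 0 := by rw [← h1]; simp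
      rcases mul_eq_zero.mp h3 with h | h
      · exact absurd (inv_eq_zero.mp h) hq0
      · exact sub_eq_zero.mp h
    apply hne
    have := (Cfsg.Agent.Lib.Helper3.character_eq_finrank_iff ρ (ι (t 0 1))).mp (by rw [← ht₁, ← this])
    exact this
  have hnt : Nontrivial (LinearMap.range (eproj t ψ ρS)) :=
    Module.nontrivial_of_finrank_pos (R := ℂ) (Nat.pos_of_ne_zero hdψ0)
  have hb : 2 ^ m ≤ dψ := by
    have : Nontrivial ((wsub σ t ht htsurj ψ ρS).toSubmodule) := hnt
    exact heis_bound σ hσ2 t ht htbij ψ hψadd hψσ x₀ hx₀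
      (wsub σ t ht htsurj ψ ρS).toRepresentation
      (fun b w => wsub_center σ t ht htsurj ψ hψadd hψsq ρS b w) m hq
  rw [hkeyN, hq]
  calc 2 ^ m * (2 ^ (2 * m + 1) - 1) ≤ dψ * (2 ^ (2 * m + 1) - 1) := Nat.mul_le_mul_right _ hb
    _ = (2 ^ (2 * m + 1) - 1) * dψ := Nat.mul_comm _ _
    _ ≤ (2 ^ (2 * m + 1) - 1) * dψ + d1 := Nat.le_add_right _ _

end assembly

end Cfsg.Agent.Lib.Helper95.LS
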