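import Mathlib
import Cfsg.Agent.Lib.Helper43.SUMD.Basic
import Cfsg.Agent.Lib.Helper95.LSBound

/-!
# SUMD-[R-HEIS] (helper43's project SUMD, S2334/S2335): the Heisenberg bound (helper95)

`heis_bound`: `Z ≤ Q` central, `χ` a linear character of `Z` with non-zero weight space `W`, every `s ∈ Q ∖ Z` is
`Q`-conjugate to `s z` with `χ z ≠ 1`.  Then `|Q| ≤ |Z| (dim W)²`.
-/

set_option autoImplicit false

namespace Cfsg.Agent.Lib.Helper43.SUMD

open Matrix Module Cfsg.Agent.S0837 Cfsg.Agent.S0781 Cfsg.Agent.S2644 Cfsg.Agent.Lib.Helper37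

section R
variable {G : Type*} [Group G] {V : Type*} [AddCommGroup V] [Module ℂ V] [FiniteDimensional ℂ V]

namespace RHeis

/-- the weight space of a central subgroup is invariant -/
theorem wtSp_invariant (ρ : Representation ℂ G V) (Q Z : Subgroup G)
    (hcent : ∀ s ∈ Q, ∀ z ∈ Z, s * z = z * s) (χ : ↥Z →* ℂˣ) (s : G) (hs : s ∈ Q) (v : V)
    (hv : v ∈ wtSp ρ Z χ) : ρ s v ∈ wtSp ρ Z χ := by
  intro z
  have h := hcent s hs z z.2
  rw [← Module.End.mul_apply, ← map_mul, ← h, map_mul, Module.End.mul_apply, hv z, map_smul]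

/-- the representation of `Q` on the weight space -/
noncomputable def tauQ (ρ : Representation ℂ G V) (Q Z : Subgroup G)
    (hcent : ∀ s ∈ Q, ∀ z ∈ Z, s * z = z * s) (χ : ↥Z →* ℂˣ) :
    Representation ℂ ↥Q ↥(wtSp ρ Z χ) where
  toFun s := (ρ (s : G)).restrict (fun v hv => wtSp_invariant ρ Q Z hcent χ s s.2 v hv)
  map_one' := by
    ext v
    simp
  map_mul' := fun a b => by
    ext v
    simp

theorem tauQ_apply (ρ : Representation ℂ G V) (Q Z : Subgroup G)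
    (hcent : ∀ s ∈ Q, ∀ z ∈ Z, s * z = z * s) (χ : ↥Z →* ℂˣ) (s : ↥Q) (w : ↥(wtSp ρ Z χ)) :
    ((tauQ ρ Q Z hcent χ s w : ↥(wtSp ρ Z χ)) : V) = ρ (s : G) (w : V) := rfl

theorem char_eq_zero (ρ : Representation ℂ G V) (Q Z : Subgroup G) (hZQ : Z ≤ Q)
    (hcent : ∀ s ∈ Q, ∀ z ∈ Z, s * z = z * s) (χ : ↥Z →* ℂˣ)
    (hcomm : ∀ s ∈ Q, s ∉ Z → ∃ s' ∈ Q, ∃ z : ↥Z, s' * s * s'⁻¹ = s * (z : G) ∧ χ z ≠ 1)
    (s : ↥Q) (hs : (s : G) ∉ Z) : (tauQ ρ Q Z hcent χ).character s = 0 := by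
  obtain ⟨s', hs', z, hconj, hz⟩ := hcomm s s.2 hs
  set τ := tauQ ρ Q Z hcent χ with hτ
  set S' : ↥Q := ⟨s', hs'⟩
  set Zq : ↥Q := ⟨(z : G), hZQ z.2⟩
  have hc : S' * s * S'⁻¹ = s * Zq := Subtype.ext hconj
  have h1 : τ.character s = τ.character (s * Zq) := by
    rw [← hc, Representation.char_conj]
  have h2 : τ (s * Zq) = ((χ z : ℂˣ) : ℂ) • τ s := by
    ext w
    rw [map_mul, Module.End.mul_apply, LinearMap.smul_apply, Submodule.coe_smul, tauQ_apply,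
      tauQ_apply, tauQ_apply]
    have hw : ρ ((Zq : ↥Q) : G) (w : V) = ((χ z : ℂˣ) : ℂ) • (w : V) := w.2 z
    rw [hw, map_smul]
  have h3 : τ.character (s * Zq) = ((χ z : ℂˣ) : ℂ) * τ.character s := by
    unfold Representation.character
    rw [h2, map_smul, smul_eq_mul]
  rw [h3] at h1
  have hne : (1 : ℂ) - ((χ z : ℂˣ) : ℂ) ≠ 0 := by
    intro h
    apply hz
    apply Units.ext
    rw [Units.val_one]
    exact (sub_eq_zero.mp h).symm
  have : ((1 : ℂ) - ((χ z : ℂˣ) : ℂ)) * τ.character s = 0 := by linear_combination h1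
  exact (mul_eq_zero.mp this).resolve_left hne

end RHeis

/-- **[R-HEIS]** Heisenberg bound: `|Q| ≤ |Z| (dim V_χ)²` -/
theorem heis_bound (ρ : Representation ℂ G V) (Q Z : Subgroup G) [Finite Q] (hZQ : Z ≤ Q)
    (hcent : ∀ s ∈ Q, ∀ z ∈ Z, s * z = z * s) (χ : ↥Z →* ℂˣ) (hW : wtSp ρ Z χ ≠ ⊥)
    (hcomm : ∀ s ∈ Q, s ∉ Z → ∃ s' ∈ Q, ∃ z : ↥Z, s' * s * s'⁻¹ = s * (z : G) ∧ χ z ≠ 1) :
    Nat.card Q ≤ Nat.card Z * (finrank ℂ (wtSp ρ Z χ)) ^ 2 := by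
  classical
  haveI : Fintype ↥Q := Fintype.ofFinite _
  haveI : Nontrivial ↥(wtSp ρ Z χ) := Submodule.nontrivial_iff_ne_bot.mpr hW
  set τ := RHeis.tauQ ρ Q Z hcent χ with hτ
  set d : ℝ := (finrank ℂ ↥(wtSp ρ Z χ) : ℝ) with hd
  have h1 := Cfsg.Agent.Lib.Helper95.LS.card_le_sum_normSq τ
  have hle : ∀ s : ↥Q, ‖τ.character s‖ ^ 2 ≤ if (s : G) ∈ Z then d ^ 2 else 0 := by
    intro s
    split_ifs with hs
    · have h1 := Cfsg.Agent.Lib.Helper3.norm_character_le τ s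
      have h0 : 0 ≤ ‖τ.character s‖ := norm_nonneg _
      nlinarith
    · rw [RHeis.char_eq_zero ρ Q Z hZQ hcent χ hcomm s hs]
      simp
  have hcount : (Finset.univ.filter fun s : ↥Q => (s : G) ∈ Z).card = Nat.card Z := by
    rw [← Fintype.card_subtype, ← Nat.card_eq_fintype_card]
    exact Nat.card_congr (Subgroup.subgroupOfEquivOfLe hZQ).toEquiv
  have h2 : ∑ s : ↥Q, ‖τ.character s‖ ^ 2 ≤ (Nat.card Z : ℝ) * d ^ 2 := by
    calc ∑ s : ↥Q, ‖τ.character s‖ ^ 2 ≤ ∑ s : ↥Q, (if (s : G) ∈ Z then d ^ 2 else 0) :=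
          Finset.sum_le_sum fun s _ => hle s
      _ = (Nat.card Z : ℝ) * d ^ 2 := by
          rw [← Finset.sum_filter, Finset.sum_const, hcount, nsmul_eq_mul]
  have h3 : (Nat.card ↥Q : ℝ) ≤ (Nat.card Z : ℝ) * d ^ 2 := le_trans h1 h2
  rw [hd] at h3
  exact_mod_cast h3

end R

end Cfsg.Agent.Lib.Helper43.SUMD
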