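import Mathlib
import Cfsg.Agent.Lib.Helper32.SLMD.Defs2

/-!
# SLMD-[G-INDEP] (helper32's project SLMD, S2332) (helper95)

`eigenSub_iSupIndep`: the eigenspaces of distinct linear characters are independent.
`eigenSub_count`: the counting lemma.
-/

set_option autoImplicit false
set_option linter.unusedSectionVars false
set_option linter.unusedVariables false

namespace Cfsg.Agent.Lib.Helper32.SLMD

open Matrix Cfsg.Agent.Lib.Helper41 Cfsg.Agent.Lib.Helper39 Module
open scoped LinearAlgebra.Projectivization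

universe u v

section generic

variable {G : Type*} [Group G] {N : Type*} [Group N] [Fintype N] {H : Type*} [Group H]
  {V : Type*} [AddCommGroup V] [Module ℂ V] [FiniteDimensional ℂ V]

/-- eigenspaces of distinct characters meet trivially -/
theorem eigenSub_inf_eq_bot_h95 (ρ : Representation ℂ G V) (ν : N →* G) {lam lam' : N →* ℂˣ}
    (hne : lam ≠ lam') : eigenSub ρ ν lam ⊓ eigenSub ρ ν lam' = ⊥ := by
  rw [eq_bot_iff]
  rintro v ⟨h1, h2⟩
  rw [SetLike.mem_coe, mem_eigenSub] at h1 h2
  rw [Submodule.mem_bot]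
  by_contra hv
  apply hne
  ext n
  have h := (h1 n).symm.trans (h2 n)
  have h' : (((lam n : ℂˣ) : ℂ) - ((lam' n : ℂˣ) : ℂ)) • v = 0 := by
    rw [sub_smul, h, sub_self]
  rcases smul_eq_zero.mp h' with h0 | h0
  · exact sub_eq_zero.mp h0
  · exact absurd h0 hv

/-- the twisted sum preserves every eigenspace -/
theorem twistSum_mem_eigenSub_h95 (ρ : Representation ℂ G V) (ν : N →* G) (lam lam' : N →* ℂˣ)
    {v : V} (hv : v ∈ eigenSub ρ ν lam') : twistSum ρ ν lam v ∈ eigenSub ρ ν lam' := by
  unfold twistSum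
  rw [LinearMap.sum_apply]
  refine Submodule.sum_mem _ fun n _ => ?_
  rw [LinearMap.smul_apply, (mem_eigenSub ρ ν lam' v).mp hv n]
  exact Submodule.smul_mem _ _ (Submodule.smul_mem _ _ hv)

/-- [G-INDEP] -/
theorem eigenSub_iSupIndep (ρ : Representation ℂ G V) (ν : N →* G) :
    iSupIndep (fun lam : N →* ℂˣ => eigenSub ρ ν lam) := by
  intro lam
  have hle : (⨆ (lam' : N →* ℂˣ) (_ : lam' ≠ lam), eigenSub ρ ν lam') ≤
      LinearMap.ker (twistSum ρ ν lam) := by
    refine iSup₂_le fun lam' hne v hv => ?_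
    rw [LinearMap.mem_ker]
    have h1 : twistSum ρ ν lam v ∈ eigenSub ρ ν lam ⊓ eigenSub ρ ν lam' :=
      ⟨twistSum_mem ρ ν lam v, twistSum_mem_eigenSub_h95 ρ ν lam lam' hv⟩
    rw [eigenSub_inf_eq_bot_h95 ρ ν (Ne.symm hne), Submodule.mem_bot] at h1
    exact h1
  rw [Submodule.disjoint_def]
  intro v hv hv'
  have h0 : twistSum ρ ν lam v = 0 := LinearMap.mem_ker.mp (hle hv')
  rw [twistSum_apply_of_mem ρ ν lam hv] at h0
  have hcard : (Fintype.card N : ℂ) ≠ 0 := by exact_mod_cast Fintype.card_ne_zero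
  exact (smul_eq_zero.mp h0).resolve_left hcard

/-- [G-INDEP] -/
theorem eigenSub_count (ρ : Representation ℂ G V) (ν : N →* G) (W : Submodule ℂ V)
    {ι : Type*} [Fintype ι] (lam : ι → (N →* ℂˣ)) (hinj : Function.Injective lam) :
    ∑ i, finrank ℂ ↥(W ⊓ eigenSub ρ ν (lam i)) ≤ finrank ℂ ↥W := by
  classical
  have hind : iSupIndep (fun i : ι => W ⊓ eigenSub ρ ν (lam i)) :=
    ((eigenSub_iSupIndep ρ ν).comp hinj).mono fun i => inf_le_right
  have hzero := (iSupIndep_iff_finsetSum_eq_zero_imp_eq_zero _).mp hind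
  let L : (∀ i : ι, ↥(W ⊓ eigenSub ρ ν (lam i))) →ₗ[ℂ] ↥W :=
    { toFun := fun x => ⟨∑ i, (x i : V), Submodule.sum_mem _ fun i _ => (x i).2.1⟩
      map_add' := by
        intro x y
        apply Subtype.ext
        simp [Finset.sum_add_distrib]
      map_smul' := by
        intro c x
        apply Subtype.ext
        simp [Finset.smul_sum] }
  have hL : Function.Injective L := by
    rw [← LinearMap.ker_eq_bot, eq_bot_iff]
    intro x hx
    rw [LinearMap.mem_ker] at hx
    have hx' : ∑ i, (x i : V) = 0 := congrArg Subtype.val hx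
    have := hzero Finset.univ (fun i => (x i : V)) (fun i _ => (x i).2) hx'
    rw [Submodule.mem_bot]
    funext i
    exact Subtype.ext (this i (Finset.mem_univ i))
  have := LinearMap.finrank_le_finrank_of_injective hL
  rwa [Module.finrank_pi_fintype] at this

end generic

end Cfsg.Agent.Lib.Helper32.SLMD
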