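import Mathlib
import Cfsg.Agent.Lib.Helper3.WreathEmb
import Cfsg.Agent.Lib.Helper76.Gag.Defs
import Cfsg.Agent.Lib.Helper76.Gag.Phi

set_option autoImplicit false

namespace Cfsg.Agent.Lib.Helper76.Gag

open scoped commutatorElement IsMulCommutative
open Cfsg.Agent.Lib.Helper3.Wreath

universe u

section level1

variable (p : ℕ) [Fact p.Prime] {K : Type u} [Group K] (s : K →* Cp p) (c : Subgroup.center K)

/-! ## GAG-[NORMAL] -/

/-- `Φ f = 1` (or just `s (Φ f) = 1`) forces `S f = 0` -/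
theorem Ssum_eq_zero_of_s_PhiFun_h95 (hs : s (c : K) = 1) (f : Cp p → Subgroup.center K)
    (hf : s (PhiFun p s c f : K) = 1) : Ssum p s f = 0 := by
  rw [s_PhiFun p s c hs f] at hf
  exact hf

theorem Rset_subset_Z1set (h : StepHyp p s c) : Rset p s c ⊆ Z1set p s c := by
  rintro w ⟨f, hf, rfl⟩
  exact ⟨f, by rw [hf]; simp, rfl⟩

theorem one_mem_Rset : (1 : K ≀ᵣ Cp p) ∈ Rset p s c :=
  ⟨1, PhiFun_one p s c, map_one _⟩

theorem mul_mem_Rset (h : StepHyp p s c) {a b : K ≀ᵣ Cp p} (ha : a ∈ Rset p s c) (hb : b ∈ Rset p s c) :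
    a * b ∈ Rset p s c := by
  obtain ⟨f, hf, rfl⟩ := ha
  obtain ⟨g, hg, rfl⟩ := hb
  exact ⟨f * g, by rw [PhiFun_mul p s c h.c_pow, hf, hg, one_mul], map_mul _ _ _⟩

theorem inv_mem_Rset (h : StepHyp p s c) {a : K ≀ᵣ Cp p} (ha : a ∈ Rset p s c) : a⁻¹ ∈ Rset p s c := by
  obtain ⟨f, hf, rfl⟩ := ha
  exact ⟨f⁻¹, by rw [PhiFun_inv p s c h.c_pow, hf, inv_one], map_inv _ _⟩

theorem conj_mem_Rset (h : StepHyp p s c) (w : K ≀ᵣ Cp p) {r : K ≀ᵣ Cp p} (hr : r ∈ Rset p s c) :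
    w * r * w⁻¹ ∈ Rset p s c := by
  obtain ⟨f, hf, rfl⟩ := hr
  refine ⟨fun k => f (w.right⁻¹ * k), ?_, (conj_jHom p w f).symm⟩
  have hS : Ssum p s f = 0 := Ssum_eq_zero_of_s_PhiFun_h95 p s c h.s_c f (by rw [hf]; simp)
  rw [PhiFun_shift p s c h.c_pow, hf, hS, mul_zero, cpow_zero, one_mul]

theorem one_mem_Z1set : (1 : K ≀ᵣ Cp p) ∈ Z1set p s c :=
  ⟨1, by rw [PhiFun_one p s c]; simp, map_one _⟩

theorem mul_mem_Z1set (h : StepHyp p s c) {a b : K ≀ᵣ Cp p} (ha : a ∈ Z1set p s c) (hb : b ∈ Z1set p s c) :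
    a * b ∈ Z1set p s c := by
  obtain ⟨f, hf, rfl⟩ := ha
  obtain ⟨g, hg, rfl⟩ := hb
  refine ⟨f * g, ?_, map_mul _ _ _⟩
  rw [PhiFun_mul p s c h.c_pow, Subgroup.coe_mul, map_mul, hf, hg, one_mul]

theorem inv_mem_Z1set (h : StepHyp p s c) {a : K ≀ᵣ Cp p} (ha : a ∈ Z1set p s c) : a⁻¹ ∈ Z1set p s c := by
  obtain ⟨f, hf, rfl⟩ := ha
  refine ⟨f⁻¹, ?_, map_inv _ _⟩
  rw [PhiFun_inv p s c h.c_pow, Subgroup.coe_inv, map_inv, hf, inv_one]

/-- membership in `Rset` of an element `jHom f` is decided by `Φ f` (`jHom` is injective) -/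
theorem jHom_mem_Rset_iff (f : Cp p → Subgroup.center K) : jHom p f ∈ Rset p s c ↔ PhiFun p s c f = 1 := by
  constructor
  · rintro ⟨g, hg, hgf⟩
    rw [← jHom_injective p hgf]
    exact hg
  · intro hf
    exact ⟨f, hf, rfl⟩

theorem jHom_mem_Z1set_iff (f : Cp p → Subgroup.center K) :
    jHom p f ∈ Z1set p s c ↔ s (PhiFun p s c f : K) = 1 := by
  constructor
  · rintro ⟨g, hg, hgf⟩
    rw [← jHom_injective p hgf]
    exact hg
  · intro hf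
    exact ⟨f, hf, rfl⟩

/-! ## GAG-[CENTRAL] -/

/-- the commutator of any `w` with a central base element -/
theorem comm_jHom_h95 (w : K ≀ᵣ Cp p) (f : Cp p → Subgroup.center K) :
    ⁅w, jHom p f⁆ = jHom p ((fun k => f (w.right⁻¹ * k)) * f⁻¹) := by
  rw [commutatorElement_def, conj_jHom p w f, map_mul, map_inv]

/-- `Φ` of the commutator function -/
theorem PhiFun_comm_h95 (hc : c ^ p = 1) (q : Cp p) (f : Cp p → Subgroup.center K) :
    PhiFun p s c ((fun k => f (q⁻¹ * k)) * f⁻¹) =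
      cpow p c (Multiplicative.toAdd q * Ssum p s f) := by
  rw [PhiFun_mul p s c hc, PhiFun_shift p s c hc, PhiFun_inv p s c hc]
  rw [mul_comm (PhiFun p s c f), mul_assoc, mul_inv_cancel, mul_one]

/-- `Z₁` is central modulo `R` -/
theorem comm_mem_Rset (h : StepHyp p s c) (w : K ≀ᵣ Cp p) {z : K ≀ᵣ Cp p} (hz : z ∈ Z1set p s c) :
    ⁅w, z⁆ ∈ Rset p s c := by
  obtain ⟨f, hf, rfl⟩ := hz
  rw [comm_jHom_h95, jHom_mem_Rset_iff, PhiFun_comm_h95 p s c h.c_pow,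
    Ssum_eq_zero_of_s_PhiFun_h95 p s c h.s_c f hf, mul_zero, cpow_zero]

end level1

end Cfsg.Agent.Lib.Helper76.Gag
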