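import Mathlib
import Cfsg.Agent.Lib.Helper3.WreathEmb
import Cfsg.Agent.Lib.Helper76.Gag.Defs
import Cfsg.Agent.Lib.Helper76.Gag.Phi
import Cfsg.Agent.Lib.Helper95.GagNormal

set_option autoImplicit false

namespace Cfsg.Agent.Lib.Helper76.Gag

open scoped commutatorElement IsMulCommutative
open Cfsg.Agent.Lib.Helper3.Wreath

universe u

section level1

variable (p : ℕ) [Fact p.Prime] {K : Type u} [Group K] (s : K →* Cp p) (c : Subgroup.center K)

/-! ## GAG-[STAR] -/

/-- a commutator is killed by a hom to the commutative group `C_p` -/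
theorem s_comm_h95 (x g : K) : s ⁅x, g⁆ = 1 := by
  simp only [commutatorElement_def, map_mul, map_inv]
  rw [mul_comm (s x) (s g)]
  group

/-- commutator of two base elements -/
theorem comm_base_h95 (a b : Cp p → K) :
    ⁅(base a : K ≀ᵣ Cp p), base b⁆ = base (fun k => ⁅a k, b k⁆) := by
  rw [commutatorElement_def, ← map_inv, ← map_inv, ← map_mul, ← map_mul, ← map_mul]
  congr 1

theorem star_W (h : StepHyp p s c) (w : K ≀ᵣ Cp p) (hw : w ∉ Z1set p s c) :
    ∃ y : K ≀ᵣ Cp p, ⁅w, y⁆ ∈ Z1set p s c ∧ ⁅w, y⁆ ∉ Rset p s c := by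
  by_cases hq : w.right = 1
  · by_cases hcen : ∀ k, w.left k ∈ Subgroup.center K
    · -- case 3
      obtain ⟨f, rfl⟩ := exists_jHom_eq p w hq hcen
      have hS : Ssum p s f ≠ 0 := by
        intro h0
        apply hw
        rw [jHom_mem_Z1set_iff, s_PhiFun p s c h.s_c, h0]
        rfl
      refine ⟨⟨1, Multiplicative.ofAdd 1⟩, ?_⟩
      have hcomm : ⁅jHom p f, (⟨1, Multiplicative.ofAdd 1⟩ : K ≀ᵣ Cp p)⁆ =
          (⁅(⟨1, Multiplicative.ofAdd 1⟩ : K ≀ᵣ Cp p), jHom p f⁆)⁻¹ := (commutatorElement_inv _ _).symm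
      have hPhi : PhiFun p s c ((fun k => f ((Multiplicative.ofAdd (1 : ZMod p))⁻¹ * k)) * f⁻¹) =
          cpow p c (Ssum p s f) := by
        rw [PhiFun_comm_h95 p s c h.c_pow]
        simp
      rw [hcomm, comm_jHom_h95, ← map_inv]
      constructor
      · rw [jHom_mem_Z1set_iff, PhiFun_inv p s c h.c_pow, hPhi, Subgroup.coe_inv, map_inv,
          s_cpow p s c h.s_c, inv_one]
      · rw [jHom_mem_Rset_iff, PhiFun_inv p s c h.c_pow, hPhi, inv_eq_one,
          cpow_eq_one_iff p c h.c_pow h.c_ne]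
        exact hS
    · -- case 2
      push Not at hcen
      obtain ⟨k, hk⟩ := hcen
      obtain ⟨g, hg1, hg2⟩ := h.star _ hk
      have hwb : w = base w.left := by
        ext y
        · rfl
        · exact hq
      refine ⟨base (Pi.mulSingle k g), ?_⟩
      have hfun : (fun k' => ⁅w.left k', (Pi.mulSingle k g : Cp p → K) k'⁆) =
          fun k' => (((Pi.mulSingle k ⟨⁅w.left k, g⁆, hg1⟩ : Cp p → Subgroup.center K) k' :
            Subgroup.center K) : K) := by
        funext k'
        by_cases hkk : k' = k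
        · subst hkk
          simp
        · simp [Pi.mulSingle_eq_of_ne hkk]
      have hcomm : ⁅w, (base (Pi.mulSingle k g) : K ≀ᵣ Cp p)⁆ =
          jHom p (Pi.mulSingle k ⟨⁅w.left k, g⁆, hg1⟩) := by
        conv_lhs => rw [hwb]
        rw [comm_base_h95, hfun]
        rfl
      have hPhi : PhiFun p s c (Pi.mulSingle k ⟨⁅w.left k, g⁆, hg1⟩) = ⟨⁅w.left k, g⁆, hg1⟩ := by
        rw [PhiFun_mulSingle]
        simp only [s_comm_h95, toAdd_one, mul_zero, cpow_zero, mul_one]
      rw [hcomm]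
      constructor
      · rw [jHom_mem_Z1set_iff, hPhi]
        exact s_comm_h95 p s _ _
      · rw [jHom_mem_Rset_iff, hPhi]
        intro h1
        exact hg2 (congrArg Subtype.val h1)
  · -- case 1
    obtain ⟨b, hb⟩ := h.surj
    refine ⟨jHom p (Pi.mulSingle 1 b), ?_⟩
    have hPhi : PhiFun p s c ((fun k => (Pi.mulSingle 1 b : Cp p → Subgroup.center K) (w.right⁻¹ * k)) *
        (Pi.mulSingle 1 b)⁻¹) = cpow p c (Multiplicative.toAdd w.right) := by
      rw [PhiFun_comm_h95 p s c h.c_pow, Ssum_mulSingle, hb]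
      simp
    rw [comm_jHom_h95]
    constructor
    · rw [jHom_mem_Z1set_iff, hPhi, s_cpow p s c h.s_c]
    · rw [jHom_mem_Rset_iff, hPhi, cpow_eq_one_iff p c h.c_pow h.c_ne]
      intro h0
      exact hq h0

end level1

end Cfsg.Agent.Lib.Helper76.Gag
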