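import Mathlib
import Cfsg.Agent.Lib.Helper39.SPW.Defs
import Cfsg.Agent.Lib.Helper39.SPW.WRel
import Cfsg.Agent.Lib.Helper39.SPW.WTr

/-!
# SPW-[W-SPAN] (helper39's project SPW, S2347) (helper95)

`span_weyl`: the Weyl operators span `End (Fn n F)`.  The linear independence ([W-LI], helper61's module) is proved
here too, in the sub-namespace `H95` (`H95.linearIndependent_weyl'`), so the statement has no hypothesis left.
-/

set_option autoImplicit false

namespace Cfsg.Agent.Lib.Helper39.SPW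

open Matrix Module Cfsg.Agent.Lib.Helper5

namespace H95

variable {F : Type*} [Field F] [Fintype F] {n : ℕ}

theorem addChar_ne_zero (ψ : AddChar F ℂ) (a : F) : ψ a ≠ 0 := by
  intro h
  have h1 : ψ a * ψ (-a) = 1 := by
    rw [← AddChar.map_add_eq_mul, add_neg_cancel, AddChar.map_zero_eq_one]
  rw [h, zero_mul] at h1
  exact zero_ne_one h1

theorem finrank_Fn : finrank ℂ (Fn n F) = Fintype.card F ^ n := by
  rw [Module.finrank_fintype_fun_eq_card, Fintype.card_fun, Fintype.card_fin]

/-- the trace pairing of Weyl operators -/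
theorem trace_weyl_neg_mul (h2 : (2 : F) ≠ 0) (ψ : AddChar F ℂ) (hψ : ψ ≠ 1)
    (u v : Fin n ⊕ Fin n → F) (huv : v ≠ u) :
    LinearMap.trace ℂ (Fn n F) (weyl ψ (-u) * weyl ψ v) = 0 := by
  rw [weyl_mul h2, map_smul, trace_weyl ψ hψ, smul_zero]
  intro h
  apply huv
  have := congrArg (fun w => w + u) h
  simpa using this

theorem trace_weyl_neg_mul_self (h2 : (2 : F) ≠ 0) (ψ : AddChar F ℂ)
    (u : Fin n ⊕ Fin n → F) :
    LinearMap.trace ℂ (Fn n F) (weyl ψ (-u) * weyl ψ u) ≠ 0 := by
  rw [weyl_mul h2, map_smul, neg_add_cancel, weyl_zero, LinearMap.trace_one, finrank_Fn, smul_eq_mul]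
  refine mul_ne_zero (addChar_ne_zero ψ _) ?_
  have : (Fintype.card F : ℂ) ≠ 0 := by exact_mod_cast Fintype.card_ne_zero
  exact_mod_cast pow_ne_zero n this

/-- [W-LI] (proved here to make `span_weyl` hypothesis-free) -/
theorem linearIndependent_weyl' (h2 : (2 : F) ≠ 0) (ψ : AddChar F ℂ) (hψ : ψ ≠ 1) :
    LinearIndependent ℂ (fun v : Fin n ⊕ Fin n → F => weyl ψ v) := by
  classical
  rw [linearIndependent_iff']
  intro s g hg u hu
  have h1 := congrArg (fun X => LinearMap.trace ℂ (Fn n F) (weyl ψ (-u) * X)) hg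
  simp only [Finset.mul_sum, mul_smul_comm, map_sum, map_smul, mul_zero, map_zero, smul_eq_mul] at h1
  rw [Finset.sum_eq_single u] at h1
  · exact (mul_eq_zero.mp h1).resolve_right (trace_weyl_neg_mul_self h2 ψ u)
  · intro v _ hvu
    rw [trace_weyl_neg_mul h2 ψ hψ u v hvu, mul_zero]
  · intro h
    exact absurd hu h

end H95

section W
variable {F : Type*} [Field F] [Fintype F] {n : ℕ}

/-- **[W-SPAN]** the Weyl operators span `End (Fn n F)` -/
theorem span_weyl (h2 : (2 : F) ≠ 0) (ψ : AddChar F ℂ) (hψ : ψ ≠ 1) :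
    Submodule.span ℂ (Set.range (fun v : Fin n ⊕ Fin n → F => weyl ψ v)) = ⊤ := by
  classical
  apply (H95.linearIndependent_weyl' h2 ψ hψ).span_eq_top_of_card_eq_finrank'
  rw [Module.finrank_linearMap, H95.finrank_Fn, Fintype.card_fun, Fintype.card_sum, Fintype.card_fin,
    pow_add]

end W

end Cfsg.Agent.Lib.Helper39.SPW
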