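import Mathlib
import Cfsg.Agent.Lib.Helper36.Tri.StarDefs
import Cfsg.Agent.Lib.Helper36.Tri.TauGrp
import Cfsg.Agent.Lib.Helper36.AutO.Transfer2
import Cfsg.Agent.Lib.Helper39.TriGA
import Cfsg.Agent.Lib.Helper45.TriGB
import Cfsg.Agent.Lib.Helper13.TriOrb2
import Cfsg.Agent.Lib.Helper39.TriUA
import Cfsg.Agent.Lib.Helper45.TriUB

set_option autoImplicit false
set_option linter.unusedSimpArgs false
set_option linter.unusedVariables false
set_option linter.unusedSectionVars false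

/-!
# TRI8 module [U-C]: the image of a unipotent radical `Ub r` under an automorphism of `PΩ⁺₈`
is a `Ub r'` or a `UMb T` for a maximal totally singular `T`
-/

namespace Cfsg.Agent.Lib.Helper95.TriU

open Cfsg.Agent.Lib.Helper13 hiding isoGroup mem_isoGroup
open Cfsg.Agent.Lib.Helper36 Cfsg.Agent.Lib.Helper44 Cfsg.Agent.Lib.Helper36.AutO
  Cfsg.Agent.Lib.Helper36.Tri Module

variable {F V : Type*} [Field F] [AddCommGroup V] [Module F V]
local notation "pol" => QuadraticMap.polar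
variable {Q : QuadraticForm F V} {Γ : Type*} [Group Γ] (M : OModel Q Γ)
variable [Finite F] [FiniteDimensional F V] (hQ : (QuadraticMap.polarBilin Q).Nondegenerate)
  (ch : ℕ) [hch : Fact ch.Prime] [hchar : CharP F ch]

include M hQ ch hch hchar

/-- [U-C] with the three black boxes [U-A] (`gstar_map`, `gstar_eq_Ub`) and [U-B]
(`gstar_eq_UMb`) as explicit hypotheses. -/
theorem map_Ub_cases_of [Finite Γ] (h8 : finrank F V = 8)
    (hmap : ∀ (e : MulAut (Γ ⧸ Subgroup.center Γ)) (R₁ R₂ : Subgroup (Γ ⧸ Subgroup.center Γ)),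
      gstar ch (R₁.map e.toMonoidHom) (R₂.map e.toMonoidHom) =
        (gstar ch R₁ R₂).map e.toMonoidHom)
    (hUb : ∀ {r a b : V}, IsLine Q r a → IsLine Q r b → pol (⇑Q) a b ≠ 0 →
      gstar ch (M.Xb r a) (M.Xb r b) = M.Ub r)
    (hUMb : ∀ {a b a' b' : V}, IsLine Q a b → IsLine Q a' b' →
      LPerp Q (Submodule.span F {a, b}) (Submodule.span F {a', b'}) →
      ¬ LMeet (Submodule.span F {a, b}) (Submodule.span F {a', b'}) →
      gstar ch (M.Xb a b) (M.Xb a' b') =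
        UMb M (Submodule.span F {a, b} ⊔ Submodule.span F {a', b'}))
    (α : MulAut (Γ ⧸ Subgroup.center Γ)) (r : V)
    (hr0 : r ≠ 0) (hr : Q r = 0) :
    (∃ r' : V, r' ≠ 0 ∧ Q r' = 0 ∧ (M.Ub r).map α.toMonoidHom = M.Ub r') ∨
      (∃ T : Submodule F V, IsTS Q T ∧ finrank F T = 4 ∧
        (M.Ub r).map α.toMonoidHom = UMb M T) := by
  have h7 : 7 ≤ finrank F V := by omega
  obtain ⟨a, b, hra, hrb, hQa, hQb, hab⟩ :=
    Cfsg.Agent.S0795.exists_hyp_in_perp Q hQ (by omega) r hr0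
  have hba : pol (⇑Q) b a = 1 := by rw [QuadraticMap.polar_comm]; exact hab
  have hla : IsLine Q r a := by
    refine ⟨hr0, ?_, hr, hQa, hra⟩
    intro c hc
    have : pol (⇑Q) a b = 0 := by rw [hc, QuadraticMap.polar_smul_left, hrb, smul_zero]
    rw [hab] at this
    exact one_ne_zero this
  have hlb : IsLine Q r b := by
    refine ⟨hr0, ?_, hr, hQb, hrb⟩
    intro c hc
    have : pol (⇑Q) b a = 0 := by rw [hc, QuadraticMap.polar_smul_left, hra, smul_zero]
    rw [hba] at this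
    exact one_ne_zero this
  have hab0 : pol (⇑Q) a b ≠ 0 := by rw [hab]; exact one_ne_zero
  have hr_mem : ∀ y : V, r ∈ Submodule.span F {r, y} := fun y => Submodule.subset_span (by simp)
  have hstar : gstar ch (M.Xb r a) (M.Xb r b) = M.Ub r := hUb hla hlb hab0
  have hcomm : GP.Comm (M.Xb r a) (M.Xb r b) :=
    (M.comm_iff hQ h7 ch hla hlb).2 (Or.inr ⟨r, hr0, hr_mem _, hr_mem _⟩)
  have hroot_a : GP.IsRoot ch (M.Xb r a) := (M.isRoot_iff hQ h7 ch _).2 ⟨r, a, hla, rfl⟩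
  have hroot_b : GP.IsRoot ch (M.Xb r b) := (M.isRoot_iff hQ h7 ch _).2 ⟨r, b, hlb, rfl⟩
  obtain ⟨k₁, k₂, hk, hka⟩ := (M.isRoot_iff hQ h7 ch _).1 (hroot_a.map ch α)
  obtain ⟨m₁, m₂, hm, hmb⟩ := (M.isRoot_iff hQ h7 ch _).1 (hroot_b.map ch α)
  have hcomm' := hcomm.map α
  rw [hka, hmb] at hcomm'
  -- the images are not collinear
  have hncoll : ¬ GP.Coll ch (M.Xb k₁ k₂) (M.Xb m₁ m₂) := by
    intro hcoll
    rw [← hka, ← hmb] at hcoll
    have hcoll' := hcoll.of_map ch α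
    have := ((M.coll_iff hQ h7 ch hla hlb).1 hcoll').1
    rw [lperp_span_iff] at this
    exact hab0 this.2.2.2
  have himg : (M.Ub r).map α.toMonoidHom = gstar ch (M.Xb k₁ k₂) (M.Xb m₁ m₂) := by
    rw [← hstar, ← hmap, hka, hmb]
  by_cases hmeet : LMeet (Submodule.span F {k₁, k₂}) (Submodule.span F {m₁, m₂})
  · left
    obtain ⟨r', hr'0, hr'1, hr'2⟩ := hmeet
    obtain ⟨u₁, hl₁, hs₁⟩ := hk.rebase r' hr'1 hr'0
    obtain ⟨u₂, hl₂, hs₂⟩ := hm.rebase r' hr'2 hr'0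
    have hc' : pol (⇑Q) u₁ u₂ ≠ 0 := by
      intro h0
      apply hncoll
      rw [M.coll_iff hQ h7 ch hk hm]
      refine ⟨?_, r', hr'0, hr'1, hr'2⟩
      rw [← hs₁, ← hs₂, lperp_span_iff]
      exact ⟨pol_self_of_sing Q r' hl₁.hp, hl₂.hpw, hl₁.hwp, h0⟩
    refine ⟨r', hr'0, hl₁.hp, ?_⟩
    rw [himg, ← M.Xb_congr k₁ k₂ r' u₁ hk hl₁ hs₁, ← M.Xb_congr m₁ m₂ r' u₂ hm hl₂ hs₂]
    exact hUb hl₁ hl₂ hc'
  · right
    have hperp : LPerp Q (Submodule.span F {k₁, k₂}) (Submodule.span F {m₁, m₂}) := by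
      rcases (M.comm_iff hQ h7 ch hk hm).1 hcomm' with h | h
      · exact h
      · exact absurd h hmeet
    refine ⟨Submodule.span F {k₁, k₂} ⊔ Submodule.span F {m₁, m₂}, ?_, ?_, ?_⟩
    · intro w hw
      obtain ⟨x, hx, y, hy, rfl⟩ := Submodule.mem_sup.1 hw
      have h1 : Q (x + y) = Q x + Q y + pol (⇑Q) x y := by
        unfold QuadraticMap.polar
        ring
      rw [h1, hk.Q_span hx, hm.Q_span hy, hperp x hx y hy]
      simp
    · have hdisj : Submodule.span F {k₁, k₂} ⊓ Submodule.span F {m₁, m₂} = ⊥ := by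
        rw [Submodule.eq_bot_iff]
        intro x hx
        by_contra hx0
        exact hmeet ⟨x, hx0, hx.1, hx.2⟩
      have h1 := Submodule.finrank_sup_add_finrank_inf_eq (Submodule.span F {k₁, k₂})
        (Submodule.span F {m₁, m₂})
      rw [hdisj, finrank_bot, hk.finrank_span, hm.finrank_span] at h1
      omega
    · rw [himg]
      exact hUMb hk hm hperp hmeet

/-- **[U-C]** (exact statement of the TRI8 module sheet). -/
theorem map_Ub_cases [Finite Γ] (h8 : finrank F V = 8) (α : MulAut (Γ ⧸ Subgroup.center Γ)) (r : V)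
    (hr0 : r ≠ 0) (hr : Q r = 0) :
    (∃ r' : V, r' ≠ 0 ∧ Q r' = 0 ∧ (M.Ub r).map α.toMonoidHom = M.Ub r') ∨
      (∃ T : Submodule F V, IsTS Q T ∧ finrank F T = 4 ∧
        (M.Ub r).map α.toMonoidHom = UMb M T) :=
  map_Ub_cases_of M hQ ch h8
    (fun e R₁ R₂ => Cfsg.Agent.Lib.Helper39.TriU.gstar_map ch e R₁ R₂)
    (fun ha hb hab => Cfsg.Agent.Lib.Helper39.TriU.gstar_eq_Ub M hQ ch (by omega) ha hb hab)
    (fun h h' hperp hdisj => Cfsg.Agent.Lib.Helper45.Tri.gstar_eq_UMb M hQ ch h8 h h' hperp hdisj)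
    α r hr0 hr

end Cfsg.Agent.Lib.Helper95.TriU
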