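import Mathlib
import Cfsg.Agent.Lib.Helper43.SUMD.Basic

/-!
# SUMD-[R-WT] (helper43's project SUMD, S2334/S2335): weight-space dimension formula (helper95)

If all non-identity elements of the finite subgroup `Z` are conjugate (in `G`), then for every linear character
`χ ≠ 1` of `Z`: `dim V = dim C_V(Z) + (|Z| - 1) dim V_χ`; also a relative version on an invariant subspace.
-/

set_option autoImplicit false

namespace Cfsg.Agent.Lib.Helper43.SUMD

open Matrix Module Cfsg.Agent.S0837 Cfsg.Agent.S0781 Cfsg.Agent.S2644 Cfsg.Agent.Lib.Helper37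

namespace RWt

section abstract
variable {Z : Type*} [Group Z] {U : Type*} [AddCommGroup U] [Module ℂ U]

/-- weight space of a representation of `Z` for a linear character -/
def wsp (τ : Representation ℂ Z U) (χ : Z →* ℂˣ) : Submodule ℂ U where
  carrier := {u | ∀ z : Z, τ z u = ((χ z : ℂˣ) : ℂ) • u}
  add_mem' := by
    intro a b ha hb z
    rw [map_add, ha z, hb z, smul_add]
  zero_mem' := by
    intro z
    rw [map_zero, smul_zero]
  smul_mem' := by
    intro c v hv z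
    rw [map_smul, hv z, smul_comm]

theorem mem_wsp (τ : Representation ℂ Z U) (χ : Z →* ℂˣ) (u : U) :
    u ∈ wsp τ χ ↔ ∀ z : Z, τ z u = ((χ z : ℂˣ) : ℂ) • u := Iff.rfl

variable [Fintype Z]

/-- the projection onto the weight space -/
noncomputable def eproj (τ : Representation ℂ Z U) (χ : Z →* ℂˣ) : Module.End ℂ U :=
  ((Fintype.card Z : ℂ)⁻¹) • ∑ z : Z, (((χ z)⁻¹ : ℂˣ) : ℂ) • τ z

theorem card_ne_zero' : (Fintype.card Z : ℂ) ≠ 0 := by
  exact_mod_cast (Fintype.card_ne_zero (α := Z))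

theorem eproj_apply (τ : Representation ℂ Z U) (χ : Z →* ℂˣ) (x : U) :
    eproj τ χ x = ((Fintype.card Z : ℂ)⁻¹) • ∑ z : Z, (((χ z)⁻¹ : ℂˣ) : ℂ) • τ z x := by
  simp only [eproj, LinearMap.smul_apply, LinearMap.sum_apply]

theorem isProj_eproj (τ : Representation ℂ Z U) (χ : Z →* ℂˣ) :
    LinearMap.IsProj (wsp τ χ) (eproj τ χ) := by
  have hn : (Fintype.card Z : ℂ) ≠ 0 := card_ne_zero'
  constructor
  · intro x z
    rw [eproj_apply, map_smul, map_sum, smul_comm ((χ z : ℂˣ) : ℂ)]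
    congr 1
    rw [Finset.smul_sum,
      ← Equiv.sum_comp (Equiv.mulLeft z) (fun w => ((χ z : ℂˣ) : ℂ) • (((χ w)⁻¹ : ℂˣ) : ℂ) • τ w x)]
    refine Finset.sum_congr rfl fun w _ => ?_
    rw [Equiv.coe_mulLeft, map_smul, map_mul, map_mul, _root_.mul_inv_rev, Module.End.mul_apply,
      smul_smul, Units.val_mul, ← mul_assoc]
    congr 1
    rw [mul_comm ((χ z : ℂˣ) : ℂ), mul_assoc, ← Units.val_mul, mul_inv_cancel, Units.val_one, mul_one]
  · intro x hx
    rw [eproj_apply]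
    have : ∀ z : Z, (((χ z)⁻¹ : ℂˣ) : ℂ) • τ z x = x := by
      intro z
      rw [hx z, smul_smul, ← Units.val_mul, inv_mul_cancel, Units.val_one, one_smul]
    rw [Finset.sum_congr rfl (fun z _ => this z), Finset.sum_const, Finset.card_univ, ← Nat.cast_smul_eq_nsmul ℂ,
      smul_smul, inv_mul_cancel₀ hn, one_smul]

theorem sum_inv_eq_zero (χ : Z →* ℂˣ) (hχ : χ ≠ 1) : ∑ z : Z, (((χ z)⁻¹ : ℂˣ) : ℂ) = 0 := by
  obtain ⟨h, hh⟩ : ∃ h : Z, χ h ≠ 1 := by
    by_contra hcon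
    push Not at hcon
    exact hχ (MonoidHom.ext hcon)
  set S : ℂ := ∑ z : Z, (((χ z)⁻¹ : ℂˣ) : ℂ) with hS
  have h1 : (((χ h)⁻¹ : ℂˣ) : ℂ) * S = S := by
    rw [hS, Finset.mul_sum, ← Equiv.sum_comp (Equiv.mulLeft h) (fun z => (((χ z)⁻¹ : ℂˣ) : ℂ))]
    refine Finset.sum_congr rfl fun w _ => ?_
    rw [Equiv.coe_mulLeft, map_mul, _root_.mul_inv_rev, Units.val_mul, mul_comm]
  have hne : (((χ h)⁻¹ : ℂˣ) : ℂ) - 1 ≠ 0 := by
    intro h0
    apply hh
    have : ((χ h)⁻¹ : ℂˣ) = 1 := Units.ext (by rw [Units.val_one]; exact sub_eq_zero.mp h0)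
    exact inv_eq_one.mp this
  have : ((((χ h)⁻¹ : ℂˣ) : ℂ) - 1) * S = 0 := by linear_combination h1
  exact (mul_eq_zero.mp this).resolve_left hne

variable [FiniteDimensional ℂ U]

theorem trace_eproj (τ : Representation ℂ Z U) (χ : Z →* ℂˣ) (a : ℂ)
    (ha : ∀ z : Z, z ≠ 1 → LinearMap.trace ℂ U (τ z) = a) :
    LinearMap.trace ℂ U (eproj τ χ) = (Fintype.card Z : ℂ)⁻¹ *
      (a * (∑ z : Z, (((χ z)⁻¹ : ℂˣ) : ℂ)) + ((finrank ℂ U : ℂ) - a)) := by
  classical
  unfold eproj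
  rw [map_smul, map_sum, smul_eq_mul]
  congr 1
  have h1 : ∀ z : Z, LinearMap.trace ℂ U ((((χ z)⁻¹ : ℂˣ) : ℂ) • τ z) =
      a * (((χ z)⁻¹ : ℂˣ) : ℂ) + (if z = 1 then ((finrank ℂ U : ℂ) - a) else 0) := by
    intro z
    rw [map_smul, smul_eq_mul]
    split_ifs with hz
    · subst hz
      rw [map_one, map_one, inv_one, Units.val_one, LinearMap.trace_one]
      ring
    · rw [ha z hz]; ring
  rw [Finset.sum_congr rfl (fun z _ => h1 z), Finset.sum_add_distrib, ← Finset.mul_sum,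
    Finset.sum_ite_eq' Finset.univ (1 : Z)]
  simp

/-- the abstract dimension formula -/
theorem finrank_eq (τ : Representation ℂ Z U)
    (htr : ∀ z z' : Z, z ≠ 1 → z' ≠ 1 → LinearMap.trace ℂ U (τ z) = LinearMap.trace ℂ U (τ z'))
    (χ : Z →* ℂˣ) (hχ : χ ≠ 1) :
    finrank ℂ U = finrank ℂ (wsp τ 1) + (Fintype.card Z - 1) * finrank ℂ (wsp τ χ) := by
  obtain ⟨z₀, hz₀⟩ : ∃ h : Z, χ h ≠ 1 := by
    by_contra hcon
    push Not at hcon
    exact hχ (MonoidHom.ext hcon)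
  have hz₀1 : z₀ ≠ 1 := by
    rintro rfl
    exact hz₀ (map_one χ)
  set a : ℂ := LinearMap.trace ℂ U (τ z₀) with ha
  have hconst : ∀ z : Z, z ≠ 1 → LinearMap.trace ℂ U (τ z) = a := fun z hz => htr z z₀ hz hz₀1
  have hn : (Fintype.card Z : ℂ) ≠ 0 := card_ne_zero'
  have h1 := (isProj_eproj τ (1 : Z →* ℂˣ)).trace
  have hχ' := (isProj_eproj τ χ).trace
  rw [trace_eproj τ 1 a hconst] at h1
  rw [trace_eproj τ χ a hconst, sum_inv_eq_zero χ hχ] at hχ'
  have hs1 : ∑ z : Z, ((((1 : Z →* ℂˣ) z)⁻¹ : ℂˣ) : ℂ) = (Fintype.card Z : ℂ) := by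
    simp
  rw [hs1] at h1
  have hpos : 1 ≤ Fintype.card Z := Fintype.card_pos
  have key : (finrank ℂ U : ℂ) = (finrank ℂ (wsp τ 1) : ℂ) +
      ((Fintype.card Z : ℂ) - 1) * (finrank ℂ (wsp τ χ) : ℂ) := by
    rw [← h1, ← hχ']
    field_simp
    ring
  have key' : ((finrank ℂ U : ℕ) : ℂ) = ((finrank ℂ (wsp τ 1) +
      (Fintype.card Z - 1) * finrank ℂ (wsp τ χ) : ℕ) : ℂ) := by
    rw [key]
    push_cast [Nat.cast_sub hpos]
    ring
  exact_mod_cast key'

end abstract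

end RWt

section R
variable {G : Type*} [Group G] {V : Type*} [AddCommGroup V] [Module ℂ V] [FiniteDimensional ℂ V]

/-- **[R-WT]** `dim V = dim C_V(Z) + (|Z|-1) dim V_χ` when all non-identity elements of `Z` are conjugate in `G` -/
theorem finrank_eq_fixedSp_add_wtSp (ρ : Representation ℂ G V) (Z : Subgroup G) [Finite Z]
    (hconj : ∀ z ∈ Z, ∀ z' ∈ Z, z ≠ 1 → z' ≠ 1 → ∃ g : G, g * z * g⁻¹ = z')
    (χ : ↥Z →* ℂˣ) (hχ : χ ≠ 1) :
    finrank ℂ V = finrank ℂ (fixedSp ρ Z) + (Nat.card Z - 1) * finrank ℂ (wtSp ρ Z χ) := by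
  classical
  haveI : Fintype ↥Z := Fintype.ofFinite _
  set τ : Representation ℂ ↥Z V := ρ.comp Z.subtype with hτ
  have htr : ∀ z z' : ↥Z, z ≠ 1 → z' ≠ 1 →
      LinearMap.trace ℂ V (τ z) = LinearMap.trace ℂ V (τ z') := by
    intro z z' hz hz'
    obtain ⟨g, hg⟩ := hconj z z.2 z' z'.2 (fun h => hz (Subtype.ext h)) (fun h => hz' (Subtype.ext h))
    have e1 : τ z' = ρ g * ρ (z : G) * ρ g⁻¹ := by
      rw [hτ, MonoidHom.comp_apply, Subgroup.coe_subtype, ← hg, map_mul, map_mul]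
    rw [e1, LinearMap.trace_mul_cycle, ← map_mul, inv_mul_cancel, map_one, one_mul]
    rfl
  have h := RWt.finrank_eq τ htr χ hχ
  have e1 : RWt.wsp τ 1 = fixedSp ρ Z := by
    ext v
    rw [RWt.mem_wsp, mem_fixedSp]
    constructor
    · intro hv z hz
      have := hv ⟨z, hz⟩
      simpa [hτ] using this
    · intro hv z
      have := hv z z.2
      simpa [hτ] using this
  have e2 : RWt.wsp τ χ = wtSp ρ Z χ := by
    ext v
    rw [RWt.mem_wsp, mem_wtSp]
    rfl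
  rw [e1, e2, ← Nat.card_eq_fintype_card] at h
  exact h

/-- **[R-WT]** relative version on an invariant subspace `U` -/
theorem finrank_eq_fixedSp_add_wtSp_rel (ρ : Representation ℂ G V) (U : Submodule ℂ V)
    (Z : Subgroup G) [Finite Z] (hZU : ∀ z ∈ Z, ∀ u ∈ U, ρ z u ∈ U)
    (hconj : ∀ z ∈ Z, ∀ z' ∈ Z, z ≠ 1 → z' ≠ 1 →
      ∃ g : G, g * z * g⁻¹ = z' ∧ (∀ u ∈ U, ρ g u ∈ U) ∧ (∀ u ∈ U, ρ g⁻¹ u ∈ U))
    (χ : ↥Z →* ℂˣ) (hχ : χ ≠ 1) :
    finrank ℂ U = finrank ℂ ↥(U ⊓ fixedSp ρ Z) +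
      (Nat.card Z - 1) * finrank ℂ ↥(U ⊓ wtSp ρ Z χ) := by
  classical
  haveI : Fintype ↥Z := Fintype.ofFinite _
  let τ : Representation ℂ ↥Z ↥U :=
    { toFun := fun z => (ρ (z : G)).restrict (hZU z z.2)
      map_one' := by
        ext u
        simp
      map_mul' := fun a b => by
        ext u
        simp }
  have hτ : ∀ (z : ↥Z) (u : ↥U), ((τ z u : ↥U) : V) = ρ (z : G) (u : V) := fun z u => rfl
  have htr : ∀ z z' : ↥Z, z ≠ 1 → z' ≠ 1 →
      LinearMap.trace ℂ ↥U (τ z) = LinearMap.trace ℂ ↥U (τ z') := by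
    intro z z' hz hz'
    obtain ⟨g, hg, hgU, hgU'⟩ :=
      hconj z z.2 z' z'.2 (fun h => hz (Subtype.ext h)) (fun h => hz' (Subtype.ext h))
    set A : Module.End ℂ ↥U := (ρ g).restrict hgU with hA
    set B : Module.End ℂ ↥U := (ρ g⁻¹).restrict hgU' with hB
    have e1 : τ z' = A * τ z * B := by
      ext u
      rw [Module.End.mul_apply, Module.End.mul_apply, hτ, hA, hB, LinearMap.coe_restrict_apply, hτ,
        LinearMap.coe_restrict_apply, ← hg, map_mul, map_mul, Module.End.mul_apply, Module.End.mul_apply]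
    have e2 : B * A = 1 := by
      ext u
      rw [Module.End.mul_apply, hA, hB, LinearMap.coe_restrict_apply, LinearMap.coe_restrict_apply,
        ← Module.End.mul_apply, ← map_mul, inv_mul_cancel, map_one]
      rfl
    rw [e1, LinearMap.trace_mul_cycle, e2, one_mul]
  have h := RWt.finrank_eq τ htr χ hχ
  have e1 : RWt.wsp τ 1 = Submodule.comap U.subtype (U ⊓ fixedSp ρ Z) := by
    ext u
    rw [RWt.mem_wsp, Submodule.mem_comap, Submodule.mem_inf, mem_fixedSp]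
    constructor
    · intro hu
      refine ⟨u.2, fun z hz => ?_⟩
      have := congrArg (fun w : ↥U => (w : V)) (hu ⟨z, hz⟩)
      simpa [hτ] using this
    · intro hu z
      apply Subtype.ext
      rw [hτ]
      have := hu.2 z z.2
      simpa using this
  have e2 : RWt.wsp τ χ = Submodule.comap U.subtype (U ⊓ wtSp ρ Z χ) := by
    ext u
    rw [RWt.mem_wsp, Submodule.mem_comap, Submodule.mem_inf, mem_wtSp]
    constructor
    · intro hu
      refine ⟨u.2, fun z => ?_⟩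
      have := congrArg (fun w : ↥U => (w : V)) (hu z)
      simpa [hτ] using this
    · intro hu z
      apply Subtype.ext
      rw [hτ]
      have := hu.2 z
      simpa using this
  rw [e1, e2, LinearEquiv.finrank_eq (Submodule.comapSubtypeEquivOfLe (inf_le_left : U ⊓ fixedSp ρ Z ≤ U)),
    LinearEquiv.finrank_eq (Submodule.comapSubtypeEquivOfLe (inf_le_left : U ⊓ wtSp ρ Z χ ≤ U)),
    ← Nat.card_eq_fintype_card] at h
  exact h

end R

end Cfsg.Agent.Lib.Helper43.SUMD
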