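import Mathlib
import Cfsg.Agent.Lib.Helper43.SUMD.Basic
import Cfsg.Agent.Lib.Helper95.SumdRWt
import Cfsg.Agent.Lib.Helper63.HHIndLA

/-!
# SUMD-[R-ISO] (helper43's project SUMD, S2334/S2335) (helper95)

`fixedSp_eq_top_of_iso`: if every linear character of the finite abelian subgroup `A` is trivial on one of the
subgroups `Zs i ≤ A` and all `C_V(Zs i)` equal `C_V(A)`, then `A` acts trivially.
-/

set_option autoImplicit false

namespace Cfsg.Agent.Lib.Helper43.SUMD

open Matrix Module Cfsg.Agent.S0837 Cfsg.Agent.S0781 Cfsg.Agent.S2644 Cfsg.Agent.Lib.Helper37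

namespace RIso

section abstract
variable {Z : Type*} [Group Z] [Fintype Z] {U : Type*} [AddCommGroup U] [Module ℂ U]

/-- the averaging operator absorbs the group action on the right -/
theorem eproj_one_comp (τ : Representation ℂ Z U) (a : Z) (x : U) :
    RWt.eproj τ 1 (τ a x) = RWt.eproj τ 1 x := by
  rw [RWt.eproj_apply, RWt.eproj_apply]
  congr 1
  rw [← Equiv.sum_comp (Equiv.mulRight a) (fun z => ((((1 : Z →* ℂˣ) z)⁻¹ : ℂˣ) : ℂ) • τ z x)]
  refine Finset.sum_congr rfl fun w _ => ?_
  simp only [Equiv.coe_mulRight, map_mul, Module.End.mul_apply, MonoidHom.one_apply, mul_one]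

end abstract

end RIso

section R
variable {G : Type*} [Group G] {V : Type*} [AddCommGroup V] [Module ℂ V] [FiniteDimensional ℂ V]

/-- **[R-ISO]** if every linear character of the abelian group `A` is trivial on one of the subgroups `Zs i`
and all `C_V(Zs i)` equal `C_V(A)`, then `A` acts trivially -/
theorem fixedSp_eq_top_of_iso (ρ : Representation ℂ G V) (A : Subgroup G) [Finite A]
    (hA : ∀ a ∈ A, ∀ b ∈ A, a * b = b * a) {ι : Type*} (Zs : ι → Subgroup G) (hle : ∀ i, Zs i ≤ A)
    (hiso : ∀ χ : ↥A →* ℂˣ, ∃ i, ∀ z : ↥A, (z : G) ∈ Zs i → χ z = 1)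
    (hfix : ∀ i, fixedSp ρ (Zs i) = fixedSp ρ A) : fixedSp ρ A = ⊤ := by
  classical
  haveI : Fintype ↥A := Fintype.ofFinite _
  set τ : Representation ℂ ↥A V := ρ.comp A.subtype with hτ
  have hτa : ∀ (a : ↥A) (x : V), τ a x = ρ (a : G) x := fun a x => rfl
  set e : Module.End ℂ V := RWt.eproj τ 1 with he
  have hproj : LinearMap.IsProj (RWt.wsp τ 1) e := RWt.isProj_eproj τ 1
  have hw1 : RWt.wsp τ 1 = fixedSp ρ A := by
    ext v
    rw [RWt.mem_wsp, mem_fixedSp]
    constructor
    · intro hv z hz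
      have := hv ⟨z, hz⟩
      simpa [hτ] using this
    · intro hv z
      have := hv z z.2
      simpa [hτ] using this
  rw [hw1] at hproj
  by_cases hK : LinearMap.ker e = ⊥
  · -- `e` injective, hence surjective
    have hinj : Function.Injective e := LinearMap.ker_eq_bot.mp hK
    have hsurj : Function.Surjective e := LinearMap.surjective_of_injective hinj
    rw [eq_top_iff]
    intro v _
    obtain ⟨x, rfl⟩ := hsurj v
    exact hproj.map_mem x
  · exfalso
    set K : Submodule ℂ V := LinearMap.ker e with hKdef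
    have hinv : ∀ (a : ↥A), ∀ x ∈ K, τ a x ∈ K := by
      intro a x hx
      rw [hKdef, LinearMap.mem_ker] at hx ⊢
      rw [he, RIso.eproj_one_comp τ a x]
      exact hx
    let τK : Representation ℂ ↥A ↥K :=
      { toFun := fun a => (τ a).restrict (hinv a)
        map_one' := by
          ext u
          simp
        map_mul' := fun a b => by
          ext u
          simp }
    have hτK : ∀ (a : ↥A) (u : ↥K), ((τK a u : ↥K) : V) = ρ (a : G) (u : V) := fun a u => rfl
    haveI : Nontrivial ↥K := Submodule.nontrivial_iff_ne_bot.mpr hK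
    have hcomm : ∀ a b : ↥A, τK a * τK b = τK b * τK a := by
      intro a b
      rw [← map_mul, ← map_mul]
      congr 1
      exact Subtype.ext (hA a a.2 b b.2)
    obtain ⟨χ₀, hχ₀⟩ := Cfsg.Agent.Lib.Helper63.HHIndLA.exists_common_eigenvector τK hcomm
    obtain ⟨x, hx, hx0⟩ := Submodule.exists_mem_ne_zero_of_ne_bot hχ₀
    have hxe : ∀ a : ↥A, τK a x = χ₀ a • x := by
      intro a
      have := (Submodule.mem_iInf _).mp hx a
      exact Module.End.mem_eigenspace_iff.mp this
    have hxV : ∀ a : ↥A, ρ (a : G) (x : V) = χ₀ a • (x : V) := by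
      intro a
      have := congrArg (fun w : ↥K => (w : V)) (hxe a)
      simpa [hτK] using this
    have hxV0 : (x : V) ≠ 0 := fun h => hx0 (Subtype.ext h)
    have h1 : χ₀ 1 = 1 := by
      have := hxV 1
      rw [OneMemClass.coe_one, map_one, Module.End.one_apply] at this
      have h' : (χ₀ 1 - 1) • (x : V) = 0 := by rw [sub_smul, one_smul, ← this, sub_self]
      rcases smul_eq_zero.mp h' with h | h
      · exact sub_eq_zero.mp h
      · exact absurd h hxV0
    have hmul : ∀ a b : ↥A, χ₀ (a * b) = χ₀ a * χ₀ b := by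
      intro a b
      have := hxV (a * b)
      rw [Subgroup.coe_mul, map_mul, Module.End.mul_apply, hxV b, map_smul, hxV a, smul_smul] at this
      have h' : (χ₀ (a * b) - χ₀ b * χ₀ a) • (x : V) = 0 := by rw [sub_smul, ← this, sub_self]
      rcases smul_eq_zero.mp h' with h | h
      · rw [sub_eq_zero.mp h, mul_comm]
      · exact absurd h hxV0
    let f : ↥A →* ℂ := ⟨⟨χ₀, h1⟩, hmul⟩
    set χ : ↥A →* ℂˣ := f.toHomUnits with hχ
    have hχv : ∀ a : ↥A, ((χ a : ℂˣ) : ℂ) = χ₀ a := fun a => rfl
    obtain ⟨i, hi⟩ := hiso χ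
    have hxfix : (x : V) ∈ fixedSp ρ (Zs i) := by
      intro z hz
      have h2 := hi ⟨z, hle i hz⟩ hz
      have h3 := hxV ⟨z, hle i hz⟩
      rw [← hχv, h2, Units.val_one, one_smul] at h3
      exact h3
    rw [hfix i] at hxfix
    have h4 : e (x : V) = (x : V) := hproj.map_id _ hxfix
    have h5 : e (x : V) = 0 := LinearMap.mem_ker.mp x.2
    exact hxV0 (h4.symm.trans h5)

end R

end Cfsg.Agent.Lib.Helper43.SUMD
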