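import Mathlib
import Cfsg.Agent.Lib.Helper43.SUMD.Basic
import Cfsg.Agent.Lib.Helper87.SumdFCard

/-!
# SUMD-[U-Z] (helper43's project SUMD, S2334/S2335): the transvection groups `Z_v` (helper95, hedge)
-/

set_option autoImplicit false

namespace Cfsg.Agent.Lib.Helper43.SUMD

open Matrix Module Cfsg.Agent.S0837 Cfsg.Agent.S0781 Cfsg.Agent.S2644 Cfsg.Agent.Lib.Helper37

namespace UZ

section aux
variable {F : Type*} [Field F] (σ : F →+* F) {n : ℕ}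

/-- the transvection parameter is determined by the matrix (for `v ≠ 0`) -/
theorem tv_injective (hσ2 : ∀ a, σ (σ a) = a) (v : Fin n → F) (hv0 : v ≠ 0) {c c' : F}
    (h : tv σ v c = tv σ v c') : c = c' := by
  obtain ⟨i, hi⟩ : ∃ i, v i ≠ 0 := by
    by_contra hcon
    push Not at hcon
    exact hv0 (funext hcon)
  -- a vector `x` with `h(x, v) ≠ 0`
  set x : Fin n → F := Pi.single i 1 with hx
  have hxv : hf σ x v = σ (v i) := by
    unfold hf
    rw [Finset.sum_eq_single i]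
    · rw [hx, Pi.single_eq_same, one_mul]
    · intro j _ hji
      rw [hx, Pi.single_eq_of_ne hji, zero_mul]
    · intro h; exact absurd (Finset.mem_univ i) h
  have hne : hf σ x v ≠ 0 := by
    rw [hxv]
    intro h0
    apply hi
    rw [← hσ2 (v i), h0, map_zero]
  have h1 := congrArg (fun M => M *ᵥ x) h
  simp only [tv_mulVec] at h1
  have h2 : (c * hf σ x v) • v = (c' * hf σ x v) • v := add_left_cancel h1
  have h3 := congrFun h2 i
  simp only [Pi.smul_apply, smul_eq_mul] at h3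
  have h4 : c * hf σ x v = c' * hf σ x v := mul_right_cancel₀ hi h3
  exact mul_right_cancel₀ hne h4

theorem tv_zero_param (v : Fin n → F) : tv σ v 0 = 1 := by
  apply Matrix.toLin'.injective
  apply LinearMap.ext
  intro x
  rw [Matrix.toLin'_apply, tv_mulVec, zero_mul, zero_smul, add_zero, Matrix.toLin'_one]
  rfl

end aux

end UZ

section U
variable {F : Type*} [Field F] [Fintype F] (σ : F →+* F) {n : ℕ}

/-- **[U-Z]** `|Z_v| = q` -/
theorem card_Zsub {q : ℕ} (hF : Fintype.card F = q ^ 2) (hσq : ∀ x, σ x = x ^ q)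
    (hσ2 : ∀ a, σ (σ a) = a) (v : Fin n → F) (hv0 : v ≠ 0) (hv : hf σ v v = 0) :
    Nat.card (Zsub σ v hv) = q := by
  rw [← card_trace_zero σ hF hσq]
  symm
  apply Nat.card_congr
  refine Equiv.ofBijective
    (fun c : {c : F // c + σ c = 0} => (⟨tvS σ hσ2 v c.1 hv c.2, tvS_mem_Zsub σ hσ2 v c.1 hv c.2⟩ :
      ↥(Zsub σ v hv))) ⟨?_, ?_⟩
  · intro c c' h
    have h1 := congrArg (fun g : ↥(Zsub σ v hv) => smat (g : ↥(SUg σ n))) h
    simp only [smat_tvS] at h1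
    exact Subtype.ext (UZ.tv_injective σ hσ2 v hv0 h1)
  · rintro ⟨g, c, hc, hg⟩
    refine ⟨⟨c, hc⟩, ?_⟩
    apply Subtype.ext
    apply smat_injective
    rw [hg]
    rfl

/-- **[U-Z]** all non-identity elements of `Z_v` are conjugate in `SU_n`, `n ≥ 3` -/
theorem Zsub_conj_elts (hσ : σ ≠ RingHom.id F) (hσ2 : ∀ a, σ (σ a) = a) (hn : 3 ≤ n)
    (v : Fin n → F) (hv0 : v ≠ 0) (hv : hf σ v v = 0) :
    ∀ z ∈ Zsub σ v hv, ∀ z' ∈ Zsub σ v hv, z ≠ 1 → z' ≠ 1 →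
      ∃ g : ↥(SUg σ n), g * z * g⁻¹ = z' := by
  rintro z ⟨c, hc, hz⟩ z' ⟨c', hc', hz'⟩ hz1 hz'1
  have hc0 : c ≠ 0 := by
    rintro rfl
    apply hz1
    apply smat_injective
    rw [hz, smat_one, UZ.tv_zero_param]
  have hc'0 : c' ≠ 0 := by
    rintro rfl
    apply hz'1
    apply smat_injective
    rw [hz', smat_one, UZ.tv_zero_param]
  obtain ⟨M, hdet, hM, hconj⟩ := exists_conj σ hσ hσ2 hn v v c c' hv0 hv0 hc0 hc'0 hv hv hc hc'
  refine ⟨mkS M hdet hM, ?_⟩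
  apply smat_injective
  rw [smat_mul, smat_mul, smat_mkS, hz, hconj, hz', Matrix.mul_assoc]
  have : M * smat (mkS M hdet hM)⁻¹ = 1 := by
    have := smat_mul_inv (mkS M hdet hM)
    rwa [smat_mkS] at this
  rw [this, Matrix.mul_one]

/-- **[U-Z]** `Z_v` is abelian -/
theorem Zsub_comm (v : Fin n → F) (hv : hf σ v v = 0) :
    ∀ a ∈ Zsub σ v hv, ∀ b ∈ Zsub σ v hv, a * b = b * a := by
  rintro a ⟨c, hc, ha⟩ b ⟨c', hc', hb⟩
  apply smat_injective
  rw [smat_mul, smat_mul, ha, hb, tv_mul_tv σ v hv, tv_mul_tv σ v hv, add_comm]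

/-- **[U-Z]** `g Z_v g⁻¹ = Z_{g v}` -/
theorem Zsub_map_conj (hσ2 : ∀ a, σ (σ a) = a) (v : Fin n → F) (hv : hf σ v v = 0)
    (g : ↥(SUg σ n)) :
    (Zsub σ v hv).map (MulAut.conj g).toMonoidHom =
      Zsub σ (smat g *ᵥ v) (by rw [smat_preserves, hv]) := by
  ext h
  rw [Subgroup.mem_map, mem_Zsub]
  constructor
  · rintro ⟨x, ⟨c, hc, hx⟩, rfl⟩
    refine ⟨c, hc, ?_⟩
    show smat (g * x * g⁻¹) = _
    rw [smat_mul, smat_mul, hx, tv_conj σ (smat g) (smat_preserves g) v c, Matrix.mul_assoc,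
      smat_mul_inv, Matrix.mul_one]
  · rintro ⟨c, hc, hh⟩
    refine ⟨g⁻¹ * h * g, ⟨c, hc, ?_⟩, ?_⟩
    · rw [smat_mul, smat_mul, hh, Matrix.mul_assoc, ← tv_conj σ (smat g) (smat_preserves g) v c,
        ← Matrix.mul_assoc, smat_inv_mul, Matrix.one_mul]
    · show g * (g⁻¹ * h * g) * g⁻¹ = h
      group

/-- **[U-Z]** `Z_{a v} = Z_v` -/
theorem Zsub_smul (hσ2 : ∀ a, σ (σ a) = a) (v : Fin n → F) (hv : hf σ v v = 0) (a : F)
    (ha : a ≠ 0) :
    Zsub σ (a • v) (by rw [hf_smul_left, hf_smul_right, hv, mul_zero, mul_zero]) = Zsub σ v hv := by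
  have hσa : σ a ≠ 0 := (map_ne_zero σ).mpr ha
  have hN : a * σ a ≠ 0 := mul_ne_zero ha hσa
  have hNfix : σ (a * σ a) = a * σ a := by rw [map_mul, hσ2, mul_comm]
  ext g
  rw [mem_Zsub, mem_Zsub]
  constructor
  · rintro ⟨c, hc, hg⟩
    refine ⟨c * (a * σ a), ?_, ?_⟩
    · rw [map_mul, hNfix, ← add_mul, hc, zero_mul]
    · rw [hg, tv_smul_center σ hσ2]
  · rintro ⟨c, hc, hg⟩
    refine ⟨c / (a * σ a), ?_, ?_⟩
    · rw [map_div₀, hNfix, ← add_div, hc, zero_div]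
    · rw [hg, tv_smul_center σ hσ2, div_mul_cancel₀ _ hN]

/-- **[U-Z]** `SU_n` is transitive on non-zero isotropic vectors, `n ≥ 3` -/
theorem exists_smat_mulVec_eq (hσ : σ ≠ RingHom.id F) (hσ2 : ∀ a, σ (σ a) = a) (hn : 3 ≤ n)
    (z z' : Fin n → F) (hz0 : z ≠ 0) (hz'0 : z' ≠ 0) (hz : hf σ z z = 0) (hz' : hf σ z' z' = 0) :
    ∃ g : ↥(SUg σ n), smat g *ᵥ z = z' := by
  obtain ⟨t, ht, htz⟩ := rel_isotropic σ hσ hσ2 hn z z' hz0 hz'0 hz hz'
  exact ⟨⟨t, TG_le_SUg hσ2 ht⟩, htz⟩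

end U

end Cfsg.Agent.Lib.Helper43.SUMD
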