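import Mathlib
import Cfsg.Agent.Lib.Helper43.SUMD.Basic

/-!
# SUMD-[R-CHAR] (helper43's project SUMD) (helper95, hedge)
-/

set_option autoImplicit false

namespace Cfsg.Agent.Lib.Helper43.SUMD

open Matrix Module Cfsg.Agent.S0837 Cfsg.Agent.S0781 Cfsg.Agent.S2644 Cfsg.Agent.Lib.Helper37

section R
variable {G : Type*} [Group G]

/-- **[R-CHAR]** a non-trivial finite abelian subgroup has a non-trivial linear character -/
theorem exists_char_ne_one (Z : Subgroup G) [Finite Z] (hZ : ∀ a ∈ Z, ∀ b ∈ Z, a * b = b * a)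
    (hne : Z ≠ ⊥) : ∃ χ : ↥Z →* ℂˣ, χ ≠ 1 := by
  obtain ⟨a, ha, ha1⟩ : ∃ a ∈ Z, a ≠ 1 := by
    by_contra hcon
    push Not at hcon
    exact hne ((Subgroup.eq_bot_iff_forall Z).mpr hcon)
  letI inst : CommGroup ↥Z :=
    { (inferInstance : Group ↥Z) with
      mul_comm := fun x y => Subtype.ext (hZ x x.2 y y.2) }
  have hne1 : (⟨a, ha⟩ : ↥Z) ≠ 1 := fun h => ha1 (congrArg Subtype.val h)
  haveI : NeZero (Monoid.exponent ↥Z) := ⟨Monoid.exponent_ne_zero_of_finite⟩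
  obtain ⟨φ, hφ⟩ := CommGroup.exists_apply_ne_one_of_hasEnoughRootsOfUnity ↥Z ℂ hne1
  refine ⟨φ, ?_⟩
  intro h
  apply hφ
  rw [h]
  rfl

end R

end Cfsg.Agent.Lib.Helper43.SUMD
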