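import Mathlib
import Cfsg.Agent.Lib.Helper36.HermOrtho

set_option autoImplicit false

namespace Cfsg.Agent.Lib.Helper95.GramFactor

open Matrix Module

/-- the sesquilinear form `B u v = ∑ i, σ (u i) * (M *ᵥ v) i`. -/
noncomputable def sesq {F : Type*} [Field F] (σ : F →+* F) {ι : Type*} [Fintype ι] [DecidableEq ι]
    (M : Matrix ι ι F) : (ι → F) →ₛₗ[σ] (ι → F) →ₗ[F] F :=
  LinearMap.mk₂'ₛₗ σ (RingHom.id F) (fun u v => ∑ i, σ (u i) * (M *ᵥ v) i)
    (by intro u u' v; simp [add_mul, Finset.sum_add_distrib])
    (by intro c u v; simp [Finset.mul_sum, mul_assoc])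
    (by intro u v v'; simp [Matrix.mulVec_add, mul_add, Finset.sum_add_distrib])
    (by intro c u v; simp [Matrix.mulVec_smul, Finset.mul_sum, mul_left_comm])

theorem sesq_apply {F : Type*} [Field F] (σ : F →+* F) {ι : Type*} [Fintype ι] [DecidableEq ι]
    (M : Matrix ι ι F) (u v : ι → F) : sesq σ M u v = ∑ i, σ (u i) * (M *ᵥ v) i := rfl

theorem exists_gram_factor {F : Type*} [Field F] [Finite F] (σ : F →+* F) (hσ : σ ≠ RingHom.id F)
    (hσ2 : ∀ a : F, σ (σ a) = a) {ι : Type*} [Fintype ι] [DecidableEq ι] (G : Matrix ι ι F)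
    (hG : Gᵀ = G.map σ) (hdet : G.det ≠ 0) :
    ∃ P Pi : Matrix ι ι F, P * Pi = 1 ∧ Pᵀ * σ.mapMatrix P = G := by
  classical
  obtain ⟨M, hM⟩ : ∃ M : Matrix ι ι F, M = Gᵀ := ⟨_, rfl⟩
  have hMdet : M.det ≠ 0 := by rw [hM, Matrix.det_transpose]; exact hdet
  have hMσ : ∀ i j, σ (M i j) = M j i := by
    intro i j
    have := congrFun (congrFun hG j) i
    simp only [Matrix.transpose_apply, Matrix.map_apply] at this
    simp only [hM, Matrix.transpose_apply]
    exact this.symm
  set B := sesq σ M with hB
  have hS : B.IsSymm := by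
    refine ⟨fun u v => ?_⟩
    simp only [hB, sesq_apply, Matrix.mulVec, dotProduct, RingHom.id_apply, map_sum, map_mul, hσ2,
      Finset.mul_sum]
    rw [Finset.sum_comm]
    refine Finset.sum_congr rfl fun j _ => Finset.sum_congr rfl fun i _ => ?_
    rw [hMσ]; ring
  have hinj : Function.Injective σ := σ.injective
  have hunit : IsUnit M := (Matrix.isUnit_iff_isUnit_det M).mpr (isUnit_iff_ne_zero.mpr hMdet)
  have hND : B.Nondegenerate := by
    constructor
    · intro u hu
      have h1 : Matrix.vecMul (fun i => σ (u i)) M = 0 := by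
        funext j
        have := hu (Pi.single j 1)
        simp only [hB, sesq_apply, Matrix.mulVec_single, MulOpposite.op_one, one_smul] at this
        simpa [Matrix.vecMul, dotProduct] using this
      have h2 : (fun i => σ (u i)) = 0 := by
        have := Matrix.vecMul_injective_of_isUnit hunit (by simpa using h1 : Matrix.vecMul (fun i => σ (u i)) M = Matrix.vecMul 0 M)
        exact this
      funext i
      have := congrFun h2 i
      simp only [Pi.zero_apply] at this
      exact hinj (by simpa using this)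
    · intro v hv
      have h1 : M *ᵥ v = 0 := by
        funext i
        have := hv (Pi.single i 1)
        simp only [hB, sesq_apply] at this
        rw [Finset.sum_eq_single i] at this
        · simpa using this
        · intro j _ hji; simp [Pi.single_eq_of_ne hji]
        · intro h; exact absurd (Finset.mem_univ i) h
      exact Matrix.mulVec_injective_of_isUnit hunit (by simpa using h1)
  obtain ⟨b, hb⟩ := Cfsg.Agent.Lib.Helper36.exists_orthonormal_basis σ hσ hσ2 B hS hND
  have hcard : finrank F (ι → F) = Fintype.card ι := Module.finrank_fintype_fun_eq_card F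
  let e : Fin (finrank F (ι → F)) ≃ ι := (Fintype.equivOfCardEq (by simp [hcard]))
  set T : Matrix ι ι F := fun i j => b (e.symm j) i with hT
  have h1 : (T.map σ)ᵀ * M * T = 1 := by
    ext k l
    have := hb (e.symm k) (e.symm l)
    simp only [hB, sesq_apply] at this
    rw [Matrix.mul_apply]
    simp only [Matrix.mul_apply, Matrix.transpose_apply, Matrix.map_apply, Matrix.one_apply,
      EmbeddingLike.apply_eq_iff_eq] at this ⊢
    rw [← this]
    simp only [hT, Matrix.mulVec, dotProduct, Finset.mul_sum, Finset.sum_mul]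
    rw [Finset.sum_comm]
    refine Finset.sum_congr rfl fun i _ => Finset.sum_congr rfl fun j _ => ?_
    ring
  have h2 : T * ((T.map σ)ᵀ * M) = 1 := mul_eq_one_comm.mp h1
  refine ⟨(T.map σ)ᵀ * M, T, mul_eq_one_comm.mp h2, ?_⟩
  have h3 : G * (T.map σ * Tᵀ) = 1 := by
    have := congrArg Matrix.transpose h2
    simp only [Matrix.transpose_mul, Matrix.transpose_transpose, Matrix.transpose_one, hM] at this
    rw [Matrix.mul_assoc] at this
    exact this
  have h4 : T.map σ * Tᵀ * G = 1 := mul_eq_one_comm.mp h3
  have hMmap : M.map σ = G := by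
    ext i j
    rw [Matrix.map_apply, hMσ, hM, Matrix.transpose_apply]
  have hPmap : ((T.map σ)ᵀ * M).map σ = Tᵀ * G := by
    rw [Matrix.map_mul, hMmap]
    congr 1
    ext i j
    simp [hσ2]
  have hPt : ((T.map σ)ᵀ * M)ᵀ = G * T.map σ := by
    rw [Matrix.transpose_mul, Matrix.transpose_transpose, hM, Matrix.transpose_transpose]
  rw [RingHom.mapMatrix_apply, hPt, hPmap, Matrix.mul_assoc, ← Matrix.mul_assoc (T.map σ), h4,
    Matrix.mul_one]

end Cfsg.Agent.Lib.Helper95.GramFactor
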