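/-
helper95: S5634 project (helper43), module S5634-[SL-TINV]: the transpose-inverse automorphism
preserves the monomial group and the hypotheses `SLHyp`.
-/
import Mathlib
import Cfsg.Agent.Lib.Helper43.MonoStar
set_option autoImplicit false
namespace Cfsg.Agent.Lib.Helper95
open Matrix Cfsg.Geo Cfsg.Agent.Lib.Helper93 Cfsg.Agent.Lib.Helper43
variable {ι : Type} [Fintype ι] [DecidableEq ι] {F : Type*} [Field F]

theorem tinv_mem_Mono_iff (g : GL ι F) : tinv g ∈ Mono ι F ↔ g ∈ Mono ι F := by
  have h1 : tinv g ∈ Mono ι F ↔ g⁻¹ ∈ Mono ι F := by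
    rw [mem_Mono_iff_row_unique, mem_Mono_iff_col_unique]
    constructor
    · intro h i i' j hi hi'
      exact h j i i' (by rw [tinv_apply]; exact hi) (by rw [tinv_apply]; exact hi')
    · intro h i j j' hj hj'
      rw [tinv_apply] at hj hj'
      exact h j j' i hj hj'
  rw [h1, Subgroup.inv_mem_iff]

/-- `tinv` preserves the determinant-one condition -/
theorem mono95_tinv_mem_specialLinear_iff (g : GL ι F) :
    tinv g ∈ specialLinear ι F ↔ g ∈ specialLinear ι F := by
  rw [mem_specialLinear_iff, mem_specialLinear_iff, tinv_val, Matrix.det_transpose]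
  have h : ((g⁻¹ : GL ι F) : Matrix ι ι F).det * (g : Matrix ι ι F).det = 1 := by
    rw [← Matrix.det_mul, ← Units.val_mul, inv_mul_cancel, Units.val_one, Matrix.det_one]
  constructor
  · intro h1
    rw [h1, one_mul] at h
    exact h
  · intro h1
    rw [h1, mul_one] at h
    exact h

/-- `tinv` of an elementary transvection -/
theorem mono95_tinv_elemTv (i j : ι) (hij : i ≠ j) (b : F) :
    tinv (elemTv i j hij b) = elemTv j i hij.symm (-b) := by
  apply Units.ext
  ext r s
  rw [tinv_apply, elemTv_apply]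
  have hinv : (((elemTv i j hij b)⁻¹ : GL ι F) : Matrix ι ι F) =
      tvMat (Pi.single i b) (-(Pi.single j (1 : F))) := rfl
  rw [hinv, tvMat, Matrix.add_apply, Matrix.one_apply, Matrix.vecMulVec_apply, Pi.neg_apply,
    Pi.single_apply, Pi.single_apply]
  by_cases hrs : r = s
  · subst hrs
    by_cases hri : r = i
    · have hrj : r ≠ j := fun h => hij (hri.symm.trans h)
      simp [hri, hij]
    · simp [hri]
  · have hsr : ¬ s = r := fun h => hrs h.symm
    rw [if_neg hsr, if_neg hrs]
    by_cases hsi : s = i <;> by_cases hrj : r = j <;> simp [hsi, hrj]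

theorem slHyp_map_tinv {M : Subgroup (GL ι F)} (hM : SLHyp M) :
    SLHyp (M.map (tinv : GL ι F ≃* GL ι F).toMonoidHom) := by
  refine ⟨?_, ?_, ?_⟩
  · intro x hx
    rw [Subgroup.mem_inf] at hx
    refine ⟨tinv x, hM.mono_le ?_, ?_⟩
    · rw [Subgroup.mem_inf]
      exact ⟨(tinv_mem_Mono_iff x).2 hx.1, (mono95_tinv_mem_specialLinear_iff x).2 hx.2⟩
    · exact tinv_tinv x
  · rintro x ⟨m, hm, rfl⟩
    exact (mono95_tinv_mem_specialLinear_iff m).2 (hM.le_sl hm)
  · intro i j hij b hb
    obtain ⟨m, hm, hmx⟩ := hb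
    have hm' : m = elemTv j i hij.symm (-b) := by
      have : tinv (tinv m) = tinv (elemTv i j hij b) := congrArg tinv hmx
      rw [tinv_tinv, mono95_tinv_elemTv] at this
      exact this
    rw [hm'] at hm
    have := hM.net j i hij.symm (-b) hm
    exact neg_eq_zero.1 this

end Cfsg.Agent.Lib.Helper95
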