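/-
helper95: S5634 project (helper43), module S5634-[SL-SECHYP]: for `M` between the monomial group of
determinant one and `SL` without elementary transvections, the line-stabiliser sections `secSL M i₀`
satisfy the hypotheses `GLHyp` of the GL-theorem.
-/
import Mathlib
import Cfsg.Agent.Lib.Helper43.MonoStar
import Cfsg.Agent.Lib.Helper29.MonoSLL2
set_option autoImplicit false
namespace Cfsg.Agent.Lib.Helper95
open Matrix Cfsg.Geo Cfsg.Agent.Lib.Helper93 Cfsg.Agent.Lib.Helper43
open Cfsg.Agent.Lib.Helper29 (sl_uni_row_eq_one)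
variable {F : Type*} [Field F]

/-- the matrix of an element of `GL` (explicit index types help elaboration) -/
local notation "mt[" k "]" g => ((g : GL (Fin (k + 1)) F) : Matrix (Fin (k + 1)) (Fin (k + 1)) F)

/-- entries of `dg D * h * (dg D)⁻¹` -/
theorem sech_conj_apply {ι : Type} [Fintype ι] [DecidableEq ι] (D : ι → Fˣ) (h : GL ι F) (i l : ι) :
    ((dg D * h * (dg D)⁻¹ : GL ι F) : Matrix ι ι F) i l =
      (D i : F) * (h : Matrix ι ι F) i l * (((D l)⁻¹ : Fˣ) : F) := by
  rw [dg_inv, mul_dg_apply, dg_mul_apply]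
  rfl

/-- if column `i₀` of `h` is `c e_{i₀}` then column `i₀` of `h⁻¹` is `c⁻¹ e_{i₀}` -/
theorem sech_inv_col {k : ℕ} (i₀ : Fin (k + 1)) (h : GL (Fin (k + 1)) F)
    (hcol : ∀ a, (h : Matrix _ _ F) (i₀.succAbove a) i₀ = 0) :
    (h : Matrix _ _ F) i₀ i₀ * ((h⁻¹ : GL (Fin (k + 1)) F) : Matrix _ _ F) i₀ i₀ = 1 ∧
      ∀ a, ((h⁻¹ : GL (Fin (k + 1)) F) : Matrix _ _ F) (i₀.succAbove a) i₀ = 0 := by
  have hcol' : ∀ l, l ≠ i₀ → (h : Matrix _ _ F) l i₀ = 0 := by
    intro l hl
    rcases Fin.eq_self_or_eq_succAbove i₀ l with h1 | ⟨a, rfl⟩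
    · exact absurd h1 hl
    · exact hcol a
  have key : ∀ j, ((h⁻¹ : GL (Fin (k + 1)) F) : Matrix _ _ F) j i₀ * (h : Matrix _ _ F) i₀ i₀ =
      if j = i₀ then 1 else 0 := by
    intro j
    have h1 : ((mt[k] h⁻¹) * (mt[k] h)) j i₀ = if j = i₀ then 1 else 0 := by
      rw [← Units.val_mul, inv_mul_cancel, Units.val_one, Matrix.one_apply]
    rw [Matrix.mul_apply, Finset.sum_eq_single i₀] at h1
    · exact h1
    · intro l _ hl
      rw [hcol' l hl, mul_zero]
    · intro hn; exact absurd (Finset.mem_univ _) hn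
  have h00 := key i₀
  rw [if_pos rfl] at h00
  have hc : (h : Matrix _ _ F) i₀ i₀ ≠ 0 := by
    intro h0
    rw [h0, mul_zero] at h00
    exact zero_ne_one h00
  refine ⟨by rw [mul_comm]; exact h00, fun a => ?_⟩
  have := key (i₀.succAbove a)
  rw [if_neg (Fin.succAbove_ne i₀ a)] at this
  exact (mul_eq_zero.1 this).resolve_right hc

/-- key step: a diagonal element with entry `1` at `i₀` whose conjugation fixes the rows `≠ i₀` of
`h` kills the entries of row `i₀` of `h` where it is not `1` -/
theorem sech_beta {k : ℕ} (hk : 3 ≤ k) (hμ : ∃ μ : Fˣ, μ ≠ 1)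
    {M : Subgroup (GL (Fin (k + 1)) F)} (hM : SLHyp M) (i₀ : Fin (k + 1))
    {h : GL (Fin (k + 1)) F} (hh : h ∈ M)
    (hcol : ∀ a, (h : Matrix _ _ F) (i₀.succAbove a) i₀ = 0)
    (D : Fin (k + 1) → Fˣ) (hD0 : D i₀ = 1) (hDM : dg D ∈ M)
    (hrows : ∀ a l, (D (i₀.succAbove a) : F) * (h : Matrix _ _ F) (i₀.succAbove a) l *
      (((D l)⁻¹ : Fˣ) : F) = (h : Matrix _ _ F) (i₀.succAbove a) l) (b : Fin k) :
    (h : Matrix _ _ F) i₀ (i₀.succAbove b) * ((((D (i₀.succAbove b))⁻¹ : Fˣ) : F) - 1) = 0 := by
  have hT : ∀ d : Fin (k + 1) → Fˣ, ∏ i, d i = 1 → dg d ∈ M := fun d hd =>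
    hM.mono_le (Subgroup.mem_inf.2 ⟨dg_mem_Mono d, dg_mem_specialLinear hd⟩)
  set x : GL (Fin (k + 1)) F := dg D * h * (dg D)⁻¹ * h⁻¹ with hx
  have hxM : x ∈ M := M.mul_mem (M.mul_mem (M.mul_mem hDM hh) (M.inv_mem hDM)) (M.inv_mem hh)
  obtain ⟨hinv0, hinva⟩ := sech_inv_col i₀ h hcol
  have hinvcol : ∀ l, l ≠ i₀ → ((h⁻¹ : GL (Fin (k + 1)) F) : Matrix _ _ F) l i₀ = 0 := by
    intro l hl
    rcases Fin.eq_self_or_eq_succAbove i₀ l with h1 | ⟨a, rfl⟩
    · exact absurd h1 hl
    · exact hinva a
  have hrow : ∀ i j, i ≠ i₀ → (x : Matrix _ _ F) i j = if i = j then 1 else 0 := by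
    intro i j hi
    rcases Fin.eq_self_or_eq_succAbove i₀ i with h1 | ⟨a, rfl⟩
    · exact absurd h1 hi
    · rw [hx, Units.val_mul, Matrix.mul_apply]
      have : ∀ l : Fin (k + 1), (mt[k] (dg D * h * (dg D)⁻¹)) (i₀.succAbove a) l =
          (mt[k] h) (i₀.succAbove a) l := fun l => by rw [sech_conj_apply, hrows]
      simp only [this]
      rw [← Matrix.mul_apply, ← Units.val_mul, mul_inv_cancel, Units.val_one, Matrix.one_apply]
  have hdiag : (x : Matrix _ _ F) i₀ i₀ = 1 := by
    rw [hx, Units.val_mul, Matrix.mul_apply, Finset.sum_eq_single i₀]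
    · rw [sech_conj_apply, hD0]
      simp only [Units.val_one, inv_one, one_mul, mul_one]
      exact hinv0
    · intro l _ hl
      rw [hinvcol l hl, mul_zero]
    · intro hn; exact absurd (Finset.mem_univ _) hn
  have hcard : 4 ≤ Fintype.card (Fin (k + 1)) := by rw [Fintype.card_fin]; omega
  have hx1 : x = 1 := sl_uni_row_eq_one hμ hcard hT hM.net i₀ hxM hrow hdiag
  have hconj : dg D * h * (dg D)⁻¹ = h := by
    have := hx1
    rw [hx, mul_inv_eq_one] at this
    exact this
  have h2 := congrArg (fun g : GL (Fin (k + 1)) F => (g : Matrix _ _ F) i₀ (i₀.succAbove b)) hconj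
  simp only [sech_conj_apply, hD0, Units.val_one, one_mul] at h2
  rw [mul_sub, mul_one, h2, sub_self]

theorem glHyp_secSL [Fintype F] (hq : 4 ≤ Fintype.card F) {k : ℕ} (hk : 5 ≤ k)
    {M : Subgroup (GL (Fin (k + 1)) F)} (hM : SLHyp M) (i₀ : Fin (k + 1)) :
    GLHyp (secSL M i₀) := by
  classical
  -- a unit `δ` with `δ² ≠ 1`
  have hδ : ∃ δ : Fˣ, δ ^ 2 ≠ 1 := by
    by_contra hcon
    push Not at hcon
    -- every unit is `±1`, so `F ⊆ {0, 1, -1}`
    have hsub : (Finset.univ : Finset F) ⊆ {0, 1, -1} := by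
      intro y _
      by_cases hy : y = 0
      · simp [hy]
      · have h2 := hcon (Units.mk0 y hy)
        have h3 : y ^ 2 = 1 := by
          have := congrArg (fun u : Fˣ => (u : F)) h2
          simpa using this
        have h4 : (y - 1) * (y + 1) = 0 := by ring_nf; rw [h3]; ring
        rcases mul_eq_zero.1 h4 with h5 | h5
        · have : y = 1 := sub_eq_zero.1 h5
          simp [this]
        · have : y = -1 := eq_neg_of_add_eq_zero_left h5
          simp [this]
    have hc := Finset.card_le_card hsub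
    rw [Finset.card_univ] at hc
    have : ({0, 1, -1} : Finset F).card ≤ 3 := Finset.card_le_three
    omega
  obtain ⟨δ, hδ2⟩ := hδ
  have hδ1 : δ ≠ 1 := by
    rintro rfl
    exact hδ2 (one_pow 2)
  have hμ : ∃ μ : Fˣ, μ ≠ 1 := ⟨δ, hδ1⟩
  refine ⟨?_, ?_⟩
  · -- the monomial group lies in the section
    intro C hC
    rw [mem_secSL]
    set c : Fˣ := (Matrix.GeneralLinearGroup.det C)⁻¹ with hc
    refine ⟨dg1 i₀ c * embSA i₀ C, hM.mono_le (Subgroup.mem_inf.2 ⟨?_, ?_⟩), ?_, ?_⟩
    · exact (Mono _ F).mul_mem (dg1_mem_Mono _ _) ((embSA_mem_Mono_iff i₀ C).2 hC)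
    · rw [mem_specialLinear_iff, Units.val_mul, Matrix.det_mul, det_embSA]
      unfold dg1
      rw [det_dg, Finset.prod_eq_single i₀]
      · rw [Function.update_self, hc]
        have : ((Matrix.GeneralLinearGroup.det C : Fˣ) : F) =
            (C : Matrix (Fin k) (Fin k) F).det := rfl
        rw [← this, ← Units.val_mul, inv_mul_cancel, Units.val_one]
      · intro l _ hl
        rw [Function.update_of_ne hl]; rfl
      · intro hn; exact absurd (Finset.mem_univ _) hn
    · intro a
      unfold dg1
      rw [dg_mul_apply, embSA_sa_self, mul_zero]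
    · intro a b
      unfold dg1
      rw [dg_mul_apply, embSA_sa_sa, Function.update_of_ne (Fin.succAbove_ne i₀ a)]
      simp
  · -- no elementary transvection in the section
    intro a b hab ξ hξ
    rw [mem_secSL] at hξ
    obtain ⟨h, hhM, hcol, hblock⟩ := hξ
    have hT : ∀ d : Fin (k + 1) → Fˣ, ∏ i, d i = 1 → dg d ∈ M := fun d hd =>
      hM.mono_le (Subgroup.mem_inf.2 ⟨dg_mem_Mono d, dg_mem_specialLinear hd⟩)
    have hsa_inj : ∀ {u v : Fin k}, i₀.succAbove u = i₀.succAbove v → u = v :=
      fun {u v} huv => Fin.succAbove_right_injective huv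
    -- the entries of the rows `≠ i₀`
    have hent : ∀ a' b', (h : Matrix _ _ F) (i₀.succAbove a') (i₀.succAbove b') =
        (if a' = b' then 1 else 0) + (if a' = a ∧ b' = b then ξ else 0) := by
      intro a' b'
      rw [hblock, elemTv_apply]
    -- step 1: row `i₀` of `h` vanishes outside the diagonal
    have hβ : ∀ c₁ : Fin k, (h : Matrix _ _ F) i₀ (i₀.succAbove c₁) = 0 := by
      -- for `c₁ ∉ {a, b}` the diagonal element `d_a(δ) d_b(δ) d_{c₁}(δ⁻²)`
      have main : ∀ c₁ : Fin k, c₁ ≠ a → c₁ ≠ b →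
          (h : Matrix _ _ F) i₀ (i₀.succAbove a) = 0 ∧ (h : Matrix _ _ F) i₀ (i₀.succAbove b) = 0 ∧
            (h : Matrix _ _ F) i₀ (i₀.succAbove c₁) = 0 := by
        intro c₁ hca hcb
        set D : Fin (k + 1) → Fˣ := fun i =>
          if i = i₀.succAbove a then δ else if i = i₀.succAbove b then δ
          else if i = i₀.succAbove c₁ then (δ ^ 2)⁻¹ else 1 with hD
        have hne1 : i₀.succAbove b ≠ i₀.succAbove a := fun e => hab (hsa_inj e).symm
        have hne2 : i₀.succAbove c₁ ≠ i₀.succAbove a := fun e => hca (hsa_inj e)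
        have hne3 : i₀.succAbove c₁ ≠ i₀.succAbove b := fun e => hcb (hsa_inj e)
        have hDa : D (i₀.succAbove a) = δ := by rw [hD]; simp
        have hDb : D (i₀.succAbove b) = δ := by rw [hD]; simp [hne1]
        have hDc : D (i₀.succAbove c₁) = (δ ^ 2)⁻¹ := by rw [hD]; simp [hne2, hne3]
        have hD0 : D i₀ = 1 := by
          rw [hD]
          simp [(Fin.succAbove_ne i₀ a).symm, (Fin.succAbove_ne i₀ b).symm,
            (Fin.succAbove_ne i₀ c₁).symm]
        have hDprod : ∏ i, D i = 1 := by
          have e1 : D = Function.update (Function.update (Function.update (1 : Fin (k + 1) → Fˣ)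
              (i₀.succAbove c₁) (δ ^ 2)⁻¹) (i₀.succAbove b) δ) (i₀.succAbove a) δ := by
            funext i
            rw [hD]
            simp only [Function.update_apply, Pi.one_apply]
          rw [e1, Finset.prod_update_of_mem (Finset.mem_univ _)]
          rw [Finset.prod_update_of_mem (by simp [hne1]),
            Finset.prod_update_of_mem (by simp [hne2, hne3])]
          simp only [Pi.one_apply, Finset.prod_const_one, mul_one]
          rw [← mul_assoc, ← pow_two, mul_inv_cancel]
        have hDM : dg D ∈ M := hT D hDprod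
        have hrows : ∀ a' l, (D (i₀.succAbove a') : F) * (h : Matrix _ _ F) (i₀.succAbove a') l *
            (((D l)⁻¹ : Fˣ) : F) = (h : Matrix _ _ F) (i₀.succAbove a') l := by
          intro a' l
          rcases Fin.eq_self_or_eq_succAbove i₀ l with rfl | ⟨b', rfl⟩
          · rw [hcol a', mul_zero, zero_mul]
          · rw [hent]
            by_cases hab' : a' = b'
            · subst hab'
              have hn : ¬ (a' = a ∧ a' = b) := fun e => hab (e.1.symm.trans e.2)
              rw [if_pos rfl, if_neg hn, add_zero, mul_one, ← Units.val_mul, mul_inv_cancel,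
                Units.val_one]
            · rw [if_neg hab', zero_add]
              by_cases h2 : a' = a ∧ b' = b
              · obtain ⟨rfl, rfl⟩ := h2
                rw [if_pos ⟨rfl, rfl⟩, hDa, hDb, mul_comm (δ : F), mul_assoc, ← Units.val_mul,
                  mul_inv_cancel, Units.val_one, mul_one]
              · rw [if_neg h2, mul_zero, zero_mul]
        have hb1 := sech_beta (by omega) hμ hM i₀ hhM hcol D hD0 hDM hrows
        have hδF : (((δ⁻¹ : Fˣ) : F)) - 1 ≠ 0 := by
          intro e
          apply hδ1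
          have e2 : ((δ⁻¹ : Fˣ) : F) = ((1 : Fˣ) : F) := by rw [Units.val_one]; exact sub_eq_zero.1 e
          have := Units.ext e2
          exact inv_eq_one.1 this
        have hδF2 : ((((δ ^ 2)⁻¹)⁻¹ : Fˣ) : F) - 1 ≠ 0 := by
          intro e
          apply hδ2
          rw [inv_inv] at e
          have e2 : ((δ ^ 2 : Fˣ) : F) = ((1 : Fˣ) : F) := by rw [Units.val_one]; exact sub_eq_zero.1 e
          exact Units.ext e2
        refine ⟨?_, ?_, ?_⟩
        · have := hb1 a
          rw [hDa] at this
          exact (mul_eq_zero.1 this).resolve_right hδF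
        · have := hb1 b
          rw [hDb] at this
          exact (mul_eq_zero.1 this).resolve_right hδF
        · have := hb1 c₁
          rw [hDc] at this
          exact (mul_eq_zero.1 this).resolve_right hδF2
      -- an index outside `{a, b}` exists
      have hex : ∃ c₀ : Fin k, c₀ ≠ a ∧ c₀ ≠ b := by
        have hcard : 2 < Fintype.card (Fin k) := by rw [Fintype.card_fin]; omega
        by_contra hcon
        push Not at hcon
        have hsub : (Finset.univ : Finset (Fin k)) ⊆ {a, b} := by
          intro y _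
          by_cases hya : y = a
          · simp [hya]
          · simp [hcon y hya]
        have hc := Finset.card_le_card hsub
        rw [Finset.card_univ] at hc
        have : ({a, b} : Finset (Fin k)).card ≤ 2 := Finset.card_le_two
        omega
      obtain ⟨c₀, hc0a, hc0b⟩ := hex
      intro c₁
      by_cases hca : c₁ = a
      · rw [hca]; exact (main c₀ hc0a hc0b).1
      · by_cases hcb : c₁ = b
        · rw [hcb]; exact (main c₀ hc0a hc0b).2.1
        · exact (main c₁ hca hcb).2.2
    -- step 2: `h = dg1 i₀ c * embSA i₀ t`, `c = 1`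
    set t : GL (Fin k) F := elemTv a b hab ξ with ht
    obtain ⟨hinv0, -⟩ := sech_inv_col i₀ h hcol
    have hc0 : (h : Matrix _ _ F) i₀ i₀ ≠ 0 := by
      intro e
      rw [e, zero_mul] at hinv0
      exact zero_ne_one hinv0
    set cu : Fˣ := Units.mk0 _ hc0 with hcu
    have hheq : h = dg1 i₀ cu * embSA i₀ t := by
      apply gl_ext_sa i₀
      · unfold dg1
        rw [dg_mul_apply, embSA_self_self, Function.update_self, mul_one]
        rfl
      · intro b'
        unfold dg1
        rw [dg_mul_apply, embSA_self_sa, mul_zero]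
        exact hβ b'
      · intro a'
        unfold dg1
        rw [dg_mul_apply, embSA_sa_self, mul_zero]
        exact hcol a'
      · intro a' b'
        unfold dg1
        rw [dg_mul_apply, embSA_sa_sa, Function.update_of_ne (Fin.succAbove_ne i₀ a'), hblock]
        simp
    have hdet : (mt[k] h).det = 1 := (mem_specialLinear_iff h).1 (hM.le_sl hhM)
    have hc1 : cu = 1 := by
      have h1 : (mt[k] h).det = (cu : F) := by
        rw [hheq, Units.val_mul, Matrix.det_mul, det_embSA]
        have ht1 : (t : Matrix (Fin k) (Fin k) F).det = 1 :=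
          (mem_specialLinear_iff t).1 (elemTv_mem_specialLinear a b hab ξ)
        rw [ht1, mul_one]
        unfold dg1
        rw [det_dg, Finset.prod_eq_single i₀]
        · rw [Function.update_self]
        · intro l _ hl
          rw [Function.update_of_ne hl]; rfl
        · intro hn; exact absurd (Finset.mem_univ _) hn
      rw [hdet] at h1
      exact Units.ext (by rw [Units.val_one]; exact h1.symm)
    have hfin : h = elemTv (i₀.succAbove a) (i₀.succAbove b)
        (fun e => hab (Fin.succAbove_right_injective e)) ξ := by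
      rw [hheq, hc1, ← embSA_elemTv]
      have : dg1 i₀ (1 : Fˣ) = (1 : GL (Fin (k + 1)) F) := by
        unfold dg1
        have e : Function.update (1 : Fin (k + 1) → Fˣ) i₀ 1 = 1 := by
          funext i
          rw [Function.update_apply]
          split_ifs <;> rfl
        rw [e, dg_one]
      rw [this, one_mul]
    rw [hfin] at hhM
    exact hM.net _ _ _ ξ hhM

end Cfsg.Agent.Lib.Helper95
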