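import Mathlib
import Cfsg.Prelude.Def_Sz
import Cfsg.Agent.Lib.Helper6.SzGen
import Cfsg.Agent.Lib.Helper6.SzOrder

/-!
# The two models of the Suzuki groups agree (helper95)

`Cfsg.Lie.Sz F (2^(m+1))` (Prelude `Def_Sz`: generated by the `Sp₄` matrices with `g* = g^σ`) is the image
in `GL₄` of `Cfsg.Sz F m` (Prelude `Def_LieExceptional`: stabiliser in `SL₄` of the Suzuki–Tits ovoid),
for `#F = 2^(2m+1)`, `m ≥ 1`.  Main declarations: `lieSz_eq_map`, `szIso`, `card_lieSz`.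
The ovoid is the set of absolute points of the Tits polarity (`IsAbs`).
-/

set_option autoImplicit false

namespace Cfsg.Agent.Lib.Helper95

open Cfsg Matrix Cfsg.Agent.Lib.Helper6 Cfsg.Lie

variable {F : Type*} [Field F]

/-- Pluecker-type coordinates `(p₀₁, p₀₂, p₁₃, p₂₃)` of the pair `u, w`. -/
def pl (u w : Fin 4 → F) : Fin 4 → F :=
  ![u 0 * w 1 - u 1 * w 0, u 0 * w 2 - u 2 * w 0, u 1 * w 3 - u 3 * w 1, u 2 * w 3 - u 3 * w 2]

/-- the antidiagonal Gram matrix of `altForm4` -/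
def gramJ : Matrix (Fin 4) (Fin 4) F :=
  !![0, 0, 0, 1; 0, 0, 1, 0; 0, 1, 0, 0; 1, 0, 0, 0]

theorem gramJ_mul_self : (gramJ : Matrix (Fin 4) (Fin 4) F) * gramJ = 1 := by
  ext i j
  fin_cases i <;> fin_cases j <;> simp [gramJ, Matrix.mul_apply, Fin.sum_univ_four]

theorem altForm4_eq (u v : Fin 4 → F) : altForm4 u v = u ⬝ᵥ (gramJ *ᵥ v) := by
  simp [altForm4, gramJ, dotProduct, Matrix.mulVec, Fin.sum_univ_four]

theorem transpose_mul_gramJ_mul (M : Matrix (Fin 4) (Fin 4) F)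
    (h : ∀ u v, altForm4 (M *ᵥ u) (M *ᵥ v) = altForm4 u v) : Mᵀ * gramJ * M = gramJ := by
  ext i j
  have := h (Pi.single i 1) (Pi.single j 1)
  rw [altForm4_eq, altForm4_eq] at this
  have e : (M *ᵥ Pi.single i 1) ⬝ᵥ (gramJ *ᵥ (M *ᵥ Pi.single j 1)) =
      (Pi.single i 1 : Fin 4 → F) ⬝ᵥ ((Mᵀ * gramJ * M) *ᵥ Pi.single j 1) := by
    rw [← Matrix.vecMul_transpose, ← Matrix.dotProduct_mulVec, Matrix.mulVec_mulVec,
      Matrix.mulVec_mulVec, Matrix.mul_assoc]
  rw [e] at this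
  simpa [Matrix.mulVec_single_one] using this

theorem mul_gramJ_mul_transpose (M : Matrix (Fin 4) (Fin 4) F)
    (h : ∀ u v, altForm4 (M *ᵥ u) (M *ᵥ v) = altForm4 u v) : M * gramJ * Mᵀ = gramJ := by
  have h1 := transpose_mul_gramJ_mul M h
  have h2 : (gramJ * Mᵀ * gramJ) * M = 1 := by
    rw [Matrix.mul_assoc, Matrix.mul_assoc, ← Matrix.mul_assoc Mᵀ, h1, gramJ_mul_self]
  have h3 : M * (gramJ * Mᵀ * gramJ) = 1 := mul_eq_one_comm.mp h2
  calc M * gramJ * Mᵀ = (M * (gramJ * Mᵀ * gramJ)) * gramJ := by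
        simp only [Matrix.mul_assoc, gramJ_mul_self, Matrix.mul_one]
    _ = gramJ := by rw [h3, Matrix.one_mul]

/-- rows of a form-preserving matrix: the form on rows `k, l` is the Gram entry. -/
theorem row_form (M : Matrix (Fin 4) (Fin 4) F)
    (h : ∀ u v, altForm4 (M *ᵥ u) (M *ᵥ v) = altForm4 u v) (k l : Fin 4) :
    M k 0 * M l 3 + M k 1 * M l 2 + M k 2 * M l 1 + M k 3 * M l 0 = gramJ k l := by
  have := congrFun (congrFun (mul_gramJ_mul_transpose M h) k) l
  rw [← this]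
  simp [Matrix.mul_apply, Fin.sum_univ_four, gramJ]
  ring

theorem det_eq_one_of_form [CharP F 2] (M : Matrix (Fin 4) (Fin 4) F)
    (h : ∀ u v, altForm4 (M *ᵥ u) (M *ᵥ v) = altForm4 u v) : M.det = 1 := by
  have h1 := congrArg Matrix.det (transpose_mul_gramJ_mul M h)
  have hJ : (gramJ : Matrix (Fin 4) (Fin 4) F).det * gramJ.det = 1 := by
    rw [← Matrix.det_mul, gramJ_mul_self, Matrix.det_one]
  rw [Matrix.det_mul, Matrix.det_mul, Matrix.det_transpose] at h1
  have hJ0 : (gramJ : Matrix (Fin 4) (Fin 4) F).det ≠ 0 := by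
    intro h0; rw [h0, zero_mul] at hJ; exact zero_ne_one hJ
  have h2 : M.det * M.det = 1 := by
    apply mul_right_cancel₀ hJ0
    linear_combination h1
  have h3 : (M.det - 1) ^ 2 = 0 := by
    have h2' : (2 : F) = 0 := CharTwo.two_eq_zero
    linear_combination h2 + (1 - M.det) * h2'
  have := pow_eq_zero_iff (two_ne_zero) |>.mp h3
  exact sub_eq_zero.mp this

theorem minor_mulVec [CharP F 2] (M : Matrix (Fin 4) (Fin 4) F) (k l : Fin 4)
    (hkl : M k 0 * M l 3 + M k 1 * M l 2 + M k 2 * M l 1 + M k 3 * M l 0 = 0)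
    (u w : Fin 4 → F) (hiso : altForm4 u w = 0) :
    (M *ᵥ u) k * (M *ᵥ w) l - (M *ᵥ u) l * (M *ᵥ w) k =
      (M k 0 * M l 1 - M l 0 * M k 1) * (u 0 * w 1 - u 1 * w 0) +
      (M k 0 * M l 2 - M l 0 * M k 2) * (u 0 * w 2 - u 2 * w 0) +
      (M k 1 * M l 3 - M l 1 * M k 3) * (u 1 * w 3 - u 3 * w 1) +
      (M k 2 * M l 3 - M l 2 * M k 3) * (u 2 * w 3 - u 3 * w 2) := by
  have h2 : (2 : F) = 0 := CharTwo.two_eq_zero
  simp only [Matrix.mulVec, dotProduct, Fin.sum_univ_four]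
  unfold altForm4 at hiso
  linear_combination (u 1 * w 2 - u 2 * w 1) * hkl
    - (M k 0 * M l 3 + M k 3 * M l 0 + 2 * (M k 2 * M l 1)) * hiso
    + (M k 0 * M l 3 * (u 0 * w 3) + M k 3 * M l 0 * (u 3 * w 0)
      + (M k 0 * M l 3 + M k 3 * M l 0) * (u 2 * w 1)
      + M k 2 * M l 1 * (u 0 * w 3 + u 3 * w 0) + 2 * (M k 2 * M l 1) * (u 2 * w 1)) * h2

theorem pl_mulVec [CharP F 2] (M : Matrix (Fin 4) (Fin 4) F)
    (h : ∀ u v, altForm4 (M *ᵥ u) (M *ᵥ v) = altForm4 u v)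
    (u w : Fin 4 → F) (hiso : altForm4 u w = 0) :
    pl (M *ᵥ u) (M *ᵥ w) = star4 M *ᵥ pl u w := by
  have r01 := row_form M h 0 1
  have r02 := row_form M h 0 2
  have r13 := row_form M h 1 3
  have r23 := row_form M h 2 3
  simp [gramJ] at r01 r02 r13 r23
  ext p
  fin_cases p
  · have := minor_mulVec M 0 1 r01 u w hiso
    simp [pl, star4, pairOf, Matrix.mulVec, dotProduct, Fin.sum_univ_four] at this ⊢
    linear_combination this
  · have := minor_mulVec M 0 2 r02 u w hiso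
    simp [pl, star4, pairOf, Matrix.mulVec, dotProduct, Fin.sum_univ_four] at this ⊢
    linear_combination this
  · have := minor_mulVec M 1 3 r13 u w hiso
    simp [pl, star4, pairOf, Matrix.mulVec, dotProduct, Fin.sum_univ_four] at this ⊢
    linear_combination this
  · have := minor_mulVec M 2 3 r23 u w hiso
    simp [pl, star4, pairOf, Matrix.mulVec, dotProduct, Fin.sum_univ_four] at this ⊢
    linear_combination this

section Abs

variable [CharP F 2] (m : ℕ)

/-- `v` spans an absolute point of the Tits polarity: some totally isotropic line through `v`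
has Pluecker coordinates proportional to `v^σ`. -/
def IsAbs (v : Fin 4 → F) : Prop :=
  ∃ (w : Fin 4 → F) (c : F), c ≠ 0 ∧ altForm4 v w = 0 ∧ pl v w = c • (fun i => sg m (v i))

theorem map_sg_mulVec (M : Matrix (Fin 4) (Fin 4) F) (v : Fin 4 → F) :
    (M.map (sg m)) *ᵥ (fun i => sg m (v i)) = fun i => sg m ((M *ᵥ v) i) := by
  ext i
  simp [Matrix.mulVec, dotProduct, map_sum, map_mul]

theorem isAbs_mulVec (M : Matrix (Fin 4) (Fin 4) F)
    (h : ∀ u v, altForm4 (M *ᵥ u) (M *ᵥ v) = altForm4 u v)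
    (hstar : star4 M = M.map (fun x => x ^ 2 ^ (m + 1))) {v : Fin 4 → F} (hv : IsAbs m v) :
    IsAbs m (M *ᵥ v) := by
  obtain ⟨w, c, hc, hiso, hpl⟩ := hv
  have hfun : (fun x : F => x ^ 2 ^ (m + 1)) = sg m := funext (fun x => (sg_apply m x).symm)
  refine ⟨M *ᵥ w, c, hc, by rw [h]; exact hiso, ?_⟩
  rw [pl_mulVec M h v w hiso, hpl, hstar, hfun, Matrix.mulVec_smul, map_sg_mulVec]

theorem isAbs_inf : IsAbs m (![1, 0, 0, 0] : Fin 4 → F) := by
  refine ⟨![0, 1, 0, 0], 1, one_ne_zero, ?_, ?_⟩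
  · simp [altForm4]
  · ext i
    fin_cases i <;> simp [pl]

variable {m}

theorem isAbs_szVec (hσ : SgSq (F := F) m) (x y : F) : IsAbs m (szVec m x y) := by
  have h2 : (2 : F) = 0 := CharTwo.two_eq_zero
  refine ⟨![y + x * sg m x, sg m x, 1, 0], 1, one_ne_zero, ?_, ?_⟩
  · simp [altForm4, szVec]
    linear_combination (y + x * sg m x) * h2
  · ext i
    fin_cases i
    · simp [pl, szVec, szF_eq, map_add, map_mul, map_pow, hσ x, hσ y]
      linear_combination (-(y ^ 2)) * h2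
    · simp [pl, szVec, szF_eq]
      ring
    · simp [pl, szVec]
      linear_combination (-(sg m x)) * h2
    · simp [pl, szVec]
      linear_combination (-1 : F) * h2

theorem of_isAbs {v : Fin 4 → F} (hv0 : v ≠ 0) (hv : IsAbs m v) :
    (∃ c : F, c ≠ 0 ∧ v = c • ![1, 0, 0, 0]) ∨
      ∃ (c x y : F), c ≠ 0 ∧ v = c • szVec m x y := by
  have h2 : (2 : F) = 0 := CharTwo.two_eq_zero
  obtain ⟨w, c, hc, hiso, hpl⟩ := hv
  have e1 := congrFun hpl 1
  have e2 := congrFun hpl 2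
  have e3 := congrFun hpl 3
  simp [pl] at e1 e2 e3
  unfold altForm4 at hiso
  by_cases h3 : v 3 = 0
  · left
    have e3' : v 2 * w 3 = 0 := by
      have := e3; rw [h3] at this; simpa using this
    have e2' : v 1 * w 3 = c * sg m (v 2) := by
      have := e2; rw [h3] at this; simpa using this
    have hiso' : v 0 * w 3 + v 1 * w 2 + v 2 * w 1 = 0 := by
      have := hiso; rw [h3] at this; simpa using this
    have hv2 : v 2 = 0 := by
      by_contra hv2
      have hw3 : w 3 = 0 := by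
        rcases mul_eq_zero.mp e3' with h | h
        · exact absurd h hv2
        · exact h
      rw [hw3, mul_zero] at e2'
      rcases mul_eq_zero.mp e2'.symm with h | h
      · exact hc h
      · exact hv2 ((map_eq_zero (sg m)).mp h)
    have hv1 : v 1 = 0 := by
      by_contra hv1
      rw [hv2, map_zero, mul_zero] at e2'
      have hw3 : w 3 = 0 := by
        rcases mul_eq_zero.mp e2' with h | h
        · exact absurd h hv1
        · exact h
      rw [hw3, hv2, mul_zero, zero_mul, zero_add, add_zero] at hiso'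
      have hw2 : w 2 = 0 := by
        rcases mul_eq_zero.mp hiso' with h | h
        · exact absurd h hv1
        · exact h
      rw [hw2, hv2, mul_zero, zero_mul, sub_zero] at e1
      rcases mul_eq_zero.mp e1.symm with h | h
      · exact hc h
      · exact hv1 ((map_eq_zero (sg m)).mp h)
    refine ⟨v 0, ?_, ?_⟩
    · intro h0
      apply hv0
      ext i
      fin_cases i <;> simp [h0, hv1, hv2, h3]
    · ext i
      fin_cases i <;> simp [hv1, hv2, h3]
  · right
    have key : c * (v 0 * v 3 * sg m (v 3) + v 1 * v 2 * sg m (v 3) + v 2 ^ 2 * sg m (v 2)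
        + v 3 ^ 2 * sg m (v 1)) = 0 := by
      linear_combination (-(v 3 ^ 2)) * e1 - (v 0 * v 3 + v 1 * v 2) * e3 - v 2 ^ 2 * e2
        - v 2 * v 3 * hiso + (v 0 * v 2 * v 3 * w 3 + v 1 * v 2 ^ 2 * w 3) * h2
    have key' : v 0 * v 3 * sg m (v 3) + v 1 * v 2 * sg m (v 3) + v 2 ^ 2 * sg m (v 2)
        + v 3 ^ 2 * sg m (v 1) = 0 := by
      rcases mul_eq_zero.mp key with h | h
      · exact absurd h hc
      · exact h
    have hs3 : sg m (v 3) ≠ 0 := (map_ne_zero (sg m)).mpr h3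
    refine ⟨v 3, v 2 / v 3, v 1 / v 3, h3, ?_⟩
    ext i
    fin_cases i
    · simp [szVec, szF_eq, map_div₀]
      field_simp
      linear_combination key' - (v 1 * v 2 * sg m (v 3) + v 2 ^ 2 * sg m (v 2)
        + v 3 ^ 2 * sg m (v 1)) * h2
    · simp [szVec]
      field_simp
    · simp [szVec]
      field_simp
    · simp [szVec]

end Abs

section Main

open Matrix.SpecialLinearGroup

variable [CharP F 2] {m : ℕ}

/-- the defining set of `Cfsg.Lie.Sz` -/
def szSet (F : Type*) [Field F] (e : ℕ) : Set (GL (Fin 4) F) :=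
  {g | g ∈ Sp4 F ∧ star4 (g : Matrix (Fin 4) (Fin 4) F) =
    (g : Matrix (Fin 4) (Fin 4) F).map (fun x => x ^ e)}

omit [CharP F 2] in
theorem lieSz_eq_closure (e : ℕ) : Cfsg.Lie.Sz F e = Subgroup.closure (szSet F e) := rfl

omit [CharP F 2] in
theorem mem_Sp4_iff (g : GL (Fin 4) F) :
    g ∈ Sp4 F ↔ ∀ u v, altForm4 ((g : Matrix (Fin 4) (Fin 4) F) *ᵥ u)
      ((g : Matrix (Fin 4) (Fin 4) F) *ᵥ v) = altForm4 u v := Iff.rfl

/-- every element of the defining set comes from the ovoid stabiliser -/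
theorem exists_of_mem_szSet [Finite F] (hσ : SgSq (F := F) m) {g : GL (Fin 4) F}
    (hg : g ∈ szSet F (2 ^ (m + 1))) : ∃ s ∈ Cfsg.Sz F m, toGL s = g := by
  obtain ⟨hsp, hstar⟩ := hg
  rw [mem_Sp4_iff] at hsp
  set M : Matrix (Fin 4) (Fin 4) F := (g : Matrix (Fin 4) (Fin 4) F) with hM
  have hdet : M.det = 1 := det_eq_one_of_form M hsp
  let s : Matrix.SpecialLinearGroup (Fin 4) F := ⟨M, hdet⟩
  have hsv : ∀ v : Fin 4 → F, s • v = M *ᵥ v := fun v => rfl
  have hmv : ∀ v : Fin 4 → F, v ≠ 0 → M *ᵥ v ≠ 0 := by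
    intro v hv h0
    apply hv
    have : (s⁻¹ * s) • v = 0 := by rw [mul_smul, hsv, h0, smul_zero]
    simpa using this
  have key : ∀ (v : Fin 4 → F) (hv : v ≠ 0), IsAbs m v →
      s • Projectivization.mk F v hv ∈ suzukiOvoid F m := by
    intro v hv habs
    have h1 := isAbs_mulVec m M hsp hstar habs
    rw [Projectivization.smul_mk]
    rcases of_isAbs (hmv v hv) h1 with ⟨c, hc, hcv⟩ | ⟨c, x, y, hc, hcv⟩
    · rw [mem_suzukiOvoid_iff]
      left
      rw [suzukiPointInfinity_eq, Projectivization.mk_eq_mk_iff']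
      exact ⟨c, by rw [hsv, hcv]⟩
    · rw [mem_suzukiOvoid_iff]
      right
      refine ⟨x, y, ?_⟩
      rw [szPt, Projectivization.mk_eq_mk_iff']
      exact ⟨c, by rw [hsv, hcv]⟩
  refine ⟨s, ?_, ?_⟩
  · apply mem_Sz_of_forall
    · rw [suzukiPointInfinity_eq]
      exact key _ _ (isAbs_inf m)
    · intro x y
      exact key _ _ (isAbs_szVec hσ x y)
  · apply Units.ext
    rfl

omit [CharP F 2] in
theorem form_of_gram (M : Matrix (Fin 4) (Fin 4) F) (h : Mᵀ * gramJ * M = gramJ)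
    (u v : Fin 4 → F) : altForm4 (M *ᵥ u) (M *ᵥ v) = altForm4 u v := by
  rw [altForm4_eq, altForm4_eq]
  have e : (M *ᵥ u) ⬝ᵥ (gramJ *ᵥ (M *ᵥ v)) = u ⬝ᵥ ((Mᵀ * gramJ * M) *ᵥ v) := by
    rw [← Matrix.vecMul_transpose, ← Matrix.dotProduct_mulVec, Matrix.mulVec_mulVec,
      Matrix.mulVec_mulVec, Matrix.mul_assoc]
  rw [e, h]

theorem toGL_mem_szSet (s : Matrix.SpecialLinearGroup (Fin 4) F)
    (h : (s.1)ᵀ * gramJ * s.1 = gramJ) (hstar : star4 s.1 = s.1.map (sg m)) :
    toGL s ∈ szSet F (2 ^ (m + 1)) := by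
  have hfun : (fun x : F => x ^ 2 ^ (m + 1)) = sg m := funext (fun x => (sg_apply m x).symm)
  refine ⟨?_, ?_⟩
  · rw [mem_Sp4_iff]
    intro u v
    exact form_of_gram s.1 h u v
  · rw [hfun]
    exact hstar

theorem szT_mem_szSet (hσ : SgSq (F := F) m) (a b : F) :
    toGL (szT m a b) ∈ szSet F (2 ^ (m + 1)) := by
  have h2 : (2 : F) = 0 := CharTwo.two_eq_zero
  apply toGL_mem_szSet
  · ext i j
    fin_cases i <;> fin_cases j <;>
      simp [szT, szTmat, gramJ, Matrix.mul_apply, Fin.sum_univ_four]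
    all_goals first | ring1 | grind
  · ext i j
    fin_cases i <;> fin_cases j <;>
      simp [szT, szTmat, star4, pairOf, szF_eq, map_add, map_mul, map_pow, hσ a, hσ b]
    all_goals first | ring1 | grind

theorem sg_pow_two_pow (hσ : SgSq (F := F) m) (k : F) : sg m (k ^ 2 ^ m) = k := by
  have h1 : (sg m (k ^ 2 ^ m)) ^ 2 = k ^ 2 := by
    rw [← hσ k, ← map_pow, ← pow_mul, ← pow_succ, ← sg_apply]
  have h2 : (2 : F) = 0 := CharTwo.two_eq_zero
  have h3 : (sg m (k ^ 2 ^ m) - k) ^ 2 = 0 := by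
    linear_combination h1 - (sg m (k ^ 2 ^ m) * k - k ^ 2) * h2
  exact sub_eq_zero.mp (pow_eq_zero_iff (two_ne_zero) |>.mp h3)

theorem szH_mem_szSet (hσ : SgSq (F := F) m) (k : Fˣ) :
    toGL (szH m k) ∈ szSet F (2 ^ (m + 1)) := by
  have hk : (k : F) ≠ 0 := k.ne_zero
  have hR := sg_pow_two_pow hσ (k : F)
  have hs : sg m (k : F) = ((k : F) ^ (2 ^ m)) ^ 2 := by
    rw [sg_apply, ← pow_mul, pow_succ]
  have hr : (k : F) ^ (2 ^ m) ≠ 0 := pow_ne_zero _ hk
  apply toGL_mem_szSet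
  · ext i j
    fin_cases i <;> fin_cases j <;>
      simp [szH, szHmat, gramJ, Matrix.mul_apply, Fin.sum_univ_four]
  · ext i j
    fin_cases i <;> fin_cases j <;>
      simp [szH, szHmat, star4, pairOf, pow_succ, map_mul, hR, hs]
    all_goals first | ring1 | field_simp

theorem szW_mem_szSet : toGL (szW : Matrix.SpecialLinearGroup (Fin 4) F) ∈ szSet F (2 ^ (m + 1)) := by
  have h2 : (2 : F) = 0 := CharTwo.two_eq_zero
  apply toGL_mem_szSet
  · ext i j
    fin_cases i <;> fin_cases j <;>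
      simp [szW, szWmat, gramJ, Matrix.mul_apply, Fin.sum_univ_four]
  · ext i j
    fin_cases i <;> fin_cases j <;>
      simp [szW, szWmat, star4, pairOf]
    all_goals linear_combination (-1 : F) * h2

end Main

section Final

open Matrix.SpecialLinearGroup

variable {m : ℕ}

/-- **The two Suzuki groups agree**: the group generated by the `Sp₄` matrices with `g* = g^σ` is the
image in `GL₄` of the stabiliser of the Suzuki–Tits ovoid. -/
theorem lieSz_eq_map [Fintype F] (hm : 1 ≤ m) (hF : Fintype.card F = 2 ^ (2 * m + 1)) :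
    Cfsg.Lie.Sz F (2 ^ (m + 1)) = (Cfsg.Sz F m).map toGL := by
  have := sz_charP hF
  have hσ : SgSq (F := F) m := sgSq_of_card m hF
  apply le_antisymm
  · rw [lieSz_eq_closure, Subgroup.closure_le]
    intro g hg
    obtain ⟨s, hs, rfl⟩ := exists_of_mem_szSet hσ hg
    exact Subgroup.mem_map_of_mem _ hs
  · rintro _ ⟨s, hs, rfl⟩
    refine Sz_induction hm hF (fun s => toGL s ∈ Cfsg.Lie.Sz F (2 ^ (m + 1))) ?_ ?_ ?_ ?_ ?_ s hs
    · intro a b
      exact Subgroup.subset_closure (szT_mem_szSet hσ a b)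
    · intro k
      exact Subgroup.subset_closure (szH_mem_szSet hσ k)
    · exact Subgroup.subset_closure szW_mem_szSet
    · intro g h hg hh
      rw [map_mul]
      exact Subgroup.mul_mem _ hg hh
    · intro g hg
      rw [map_inv]
      exact Subgroup.inv_mem _ hg

/-- the isomorphism between the ovoid-stabiliser model `Cfsg.Sz F m` and the `Sp₄` model
`Cfsg.Lie.Sz F (2^(m+1))` of the Suzuki group. -/
noncomputable def szIso [Fintype F] (hm : 1 ≤ m) (hF : Fintype.card F = 2 ^ (2 * m + 1)) :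
    ↥(Cfsg.Sz F m) ≃* ↥(Cfsg.Lie.Sz F (2 ^ (m + 1))) :=
  ((Cfsg.Sz F m).equivMapOfInjective toGL toGL_injective).trans
    (MulEquiv.subgroupCongr (lieSz_eq_map hm hF).symm)

theorem szIso_apply [Fintype F] (hm : 1 ≤ m) (hF : Fintype.card F = 2 ^ (2 * m + 1))
    (s : ↥(Cfsg.Sz F m)) : ((szIso hm hF s : ↥(Cfsg.Lie.Sz F (2 ^ (m + 1)))) : GL (Fin 4) F) =
      toGL (s : Matrix.SpecialLinearGroup (Fin 4) F) := rfl

/-- the order of the `Sp₄`-model Suzuki group -/
theorem card_lieSz [Fintype F] (hm : 1 ≤ m) (hF : Fintype.card F = 2 ^ (2 * m + 1)) :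
    Nat.card ↥(Cfsg.Lie.Sz F (2 ^ (m + 1))) =
      (2 ^ (2 * m + 1)) ^ 2 * ((2 ^ (2 * m + 1)) ^ 2 + 1) * (2 ^ (2 * m + 1) - 1) := by
  rw [← Nat.card_congr (szIso hm hF).toEquiv]
  exact card_Sz hm hF

end Final

end Cfsg.Agent.Lib.Helper95
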