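import Mathlib
import Cfsg.Prelude.Def_Amalgam
import Cfsg.Agent.Lib.Helper68.AmalBDefs
import Cfsg.Agent.Lib.Helper68.AmalBTools
import Cfsg.Agent.Lib.Helper19.AmalBP2a
import Cfsg.Agent.Lib.Helper19.AmalBP2b
import Cfsg.Agent.Lib.Helper19.AmalBP2c

/-!
# S2751, case (B), `b = 2` (helper68's sheet `AmalBSHEET.md`): module GSB-[B2-D] (helper95)

`b2_exists_d_of`: an element `d ∈ G_x` permuting `Δ(x)` cyclically with `[G_x^{(2)}, d] ≤ Z_x`.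
`_of` form: the definition `AllCrit2` (unfolded, `hall`) and [P3] `Za_le_Qb` (`hQb`) enter as hypotheses;
the exact sheet statement `b2_exists_d` is the one-line instance in `AmalBB2Exact.lean`.
-/

set_option autoImplicit false

namespace Cfsg.Agent.Lib.Helper68.AmalB.H95

open Cfsg Cfsg.Agent.Lib.Helper12.Amal Cfsg.Agent.Lib.Helper68.AmalD Cfsg.Agent.Lib.Helper68.AmalW
  Cfsg.Agent.Lib.Helper68.AmalB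

variable {G : Type*} [Group G] {P₁ P₂ : Subgroup G}

/-- a neighbour of an α-type vertex is of β-type -/
theorem h95_isB_of_adj (hB : BaseB P₁ P₂) {x y : CosetVertex P₁ P₂} (hx : ¬ IsB x)
    (h : (cosetGraph P₁ P₂).Adj x y) : IsB y := by
  by_contra hy
  exact hx ((hB.adj_type x y h).2 hy)

/-- every vertex `y` has a neighbour different from a given one -/
theorem h95_exists_other_nbr (hW : BaseW P₁ P₂) (y x : CosetVertex P₁ P₂) :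
    ∃ x', (cosetGraph P₁ P₂).Adj y x' ∧ x' ≠ x := by
  have h3 := hW.card_nbr y
  obtain ⟨b, hb, hbx⟩ := Set.exists_ne_of_one_lt_ncard (by omega :
    1 < ((cosetGraph P₁ P₂).neighborSet y).ncard) x
  exact ⟨b, hb, hbx⟩

/-- under `AllCrit2`, for `y ~ x` (`x` of α-type) there is `t ∈ T_xy ∖ Q_x` lying in `Z_x'` for some
`x' ~ y`, `x' ≠ x` -/
theorem h95_exists_t (hB : BaseB P₁ P₂)
    (hQb : ∀ x y : CosetVertex P₁ P₂, (cosetGraph P₁ P₂).Adj x y → IsB y → Zv x ≤ Qv y)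
    (hall : ∀ x y x' : CosetVertex P₁ P₂, ¬ IsB x → (cosetGraph P₁ P₂).Adj x y →
      (cosetGraph P₁ P₂).Adj y x' → x' ≠ x → ¬ Zv x' ≤ Qv x)
    {x y : CosetVertex P₁ P₂} (hx : ¬ IsB x) (h : (cosetGraph P₁ P₂).Adj x y) :
    ∃ x', (cosetGraph P₁ P₂).Adj y x' ∧ x' ≠ x ∧ ∃ t ∈ Zv x', t ∈ Gv x ⊓ Gv y ∧ t ∉ Qv x := by
  obtain ⟨x', hx', hne⟩ := h95_exists_other_nbr hB.W y x
  have hy : IsB y := h95_isB_of_adj hB hx h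
  obtain ⟨t, ht, htQ⟩ := SetLike.not_le_iff_exists.1 (hall x y x' hx h hx' hne)
  refine ⟨x', hx', hne, t, ht, ?_, htQ⟩
  exact Q_le_T' hB.W h (hQb x' y hx'.symm hy ht)

/-- an element of `T_{x y₁} ∖ Q_x` swaps the two other neighbours of `x` -/
theorem h95_swap (hW : BaseW P₁ P₂) {x y₁ y₂ y₃ : CosetVertex P₁ P₂}
    (h₁ : (cosetGraph P₁ P₂).Adj x y₁) (h₂ : (cosetGraph P₁ P₂).Adj x y₂)
    (h₃ : (cosetGraph P₁ P₂).Adj x y₃) (h₁₂ : y₁ ≠ y₂) (h₁₃ : y₁ ≠ y₃) (h₂₃ : y₂ ≠ y₃)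
    {t : G} (ht : t ∈ Gv x ⊓ Gv y₁) (htQ : t ∉ Qv x) : t • y₂ = y₃ := by
  have htx : t • x = x := MulAction.mem_stabilizer_iff.1 ht.1
  have hty : t • y₁ = y₁ := MulAction.mem_stabilizer_iff.1 ht.2
  have hmove : t • y₂ ≠ y₂ := hW.move x y₁ y₂ h₁ h₂ h₁₂ t ht htQ
  have hadj : (cosetGraph P₁ P₂).Adj x (t • y₂) := by
    have := hW.smul_adj t _ _ h₂
    rwa [htx] at this
  have hne1 : t • y₂ ≠ y₁ := by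
    intro he
    rw [← hty] at he
    exact h₁₂ (smul_left_cancel t he).symm
  exact Cfsg.Agent.Lib.Helper7.AmalC.nbr_eq_of_card (hW.card_nbr x) y₁ y₂ (t • y₂) y₃ h₁ h₂ h₁₂
    hadj hne1 hmove h₃ (Ne.symm h₁₃) (Ne.symm h₂₃)

/-- **[B2-D]**, `_of` form: `AllCrit2` unfolded (`hall`), [P3] `Za_le_Qb` as the hypothesis `hQb` -/
theorem b2_exists_d_of (hB : BaseB P₁ P₂)
    (hQb : ∀ x y : CosetVertex P₁ P₂, (cosetGraph P₁ P₂).Adj x y → IsB y → Zv x ≤ Qv y)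
    (hall : ∀ x y x' : CosetVertex P₁ P₂, ¬ IsB x → (cosetGraph P₁ P₂).Adj x y →
      (cosetGraph P₁ P₂).Adj y x' → x' ≠ x → ¬ Zv x' ≤ Qv x)
    {x y₁ y₂ y₃ : CosetVertex P₁ P₂} (hx : ¬ IsB x)
    (h₁ : (cosetGraph P₁ P₂).Adj x y₁) (h₂ : (cosetGraph P₁ P₂).Adj x y₂)
    (h₃ : (cosetGraph P₁ P₂).Adj x y₃) (h₁₂ : y₁ ≠ y₂) (h₁₃ : y₁ ≠ y₃) (h₂₃ : y₂ ≠ y₃) :
    ∃ d ∈ Gv x, d • y₁ = y₂ ∧ d • y₂ = y₃ ∧ d • y₃ = y₁ ∧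
      ∀ f ∈ F2 x, d * f * d⁻¹ * f⁻¹ ∈ Zv x := by
  have hW := hB.W
  obtain ⟨x₁', hx₁', hne₁, t₁, ht₁Z, ht₁, ht₁Q⟩ := h95_exists_t hB hQb hall hx h₁
  obtain ⟨x₂', hx₂', hne₂, t₂, ht₂Z, ht₂, ht₂Q⟩ := h95_exists_t hB hQb hall hx h₂
  have hy₁ : IsB y₁ := h95_isB_of_adj hB hx h₁
  have hy₂ : IsB y₂ := h95_isB_of_adj hB hx h₂
  -- the action of `t₁`, `t₂` on `Δ(x)`
  have a11 : t₁ • y₁ = y₁ := MulAction.mem_stabilizer_iff.1 ht₁.2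
  have a12 : t₁ • y₂ = y₃ := h95_swap hW h₁ h₂ h₃ h₁₂ h₁₃ h₂₃ ht₁ ht₁Q
  have a13 : t₁ • y₃ = y₂ := h95_swap hW h₁ h₃ h₂ h₁₃ h₁₂ (Ne.symm h₂₃) ht₁ ht₁Q
  have a22 : t₂ • y₂ = y₂ := MulAction.mem_stabilizer_iff.1 ht₂.2
  have a21 : t₂ • y₁ = y₃ := h95_swap hW h₂ h₁ h₃ (Ne.symm h₁₂) h₂₃ h₁₃ ht₂ ht₂Q
  have a23 : t₂ • y₃ = y₁ := h95_swap hW h₂ h₃ h₁ h₂₃ (Ne.symm h₁₂) (Ne.symm h₁₃) ht₂ ht₂Q
  -- commutators with `F2 x`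
  have c₁ : ∀ f ∈ F2 x, t₁ * f * t₁⁻¹ * f⁻¹ ∈ Zv x := by
    intro f hf
    have hfQ : f ∈ Qv y₁ := (mem_F2.1 hf).2 y₁ h₁
    have hfT : f ∈ Gv x₁' ⊓ Gv y₁ := Q_le_T' hW hx₁'.symm hfQ
    have h1 := Za_comm_le hB hx₁'.symm hy₁ hfT ht₁Z
    have h2 := Zb_le hB h₁ hy₁ h1
    have e : t₁ * f * t₁⁻¹ * f⁻¹ = (f * t₁ * f⁻¹ * t₁⁻¹)⁻¹ := by group
    rw [e]
    exact Subgroup.inv_mem _ h2
  have c₂ : ∀ f ∈ F2 x, t₂ * f * t₂⁻¹ * f⁻¹ ∈ Zv x := by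
    intro f hf
    have hfQ : f ∈ Qv y₂ := (mem_F2.1 hf).2 y₂ h₂
    have hfT : f ∈ Gv x₂' ⊓ Gv y₂ := Q_le_T' hW hx₂'.symm hfQ
    have h1 := Za_comm_le hB hx₂'.symm hy₂ hfT ht₂Z
    have h2 := Zb_le hB h₂ hy₂ h1
    have e : t₂ * f * t₂⁻¹ * f⁻¹ = (f * t₂ * f⁻¹ * t₂⁻¹)⁻¹ := by group
    rw [e]
    exact Subgroup.inv_mem _ h2
  refine ⟨t₁ * t₂, Subgroup.mul_mem _ ht₁.1 ht₂.1, ?_, ?_, ?_, ?_⟩
  · rw [mul_smul, a21, a13]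
  · rw [mul_smul, a22, a12]
  · rw [mul_smul, a23, a11]
  · intro f hf
    have e : t₁ * t₂ * f * (t₁ * t₂)⁻¹ * f⁻¹
        = t₁ * (t₂ * f * t₂⁻¹ * f⁻¹) * t₁⁻¹ * (t₁ * f * t₁⁻¹ * f⁻¹) := by group
    rw [e]
    exact Subgroup.mul_mem _ (Z_conj hW ht₁.1 (c₂ f hf)) (c₁ f hf)

end Cfsg.Agent.Lib.Helper68.AmalB.H95
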