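import Mathlib
import Cfsg.Agent.Lib.Helper85.Suz2ThDefs
import Cfsg.Agent.Lib.Helper76.PCore
import Cfsg.Agent.Lib.Helper22.PPrimeCore
import Cfsg.Agent.Lib.Helper1.SZConj
import Cfsg.Agent.Lib.Helper84.Suz2TInv

/-!
# SUZ2-[T-A2] (helper95, for helper85's project SUZ2 part 2, S3797)

Under `THyp G` a normal subgroup `G₁` of index two containing `O_2(G)` and still transitive on the
involutions cannot exist (given the inductive hypothesis that Sylow 2-subgroups of smaller `THyp`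
groups are normal).
-/

set_option autoImplicit false
set_option linter.unusedSectionVars false
set_option linter.style.haveILetI false

namespace Cfsg.Agent.Lib.Helper95.Suz2

open Cfsg Cfsg.Agent.Lib.Helper19.Suz Cfsg.Agent.Lib.Helper85.Suz2

universe u

variable {G : Type u} [Group G]

/-- the hypotheses pass to the subgroup `G₁` -/
theorem thyp_index_two (h : THyp G) (G₁ : Subgroup G) (hn : G₁.Normal) (hP : pCore 2 G ≤ G₁)
    (htr : ∀ x y : G, x ≠ 1 → x * x = 1 → y ≠ 1 → y * y = 1 → ∃ g ∈ G₁, g * x * g⁻¹ = y) :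
    THyp ↥G₁ := by
  haveI := h.fin
  haveI := h.sol
  haveI : Fact (Nat.Prime 2) := ⟨Nat.prime_two⟩
  haveI := hn
  refine ⟨inferInstance, inferInstance, ?_, ?_, ?_⟩
  · intro N hN hc
    have h1 : N ≤ pPrimeCore 2 ↥G₁ := Cfsg.Agent.Lib.Helper76.le_pPrimeCore 2 N hN hc
    have h2 := Cfsg.Agent.Lib.Helper22.pPrimeCore_map_subtype_le_of_normal 2 G₁
    have h3 : pPrimeCore 2 G = ⊥ :=
      h.core _ inferInstance (Cfsg.Agent.Lib.Helper76.pPrimeCore_coprime 2)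
    rw [h3, le_bot_iff] at h2
    have h4 : pPrimeCore 2 ↥G₁ = ⊥ := by
      rw [eq_bot_iff]
      intro x hx
      have : (G₁.subtype x) ∈ (pPrimeCore 2 ↥G₁).map G₁.subtype := ⟨x, hx, rfl⟩
      rw [h2, Subgroup.mem_bot] at this
      rw [Subgroup.mem_bot]
      exact Subtype.ext this
    rw [h4, le_bot_iff] at h1
    exact h1
  · intro x y hx1 hx2 hy1 hy2
    have hx1' : (x : G) ≠ 1 := fun hh => hx1 (Subtype.ext hh)
    have hy1' : (y : G) ≠ 1 := fun hh => hy1 (Subtype.ext hh)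
    have hx2' : (x : G) * x = 1 := by
      have := congrArg Subtype.val hx2; simpa using this
    have hy2' : (y : G) * y = 1 := by
      have := congrArg Subtype.val hy2; simpa using this
    obtain ⟨g, hg, hgxy⟩ := htr x y hx1' hx2' hy1' hy2'
    refine ⟨⟨g, hg⟩, ?_⟩
    apply Subtype.ext
    simpa using hgxy
  · obtain ⟨x, y, hxy, hx1, hx2, hy1, hy2⟩ := h.two
    have hxP := hP (Cfsg.Agent.Lib.Helper84.Suz2.THyp.inv_mem h hx1 hx2).1
    have hyP := hP (Cfsg.Agent.Lib.Helper84.Suz2.THyp.inv_mem h hy1 hy2).1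
    refine ⟨⟨x, hxP⟩, ⟨y, hyP⟩, ?_, ?_, ?_, ?_, ?_⟩
    · intro hh; exact hxy (congrArg Subtype.val hh)
    · intro hh; exact hx1 (congrArg Subtype.val hh)
    · apply Subtype.ext; simpa using hx2
    · intro hh; exact hy1 (congrArg Subtype.val hh)
    · apply Subtype.ext; simpa using hy2

/-- `O_2(G)` is the (normal) Sylow 2-subgroup of `G₁` -/
theorem core_subgroupOf_eq_sylow (h : THyp G)
    (IH : ∀ (H : Type u) [Group H], THyp H → Nat.card H < Nat.card G →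
      ∀ S : Sylow 2 H, (S : Subgroup H).Normal)
    (G₁ : Subgroup G) (hn : G₁.Normal) (hidx : G₁.index = 2) (hP : pCore 2 G ≤ G₁)
    (htr : ∀ x y : G, x ≠ 1 → x * x = 1 → y ≠ 1 → y * y = 1 → ∃ g ∈ G₁, g * x * g⁻¹ = y)
    (S₁ : Sylow 2 ↥G₁) : (pCore 2 G).subgroupOf G₁ = (S₁ : Subgroup ↥G₁) := by
  haveI := h.fin
  haveI : Fact (Nat.Prime 2) := ⟨Nat.prime_two⟩
  haveI := hn
  have hlt : Nat.card ↥G₁ < Nat.card G := by
    have h1 := Subgroup.card_mul_index G₁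
    rw [hidx] at h1
    have h2 : 0 < Nat.card ↥G₁ := Nat.card_pos
    omega
  have hS₁n : (S₁ : Subgroup ↥G₁).Normal := IH ↥G₁ (thyp_index_two h G₁ hn hP htr) hlt S₁
  haveI := Sylow.characteristic_of_normal S₁ hS₁n
  have hQn : ((S₁ : Subgroup ↥G₁).map G₁.subtype).Normal :=
    ConjAct.normal_of_characteristic_of_normal
  have hQ2 : IsPGroup 2 ((S₁ : Subgroup ↥G₁).map G₁.subtype) := S₁.isPGroup'.map _
  have hQP : (S₁ : Subgroup ↥G₁).map G₁.subtype ≤ pCore 2 G :=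
    Cfsg.Agent.Lib.Helper76.le_pCore 2 _ hQn hQ2
  have hP₁n : ((pCore 2 G).subgroupOf G₁).Normal := Subgroup.Normal.subgroupOf inferInstance G₁
  have hP₁2 : IsPGroup 2 ((pCore 2 G).subgroupOf G₁) :=
    (Cfsg.Agent.Lib.Helper76.pCore_isPGroup 2).comap_subtype
  have hPS : (pCore 2 G).subgroupOf G₁ ≤ (S₁ : Subgroup ↥G₁) :=
    (Cfsg.Agent.Lib.Helper76.le_pCore 2 _ hP₁n hP₁2).trans
      (Cfsg.Agent.Lib.Helper76.pCore_le_sylow 2 S₁)
  apply le_antisymm hPS
  intro x hx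
  rw [Subgroup.mem_subgroupOf]
  exact hQP ⟨x, hx, rfl⟩

/-- a complement `K` of `O_2(G)` in `G₁`, with the Frattini-type factorisation `G = G₁ N_G(K)` -/
theorem exists_hall_compl (h : THyp G)
    (IH : ∀ (H : Type u) [Group H], THyp H → Nat.card H < Nat.card G →
      ∀ S : Sylow 2 H, (S : Subgroup H).Normal)
    (G₁ : Subgroup G) (hn : G₁.Normal) (hidx : G₁.index = 2) (hP : pCore 2 G ≤ G₁)
    (htr : ∀ x y : G, x ≠ 1 → x * x = 1 → y ≠ 1 → y * y = 1 → ∃ g ∈ G₁, g * x * g⁻¹ = y) :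
    ∃ K : Subgroup G, K ≤ G₁ ∧ (Nat.card K).Coprime 2 ∧
      (∀ x ∈ G₁, ∃ p ∈ pCore 2 G, ∃ k ∈ K, x = p * k) ∧
      (∀ g : G, ∃ c ∈ G₁, ∀ y : G, y ∈ K ↔ (c⁻¹ * g) * y * (c⁻¹ * g)⁻¹ ∈ K) := by
  haveI := h.fin
  haveI := h.sol
  haveI : Fact (Nat.Prime 2) := ⟨Nat.prime_two⟩
  haveI := hn
  obtain ⟨S₁⟩ : Nonempty (Sylow 2 ↥G₁) := inferInstance
  have hPS := core_subgroupOf_eq_sylow h IH G₁ hn hidx hP htr S₁
  set P₁ : Subgroup ↥G₁ := (pCore 2 G).subgroupOf G₁ with hP₁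
  haveI hP₁n : P₁.Normal := Subgroup.Normal.subgroupOf inferInstance G₁
  have hodd : ¬ 2 ∣ P₁.index := by
    rw [hPS]; exact S₁.not_dvd_index
  have hP₁2 : IsPGroup 2 P₁ := (Cfsg.Agent.Lib.Helper76.pCore_isPGroup 2).comap_subtype
  obtain ⟨j, hj⟩ := IsPGroup.iff_card.1 hP₁2
  have hcop : (Nat.card P₁).Coprime P₁.index := by
    rw [hj]
    exact Nat.Coprime.pow_left _ ((Nat.Prime.coprime_iff_not_dvd Nat.prime_two).2 hodd)
  obtain ⟨K₁, hK₁⟩ := Subgroup.exists_right_complement'_of_coprime hcop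
  have hcardK : Nat.card K₁ = P₁.index := by
    have h1 := hK₁.card_mul_card
    have h2 := Subgroup.card_mul_index P₁
    have h3 : 0 < Nat.card P₁ := Nat.card_pos
    exact Nat.eq_of_mul_eq_mul_left h3 (h1.trans h2.symm)
  have hKodd : (Nat.card K₁).Coprime 2 := by
    rw [hcardK]
    exact ((Nat.Prime.coprime_iff_not_dvd Nat.prime_two).2 hodd).symm
  refine ⟨K₁.map G₁.subtype, ?_, ?_, ?_, ?_⟩
  · rintro _ ⟨k, -, rfl⟩
    exact k.2
  · rw [Subgroup.card_map_of_injective G₁.subtype_injective]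
    exact hKodd
  · intro x hx
    obtain ⟨⟨⟨p, hp⟩, ⟨k, hk⟩⟩, hpk⟩ := (Subgroup.isComplement'_def.1 hK₁).2 ⟨x, hx⟩
    refine ⟨(p : G), Subgroup.mem_subgroupOf.1 hp, (k : G), ⟨k, hk, rfl⟩, ?_⟩
    have := congrArg Subtype.val hpk
    simpa using this.symm
  · intro g
    -- the conjugate complement
    set φ : MulAut ↥G₁ := MulAut.conjNormal g with hφ
    set K₂ : Subgroup ↥G₁ := K₁.map φ.toMonoidHom with hK₂
    have hcardK₂ : Nat.card K₂ = Nat.card K₁ :=
      Subgroup.card_map_of_injective (f := φ.toMonoidHom) φ.injective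
    have hK₂c : P₁.IsComplement' K₂ := by
      apply Subgroup.isComplement'_of_coprime
      · rw [hcardK₂]; exact hK₁.card_mul_card
      · rw [hcardK₂, hj]
        exact Nat.Coprime.pow_left _ hKodd.symm
    have hcop2 : (Nat.card P₁).Coprime (Nat.card K₁) := by
      rw [hj]; exact Nat.Coprime.pow_left _ hKodd.symm
    obtain ⟨c, hc⟩ := Cfsg.Agent.Lib.Helper1.exists_conj_eq_of_isComplement' P₁ K₁ K₂ hK₁ hK₂c
      hcop2 (Or.inr inferInstance)
    refine ⟨(c : G), c.2, ?_⟩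
    -- membership in `K₂`
    have hmemK₂ : ∀ z : ↥G₁, z ∈ K₂ ↔ ∃ k ∈ K₁, (z : G) = g * (k : G) * g⁻¹ := by
      intro z
      constructor
      · rintro ⟨k, hk, rfl⟩
        exact ⟨k, hk, by simp [hφ, MulAut.conjNormal_apply]⟩
      · rintro ⟨k, hk, hz⟩
        refine ⟨k, hk, ?_⟩
        apply Subtype.ext
        rw [hz]
        simp [hφ, MulAut.conjNormal_apply]
    have hmemc : ∀ z : ↥G₁, z ∈ K₂ ↔ c⁻¹ * z * c ∈ K₁ := by
      intro z
      rw [← hc, Subgroup.mem_pointwise_smul_iff_inv_smul_mem]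
      simp [MulAut.smul_def]
    intro y
    constructor
    · rintro ⟨k, hk, rfl⟩
      have h1 : (⟨g * (k : G) * g⁻¹, hn.conj_mem _ k.2 g⟩ : ↥G₁) ∈ K₂ :=
        (hmemK₂ _).2 ⟨k, hk, rfl⟩
      have h2 := (hmemc _).1 h1
      refine ⟨_, h2, ?_⟩
      simp only [Subgroup.subtype_apply, Subgroup.coe_mul, Subgroup.coe_inv]
      group
    · rintro ⟨k', hk', hk'y⟩
      have hk'y' : ((c : G)⁻¹ * g) * y * ((c : G)⁻¹ * g)⁻¹ = (k' : G) := hk'y.symm
      have h1 : c * k' * c⁻¹ ∈ K₂ := by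
        rw [hmemc]
        have : c⁻¹ * (c * k' * c⁻¹) * c = k' := by group
        rw [this]; exact hk'
      obtain ⟨k, hk, hkk⟩ := (hmemK₂ _).1 h1
      refine ⟨k, hk, ?_⟩
      have h3 : (c : G) * (k' : G) * (c : G)⁻¹ = g * (k : G) * g⁻¹ := by
        simpa using hkk
      rw [← hk'y'] at h3
      have h4 : (k : G) = g⁻¹ * ((c : G) * ((c : G)⁻¹ * g * y * ((c : G)⁻¹ * g)⁻¹) * (c : G)⁻¹) * g := by
        rw [h3]; group
      rw [Subgroup.subtype_apply, h4]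
      group

/-- an element of even order has a power which is an involution -/
theorem exists_pow_involution_of_even [Finite G] {x : G} (h2 : 2 ∣ orderOf x) :
    ∃ j : ℕ, x ^ j ≠ 1 ∧ x ^ j * x ^ j = 1 := by
  obtain ⟨j, hj⟩ := h2
  have hpos : 0 < orderOf x := orderOf_pos x
  refine ⟨j, ?_, ?_⟩
  · apply pow_ne_one_of_lt_orderOf
    · rintro rfl; omega
    · omega
  · rw [← pow_add, ← two_mul, ← hj, pow_orderOf_eq_one]

/-- [T-A2] -/
theorem THyp.index_two_absurd (h : THyp G)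
    (IH : ∀ (H : Type u) [Group H], THyp H → Nat.card H < Nat.card G →
      ∀ S : Sylow 2 H, (S : Subgroup H).Normal)
    (G₁ : Subgroup G) (hn : G₁.Normal) (hidx : G₁.index = 2) (hP : pCore 2 G ≤ G₁)
    (htr : ∀ x y : G, x ≠ 1 → x * x = 1 → y ≠ 1 → y * y = 1 → ∃ g ∈ G₁, g * x * g⁻¹ = y) :
    False := by
  haveI := h.fin
  haveI : Fact (Nat.Prime 2) := ⟨Nat.prime_two⟩
  obtain ⟨K, hKG₁, hKodd, hfac, hfr⟩ := exists_hall_compl h IH G₁ hn hidx hP htr
  have hPn : (pCore 2 G).Normal := inferInstance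
  have hP2 : IsPGroup 2 ↥(pCore 2 G) := Cfsg.Agent.Lib.Helper76.pCore_isPGroup 2
  have hdisj : ∀ x : G, x ∈ pCore 2 G → x ∈ K → x = 1 := by
    intro x hxP hxK
    obtain ⟨j, hj⟩ := IsPGroup.iff_card.1 hP2
    have hcop : (Nat.card ↥(pCore 2 G)).Coprime (Nat.card K) := by
      rw [hj]; exact Nat.Coprime.pow_left _ hKodd.symm
    have hbot := (Subgroup.disjoint_of_coprime_natCard hcop).eq_bot
    have : x ∈ pCore 2 G ⊓ K := Subgroup.mem_inf.2 ⟨hxP, hxK⟩
    rwa [hbot, Subgroup.mem_bot] at this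
  -- an element of `O_2(G)` normalising `K` is trivial
  have hnorm : ∀ p ∈ pCore 2 G, (∀ y : G, y ∈ K ↔ p * y * p⁻¹ ∈ K) → p = 1 := by
    intro p hp hpK
    by_contra hp1
    -- `p` centralises `K`
    have hcent : ∀ k ∈ K, p * k = k * p := by
      intro k hk
      have h1 : p * k * p⁻¹ * k⁻¹ ∈ K := K.mul_mem ((hpK k).1 hk) (K.inv_mem hk)
      have h2 : p * k * p⁻¹ * k⁻¹ ∈ pCore 2 G := by
        have : p * k * p⁻¹ * k⁻¹ = p * (k * p⁻¹ * k⁻¹) := by group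
        rw [this]
        exact (pCore 2 G).mul_mem hp (hPn.conj_mem _ ((pCore 2 G).inv_mem hp) k)
      have h3 := hdisj _ h2 h1
      have : p * k = (p * k * p⁻¹ * k⁻¹) * (k * p) := by group
      rw [this, h3, one_mul]
    -- an involution in `⟨p⟩`
    have h2o : 2 ∣ orderOf p := by
      obtain ⟨m, hm⟩ := hP2 ⟨p, hp⟩
      have hm' : p ^ (2 ^ m) = 1 := by
        have := congrArg Subtype.val hm
        simpa using this
      obtain ⟨m', -, hm'⟩ := (Nat.dvd_prime_pow Nat.prime_two).1 (orderOf_dvd_of_pow_eq_one hm')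
      rw [hm']
      cases m' with
      | zero =>
        exfalso
        rw [pow_zero, orderOf_eq_one_iff] at hm'
        exact hp1 hm'
      | succ m'' => exact ⟨2 ^ m'', by rw [pow_succ]; ring⟩
    obtain ⟨j, hz1, hz2⟩ := exists_pow_involution_of_even h2o
    have hzK : ∀ k ∈ K, p ^ j * k = k * p ^ j := by
      intro k hk
      exact ((Commute.pow_left (hcent k hk) j)).eq
    have hzP := (Cfsg.Agent.Lib.Helper84.Suz2.THyp.inv_mem h hz1 hz2).2
    have hzG₁ : ∀ x ∈ G₁, x * p ^ j = p ^ j * x := by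
      intro x hx
      obtain ⟨p', hp', k, hk, rfl⟩ := hfac x hx
      rw [mul_assoc, ← hzK k hk, ← mul_assoc, hzP p' hp', mul_assoc]
    obtain ⟨x, y, hxy, hx1, hx2, hy1, hy2⟩ := h.two
    obtain ⟨g, hg, hgx⟩ := htr (p ^ j) x hz1 hz2 hx1 hx2
    obtain ⟨g', hg', hgy⟩ := htr (p ^ j) y hz1 hz2 hy1 hy2
    apply hxy
    rw [← hgx, ← hgy, hzG₁ g hg, hzG₁ g' hg']
    group
  -- an element outside `G₁`
  obtain ⟨g₀, hg₀⟩ : ∃ g₀ : G, g₀ ∉ G₁ := by
    by_contra hcon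
    push Not at hcon
    have : G₁ = ⊤ := (Subgroup.eq_top_iff' G₁).2 hcon
    rw [this, Subgroup.index_top] at hidx
    omega
  obtain ⟨c, hc, hcn⟩ := hfr g₀
  set n : G := c⁻¹ * g₀ with hndef
  have hnG₁ : n ∉ G₁ := by
    intro hh
    apply hg₀
    have : g₀ = c * n := by rw [hndef]; group
    rw [this]
    exact G₁.mul_mem hc hh
  have hnN : n ∈ Subgroup.normalizer (K : Set G) := Subgroup.mem_normalizer_iff.2 hcn
  have h2o : 2 ∣ orderOf n := by
    by_contra hodd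
    apply hnG₁
    have hodd' : orderOf n % 2 = 1 := by omega
    have h1 : n = (n ^ 2) ^ ((orderOf n + 1) / 2) := by
      rw [← pow_mul]
      have : 2 * ((orderOf n + 1) / 2) = orderOf n + 1 := by omega
      rw [this, pow_succ, pow_orderOf_eq_one, one_mul]
    rw [h1]
    exact G₁.pow_mem (Subgroup.sq_mem_of_index_two hidx n) _
  obtain ⟨j, hs1, hs2⟩ := exists_pow_involution_of_even h2o
  have hsN : n ^ j ∈ Subgroup.normalizer (K : Set G) := Subgroup.pow_mem _ hnN j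
  have hsP := (Cfsg.Agent.Lib.Helper84.Suz2.THyp.inv_mem h hs1 hs2).1
  exact hs1 (hnorm _ hsP (fun y => Subgroup.mem_normalizer_iff.1 hsN y))

end Cfsg.Agent.Lib.Helper95.Suz2
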