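import Cfsg.Agent.Lib.Helper85.Suz2ThDefs
import Cfsg.Agent.Lib.Helper76.PCore

set_option autoImplicit false

namespace Cfsg.Agent.Lib.Helper95.Suz2

open Cfsg Cfsg.Agent.Lib.Helper19.Suz Cfsg.Agent.Lib.Helper85.Suz2

universe u

variable {G : Type u} [Group G]

/-- [T-FUS] -/
theorem fusion_in_normalizer [Finite G] (S : Sylow 2 G)
    (hn : ((S : Subgroup G) ⊔ pPrimeCore 2 G).Normal)
    (x y : G) (hx : x ∈ (S : Subgroup G)) (hy : y ∈ (S : Subgroup G)) (g : G) (hg : g * x * g⁻¹ = y) :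
    ∃ n ∈ Subgroup.normalizer ((S : Subgroup G) : Set G), n * x * n⁻¹ = y := by
  classical
  have : Fact (Nat.Prime 2) := ⟨Nat.prime_two⟩
  set K : Subgroup G := pPrimeCore 2 G with hK
  have hKn : K.Normal := inferInstance
  set N : Subgroup G := (S : Subgroup G) ⊔ K with hN
  have : N.Normal := hn
  have hSN : (S : Subgroup G) ≤ N := le_sup_left
  -- Frattini
  have hfr := Sylow.normalizer_sup_eq_top (S.subtype hSN)
  have hmap : ((S.subtype hSN : Sylow 2 N) : Subgroup N).map N.subtype = (S : Subgroup G) := by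
    rw [Sylow.coe_subtype, Subgroup.subgroupOf_map_subtype]
    exact inf_eq_left.2 hSN
  rw [hmap] at hfr
  have hgtop : g ∈ (Subgroup.normalizer ((S : Subgroup G) : Set G)) ⊔ N := by
    rw [hfr]; exact Subgroup.mem_top g
  have hgtop' : g ∈ (((Subgroup.normalizer ((S : Subgroup G) : Set G)) ⊔ N : Subgroup G) : Set G) := hgtop
  rw [Subgroup.mul_normal] at hgtop'
  obtain ⟨n, hn', m, hm, rfl⟩ := Set.mem_mul.1 hgtop'
  have hm' : m ∈ (((S : Subgroup G) ⊔ K : Subgroup G) : Set G) := hm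
  rw [Subgroup.mul_normal] at hm'
  obtain ⟨s, hs, k, hk, rfl⟩ := Set.mem_mul.1 hm'
  have hsn : s ∈ Subgroup.normalizer ((S : Subgroup G) : Set G) := Subgroup.le_normalizer hs
  refine ⟨n * s, mul_mem hn' hsn, ?_⟩
  -- k x k⁻¹ ∈ S
  have hnsn := mul_mem hn' hsn
  have h1 : k * x * k⁻¹ = (n * s)⁻¹ * y * (n * s) := by
    rw [← hg]; group
  have h2 : k * x * k⁻¹ ∈ (S : Subgroup G) := by
    rw [h1]
    have hinv : (n * s)⁻¹ ∈ Subgroup.normalizer ((S : Subgroup G) : Set G) :=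
      Subgroup.inv_mem _ hnsn
    have h3 := ((Subgroup.mem_normalizer_iff (H := (S : Subgroup G))).1 hinv y).1 hy
    simpa using h3
  have h3 : k * x * k⁻¹ * x⁻¹ ∈ (S : Subgroup G) ⊓ K := by
    refine Subgroup.mem_inf.2 ⟨mul_mem h2 (inv_mem hx), ?_⟩
    have : k * x * k⁻¹ * x⁻¹ = k * (x * k⁻¹ * x⁻¹) := by group
    rw [this]
    exact mul_mem hk (hKn.conj_mem _ (inv_mem hk) x)
  have hcop : Nat.Coprime (Nat.card (S : Subgroup G)) (Nat.card K) := by
    obtain ⟨j, hj⟩ := (IsPGroup.iff_card.1 S.isPGroup')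
    rw [hj]
    exact Nat.Coprime.pow_left _ (Cfsg.Agent.Lib.Helper76.pPrimeCore_coprime 2).symm
  have hbot := (Subgroup.disjoint_of_coprime_natCard hcop).eq_bot
  rw [hbot, Subgroup.mem_bot] at h3
  have h4 : k * x * k⁻¹ = x := by
    have := congrArg (· * x) h3
    simpa using this
  calc n * s * x * (n * s)⁻¹ = n * s * (k * x * k⁻¹) * (n * s)⁻¹ := by rw [h4]
    _ = n * (s * k) * x * (n * (s * k))⁻¹ := by group
    _ = y := hg

end Cfsg.Agent.Lib.Helper95.Suz2
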