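import Cfsg.Agent.Lib.Helper85.Suz2ThDefs

set_option autoImplicit false

namespace Cfsg.Agent.Lib.Helper95.Suz2

open Cfsg Cfsg.Agent.Lib.Helper19.Suz Cfsg.Agent.Lib.Helper85.Suz2

universe u

variable {G : Type u} [Group G]

/-- [T-SUP] -/
theorem sup_normal_of_quotient [Finite G] (S : Sylow 2 G)
    (hq : ∀ T : Sylow 2 (G ⧸ pPrimeCore 2 G), (T : Subgroup (G ⧸ pPrimeCore 2 G)).Normal) :
    ((S : Subgroup G) ⊔ pPrimeCore 2 G).Normal := by
  classical
  have : Fact (Nat.Prime 2) := ⟨Nat.prime_two⟩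
  have hsurj : Function.Surjective (QuotientGroup.mk' (pPrimeCore 2 G)) :=
    QuotientGroup.mk'_surjective _
  have h1 := hq (Sylow.mapSurjective hsurj S)
  rw [Sylow.coe_mapSurjective] at h1
  have h2 := h1.comap (QuotientGroup.mk' (pPrimeCore 2 G))
  rw [Subgroup.comap_map_eq, QuotientGroup.ker_mk'] at h2
  exact h2

end Cfsg.Agent.Lib.Helper95.Suz2
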