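import Mathlib
import Cfsg.Prelude.Def_GeometricClasses
import Cfsg.Agent.Lib.Helper99.AschDefs
import Cfsg.Agent.Lib.Helper99.AschDefsR

/-!
# BHR-[E5] (helper99's project ASCH, second sheet) (helper95)

`decomp_planes_card_two`: over `F₂` the stabiliser of a decomposition into planes preserves the direct sum of the
determinant forms of the planes, a symplectic form.

The general part (`planeForm`, `planeForm_map`) works over any field: an element `g` of the stabiliser multiplies
the form on the `i`-th plane by the determinant `c i` of `g : D i → D (σ i)` in the chosen bases.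
-/

set_option autoImplicit false

namespace Cfsg.Agent.Lib.Helper95.BhrE5

open Cfsg Cfsg.Geo Module
open scoped MatrixGroups Matrix

variable {n : ℕ} {F : Type*} [Field F]

section general
variable {t : ℕ} {D : Fin t → Submodule F (Fin n → F)} (hint : DirectSum.IsInternal D)
  (b : ∀ i, Basis (Fin 2) F (D i))

/-- the direct sum of the determinant forms of the planes (in the bases `b i`) -/
noncomputable def planeForm : (Fin n → F) →ₗ[F] (Fin n → F) →ₗ[F] F :=
  LinearMap.mk₂ F
    (fun u v => ∑ i : Fin t,
      ((hint.collectedBasis b).repr u ⟨i, 0⟩ * (hint.collectedBasis b).repr v ⟨i, 1⟩ -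
        (hint.collectedBasis b).repr u ⟨i, 1⟩ * (hint.collectedBasis b).repr v ⟨i, 0⟩))
    (by
      intro u u' v
      rw [← Finset.sum_add_distrib]
      refine Finset.sum_congr rfl fun i _ => ?_
      simp only [map_add, Finsupp.add_apply]
      ring)
    (by
      intro c u v
      rw [Finset.smul_sum]
      refine Finset.sum_congr rfl fun i _ => ?_
      simp only [map_smul, Finsupp.smul_apply, smul_eq_mul]
      ring)
    (by
      intro u v v'
      rw [← Finset.sum_add_distrib]
      refine Finset.sum_congr rfl fun i _ => ?_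
      simp only [map_add, Finsupp.add_apply]
      ring)
    (by
      intro c u v
      rw [Finset.smul_sum]
      refine Finset.sum_congr rfl fun i _ => ?_
      simp only [map_smul, Finsupp.smul_apply, smul_eq_mul]
      ring)

theorem planeForm_apply (u v : Fin n → F) :
    planeForm hint b u v = ∑ i : Fin t,
      ((hint.collectedBasis b).repr u ⟨i, 0⟩ * (hint.collectedBasis b).repr v ⟨i, 1⟩ -
        (hint.collectedBasis b).repr u ⟨i, 1⟩ * (hint.collectedBasis b).repr v ⟨i, 0⟩) := rfl

theorem planeForm_skew (u v : Fin n → F) : planeForm hint b u v = -planeForm hint b v u := by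
  rw [planeForm_apply, planeForm_apply, ← Finset.sum_neg_distrib]
  refine Finset.sum_congr rfl fun i _ => ?_
  ring

theorem planeForm_self (u : Fin n → F) : planeForm hint b u u = 0 := by
  rw [planeForm_apply]
  apply Finset.sum_eq_zero
  intro i _
  ring

/-- the form vanishes between different planes -/
theorem planeForm_of_mem_ne {x y : Fin n → F} {a c : Fin t} (hx : x ∈ D a) (hy : y ∈ D c)
    (hac : a ≠ c) : planeForm hint b x y = 0 := by
  rw [planeForm_apply]
  apply Finset.sum_eq_zero
  intro i _
  by_cases hia : i = a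
  · have hci : c ≠ i := by
      rintro rfl
      exact hac hia.symm
    rw [hint.collectedBasis_repr_of_mem_ne b hci hy, hint.collectedBasis_repr_of_mem_ne b hci hy]
    ring
  · have hai : a ≠ i := fun h => hia h.symm
    rw [hint.collectedBasis_repr_of_mem_ne b hai hx, hint.collectedBasis_repr_of_mem_ne b hai hx]
    ring

/-- on a plane the form is the determinant in the chosen basis -/
theorem planeForm_of_mem {x y : Fin n → F} {a : Fin t} (hx : x ∈ D a) (hy : y ∈ D a) :
    planeForm hint b x y = (b a).det ![⟨x, hx⟩, ⟨y, hy⟩] := by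
  rw [planeForm_apply, Finset.sum_eq_single a]
  · rw [hint.collectedBasis_repr_of_mem b hx, hint.collectedBasis_repr_of_mem b hx,
      hint.collectedBasis_repr_of_mem b hy, hint.collectedBasis_repr_of_mem b hy,
      Basis.det_apply, Matrix.det_fin_two]
    simp only [Basis.toMatrix_apply, Matrix.cons_val_zero, Matrix.cons_val_one]
    ring
  · intro i _ hia
    have hai : a ≠ i := fun h => hia h.symm
    rw [hint.collectedBasis_repr_of_mem_ne b hai hx, hint.collectedBasis_repr_of_mem_ne b hai hx]
    ring
  · intro h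
    exact absurd (Finset.mem_univ a) h

/-- value against a basis vector -/
theorem planeForm_basis_one (v : Fin n → F) (i : Fin t) :
    planeForm hint b v (hint.collectedBasis b ⟨i, 1⟩) = (hint.collectedBasis b).repr v ⟨i, 0⟩ := by
  rw [planeForm_apply]
  simp only [Basis.repr_self, Finsupp.single_apply]
  rw [Finset.sum_eq_single i]
  · simp
  · intro i' _ hi'
    simp [Ne.symm hi']
  · intro h
    exact absurd (Finset.mem_univ i) h

theorem planeForm_basis_zero (v : Fin n → F) (i : Fin t) :
    planeForm hint b v (hint.collectedBasis b ⟨i, 0⟩) = -(hint.collectedBasis b).repr v ⟨i, 1⟩ := by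
  rw [planeForm_apply]
  simp only [Basis.repr_self, Finsupp.single_apply]
  rw [Finset.sum_eq_single i]
  · simp
  · intro i' _ hi'
    simp [Ne.symm hi']
  · intro h
    exact absurd (Finset.mem_univ i) h

theorem planeForm_nondegenerate :
    IsNondegenerateForm (fun u v : Fin n → F => planeForm hint b u v) := by
  intro v hv
  have hr : (hint.collectedBasis b).repr v ≠ 0 := by
    intro h
    exact hv ((hint.collectedBasis b).repr.map_eq_zero_iff.mp h)
  obtain ⟨⟨i, k⟩, hik⟩ : ∃ p, (hint.collectedBasis b).repr v p ≠ 0 := by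
    by_contra hcon
    push Not at hcon
    exact hr (Finsupp.ext hcon)
  have key : ∃ x, planeForm hint b v x ≠ 0 := by
    fin_cases k
    · refine ⟨hint.collectedBasis b ⟨i, 1⟩, ?_⟩
      rw [planeForm_basis_one]
      exact hik
    · refine ⟨hint.collectedBasis b ⟨i, 0⟩, ?_⟩
      rw [planeForm_basis_zero]
      exact neg_ne_zero.mpr hik
  obtain ⟨x, hx⟩ := key
  refine ⟨⟨x, ?_⟩, ⟨x, hx⟩⟩
  show planeForm hint b x v ≠ 0
  rw [planeForm_skew]
  exact neg_ne_zero.mpr hx

theorem planeForm_isBilinear : IsBilinearForm (fun u v : Fin n → F => planeForm hint b u v) where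
  add_left x y v := by simp only [map_add, LinearMap.add_apply]
  smul_left c x v := by simp only [map_smul, LinearMap.smul_apply, smul_eq_mul]
  add_right v x y := by simp only [map_add]
  smul_right c v x := by simp only [map_smul, smul_eq_mul]

theorem planeForm_isSymplectic : IsSymplecticForm (fun u v : Fin n → F => planeForm hint b u v) where
  bilinear := planeForm_isBilinear hint b
  skew := planeForm_skew hint b
  alternating := planeForm_self hint b
  nondegenerate := planeForm_nondegenerate hint b

/-- an element of the stabiliser scales the form on the `i`-th plane by a non-zero factor -/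
theorem planeForm_map (hfr : ∀ i, finrank F (D i) = 2) (g : GL (Fin n) F) (σ : Equiv.Perm (Fin t))
    (hσ : ∀ i, (D i).map (Matrix.toLin' (g : Matrix (Fin n) (Fin n) F)) = D (σ i)) (i : Fin t) :
    ∃ c : F, c ≠ 0 ∧ ∀ x ∈ D i, ∀ y ∈ D i,
      planeForm hint b ((g : Matrix (Fin n) (Fin n) F) *ᵥ x) ((g : Matrix (Fin n) (Fin n) F) *ᵥ y) =
        c * planeForm hint b x y := by
  set G : (Fin n → F) →ₗ[F] (Fin n → F) := Matrix.toLin' (g : Matrix (Fin n) (Fin n) F) with hG
  have hGmem : ∀ x ∈ D i, G x ∈ D (σ i) := by
    intro x hx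
    rw [← hσ i]
    exact Submodule.mem_map_of_mem hx
  have hGinj : Function.Injective G := by
    intro x y hxy
    have h1 : ((g⁻¹ : GL (Fin n) F) : Matrix (Fin n) (Fin n) F) *ᵥ (G x) =
        ((g⁻¹ : GL (Fin n) F) : Matrix (Fin n) (Fin n) F) *ᵥ (G y) := by rw [hxy]
    simpa [hG, Matrix.toLin'_apply, Matrix.mulVec_mulVec, ← Units.val_mul] using h1
  set φ : D i →ₗ[F] D (σ i) := G.restrict hGmem with hφ
  have hφinj : Function.Injective φ := by
    intro x y hxy
    have := congrArg (fun z : D (σ i) => (z : Fin n → F)) hxy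
    exact Subtype.ext (hGinj this)
  set A : (D i) [⋀^Fin 2]→ₗ[F] F := (b (σ i)).det.compLinearMap φ with hA
  have hAeq := AlternatingMap.eq_smul_basis_det (b i) A
  set c : F := A (b i) with hc
  have hli : LinearIndependent F (fun l => φ (b i l)) :=
    (b i).linearIndependent.map' φ (LinearMap.ker_eq_bot.mpr hφinj)
  haveI : FiniteDimensional F (D (σ i)) := inferInstance
  have hspan : Submodule.span F (Set.range fun l => φ (b i l)) = ⊤ :=
    hli.span_eq_top_of_card_eq_finrank' (by rw [Fintype.card_fin, hfr])
  have hunit : IsUnit ((b (σ i)).det fun l => φ (b i l)) :=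
    (Module.Basis.is_basis_iff_det (b (σ i))).mp ⟨hli, hspan⟩
  have hc0 : c ≠ 0 := by
    rw [hc, hA, AlternatingMap.compLinearMap_apply]
    exact hunit.ne_zero
  refine ⟨c, hc0, fun x hx y hy => ?_⟩
  have e1 : (g : Matrix (Fin n) (Fin n) F) *ᵥ x = G x := by rw [hG, Matrix.toLin'_apply]
  have e2 : (g : Matrix (Fin n) (Fin n) F) *ᵥ y = G y := by rw [hG, Matrix.toLin'_apply]
  rw [e1, e2, planeForm_of_mem hint b (hGmem x hx) (hGmem y hy), planeForm_of_mem hint b hx hy]
  have e3 : (b (σ i)).det ![⟨G x, hGmem x hx⟩, ⟨G y, hGmem y hy⟩] = A ![⟨x, hx⟩, ⟨y, hy⟩] := by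
    rw [hA, AlternatingMap.compLinearMap_apply]
    congr 1
    funext l
    fin_cases l <;> rfl
  rw [e3, hAeq, AlternatingMap.smul_apply, smul_eq_mul]

/-- an element of the stabiliser all of whose plane factors are `c` is a similarity with multiplier `c` -/
theorem planeForm_similarity (g : GL (Fin n) F) (σ : Equiv.Perm (Fin t))
    (hσ : ∀ i, (D i).map (Matrix.toLin' (g : Matrix (Fin n) (Fin n) F)) = D (σ i)) (c : F)
    (hc : ∀ i, ∀ x ∈ D i, ∀ y ∈ D i,
      planeForm hint b ((g : Matrix (Fin n) (Fin n) F) *ᵥ x) ((g : Matrix (Fin n) (Fin n) F) *ᵥ y) =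
        c * planeForm hint b x y) (u v : Fin n → F) :
    planeForm hint b ((g : Matrix (Fin n) (Fin n) F) *ᵥ u) ((g : Matrix (Fin n) (Fin n) F) *ᵥ v) =
      c * planeForm hint b u v := by
  set G : (Fin n → F) →ₗ[F] (Fin n → F) := Matrix.toLin' (g : Matrix (Fin n) (Fin n) F) with hG
  have hGmem : ∀ i, ∀ x ∈ D i, G x ∈ D (σ i) := by
    intro i x hx
    rw [← hσ i]
    exact Submodule.mem_map_of_mem hx
  have key : (planeForm hint b).compl₁₂ G G = c • planeForm hint b := by
    apply LinearMap.ext_basis (hint.collectedBasis b) (hint.collectedBasis b)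
    rintro ⟨i, k⟩ ⟨i', k'⟩
    rw [LinearMap.compl₁₂_apply, LinearMap.smul_apply, LinearMap.smul_apply, smul_eq_mul]
    have hm := hint.collectedBasis_mem b ⟨i, k⟩
    have hm' := hint.collectedBasis_mem b ⟨i', k'⟩
    by_cases hii : i = i'
    · subst hii
      have := hc i _ hm _ hm'
      rw [hG, Matrix.toLin'_apply, Matrix.toLin'_apply]
      exact this
    · rw [planeForm_of_mem_ne hint b (hGmem i _ hm) (hGmem i' _ hm') (fun h => hii (σ.injective h)),
        planeForm_of_mem_ne hint b hm hm' hii, mul_zero]
  have := LinearMap.congr_fun (LinearMap.congr_fun key u) v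
  rw [LinearMap.compl₁₂_apply, LinearMap.smul_apply, LinearMap.smul_apply, smul_eq_mul, hG,
    Matrix.toLin'_apply, Matrix.toLin'_apply] at this
  exact this

end general

end Cfsg.Agent.Lib.Helper95.BhrE5

namespace Cfsg.Agent.Lib.Helper99.Asch

open Cfsg Cfsg.Geo
open scoped MatrixGroups Matrix Kronecker

variable {n : ℕ} {F : Type*} [Field F] [Fintype F]

/-- BHR-[E5] -/
theorem decomp_planes_card_two {t : ℕ} (D : Fin t → Submodule F (Fin n → F))
    (hD : IsMDecomposition 2 D) (hq : Fintype.card F = 2) :
    ∃ f : (Fin n → F) → (Fin n → F) → F, IsSymplecticForm f ∧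
      decompositionStabilizer D ≤ similarityGroup f := by
  classical
  have hint : DirectSum.IsInternal D :=
    DirectSum.isInternal_submodule_of_iSupIndep_of_iSup_eq_top hD.indep hD.iSup_eq_top
  let b : ∀ i, Module.Basis (Fin 2) F (D i) := fun i => Module.finBasisOfFinrankEq F (D i) (hD.finrank_eq i)
  have hone : ∀ c : F, c ≠ 0 → c = 1 := by
    intro c hc
    by_contra h1
    have h3 : ({0, 1, c} : Finset F).card = 3 := by
      rw [Finset.card_insert_of_notMem, Finset.card_insert_of_notMem, Finset.card_singleton]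
      · rw [Finset.mem_singleton]; exact fun h => h1 h.symm
      · rw [Finset.mem_insert, Finset.mem_singleton]
        rintro (h | h)
        · exact zero_ne_one h
        · exact hc h.symm
    have := Finset.card_le_univ ({0, 1, c} : Finset F)
    rw [h3, hq] at this
    omega
  refine ⟨fun u v => Cfsg.Agent.Lib.Helper95.BhrE5.planeForm hint b u v,
    Cfsg.Agent.Lib.Helper95.BhrE5.planeForm_isSymplectic hint b, ?_⟩
  rintro g ⟨σ, hσ⟩
  refine ⟨1, fun u v => ?_⟩
  rw [Units.val_one]
  apply Cfsg.Agent.Lib.Helper95.BhrE5.planeForm_similarity hint b g σ hσ 1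
  intro i x hx y hy
  obtain ⟨c, hc0, hc⟩ := Cfsg.Agent.Lib.Helper95.BhrE5.planeForm_map hint b hD.finrank_eq g σ hσ i
  rw [hc x hx y hy, hone c hc0]

end Cfsg.Agent.Lib.Helper99.Asch
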