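import Mathlib
import Cfsg.Prelude.Def_GeometricClasses
import Cfsg.Agent.Lib.Helper99.AschDefs
import Cfsg.Agent.Lib.Helper99.AschDefsR

/-!
# BHR-[E8] (helper99's project ASCH, second sheet) (helper95)

`tensor_two_card_two`: over `F₂` the tensor product group `GL₂(2) ⊗ GL_m(2)` normalises the field subalgebra
`F₄ ⊗ 1`, where `F₄ = F₂[k₀] ⊂ M₂(F₂)`, `k₀ = !![0,1;1,1]`.
-/

set_option autoImplicit false

namespace Cfsg.Agent.Lib.Helper95.BhrE8

open Cfsg Cfsg.Geo Module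
open scoped MatrixGroups Matrix Kronecker

variable {F : Type*} [Field F]

/-- `k₀ = !![0,1;1,1]`, a root of `X² - X - 1` -/
def k0 : Matrix (Fin 2) (Fin 2) F := !![0, 1; 1, 1]

/-- the subalgebra `F[k₀]` of `M₂(F)` -/
def K0 : Subalgebra F (Matrix (Fin 2) (Fin 2) F) where
  carrier := {m | ∃ x y : F, m = x • (1 : Matrix (Fin 2) (Fin 2) F) + y • k0}
  mul_mem' := by
    rintro _ _ ⟨x, y, rfl⟩ ⟨x', y', rfl⟩
    refine ⟨x * x' + y * y', x * y' + y * x' + y * y', ?_⟩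
    ext i j
    fin_cases i <;> fin_cases j <;>
      simp [k0, Matrix.mul_apply, Fin.sum_univ_two, Matrix.one_apply] <;> ring
  one_mem' := ⟨1, 0, by simp⟩
  add_mem' := by
    rintro _ _ ⟨x, y, rfl⟩ ⟨x', y', rfl⟩
    exact ⟨x + x', y + y', by rw [add_smul, add_smul]; abel⟩
  zero_mem' := ⟨0, 0, by simp⟩
  algebraMap_mem' := fun c => ⟨c, 0, by simp [Algebra.algebraMap_eq_smul_one]⟩

theorem mem_K0 (m : Matrix (Fin 2) (Fin 2) F) :
    m ∈ (K0 : Subalgebra F (Matrix (Fin 2) (Fin 2) F)) ↔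
      ∃ x y : F, m = x • (1 : Matrix (Fin 2) (Fin 2) F) + y • k0 := Iff.rfl

theorem K0_comm (a b : Matrix (Fin 2) (Fin 2) F) (ha : a ∈ (K0 : Subalgebra F _))
    (hb : b ∈ (K0 : Subalgebra F _)) : a * b = b * a := by
  obtain ⟨x, y, rfl⟩ := ha
  obtain ⟨x', y', rfl⟩ := hb
  ext i j
  fin_cases i <;> fin_cases j <;>
    simp [k0, Matrix.mul_apply, Fin.sum_univ_two, Matrix.one_apply] <;> ring

theorem finrank_K0 : finrank F (K0 : Subalgebra F (Matrix (Fin 2) (Fin 2) F)) = 2 := by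
  have hli : LinearIndependent F ![(1 : Matrix (Fin 2) (Fin 2) F), k0] := by
    rw [LinearIndependent.pair_iff]
    intro s t h
    have h01 := congrFun (congrFun h 0) 1
    have h00 := congrFun (congrFun h 0) 0
    simp [k0] at h01 h00
    exact ⟨h00, h01⟩
  have hspan : Subalgebra.toSubmodule (K0 : Subalgebra F (Matrix (Fin 2) (Fin 2) F)) =
      Submodule.span F (Set.range ![(1 : Matrix (Fin 2) (Fin 2) F), k0]) := by
    ext m
    rw [Subalgebra.mem_toSubmodule, mem_K0, Matrix.range_cons, Matrix.range_cons, Matrix.range_empty,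
      Set.union_empty, Set.singleton_union, Submodule.mem_span_pair]
    constructor
    · rintro ⟨x, y, rfl⟩; exact ⟨x, y, rfl⟩
    · rintro ⟨x, y, rfl⟩; exact ⟨x, y, rfl⟩
  have h : finrank F (Submodule.span F (Set.range ![(1 : Matrix (Fin 2) (Fin 2) F), k0])) = 2 := by
    rw [finrank_span_eq_card hli, Fintype.card_fin]
  exact (LinearEquiv.finrank_eq (LinearEquiv.ofEq _ _ hspan)).trans h

section two
variable [Fintype F] (hq : Fintype.card F = 2)
include hq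

theorem eq_zero_or_one (c : F) : c = 0 ∨ c = 1 := by
  classical
  by_contra hcon
  push Not at hcon
  have h3 : ({0, 1, c} : Finset F).card = 3 := by
    rw [Finset.card_insert_of_notMem, Finset.card_insert_of_notMem, Finset.card_singleton]
    · rw [Finset.mem_singleton]; exact fun h => hcon.2 h.symm
    · rw [Finset.mem_insert, Finset.mem_singleton]
      rintro (h | h)
      · exact zero_ne_one h
      · exact hcon.1 h.symm
  have := Finset.card_le_univ ({0, 1, c} : Finset F)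
  rw [h3, hq] at this
  omega

theorem one_add_one : (1 : F) + 1 = 0 := by
  rcases eq_zero_or_one hq ((1 : F) + 1) with h | h
  · exact h
  · exfalso
    have : (1 : F) = 0 := by linear_combination h
    exact one_ne_zero this

/-- a `2 × 2` matrix over `F₂` of trace `1` and determinant `1` is `k₀` or `k₀ + 1` -/
theorem eq_k0_or (m : Matrix (Fin 2) (Fin 2) F) (htr : m.trace = 1) (hdet : m.det = 1) :
    m = k0 ∨ m = k0 + 1 := by
  have h2 := one_add_one hq
  rw [Matrix.trace_fin_two] at htr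
  rw [Matrix.det_fin_two] at hdet
  have hq1 : m 0 1 = 1 ∧ m 1 0 = 1 → True := fun _ => trivial
  rcases eq_zero_or_one hq (m 0 0) with hp | hp
  · have hs : m 1 1 = 1 := by rw [hp, zero_add] at htr; exact htr
    rw [hp, hs, zero_mul, zero_sub] at hdet
    have hqr : m 0 1 ≠ 0 ∧ m 1 0 ≠ 0 := by
      constructor
      · intro h; rw [h, zero_mul, neg_zero] at hdet; exact zero_ne_one hdet
      · intro h; rw [h, mul_zero, neg_zero] at hdet; exact zero_ne_one hdet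
    have hq' : m 0 1 = 1 := (eq_zero_or_one hq (m 0 1)).resolve_left hqr.1
    have hr' : m 1 0 = 1 := (eq_zero_or_one hq (m 1 0)).resolve_left hqr.2
    left
    ext i j
    fin_cases i <;> fin_cases j <;> simp [k0, hp, hs, hq', hr']
  · have hs : m 1 1 = 0 := by rw [hp] at htr; linear_combination htr
    rw [hp, hs, mul_zero, zero_sub] at hdet
    have hqr : m 0 1 ≠ 0 ∧ m 1 0 ≠ 0 := by
      constructor
      · intro h; rw [h, zero_mul, neg_zero] at hdet; exact zero_ne_one hdet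
      · intro h; rw [h, mul_zero, neg_zero] at hdet; exact zero_ne_one hdet
    have hq' : m 0 1 = 1 := (eq_zero_or_one hq (m 0 1)).resolve_left hqr.1
    have hr' : m 1 0 = 1 := (eq_zero_or_one hq (m 1 0)).resolve_left hqr.2
    right
    ext i j
    fin_cases i <;> fin_cases j <;> simp [k0, hp, hs, hq', hr', h2]

/-- `GL₂(F₂)` normalises `F₂[k₀]` -/
theorem conj_mem_K0 (a : GL (Fin 2) F) (m : Matrix (Fin 2) (Fin 2) F)
    (hm : m ∈ (K0 : Subalgebra F _)) :
    (a : Matrix (Fin 2) (Fin 2) F) * m * ((a⁻¹ : GL (Fin 2) F) : Matrix (Fin 2) (Fin 2) F) ∈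
      (K0 : Subalgebra F _) := by
  obtain ⟨x, y, rfl⟩ := hm
  have hk : (a : Matrix (Fin 2) (Fin 2) F) * k0 * ((a⁻¹ : GL (Fin 2) F) : Matrix (Fin 2) (Fin 2) F) = k0 ∨
      (a : Matrix (Fin 2) (Fin 2) F) * k0 * ((a⁻¹ : GL (Fin 2) F) : Matrix (Fin 2) (Fin 2) F) = k0 + 1 := by
    apply eq_k0_or hq
    · rw [Matrix.trace_units_conj, Matrix.trace_fin_two]; simp [k0]
    · rw [Matrix.det_units_conj, Matrix.det_fin_two]
      simp only [k0, Matrix.of_apply, Matrix.cons_val', Matrix.cons_val_zero, Matrix.cons_val_one,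
        Matrix.cons_val_fin_one]
      have h2 := one_add_one hq
      linear_combination (-1 : F) * h2
  have e1 : (a : Matrix (Fin 2) (Fin 2) F) * (x • (1 : Matrix (Fin 2) (Fin 2) F) + y • k0) *
      ((a⁻¹ : GL (Fin 2) F) : Matrix (Fin 2) (Fin 2) F) =
      x • (1 : Matrix (Fin 2) (Fin 2) F) +
        y • ((a : Matrix (Fin 2) (Fin 2) F) * k0 * ((a⁻¹ : GL (Fin 2) F) : Matrix (Fin 2) (Fin 2) F)) := by
    rw [mul_add, add_mul, Matrix.mul_smul, Matrix.smul_mul, Matrix.mul_one, ← Units.val_mul,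
      mul_inv_cancel, Units.val_one, Matrix.mul_smul, Matrix.smul_mul]
  rw [e1]
  rcases hk with h | h
  · rw [h]; exact ⟨x, y, rfl⟩
  · rw [h]; exact ⟨x + y, y, by rw [smul_add, add_smul]; abel⟩

/-- non-zero elements of `F₂[k₀]` are invertible there -/
theorem K0_inv (m : Matrix (Fin 2) (Fin 2) F) (hm : m ∈ (K0 : Subalgebra F _)) (hm0 : m ≠ 0) :
    ∃ m' ∈ (K0 : Subalgebra F (Matrix (Fin 2) (Fin 2) F)), m * m' = 1 := by
  have h2 := one_add_one hq
  obtain ⟨x, y, rfl⟩ := hm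
  have hkk : (k0 : Matrix (Fin 2) (Fin 2) F) * (k0 + 1) = 1 := by
    ext i j
    fin_cases i <;> fin_cases j <;>
      simp [k0, Matrix.mul_apply, Fin.sum_univ_two, Matrix.one_apply, h2]
  rcases eq_zero_or_one hq x with rfl | rfl <;> rcases eq_zero_or_one hq y with rfl | rfl
  · exact absurd (by simp) hm0
  · refine ⟨k0 + 1, ⟨1, 1, by simp [add_comm]⟩, ?_⟩
    rw [zero_smul, zero_add, one_smul]; exact hkk
  · exact ⟨1, Subalgebra.one_mem _, by simp⟩
  · refine ⟨k0, ⟨0, 1, by simp⟩, ?_⟩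
    rw [one_smul, one_smul, add_comm]
    have : (k0 + 1 : Matrix (Fin 2) (Fin 2) F) * k0 = k0 * (k0 + 1) := by
      rw [add_mul, mul_add, one_mul, mul_one]
    rw [this, hkk]

end two

section embed
variable {n n₂ : ℕ} (e : Fin n ≃ Fin 2 × Fin n₂) (P : GL (Fin n) F)

/-- `x ↦ P (x ⊗ 1) P⁻¹` as a linear map -/
noncomputable def iotaLin : Matrix (Fin 2) (Fin 2) F →ₗ[F] Matrix (Fin n) (Fin n) F where
  toFun x := (P : Matrix (Fin n) (Fin n) F) *
    Matrix.reindexAlgEquiv F F e.symm (x ⊗ₖ (1 : Matrix (Fin n₂) (Fin n₂) F)) *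
    ((P⁻¹ : GL (Fin n) F) : Matrix (Fin n) (Fin n) F)
  map_add' x y := by
    rw [Matrix.add_kronecker, map_add, mul_add, add_mul]
  map_smul' c x := by
    rw [Matrix.smul_kronecker, map_smul, Matrix.mul_smul, Matrix.smul_mul, RingHom.id_apply]

theorem iotaLin_apply (x : Matrix (Fin 2) (Fin 2) F) :
    iotaLin e P x = (P : Matrix (Fin n) (Fin n) F) *
      Matrix.reindexAlgEquiv F F e.symm (x ⊗ₖ (1 : Matrix (Fin n₂) (Fin n₂) F)) *
      ((P⁻¹ : GL (Fin n) F) : Matrix (Fin n) (Fin n) F) := rfl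

theorem PinvP : ((P⁻¹ : GL (Fin n) F) : Matrix (Fin n) (Fin n) F) * (P : Matrix (Fin n) (Fin n) F) = 1 := by
  rw [← Units.val_mul, inv_mul_cancel, Units.val_one]

theorem PPinv : (P : Matrix (Fin n) (Fin n) F) * ((P⁻¹ : GL (Fin n) F) : Matrix (Fin n) (Fin n) F) = 1 := by
  rw [← Units.val_mul, mul_inv_cancel, Units.val_one]

/-- `x ↦ P (x ⊗ 1) P⁻¹` as an algebra homomorphism -/
noncomputable def iota : Matrix (Fin 2) (Fin 2) F →ₐ[F] Matrix (Fin n) (Fin n) F :=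
  AlgHom.ofLinearMap (iotaLin e P)
    (by rw [iotaLin_apply, Matrix.one_kronecker_one, map_one, mul_one, PPinv])
    (by
      intro x y
      rw [iotaLin_apply, iotaLin_apply, iotaLin_apply]
      have h1 : (x * y) ⊗ₖ (1 : Matrix (Fin n₂) (Fin n₂) F) =
          (x ⊗ₖ (1 : Matrix (Fin n₂) (Fin n₂) F)) * (y ⊗ₖ (1 : Matrix (Fin n₂) (Fin n₂) F)) := by
        rw [← Matrix.mul_kronecker_mul, mul_one]
      rw [h1, map_mul]
      calc (P : Matrix (Fin n) (Fin n) F) * (_ * _) * ((P⁻¹ : GL (Fin n) F) : Matrix (Fin n) (Fin n) F)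
          = (P : Matrix (Fin n) (Fin n) F) *
              Matrix.reindexAlgEquiv F F e.symm (x ⊗ₖ (1 : Matrix (Fin n₂) (Fin n₂) F)) * 1 *
              Matrix.reindexAlgEquiv F F e.symm (y ⊗ₖ (1 : Matrix (Fin n₂) (Fin n₂) F)) *
              ((P⁻¹ : GL (Fin n) F) : Matrix (Fin n) (Fin n) F) := by
            rw [mul_one]; simp only [mul_assoc]
        _ = _ := by rw [← PinvP P]; simp only [mul_assoc])

theorem iota_apply (x : Matrix (Fin 2) (Fin 2) F) :
    iota e P x = (P : Matrix (Fin n) (Fin n) F) *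
      Matrix.reindexAlgEquiv F F e.symm (x ⊗ₖ (1 : Matrix (Fin n₂) (Fin n₂) F)) *
      ((P⁻¹ : GL (Fin n) F) : Matrix (Fin n) (Fin n) F) := rfl

theorem iota_injective (hn₂ : 1 ≤ n₂) : Function.Injective (iota e P) := by
  rw [injective_iff_map_eq_zero]
  intro x hx
  rw [iota_apply] at hx
  have h1 : Matrix.reindexAlgEquiv F F e.symm (x ⊗ₖ (1 : Matrix (Fin n₂) (Fin n₂) F)) = 0 := by
    have := congrArg (fun M => ((P⁻¹ : GL (Fin n) F) : Matrix (Fin n) (Fin n) F) * M *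
      (P : Matrix (Fin n) (Fin n) F)) hx
    simp only [mul_zero, zero_mul] at this
    rw [← this]
    calc Matrix.reindexAlgEquiv F F e.symm (x ⊗ₖ (1 : Matrix (Fin n₂) (Fin n₂) F))
        = 1 * Matrix.reindexAlgEquiv F F e.symm (x ⊗ₖ (1 : Matrix (Fin n₂) (Fin n₂) F)) * 1 := by
          rw [one_mul, mul_one]
      _ = _ := by rw [← PinvP P]; simp only [mul_assoc]
  have h2 : x ⊗ₖ (1 : Matrix (Fin n₂) (Fin n₂) F) = 0 :=
    (map_eq_zero_iff _ (Matrix.reindexAlgEquiv F F e.symm).injective).mp h1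
  ext i j
  have := congrFun (congrFun h2 (i, ⟨0, hn₂⟩)) (j, ⟨0, hn₂⟩)
  simpa [Matrix.kronecker_apply] using this

/-- the key commutation: `(P (a ⊗ b) P⁻¹) ι(x) = ι(a x a⁻¹) (P (a ⊗ b) P⁻¹)` -/
theorem conj_iota (a : GL (Fin 2) F) (b : Matrix (Fin n₂) (Fin n₂) F) (x : Matrix (Fin 2) (Fin 2) F) :
    ((P : Matrix (Fin n) (Fin n) F) *
      Matrix.reindexAlgEquiv F F e.symm ((a : Matrix (Fin 2) (Fin 2) F) ⊗ₖ b) *
      ((P⁻¹ : GL (Fin n) F) : Matrix (Fin n) (Fin n) F)) * iota e P x =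
    iota e P ((a : Matrix (Fin 2) (Fin 2) F) * x * ((a⁻¹ : GL (Fin 2) F) : Matrix (Fin 2) (Fin 2) F)) *
      ((P : Matrix (Fin n) (Fin n) F) *
      Matrix.reindexAlgEquiv F F e.symm ((a : Matrix (Fin 2) (Fin 2) F) ⊗ₖ b) *
      ((P⁻¹ : GL (Fin n) F) : Matrix (Fin n) (Fin n) F)) := by
  rw [iota_apply, iota_apply]
  have hL : (P : Matrix (Fin n) (Fin n) F) *
      Matrix.reindexAlgEquiv F F e.symm ((a : Matrix (Fin 2) (Fin 2) F) ⊗ₖ b) *
      ((P⁻¹ : GL (Fin n) F) : Matrix (Fin n) (Fin n) F) *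
      ((P : Matrix (Fin n) (Fin n) F) *
        Matrix.reindexAlgEquiv F F e.symm (x ⊗ₖ (1 : Matrix (Fin n₂) (Fin n₂) F)) *
        ((P⁻¹ : GL (Fin n) F) : Matrix (Fin n) (Fin n) F)) =
      (P : Matrix (Fin n) (Fin n) F) *
        Matrix.reindexAlgEquiv F F e.symm ((((a : Matrix (Fin 2) (Fin 2) F) * x) ⊗ₖ b)) *
        ((P⁻¹ : GL (Fin n) F) : Matrix (Fin n) (Fin n) F) := by
    have h1 : ((a : Matrix (Fin 2) (Fin 2) F) * x) ⊗ₖ b =
        ((a : Matrix (Fin 2) (Fin 2) F) ⊗ₖ b) * (x ⊗ₖ (1 : Matrix (Fin n₂) (Fin n₂) F)) := by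
      rw [← Matrix.mul_kronecker_mul, mul_one]
    rw [h1, map_mul]
    calc _ = (P : Matrix (Fin n) (Fin n) F) *
          Matrix.reindexAlgEquiv F F e.symm ((a : Matrix (Fin 2) (Fin 2) F) ⊗ₖ b) *
          (((P⁻¹ : GL (Fin n) F) : Matrix (Fin n) (Fin n) F) * (P : Matrix (Fin n) (Fin n) F)) *
          Matrix.reindexAlgEquiv F F e.symm (x ⊗ₖ (1 : Matrix (Fin n₂) (Fin n₂) F)) *
          ((P⁻¹ : GL (Fin n) F) : Matrix (Fin n) (Fin n) F) := by simp only [mul_assoc]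
      _ = _ := by rw [PinvP, mul_one]; simp only [mul_assoc]
  have hR : (P : Matrix (Fin n) (Fin n) F) *
      Matrix.reindexAlgEquiv F F e.symm
        (((a : Matrix (Fin 2) (Fin 2) F) * x * ((a⁻¹ : GL (Fin 2) F) : Matrix (Fin 2) (Fin 2) F)) ⊗ₖ
          (1 : Matrix (Fin n₂) (Fin n₂) F)) *
      ((P⁻¹ : GL (Fin n) F) : Matrix (Fin n) (Fin n) F) *
      ((P : Matrix (Fin n) (Fin n) F) *
        Matrix.reindexAlgEquiv F F e.symm ((a : Matrix (Fin 2) (Fin 2) F) ⊗ₖ b) *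
        ((P⁻¹ : GL (Fin n) F) : Matrix (Fin n) (Fin n) F)) =
      (P : Matrix (Fin n) (Fin n) F) *
        Matrix.reindexAlgEquiv F F e.symm ((((a : Matrix (Fin 2) (Fin 2) F) * x) ⊗ₖ b)) *
        ((P⁻¹ : GL (Fin n) F) : Matrix (Fin n) (Fin n) F) := by
    have h1 : ((a : Matrix (Fin 2) (Fin 2) F) * x) ⊗ₖ b =
        (((a : Matrix (Fin 2) (Fin 2) F) * x * ((a⁻¹ : GL (Fin 2) F) : Matrix (Fin 2) (Fin 2) F)) ⊗ₖ
          (1 : Matrix (Fin n₂) (Fin n₂) F)) * ((a : Matrix (Fin 2) (Fin 2) F) ⊗ₖ b) := by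
      rw [← Matrix.mul_kronecker_mul, one_mul, mul_assoc, ← Units.val_mul, inv_mul_cancel, Units.val_one,
        mul_one]
    rw [h1, map_mul]
    calc _ = (P : Matrix (Fin n) (Fin n) F) *
          Matrix.reindexAlgEquiv F F e.symm
            (((a : Matrix (Fin 2) (Fin 2) F) * x * ((a⁻¹ : GL (Fin 2) F) : Matrix (Fin 2) (Fin 2) F)) ⊗ₖ
              (1 : Matrix (Fin n₂) (Fin n₂) F)) *
          (((P⁻¹ : GL (Fin n) F) : Matrix (Fin n) (Fin n) F) * (P : Matrix (Fin n) (Fin n) F)) *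
          Matrix.reindexAlgEquiv F F e.symm ((a : Matrix (Fin 2) (Fin 2) F) ⊗ₖ b) *
          ((P⁻¹ : GL (Fin n) F) : Matrix (Fin n) (Fin n) F) := by simp only [mul_assoc]
      _ = _ := by rw [PinvP, mul_one]; simp only [mul_assoc]
  rw [hL, hR]

end embed

end Cfsg.Agent.Lib.Helper95.BhrE8

namespace Cfsg.Agent.Lib.Helper99.Asch

open Cfsg Cfsg.Geo
open scoped MatrixGroups Matrix Kronecker

variable {n : ℕ} {F : Type*} [Field F] [Fintype F]

/-- BHR-[E8] -/
theorem tensor_two_card_two (n₂ : ℕ) (hn₂ : 1 ≤ n₂) (e : Fin n ≃ Fin 2 × Fin n₂) (P : GL (Fin n) F)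
    (hq : Fintype.card F = 2) :
    ∃ K : Subalgebra F (Matrix (Fin n) (Fin n) F), IsFieldSubalgebra 2 K ∧
      tensorProductSubgroup 2 n₂ e P ≤ subalgebraNormalizer K := by
  classical
  set ι := Cfsg.Agent.Lib.Helper95.BhrE8.iota e P with hι
  have hιinj := Cfsg.Agent.Lib.Helper95.BhrE8.iota_injective e P hn₂
  set K0 : Subalgebra F (Matrix (Fin 2) (Fin 2) F) := Cfsg.Agent.Lib.Helper95.BhrE8.K0 with hK0
  refine ⟨K0.map ι, ⟨?_, ?_, ?_⟩, ?_⟩
  · intro k hk k' hk'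
    obtain ⟨x, hx, rfl⟩ := Subalgebra.mem_map.mp hk
    obtain ⟨y, hy, rfl⟩ := Subalgebra.mem_map.mp hk'
    rw [← map_mul, ← map_mul, Cfsg.Agent.Lib.Helper95.BhrE8.K0_comm x y hx hy]
  · intro k hk hx0
    obtain ⟨x, hx, rfl⟩ := Subalgebra.mem_map.mp hk
    have hx0' : x ≠ 0 := by
      rintro rfl
      exact hx0 (map_zero _)
    obtain ⟨y, hy, hxy⟩ := Cfsg.Agent.Lib.Helper95.BhrE8.K0_inv hq x hx hx0'
    exact ⟨ι y, Subalgebra.mem_map.mpr ⟨y, hy, rfl⟩, by rw [← map_mul, hxy, map_one]⟩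
  · have h1 := (LinearEquiv.finrank_eq (Subalgebra.equivMapOfInjective K0 ι hιinj).toLinearEquiv).symm
    rw [h1]
    exact Cfsg.Agent.Lib.Helper95.BhrE8.finrank_K0
  · -- the normaliser
    have fwd : ∀ g ∈ tensorProductSubgroup 2 n₂ e P, ∀ k ∈ K0.map ι,
        (g : Matrix (Fin n) (Fin n) F) * k * ((g⁻¹ : GL (Fin n) F) : Matrix (Fin n) (Fin n) F) ∈
          K0.map ι := by
      intro g hg k0' hk0'
      obtain ⟨x, hx, rfl⟩ := Subalgebra.mem_map.mp hk0'
      obtain ⟨h, hh, rfl⟩ := Subgroup.mem_map.mp hg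
      obtain ⟨k, ⟨a, b, hk⟩, rfl⟩ := Subgroup.mem_map.mp hh
      have hgm : ((MulAut.conj P).toMonoidHom ((glReindex e.symm).toMonoidHom k) : GL (Fin n) F).val =
          (P : Matrix (Fin n) (Fin n) F) *
            Matrix.reindexAlgEquiv F F e.symm ((a : Matrix (Fin 2) (Fin 2) F) ⊗ₖ
              (b : Matrix (Fin n₂) (Fin n₂) F)) *
            ((P⁻¹ : GL (Fin n) F) : Matrix (Fin n) (Fin n) F) := by
        rw [← hk]
        rfl
      set g := (MulAut.conj P).toMonoidHom ((glReindex e.symm).toMonoidHom k) with hgdef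
      have hc := Cfsg.Agent.Lib.Helper95.BhrE8.conj_iota e P a (b : Matrix (Fin n₂) (Fin n₂) F) x
      rw [← hgm] at hc
      have : (g : Matrix (Fin n) (Fin n) F) * ι x * ((g⁻¹ : GL (Fin n) F) : Matrix (Fin n) (Fin n) F) =
          ι ((a : Matrix (Fin 2) (Fin 2) F) * x * ((a⁻¹ : GL (Fin 2) F) : Matrix (Fin 2) (Fin 2) F)) := by
        rw [hι, hc, mul_assoc, ← Units.val_mul, mul_inv_cancel, Units.val_one, mul_one]
      rw [this]
      exact Subalgebra.mem_map.mpr ⟨_, Cfsg.Agent.Lib.Helper95.BhrE8.conj_mem_K0 hq a x hx, rfl⟩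
    intro g hg k
    constructor
    · exact fwd g hg k
    · intro hk
      have := fwd g⁻¹ (Subgroup.inv_mem _ hg) _ hk
      rw [inv_inv] at this
      have e1 : ((g⁻¹ : GL (Fin n) F) : Matrix (Fin n) (Fin n) F) *
          ((g : Matrix (Fin n) (Fin n) F) * k * ((g⁻¹ : GL (Fin n) F) : Matrix (Fin n) (Fin n) F)) *
          (g : Matrix (Fin n) (Fin n) F) = k := by
        calc _ = (((g⁻¹ : GL (Fin n) F) : Matrix (Fin n) (Fin n) F) * (g : Matrix (Fin n) (Fin n) F)) * k *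
            (((g⁻¹ : GL (Fin n) F) : Matrix (Fin n) (Fin n) F) * (g : Matrix (Fin n) (Fin n) F)) := by
              simp only [mul_assoc]
          _ = k := by rw [← Units.val_mul, inv_mul_cancel, Units.val_one, one_mul, mul_one]
      rwa [e1] at this

end Cfsg.Agent.Lib.Helper99.Asch
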