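/-
helper95: S5634 project (helper43), module S5634-[GL-WORD5]: over the field with 5 elements, the
full monomial group of `GL₃` together with `A = !![1,0,0;0,1,1;0,1,-1]` generates a non-trivial
elementary transvection (explicit word, checked over `ZMod 5` by kernel evaluation).
-/
import Mathlib
import Cfsg.Agent.Lib.Helper43.MonoStar
set_option autoImplicit false
namespace Cfsg.Agent.Lib.Helper95
open Matrix Cfsg.Geo Cfsg.Agent.Lib.Helper93 Cfsg.Agent.Lib.Helper43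

/-- `3 × 3` matrices over `ZMod 5` -/
abbrev W5M : Type := Matrix (Fin 3) (Fin 3) (ZMod 5)

def w5A : W5M := !![1, 0, 0; 0, 1, 1; 0, 1, -1]
def w5Ai : W5M := !![1, 0, 0; 0, 3, 3; 0, 3, 2]
def w5w : W5M := !![0, 1, 0; 1, 0, 0; 0, 0, 1]
def w5w2 : W5M := !![0, 1, 0; 1, 0, 0; 0, 0, 2]
def w5w2i : W5M := !![0, 1, 0; 1, 0, 0; 0, 0, 3]
def w5m : W5M := !![0, 1, 0; 0, 0, 3; 2, 0, 0]
def w5mi : W5M := !![0, 0, 3; 1, 0, 0; 0, 2, 0]
def w5T : W5M := !![1, 0, 0; 3, 1, 0; 0, 0, 1]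

set_option maxRecDepth 100000 in
theorem w5_word :
    w5A * w5w * w5A * w5w * w5A * w5w2 * w5A * w5w * w5A * w5w2 * w5A * w5w2 * w5A * w5m = w5T := by
  decide +kernel

set_option maxRecDepth 100000 in
theorem w5_inverses :
    w5A * w5Ai = 1 ∧ w5Ai * w5A = 1 ∧ w5w * w5w = 1 ∧ w5w2 * w5w2i = 1 ∧ w5w2i * w5w2 = 1 ∧
      w5m * w5mi = 1 ∧ w5mi * w5m = 1 := by
  decide +kernel

theorem w5_mono_w : ∀ i j : Fin 3, i ≠ (Equiv.swap (0 : Fin 3) 1) j → w5w i j = 0 := by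
  intro i j
  fin_cases i <;> fin_cases j <;> decide

theorem w5_mono_w2 : ∀ i j : Fin 3, i ≠ (Equiv.swap (0 : Fin 3) 1) j → w5w2 i j = 0 := by
  intro i j
  fin_cases i <;> fin_cases j <;> decide

theorem w5_mono_m :
    ∀ i j : Fin 3, i ≠ (Equiv.swap (0 : Fin 3) 1 * Equiv.swap (0 : Fin 3) 2) j → w5m i j = 0 := by
  intro i j
  fin_cases i <;> fin_cases j <;> decide

theorem w5_three_ne_zero : (3 : ZMod 5) ≠ 0 := by decide

variable {F : Type*} [Field F]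

/-- the element of `GL₃(F)` obtained from an invertible matrix over `ZMod 5` -/
def w5GL (e : ZMod 5 →+* F) (X X' : W5M) (h : X * X' = 1) (h' : X' * X = 1) : GL (Fin 3) F where
  val := e.mapMatrix X
  inv := e.mapMatrix X'
  val_inv := by rw [← map_mul, h, map_one]
  inv_val := by rw [← map_mul, h', map_one]

theorem w5GL_val (e : ZMod 5 →+* F) (X X' : W5M) (h : X * X' = 1) (h' : X' * X = 1) :
    ((w5GL e X X' h h' : GL (Fin 3) F) : Matrix (Fin 3) (Fin 3) F) = e.mapMatrix X := rfl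

theorem w5GL_mem_Mono (e : ZMod 5 →+* F) (X X' : W5M) (h : X * X' = 1) (h' : X' * X = 1)
    (σ : Equiv.Perm (Fin 3)) (hσ : ∀ i j, i ≠ σ j → X i j = 0) :
    w5GL e X X' h h' ∈ Mono (Fin 3) F := by
  refine ⟨σ, fun i j hij => ?_⟩
  rw [w5GL_val, RingHom.mapMatrix_apply, Matrix.map_apply, hσ i j hij, map_zero]

theorem word_five [Fintype F] (hq : Fintype.card F = 5) {Y : Subgroup (GL (Fin 3) F)}
    (hmono : Mono (Fin 3) F ≤ Y) {A : GL (Fin 3) F} (hA : A ∈ Y)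
    (hAv : (A : Matrix (Fin 3) (Fin 3) F) = !![1, 0, 0; 0, 1, 1; 0, 1, -1]) :
    ∃ (i j : Fin 3) (hij : i ≠ j) (b : F), b ≠ 0 ∧ elemTv i j hij b ∈ Y := by
  obtain ⟨hA1, hA2, hw, hw21, hw22, hm1, hm2⟩ := w5_inverses
  let e : ZMod 5 →+* F := (ZMod.ringEquivOfPrime F (by norm_num : Nat.Prime 5) hq).toRingHom
  have he_inj : Function.Injective e := (ZMod.ringEquivOfPrime F (by norm_num : Nat.Prime 5) hq).injective
  -- the elements
  set gA : GL (Fin 3) F := w5GL e w5A w5Ai hA1 hA2 with hgA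
  set gw : GL (Fin 3) F := w5GL e w5w w5w hw hw with hgw
  set gw2 : GL (Fin 3) F := w5GL e w5w2 w5w2i hw21 hw22 with hgw2
  set gm : GL (Fin 3) F := w5GL e w5m w5mi hm1 hm2 with hgm
  have hAeq : A = gA := by
    apply Units.ext
    rw [hAv, hgA, w5GL_val]
    ext i j
    fin_cases i <;> fin_cases j <;> simp [w5A]
  have hgwY : gw ∈ Y := hmono (w5GL_mem_Mono e _ _ hw hw (Equiv.swap 0 1) w5_mono_w)
  have hgw2Y : gw2 ∈ Y := hmono (w5GL_mem_Mono e _ _ hw21 hw22 (Equiv.swap 0 1) w5_mono_w2)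
  have hgmY : gm ∈ Y :=
    hmono (w5GL_mem_Mono e _ _ hm1 hm2 (Equiv.swap 0 1 * Equiv.swap 0 2) w5_mono_m)
  have hgAY : gA ∈ Y := hAeq ▸ hA
  have h3 : (3 : F) ≠ 0 := by
    have h3e : e 3 = 3 := map_ofNat e 3
    rw [← h3e, Ne, ← map_zero e]
    intro h
    exact w5_three_ne_zero (he_inj h)
  refine ⟨1, 0, by decide, 3, h3, ?_⟩
  have hprod : gA * gw * gA * gw * gA * gw2 * gA * gw * gA * gw2 * gA * gw2 * gA * gm ∈ Y := by
    have m := fun (x y : GL (Fin 3) F) (hx : x ∈ Y) (hy : y ∈ Y) => Subgroup.mul_mem Y hx hy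
    exact m _ _ (m _ _ (m _ _ (m _ _ (m _ _ (m _ _ (m _ _ (m _ _ (m _ _ (m _ _ (m _ _ (m _ _
      (m _ _ hgAY hgwY) hgAY) hgwY) hgAY) hgw2Y) hgAY) hgwY) hgAY) hgw2Y) hgAY) hgw2Y) hgAY) hgmY
  have heq : gA * gw * gA * gw * gA * gw2 * gA * gw * gA * gw2 * gA * gw2 * gA * gm =
      elemTv (1 : Fin 3) 0 (by decide) (3 : F) := by
    apply Units.ext
    simp only [Units.val_mul]
    rw [hgA, hgw, hgw2, hgm]
    simp only [w5GL_val, ← map_mul]
    rw [w5_word]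
    ext i j
    rw [elemTv_apply]
    have h3e : e 3 = 3 := map_ofNat e 3
    fin_cases i <;> fin_cases j <;> simp [w5T, h3e]
  rw [← heq]
  exact hprod

end Cfsg.Agent.Lib.Helper95
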