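/-
helper95: S5634 part 2 (helper94's BLK project), module BLK-[1] in hypothesis form: `h1B` is the
statement of [BLK-1B] (`mem_stabDec_of_forall`).
-/
import Mathlib
import Cfsg.Agent.Lib.Helper94.Blk.Ex
set_option autoImplicit false
namespace Cfsg.Agent.Lib.Helper95.Blk1
open Cfsg.Agent.Lib.Helper94 Cfsg.Agent.Lib.Helper94.SympData Cfsg.Agent.Lib.Helper94.Blk
variable {K V : Type*} [Field K] [AddCommGroup V] [Module K V] [FiniteDimensional K V]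
  {t m : ℕ} {D : Fin t → Submodule K V}

/-- [BLK-1] with the statement of [BLK-1B] as a hypothesis -/
theorem exists_nonblock_tv_of
    (h1B : ∀ {g : V ≃ₗ[K] V}, (∀ i, ∀ v ∈ D i, v ≠ 0 → ∃ l, g v ∈ D l) → g ∈ stabDec D)
    (hD : LDecomp m D) (hm : 2 ≤ m) {M : Subgroup (V ≃ₗ[K] V)}
    (hNM : stabDec D ⊓ SLe K V ≤ M) {g : V ≃ₗ[K] V} (hg : g ∈ M) (hgs : g ∉ stabDec D) :
    ∃ (f : Module.Dual K V) (v : V), TvIn M f v ∧ f ≠ 0 ∧ v ≠ 0 ∧ ¬ IsBlock D f v := by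
  by_contra hcon
  push Not at hcon
  apply hgs
  apply h1B
  intro i v hv hv0
  obtain ⟨f, hf, hfv, w, hw, hfw⟩ := exists_suppOn_ker hD hm i v
  have h1 : TvIn M f v := (hD.blockTv_mem hv hf hfv).mono hNM
  have h2 := h1.conj hg
  have hgg : ∀ x, g⁻¹ (g x) = x := fun x => by
    rw [← LinearEquiv.mul_apply, inv_mul_cancel]; rfl
  have hne : f ∘ₗ ((g⁻¹ : V ≃ₗ[K] V) : V →ₗ[K] V) ≠ 0 := by
    intro e
    have h3 := congrArg (fun φ : Module.Dual K V => φ (g w)) e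
    simp only [LinearMap.comp_apply, LinearEquiv.coe_coe, hgg, LinearMap.zero_apply] at h3
    rw [hfw] at h3
    exact one_ne_zero h3
  have hgv0 : g v ≠ 0 := fun e => hv0 (g.map_eq_zero_iff.1 e)
  obtain ⟨l, hl, -⟩ := hcon _ _ h2 hne hgv0
  exact ⟨l, hl⟩

end Cfsg.Agent.Lib.Helper95.Blk1
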