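/-
Helper95: more algebra of Siegel transformations `siegel B Q a b : x ↦ x + B(x,a) b - B(x,b) a`
(helper94's `OrthSiegel`): scalars, additivity on the right, the commutator formula.
-/
import Mathlib
import Cfsg.Agent.Lib.Helper94.OrthSiegel

set_option autoImplicit false
set_option linter.unusedSimpArgs false
set_option linter.unusedSectionVars false
set_option linter.unusedVariables false

namespace Cfsg.Agent.Lib.Helper95.OSub

open LinearMap (BilinForm)
open Cfsg.Agent.Lib.Helper94 Cfsg.Agent.Lib.Helper94.QuadData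
open scoped commutatorElement

variable {K V : Type*} [Field K] [AddCommGroup V] [Module K V] {B : BilinForm K V} {Q : V → K}

lemma sing_smul (hQ : QuadData B Q) {a : V} (ha : Q a = 0) (c : K) : Q (c • a) = 0 := by
  rw [hQ.smul, ha, mul_zero]

lemma sing_add (hQ : QuadData B Q) {a b : V} (ha : Q a = 0) (hb : Q b = 0) (hab : B a b = 0) :
    Q (a + b) = 0 := by
  rw [hQ.polar, ha, hb, hab]; ring

lemma sing_self (hQ : QuadData B Q) {a : V} (ha : Q a = 0) : B a a = 0 := by
  rw [hQ.self, ha, mul_zero]

/-- moving a scalar from the left to the right argument -/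
lemma siegel_smul (hQ : QuadData B Q) {a b : V} (ha : Q a = 0) (hb : Q b = 0) (hab : B a b = 0)
    (c : K) : siegel B Q (c • a) b = siegel B Q a (c • b) := by
  apply LinearEquiv.ext
  intro x
  rw [siegel_apply hQ (sing_smul hQ ha c) hb (by rw [map_smul, LinearMap.smul_apply, hab, smul_zero]),
    siegel_apply hQ ha (sing_smul hQ hb c) (by rw [map_smul, hab, smul_zero])]
  simp only [map_smul, smul_eq_mul, smul_smul]
  ring_nf

lemma siegel_zero_left (hQ : QuadData B Q) {b : V} (hb : Q b = 0) : siegel B Q 0 b = 1 := by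
  apply LinearEquiv.ext
  intro x
  rw [siegel_apply hQ hQ.zero hb (by simp)]
  simp

lemma siegel_self (hQ : QuadData B Q) {a : V} (ha : Q a = 0) : siegel B Q a a = 1 := by
  apply LinearEquiv.ext
  intro x
  rw [siegel_apply hQ ha ha (sing_self hQ ha)]
  simp

lemma siegel_add_right (hQ : QuadData B Q) {a b b' : V} (ha : Q a = 0) (hb : Q b = 0)
    (hb' : Q b' = 0) (hab : B a b = 0) (hab' : B a b' = 0) (hbb' : B b b' = 0) :
    siegel B Q a (b + b') = siegel B Q a b * siegel B Q a b' := by
  have hba : B b a = 0 := by rw [hQ.symm, hab]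
  have hb'a : B b' a = 0 := by rw [hQ.symm, hab']
  have hsum : Q (b + b') = 0 := sing_add hQ hb hb' hbb'
  have hasum : B a (b + b') = 0 := by rw [map_add, hab, hab', add_zero]
  have haa : B a a = 0 := sing_self hQ ha
  have hb'b : B b' b = 0 := by rw [hQ.symm, hbb']
  apply LinearEquiv.ext
  intro x
  rw [LinearEquiv.mul_apply, siegel_apply hQ ha hsum hasum, siegel_apply hQ ha hb hab,
    siegel_apply hQ ha hb' hab']
  simp only [map_add, map_sub, map_smul, LinearMap.add_apply, LinearMap.sub_apply,
    LinearMap.smul_apply, haa, hba, hb'a, hb'b, hbb', hab, hab', smul_eq_mul, mul_zero, add_zero,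
    sub_zero, smul_add]
  module

/-- the commutator formula -/
lemma comm_siegel (hQ : QuadData B Q) {a b c c' : V} (ha : Q a = 0) (hb : Q b = 0)
    (hc : Q c = 0) (hc' : Q c' = 0) (hab : B a b = 0) (hac : B a c = 0) (hc'b : B c' b = 0)
    (hc'a : B c' a = 0) (hcb : B c b = 0) :
    ⁅siegel B Q a c, siegel B Q c' b⁆ = (siegel B Q (B c' c • a) b)⁻¹ := by
  have hba : B b a = 0 := by rw [hQ.symm, hab]
  have hbc : B b c = 0 := by rw [hQ.symm, hcb]
  set κ := B c' c with hκ
  have hka : Q (κ • a) = 0 := sing_smul hQ ha κ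
  have hnka : Q (-(κ • a)) = 0 := by rw [hQ.neg, hka]
  have hkab : B (κ • a) b = 0 := by rw [map_smul, LinearMap.smul_apply, hab, smul_zero]
  have hnkab : B (-(κ • a)) b = 0 := by rw [map_neg, LinearMap.neg_apply, hkab, neg_zero]
  have hnkac' : B (-(κ • a)) c' = 0 := by
    rw [map_neg, LinearMap.neg_apply, map_smul, LinearMap.smul_apply, hQ.symm, hc'a, smul_zero,
      neg_zero]
  set g := siegel B Q a c with hg
  set t := siegel B Q c' b with ht
  have hgO : g ∈ OG Q := siegel_mem_OG hQ ha hc hac
  have hgc' : g c' = -(κ • a) + c' := by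
    rw [hg, siegel_apply hQ ha hc hac, hc'a, zero_smul, add_zero, hκ]
    abel
  have hgb : g b = b := by
    rw [hg, siegel_apply hQ ha hc hac, hba, hbc, zero_smul, zero_smul]
    abel
  have h1 : g * t * g⁻¹ = siegel B Q (-(κ • a)) b * t := by
    rw [ht, conj_siegel hQ hgO hc' hb hc'b, hgc', hgb,
      siegel_add_left hQ hnka hc' hb hnkab hc'b hnkac']
  rw [commutatorElement_def, h1, mul_inv_cancel_right, siegel_neg_left hQ hka hb hkab]

end Cfsg.Agent.Lib.Helper95.OSub
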