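/-
Helper95: hyperbolic pairs orthogonal to a small subspace in a non-degenerate quadratic space over a
finite field.
-/
import Mathlib
import Cfsg.Agent.Lib.Helper44.EichlerGeom

set_option autoImplicit false
set_option linter.unusedSimpArgs false
set_option linter.unusedSectionVars false
set_option linter.unusedVariables false

namespace Cfsg.Agent.Lib.Helper95.OSub

open Module LinearMap Cfsg.Agent.Lib.Helper44

variable {K W : Type*} [Field K] [AddCommGroup W] [Module K W]

local notation "pol" => QuadraticMap.polar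

/-- a hyperbolic pair orthogonal to `S` -/
def HypPerp (Q : QuadraticForm K W) (S : Submodule K W) (p p' : W) : Prop :=
  Q p = 0 ∧ Q p' = 0 ∧ pol (⇑Q) p p' = 1 ∧ ∀ s ∈ S, pol (⇑Q) s p = 0 ∧ pol (⇑Q) s p' = 0

/-- **one step**: a hyperbolic pair orthogonal to `S`, keeping control of the radical -/
theorem exists_hyp_step [Finite K] [FiniteDimensional K W] (Q : QuadraticForm K W)
    (hQ : (QuadraticMap.polarBilin Q).Nondegenerate) (S R : Submodule K W)
    (hR : S ⊓ LinearMap.BilinForm.orthogonal (QuadraticMap.polarBilin Q) S ≤ R)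
    (h : finrank K S + finrank K R + 3 ≤ finrank K W) :
    ∃ p p' : W, HypPerp Q S p p' ∧
      (S ⊔ Submodule.span K {p, p'}) ⊓
        LinearMap.BilinForm.orthogonal (QuadraticMap.polarBilin Q)
          (S ⊔ Submodule.span K {p, p'}) ≤ R := by
  set B : LinearMap.BilinForm K W := QuadraticMap.polarBilin Q with hB
  have hS : B.IsSymm := polarBilin_isSymm Q
  have hrefl : B.IsRefl := hS.isRefl
  have hBpol : ∀ x y, B x y = pol (⇑Q) x y := fun x y => rfl
  set T := B.orthogonal S with hT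
  have hTdim : finrank K T = finrank K W - finrank K S := BilinForm.finrank_orthogonal hQ S
  have hSle : finrank K S ≤ finrank K W := Submodule.finrank_le S
  obtain ⟨C0, hC0⟩ := (T ⊓ S).exists_isCompl
  have hTS : T ⊓ S ≤ R := by rw [inf_comm]; exact hR
  have hC0dim : finrank K (T ⊓ S : Submodule K W) + finrank K C0 = finrank K W :=
    Submodule.finrank_add_eq_of_isCompl hC0
  have hTSdim : finrank K (T ⊓ S : Submodule K W) ≤ finrank K R := Submodule.finrank_mono hTS
  have hCdim0 : 3 ≤ finrank K (T ⊓ C0 : Submodule K W) := by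
    have h1 := Submodule.finrank_sup_add_finrank_inf_eq T C0
    have h2 : finrank K (T ⊔ C0 : Submodule K W) ≤ finrank K W := Submodule.finrank_le _
    omega
  set C := T ⊓ C0 with hC
  have hCdim : 3 ≤ finrank K C := hCdim0
  obtain ⟨v, hv0, hQv⟩ := exists_isotropic (Q.comp C.subtype) hCdim
  obtain ⟨p, hp⟩ : ∃ p : W, p = (v : W) := ⟨_, rfl⟩
  have hpC : p ∈ C := by rw [hp]; exact v.2
  have hpT : p ∈ T := hpC.1
  have hpC0 : p ∈ C0 := hpC.2
  have hp0 : p ≠ 0 := by
    intro h0
    apply hv0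
    apply Subtype.ext
    rw [← hp]; exact h0
  have hQp : Q p = 0 := by rw [hp]; exact hQv
  have hpS : p ∉ S := by
    intro hpS
    have : p ∈ (T ⊓ S) ⊓ C0 := ⟨⟨hpT, hpS⟩, hpC0⟩
    rw [hC0.inf_eq_bot] at this
    exact hp0 ((Submodule.mem_bot K).1 this)
  -- a partner inside `T`
  obtain ⟨y, hyT, hpy⟩ : ∃ y ∈ T, B p y ≠ 0 := by
    by_contra hcon
    push Not at hcon
    apply hpS
    rw [← BilinForm.orthogonal_orthogonal hQ hrefl S, BilinForm.mem_orthogonal_iff]
    intro n hn
    show B n p = 0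
    rw [← hS.eq]
    exact hcon n hn
  obtain ⟨y1, hy1⟩ : ∃ y1 : W, y1 = (B p y)⁻¹ • y := ⟨_, rfl⟩
  have hy1T : y1 ∈ T := by rw [hy1]; exact T.smul_mem _ hyT
  have hpy1 : pol (⇑Q) p y1 = 1 := by
    rw [← hBpol, hy1, map_smul, smul_eq_mul, inv_mul_cancel₀ hpy]
  obtain ⟨p', hp'⟩ : ∃ p' : W, p' = y1 - Q y1 • p := ⟨_, rfl⟩
  have hp'T : p' ∈ T := by rw [hp']; exact T.sub_mem hy1T (T.smul_mem _ hpT)
  have hQp' : Q p' = 0 := by rw [hp']; exact Q_sub_smul_one Q y1 p hQp hpy1
  have hpp' : pol (⇑Q) p p' = 1 := by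
    rw [hp', QuadraticMap.polar_sub_right, QuadraticMap.polar_smul_right, pol_self_of_sing Q p hQp,
      hpy1]
    simp
  have hTmem : ∀ x ∈ T, ∀ s ∈ S, pol (⇑Q) s x = 0 := by
    intro x hx s hs
    rw [hT, BilinForm.mem_orthogonal_iff] at hx
    exact hx s hs
  refine ⟨p, p', ⟨hQp, hQp', hpp', fun s hs => ⟨hTmem p hpT s hs, hTmem p' hp'T s hs⟩⟩, ?_⟩
  -- the radical
  intro x hx
  obtain ⟨hx1, hx2⟩ := hx
  rw [SetLike.mem_coe, BilinForm.mem_orthogonal_iff] at hx2
  rw [SetLike.mem_coe] at hx1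
  obtain ⟨s, hs, z, hz, rfl⟩ := Submodule.mem_sup.1 hx1
  obtain ⟨α, β, rfl⟩ := Submodule.mem_span_pair.1 hz
  have hpmem : p ∈ S ⊔ Submodule.span K {p, p'} :=
    Submodule.mem_sup_right (Submodule.subset_span (by simp))
  have hp'mem : p' ∈ S ⊔ Submodule.span K {p, p'} :=
    Submodule.mem_sup_right (Submodule.subset_span (by simp))
  have e1 : B p (s + (α • p + β • p')) = 0 := hx2 p hpmem
  have e2 : B p' (s + (α • p + β • p')) = 0 := hx2 p' hp'mem
  have hps : pol (⇑Q) p s = 0 := by rw [QuadraticMap.polar_comm]; exact hTmem p hpT s hs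
  have hp's : pol (⇑Q) p' s = 0 := by rw [QuadraticMap.polar_comm]; exact hTmem p' hp'T s hs
  have hp'p : pol (⇑Q) p' p = 1 := by rw [QuadraticMap.polar_comm]; exact hpp'
  rw [hBpol, QuadraticMap.polar_add_right, QuadraticMap.polar_add_right,
    QuadraticMap.polar_smul_right, QuadraticMap.polar_smul_right, hps, pol_self_of_sing Q p hQp,
    hpp'] at e1
  rw [hBpol, QuadraticMap.polar_add_right, QuadraticMap.polar_add_right,
    QuadraticMap.polar_smul_right, QuadraticMap.polar_smul_right, hp's,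
    pol_self_of_sing Q p' hQp', hp'p] at e2
  have hβ : β = 0 := by simpa using e1
  have hα : α = 0 := by simpa using e2
  rw [hα, hβ, zero_smul, zero_smul, add_zero, add_zero]
  apply hR
  refine ⟨hs, ?_⟩
  rw [SetLike.mem_coe, hT, BilinForm.mem_orthogonal_iff]
  intro n hn
  have := hx2 n (Submodule.mem_sup_left hn)
  rw [hα, hβ, zero_smul, zero_smul, add_zero, add_zero] at this
  exact this

lemma finrank_sup_pair_le [FiniteDimensional K W] (S : Submodule K W) (p p' : W) {d : ℕ}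
    (hS : finrank K S ≤ d) : finrank K (S ⊔ Submodule.span K {p, p'} : Submodule K W) ≤ d + 2 := by
  have h1 := Submodule.finrank_add_le_finrank_add_finrank S (Submodule.span K {p, p'})
  have h2 : finrank K (Submodule.span K ({p, p'} : Set W)) ≤ 2 := by
    classical
    have := finrank_span_le_card (R := K) ({p, p'} : Set W)
    have h3 : ({p, p'} : Set W).toFinset.card ≤ 2 := by
      rw [Set.toFinset_insert, Set.toFinset_singleton]
      exact Finset.card_insert_le _ _ |>.trans (by simp)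
    exact this.trans h3
  omega

/-- chaining form of `exists_hyp_step` -/
theorem exists_hyp_chain [Finite K] [FiniteDimensional K W] (Q : QuadraticForm K W)
    (hQ : (QuadraticMap.polarBilin Q).Nondegenerate) (S R : Submodule K W)
    (hR : S ⊓ LinearMap.BilinForm.orthogonal (QuadraticMap.polarBilin Q) S ≤ R) (d : ℕ)
    (hS : finrank K S ≤ d) (h : d + finrank K R + 3 ≤ finrank K W) :
    ∃ p p' : W, HypPerp Q S p p' ∧ ∃ S' : Submodule K W, S ≤ S' ∧ p ∈ S' ∧ p' ∈ S' ∧
      finrank K S' ≤ d + 2 ∧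
      S' ⊓ LinearMap.BilinForm.orthogonal (QuadraticMap.polarBilin Q) S' ≤ R := by
  obtain ⟨p, p', h1, h2⟩ := exists_hyp_step Q hQ S R hR (by omega)
  refine ⟨p, p', h1, S ⊔ Submodule.span K {p, p'}, le_sup_left, ?_, ?_,
    finrank_sup_pair_le S p p' hS, h2⟩
  · exact Submodule.mem_sup_right (Submodule.subset_span (by simp))
  · exact Submodule.mem_sup_right (Submodule.subset_span (by simp))

/-- two orthogonal hyperbolic pairs orthogonal to a subspace of dimension at most four -/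
theorem exists_hyp2 [Finite K] [FiniteDimensional K W] (Q : QuadraticForm K W)
    (hQ : (QuadraticMap.polarBilin Q).Nondegenerate) (h13 : 13 ≤ finrank K W)
    (S : Submodule K W) (hS : finrank K S ≤ 4) :
    ∃ e₁ f₁ e₂ f₂ : W, HypPerp Q S e₁ f₁ ∧ HypPerp Q S e₂ f₂ ∧
      pol (⇑Q) e₁ e₂ = 0 ∧ pol (⇑Q) e₁ f₂ = 0 ∧ pol (⇑Q) f₁ e₂ = 0 ∧ pol (⇑Q) f₁ f₂ = 0 := by
  obtain ⟨e₁, f₁, h1, S₁, hS₁, he₁, hf₁, hd₁, hR₁⟩ :=
    exists_hyp_chain Q hQ S S inf_le_left 4 hS (by omega)
  obtain ⟨e₂, f₂, h2, -⟩ := exists_hyp_chain Q hQ S₁ S hR₁ 6 hd₁ (by omega)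
  refine ⟨e₁, f₁, e₂, f₂, h1, ⟨h2.1, h2.2.1, h2.2.2.1, fun s hs => h2.2.2.2 s (hS₁ hs)⟩,
    (h2.2.2.2 e₁ he₁).1, (h2.2.2.2 e₁ he₁).2, (h2.2.2.2 f₁ hf₁).1, (h2.2.2.2 f₁ hf₁).2⟩

/-- adding a hyperbolic pair orthogonal to a hyperbolic system -/
theorem hypSys_cons (Q : QuadraticForm K W) {k : ℕ} (e f : Fin k → W) (h : HypSys Q e f)
    (p p' : W) (hp : Q p = 0) (hp' : Q p' = 0) (hpp' : pol (⇑Q) p p' = 1)
    (horth : ∀ i, pol (⇑Q) (e i) p = 0 ∧ pol (⇑Q) (e i) p' = 0 ∧ pol (⇑Q) (f i) p = 0 ∧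
      pol (⇑Q) (f i) p' = 0) :
    HypSys Q (Fin.cons p e : Fin (k + 1) → W) (Fin.cons p' f : Fin (k + 1) → W) := by
  obtain ⟨h1, h2, h3⟩ := h
  refine ⟨?_, ?_, ?_⟩
  · intro i
    refine Fin.cases ?_ (fun i => ?_) i
    · simp [hp, hp']
    · simpa using h1 i
  · intro i j
    refine Fin.cases ?_ (fun i => ?_) i <;> refine Fin.cases ?_ (fun j => ?_) j
    · simp [hpp']
    · simp only [Fin.cons_zero, Fin.cons_succ]
      rw [QuadraticMap.polar_comm, (horth j).2.2.1]
      simp [(Fin.succ_ne_zero j).symm]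
    · simp only [Fin.cons_zero, Fin.cons_succ, (horth i).2.1]
      simp [Fin.succ_ne_zero]
    · simp only [Fin.cons_succ, h2 i j, Fin.succ_inj]
  · intro i j
    refine Fin.cases ?_ (fun i => ?_) i <;> refine Fin.cases ?_ (fun j => ?_) j
    · simp [pol_self_of_sing Q p hp, pol_self_of_sing Q p' hp']
    · simp only [Fin.cons_zero, Fin.cons_succ]
      rw [QuadraticMap.polar_comm, (horth j).1, QuadraticMap.polar_comm (⇑Q) p' _, (horth j).2.2.2]
      simp
    · simp only [Fin.cons_zero, Fin.cons_succ, (horth i).1, (horth i).2.2.2]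
      simp
    · simp only [Fin.cons_succ]
      exact h3 i j

/-- **frames**: `k` mutually orthogonal hyperbolic pairs orthogonal to a subspace with trivial
radical -/
theorem exists_frame [Finite K] [FiniteDimensional K W] (Q : QuadraticForm K W)
    (hQ : (QuadraticMap.polarBilin Q).Nondegenerate) (k : ℕ) :
    ∀ (S : Submodule K W) (d : ℕ),
      S ⊓ LinearMap.BilinForm.orthogonal (QuadraticMap.polarBilin Q) S ≤ ⊥ →
      finrank K S ≤ d → d + 2 * k + 1 ≤ finrank K W →
      ∃ e f : Fin k → W, HypSys Q e f ∧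
        ∀ i, ∀ s ∈ S, pol (⇑Q) s (e i) = 0 ∧ pol (⇑Q) s (f i) = 0 := by
  induction k with
  | zero =>
    intro S d _ _ _
    refine ⟨Fin.elim0, Fin.elim0, ⟨fun i => i.elim0, fun i => i.elim0, fun i => i.elim0⟩,
      fun i => i.elim0⟩
  | succ k ih =>
    intro S d hrad hS h
    have hfr : finrank K (⊥ : Submodule K W) = 0 := finrank_bot K W
    obtain ⟨p, p', h1, S', hSS', hpS', hp'S', hd', hrad'⟩ :=
      exists_hyp_chain Q hQ S ⊥ hrad d hS (by rw [hfr]; omega)
    obtain ⟨e, f, hef, horth⟩ := ih S' (d + 2) hrad' hd' (by omega)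
    refine ⟨Fin.cons p e, Fin.cons p' f, hypSys_cons Q e f hef p p' h1.1 h1.2.1 h1.2.2.1 ?_, ?_⟩
    · intro i
      refine ⟨?_, ?_, ?_, ?_⟩
      · rw [QuadraticMap.polar_comm]; exact (horth i p hpS').1
      · rw [QuadraticMap.polar_comm]; exact (horth i p' hp'S').1
      · rw [QuadraticMap.polar_comm]; exact (horth i p hpS').2
      · rw [QuadraticMap.polar_comm]; exact (horth i p' hp'S').2
    · intro i s hs
      refine Fin.cases ?_ (fun i => ?_) i
      · simp only [Fin.cons_zero]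
        exact h1.2.2.2 s hs
      · simp only [Fin.cons_succ]
        exact horth i s (hSS' hs)

lemma polar_sum_smul (Q : QuadraticForm K W) (x : W) {ι : Type*} (s : Finset ι) (c : ι → K)
    (v : ι → W) : pol (⇑Q) x (∑ i ∈ s, c i • v i) = ∑ i ∈ s, c i * pol (⇑Q) x (v i) := by
  classical
  induction s using Finset.induction_on with
  | empty => simp
  | insert a s ha ih =>
    rw [Finset.sum_insert ha, Finset.sum_insert ha, QuadraticMap.polar_add_right,
      QuadraticMap.polar_smul_right, ih, smul_eq_mul]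

/-- the span of a hyperbolic system -/
def frameSpan {k : ℕ} (e f : Fin k → W) : Submodule K W :=
  Submodule.span K (Set.range e) ⊔ Submodule.span K (Set.range f)

lemma mem_frameSpan_e {k : ℕ} (e f : Fin k → W) (i : Fin k) : e i ∈ frameSpan (K := K) e f :=
  Submodule.mem_sup_left (Submodule.subset_span ⟨i, rfl⟩)

lemma mem_frameSpan_f {k : ℕ} (e f : Fin k → W) (i : Fin k) : f i ∈ frameSpan (K := K) e f :=
  Submodule.mem_sup_right (Submodule.subset_span ⟨i, rfl⟩)

lemma finrank_frameSpan_le [FiniteDimensional K W] {k : ℕ} (e f : Fin k → W) :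
    finrank K (frameSpan (K := K) e f) ≤ 2 * k := by
  have h1 := Submodule.finrank_add_le_finrank_add_finrank (Submodule.span K (Set.range e))
    (Submodule.span K (Set.range f))
  have h2 : finrank K (Submodule.span K (Set.range e)) ≤ k := by
    have := finrank_range_le_card (R := K) e
    simpa [Set.finrank] using this
  have h3 : finrank K (Submodule.span K (Set.range f)) ≤ k := by
    have := finrank_range_le_card (R := K) f
    simpa [Set.finrank] using this
  unfold frameSpan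
  omega

/-- the span of a hyperbolic system has trivial radical -/
theorem hypSys_rad (Q : QuadraticForm K W) {k : ℕ} (e f : Fin k → W) (h : HypSys Q e f) :
    frameSpan (K := K) e f ⊓
      LinearMap.BilinForm.orthogonal (QuadraticMap.polarBilin Q) (frameSpan (K := K) e f) ≤ ⊥ := by
  classical
  obtain ⟨h1, h2, h3⟩ := h
  intro x hx
  obtain ⟨hx1, hx2⟩ := hx
  rw [SetLike.mem_coe, BilinForm.mem_orthogonal_iff] at hx2
  rw [SetLike.mem_coe] at hx1
  obtain ⟨y, hy, z, hz, rfl⟩ := Submodule.mem_sup.1 hx1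
  obtain ⟨a, rfl⟩ := (Submodule.mem_span_range_iff_exists_fun K).1 hy
  obtain ⟨b, rfl⟩ := (Submodule.mem_span_range_iff_exists_fun K).1 hz
  have hb : ∀ j, b j = 0 := by
    intro j
    have := hx2 (e j) (mem_frameSpan_e e f j)
    change pol (⇑Q) (e j) _ = 0 at this
    rw [QuadraticMap.polar_add_right] at this
    have e1 : pol (⇑Q) (e j) (∑ i, a i • e i) = 0 := by
      rw [polar_sum_smul]
      simp [(h3 j _).1]
    have e2 : pol (⇑Q) (e j) (∑ i, b i • f i) = b j := by
      rw [polar_sum_smul]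
      simp [h2 j]
    rw [e1, e2, zero_add] at this
    exact this
  have ha : ∀ j, a j = 0 := by
    intro j
    have := hx2 (f j) (mem_frameSpan_f e f j)
    change pol (⇑Q) (f j) _ = 0 at this
    rw [QuadraticMap.polar_add_right] at this
    have e1 : pol (⇑Q) (f j) (∑ i, a i • e i) = a j := by
      rw [polar_sum_smul]
      have : ∀ i, pol (⇑Q) (f j) (e i) = if i = j then 1 else 0 := by
        intro i; rw [QuadraticMap.polar_comm, h2]
      simp [this]
    have e2 : pol (⇑Q) (f j) (∑ i, b i • f i) = 0 := by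
      rw [polar_sum_smul]
      simp [(h3 j _).2]
    rw [e1, e2, add_zero] at this
    exact this
  simp [ha, hb]

/-- `j` more hyperbolic pairs orthogonal to a hyperbolic system -/
theorem exists_frame_perp_frame [Finite K] [FiniteDimensional K W] (Q : QuadraticForm K W)
    (hQ : (QuadraticMap.polarBilin Q).Nondegenerate) {k : ℕ} (e f : Fin k → W)
    (h : HypSys Q e f) (j : ℕ) (hd : 2 * k + 2 * j + 1 ≤ finrank K W) :
    ∃ e' f' : Fin j → W, HypSys Q e' f' ∧
      ∀ i i', pol (⇑Q) (e i) (e' i') = 0 ∧ pol (⇑Q) (e i) (f' i') = 0 ∧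
        pol (⇑Q) (f i) (e' i') = 0 ∧ pol (⇑Q) (f i) (f' i') = 0 := by
  obtain ⟨e', f', h1, h2⟩ := exists_frame Q hQ j (frameSpan (K := K) e f) (2 * k)
    (hypSys_rad Q e f h) (finrank_frameSpan_le e f) hd
  refine ⟨e', f', h1, fun i i' => ⟨(h2 i' _ (mem_frameSpan_e e f i)).1,
    (h2 i' _ (mem_frameSpan_e e f i)).2, (h2 i' _ (mem_frameSpan_f e f i)).1,
    (h2 i' _ (mem_frameSpan_f e f i)).2⟩⟩

/-- frames inside a subspace on which the form is non-degenerate -/
theorem exists_frame_sub [Finite K] [FiniteDimensional K W] (Q : QuadraticForm K W)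
    (A : Submodule K W) (hA : (QuadraticMap.polarBilin (Q.comp A.subtype)).Nondegenerate)
    (k : ℕ) (hd : 2 * k + 1 ≤ finrank K A) :
    ∃ e f : Fin k → W, HypSys Q e f ∧ ∀ i, e i ∈ A ∧ f i ∈ A := by
  obtain ⟨e, f, h1, -⟩ := exists_frame (Q.comp A.subtype) hA k ⊥ 0 inf_le_left
    (by rw [finrank_bot]) (by omega)
  have hpol : ∀ x y : A, pol (⇑(Q.comp A.subtype)) x y = pol (⇑Q) (x : W) (y : W) := by
    intro x y
    simp [QuadraticMap.polar]
  refine ⟨fun i => (e i : W), fun i => (f i : W), ⟨?_, ?_, ?_⟩, fun i => ⟨(e i).2, (f i).2⟩⟩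
  · intro i
    exact h1.1 i
  · intro i j
    rw [← hpol]
    exact h1.2.1 i j
  · intro i j
    rw [← hpol, ← hpol]
    exact h1.2.2 i j

end Cfsg.Agent.Lib.Helper95.OSub
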