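/-
Helper95: overgroups of the rational orthogonal group, part B.  `V` is a quadratic space over `F`,
`W` a non-degenerate quadratic space over the subfield `F₀` with a semilinear isometric embedding
`ρ : W → V` (the rational vectors).  Basic facts and the rational Siegel transformations.
-/
import Mathlib
import Cfsg.Agent.Lib.Helper95.OSubA
import Cfsg.Agent.Lib.Helper95.OSubG

set_option autoImplicit false
set_option linter.unusedSimpArgs false
set_option linter.unusedSectionVars false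
set_option linter.unusedVariables false

namespace Cfsg.Agent.Lib.Helper95.OSub

open LinearMap (BilinForm)
open Module
open Cfsg.Agent.Lib.Helper94 Cfsg.Agent.Lib.Helper94.QuadData Cfsg.Agent.Lib.Helper44
open scoped commutatorElement

variable {F : Type*} [Field F] {V : Type*} [AddCommGroup V] [Module F V]
variable {F₀ : Subfield F} {W : Type*} [AddCommGroup W] [Module F₀ W]

local notation "pol" => QuadraticMap.polar

/-- A rational structure on a quadratic space. -/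
structure OSet (B : BilinForm F V) (Q : V → F) (Q₀ : QuadraticForm F₀ W) (ρ : W → V) : Prop where
  hQ : QuadData B Q
  nd₀ : (QuadraticMap.polarBilin Q₀).Nondegenerate
  add : ∀ a b, ρ (a + b) = ρ a + ρ b
  smul : ∀ (c : F₀) (a : W), ρ (c • a) = (c : F) • ρ a
  form : ∀ a b, B (ρ a) (ρ b) = ((pol (⇑Q₀) a b : F₀) : F)
  quad : ∀ a, Q (ρ a) = ((Q₀ a : F₀) : F)
  detect : ∀ w : V, (∀ a, ∃ t : F₀, B w (ρ a) = (t : F)) → ∃ b, w = ρ b

namespace OSet

variable {B : BilinForm F V} {Q : V → F} {Q₀ : QuadraticForm F₀ W} {ρ : W → V}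

lemma zero (R : OSet B Q Q₀ ρ) : ρ 0 = 0 := by
  have := R.add 0 0
  rw [add_zero] at this
  exact (add_eq_left.1 this.symm)

lemma neg (R : OSet B Q Q₀ ρ) (a : W) : ρ (-a) = -ρ a := by
  have := R.add a (-a)
  rw [add_neg_cancel, R.zero] at this
  exact (neg_eq_of_add_eq_zero_right this.symm).symm

lemma sub (R : OSet B Q Q₀ ρ) (a b : W) : ρ (a - b) = ρ a - ρ b := by
  rw [sub_eq_add_neg, R.add, R.neg, sub_eq_add_neg]

lemma orth (R : OSet B Q Q₀ ρ) {a b : W} (hab : pol (⇑Q₀) a b = 0) : B (ρ a) (ρ b) = 0 := by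
  rw [R.form, hab]; rfl

lemma one (R : OSet B Q Q₀ ρ) {a b : W} (hab : pol (⇑Q₀) a b = 1) : B (ρ a) (ρ b) = 1 := by
  rw [R.form, hab]; rfl

lemma sing (R : OSet B Q Q₀ ρ) {a : W} (ha : Q₀ a = 0) : Q (ρ a) = 0 := by
  rw [R.quad, ha]; rfl

lemma form' (R : OSet B Q Q₀ ρ) (a b : W) : B (ρ a) (ρ b) = ((pol (⇑Q₀) b a : F₀) : F) := by
  rw [R.form, QuadraticMap.polar_comm]

/-- rational vectors separate -/
lemma sep (R : OSet B Q Q₀ ρ) {x : V} (hx : ∀ a, B x (ρ a) = 0) : x = 0 := by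
  obtain ⟨b, rfl⟩ := R.detect x fun a => ⟨0, by rw [hx a]; rfl⟩
  have : b = 0 := by
    apply R.nd₀.1
    intro y
    have := hx y
    rw [R.form] at this
    have h2 : pol (⇑Q₀) b y = 0 := by exact_mod_cast this
    exact h2
  rw [this, R.zero]

lemma nd (R : OSet B Q Q₀ ρ) : ∀ x, (∀ y, B x y = 0) → x = 0 :=
  fun x hx => R.sep fun a => hx _

lemma inj (R : OSet B Q Q₀ ρ) {a b : W} (h : ρ a = ρ b) : a = b := by
  have h0 : ρ (a - b) = 0 := by rw [R.sub, h, sub_self]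
  have : a - b = 0 := by
    apply R.nd₀.1
    intro y
    have h1 := R.form (a - b) y
    rw [h0, map_zero, LinearMap.zero_apply] at h1
    have h2 : pol (⇑Q₀) (a - b) y = 0 := by exact_mod_cast h1.symm
    exact h2
  exact sub_eq_zero.1 this

lemma ne_zero (R : OSet B Q Q₀ ρ) {a : W} (h : a ≠ 0) : ρ a ≠ 0 := by
  intro h0
  apply h
  apply R.inj
  rw [h0, R.zero]

/-- a scalar multiple of a non-zero rational vector is rational only for rational scalars -/
lemma coeff_mem (R : OSet B Q Q₀ ρ) {s d : W} (hs : s ≠ 0) {κ : F} (h : κ • ρ s = ρ d) :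
    ∃ k : F₀, κ = (k : F) := by
  obtain ⟨t, ht⟩ := Cfsg.Agent.S0795.exists_dual Q₀ R.nd₀ s hs
  have h1 : B (κ • ρ s) (ρ t) = κ := by
    rw [map_smul, LinearMap.smul_apply, R.one ht, smul_eq_mul, mul_one]
  rw [h, R.form] at h1
  exact ⟨_, h1.symm⟩

/-- the action of a rational Siegel transformation on rational vectors -/
lemma siegel_rat (R : OSet B Q Q₀ ρ) {a b : W} (ha : Q₀ a = 0) (hb : Q₀ b = 0)
    (hab : pol (⇑Q₀) a b = 0) (w : W) :
    siegel B Q (ρ a) (ρ b) (ρ w) = ρ (w + pol (⇑Q₀) w a • b - pol (⇑Q₀) w b • a) := by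
  rw [siegel_apply R.hQ (R.sing ha) (R.sing hb) (R.orth hab), R.sub, R.add, R.smul, R.smul,
    R.form, R.form]

end OSet

/-- `g` maps rational vectors to a common multiple of rational vectors -/
def RatU (ρ : W → V) (g : V ≃ₗ[F] V) : Prop := ∃ μ : F, ∀ w, ∃ w', g (ρ w) = μ • ρ w'

/-- `g` maps rational vectors to rational vectors -/
def Rat1 (ρ : W → V) (g : V ≃ₗ[F] V) : Prop := ∀ w, ∃ w', g (ρ w) = ρ w'

lemma Rat1.ratU {ρ : W → V} {g : V ≃ₗ[F] V} (h : Rat1 ρ g) : RatU ρ g :=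
  ⟨1, fun w => by obtain ⟨w', hw'⟩ := h w; exact ⟨w', by rw [hw', one_smul]⟩⟩

lemma Rat1.mul {ρ : W → V} {g h : V ≃ₗ[F] V} (hg : Rat1 ρ g) (hh : Rat1 ρ h) : Rat1 ρ (g * h) := by
  intro w
  obtain ⟨w', hw'⟩ := hh w
  obtain ⟨w'', hw''⟩ := hg w'
  exact ⟨w'', by rw [LinearEquiv.mul_apply, hw', hw'']⟩

/-- `M` lies between the rational part of `Ω` and `Ω`. -/
structure Over (Q : V → F) (ρ : W → V) (M : Subgroup (V ≃ₗ[F] V)) : Prop where
  le : M ≤ ⁅OG Q, OG Q⁆
  ge : ∀ g ∈ ⁅OG Q, OG Q⁆, RatU ρ g → g ∈ M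

end Cfsg.Agent.Lib.Helper95.OSub
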