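/-
Helper95: overgroups of the rational orthogonal group, part C: the parameters of the root elements
of `M` with rational lines do not depend on the line, and form a subfield.
-/
import Mathlib
import Cfsg.Agent.Lib.Helper95.OSubB

set_option autoImplicit false
set_option linter.unusedSimpArgs false
set_option linter.unusedSectionVars false
set_option linter.unusedVariables false

namespace Cfsg.Agent.Lib.Helper95.OSub

open LinearMap (BilinForm)
open Module
open Cfsg.Agent.Lib.Helper94 Cfsg.Agent.Lib.Helper94.QuadData Cfsg.Agent.Lib.Helper44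
open scoped commutatorElement

variable {F : Type*} [Field F] {V : Type*} [AddCommGroup V] [Module F V]
variable {F₀ : Subfield F} {W : Type*} [AddCommGroup W] [Module F₀ W]

local notation "pol" => QuadraticMap.polar

lemma finrank_span_pair_le {K W : Type*} [Field K] [AddCommGroup W] [Module K W]
    [FiniteDimensional K W] (a b : W) : finrank K (Submodule.span K ({a, b} : Set W)) ≤ 2 := by
  have := finrank_sup_pair_le (K := K) (⊥ : Submodule K W) a b (d := 0) (by rw [finrank_bot])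
  rwa [bot_sup_eq, zero_add] at this

lemma finrank_span_four_le {K W : Type*} [Field K] [AddCommGroup W] [Module K W]
    [FiniteDimensional K W] (a b c d : W) :
    finrank K (Submodule.span K ({a, b} : Set W) ⊔ Submodule.span K ({c, d} : Set W) :
      Submodule K W) ≤ 4 :=
  finrank_sup_pair_le (K := K) _ c d (finrank_span_pair_le a b)

variable {B : BilinForm F V} {Q : V → F} {Q₀ : QuadraticForm F₀ W} {ρ : W → V}

section Main

variable [Finite F₀] [FiniteDimensional F₀ W]
variable (R : OSet B Q Q₀ ρ) (h13 : 13 ≤ finrank F₀ W) {M : Subgroup (V ≃ₗ[F] V)}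
  (hM : Over Q ρ M)

include R h13 hM in
/-- the rational Siegel transformations lie in `M` -/
lemma ratSiegel_mem {a b : W} (ha : Q₀ a = 0) (hb : Q₀ b = 0) (hab : pol (⇑Q₀) a b = 0) :
    siegel B Q (ρ a) (ρ b) ∈ M := by
  obtain ⟨e₁, f₁, -, -, h1, -⟩ := exists_hyp2 Q₀ R.nd₀ h13 (Submodule.span F₀ {a, b})
    ((finrank_span_pair_le a b).trans (by norm_num))
  obtain ⟨he, hf, hef, hS⟩ := h1
  have haS : a ∈ Submodule.span F₀ ({a, b} : Set W) := Submodule.subset_span (by simp)
  have hbS : b ∈ Submodule.span F₀ ({a, b} : Set W) := Submodule.subset_span (by simp)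
  have h2 : siegel B Q (ρ a) (ρ b) ∈ ⁅OG Q, OG Q⁆ := by
    apply siegel_mem_commutator R.hQ (R.sing ha) (R.sing hb) (R.orth hab) (R.sing he) (R.sing hf)
      (R.one hef)
    · rw [R.hQ.symm]; exact R.orth (hS a haS).1
    · rw [R.hQ.symm]; exact R.orth (hS b hbS).1
    · rw [R.hQ.symm]; exact R.orth (hS a haS).2
    · rw [R.hQ.symm]; exact R.orth (hS b hbS).2
  apply hM.ge _ h2
  apply Rat1.ratU
  intro w
  exact ⟨_, R.siegel_rat ha hb hab w⟩

/-- `c` is a parameter of a root element of `M` along the rational line `⟨u, v⟩` -/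
def Par (B : BilinForm F V) (Q : V → F) (ρ : W → V) (M : Subgroup (V ≃ₗ[F] V)) (u v : W)
    (c : F) : Prop := siegel B Q (c • ρ u) (ρ v) ∈ M

include R in
lemma par_symm {u v : W} (hu : Q₀ u = 0) (hv : Q₀ v = 0) (huv : pol (⇑Q₀) u v = 0) {c : F}
    (h : Par B Q ρ M u v c) : Par B Q ρ M v u c := by
  unfold Par at h ⊢
  have hvu : pol (⇑Q₀) v u = 0 := by rw [QuadraticMap.polar_comm]; exact huv
  have e1 : siegel B Q (c • ρ v) (ρ u) = (siegel B Q (c • ρ u) (ρ v))⁻¹ := by
    rw [siegel_smul R.hQ (R.sing hu) (R.sing hv) (R.orth huv),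
      siegel_inv R.hQ (R.sing hu) (sing_smul R.hQ (R.sing hv) c)
        (by rw [map_smul, R.orth huv, smul_zero])]
  rw [e1]
  exact inv_mem h

include R h13 hM in
/-- changing the second vector of the line -/
lemma par_step {u v b' w : W} (hu : Q₀ u = 0) (hv : Q₀ v = 0) (hb' : Q₀ b' = 0) (hw : Q₀ w = 0)
    (huv : pol (⇑Q₀) u v = 0) (hb'v : pol (⇑Q₀) b' v = 1) (hb'u : pol (⇑Q₀) b' u = 0)
    (hb'w : pol (⇑Q₀) b' w = 0) (huw : pol (⇑Q₀) u w = 0) (hvw : pol (⇑Q₀) v w = 0) {c : F}
    (h : Par B Q ρ M u v c) : Par B Q ρ M u w c := by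
  unfold Par at h ⊢
  have h1 : siegel B Q (ρ b') (ρ w) ∈ M := ratSiegel_mem R h13 hM hb' hw hb'w
  have h2 := comm_siegel R.hQ (a := c • ρ u) (b := ρ w) (c := ρ v) (c' := ρ b')
    (sing_smul R.hQ (R.sing hu) c) (R.sing hw) (R.sing hv) (R.sing hb')
    (by rw [map_smul, LinearMap.smul_apply, R.orth huw, smul_zero])
    (by rw [map_smul, LinearMap.smul_apply, R.orth huv, smul_zero])
    (R.orth hb'w)
    (by rw [map_smul, R.orth hb'u, smul_zero])
    (R.orth hvw)
  rw [R.one hb'v, one_smul] at h2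
  have h3 : (siegel B Q (c • ρ u) (ρ w))⁻¹ ∈ M := by
    rw [← h2]
    exact Subgroup.commutator_mem_commutator h h1 |> fun hh =>
      (Subgroup.commutator_le_self M) hh
  have := inv_mem h3
  rwa [inv_inv] at this

/-- admissible pairs: singular, orthogonal, independent -/
structure Adm (Q₀ : QuadraticForm F₀ W) (u v : W) : Prop where
  su : Q₀ u = 0
  sv : Q₀ v = 0
  orth : pol (⇑Q₀) u v = 0
  ne : u ≠ 0
  ind : ∀ c : F₀, v ≠ c • u

include R h13 hM in
/-- **transfer**: the parameters do not depend on the rational line -/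
theorem par_transfer {u v u' v' : W} (hA : Adm Q₀ u v) (hA' : Adm Q₀ u' v') {c : F}
    (h : Par B Q ρ M u v c) : Par B Q ρ M u' v' c := by
  obtain ⟨hu, hv, huv, hune, hind⟩ := hA
  obtain ⟨hu', hv', hu'v', -, -⟩ := hA'
  set S : Submodule F₀ W := Submodule.span F₀ ({u, v} : Set W) ⊔ Submodule.span F₀ ({u', v'} : Set W)
    with hSdef
  obtain ⟨w, ws, w', ws', h1, h2, hww', hwws', hwsw', hwsws'⟩ :=
    exists_hyp2 Q₀ R.nd₀ h13 S (finrank_span_four_le u v u' v')
  obtain ⟨hw, hws, hwws, hSw⟩ := h1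
  obtain ⟨hw', hws', hw'ws', hSw'⟩ := h2
  have huS : u ∈ S := Submodule.mem_sup_left (Submodule.subset_span (by simp))
  have hvS : v ∈ S := Submodule.mem_sup_left (Submodule.subset_span (by simp))
  have hu'S : u' ∈ S := Submodule.mem_sup_right (Submodule.subset_span (by simp))
  have hv'S : v' ∈ S := Submodule.mem_sup_right (Submodule.subset_span (by simp))
  have pc := QuadraticMap.polar_comm (⇑Q₀)
  -- step 1
  obtain ⟨y, hy1, hy2⟩ := dual2 Q₀ R.nd₀ u v hune hind 0 1
  obtain ⟨b1, hb1⟩ : ∃ b1 : W, b1 = y - pol (⇑Q₀) y w • ws := ⟨_, rfl⟩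
  have hvb1 : pol (⇑Q₀) v b1 = 1 := by
    rw [hb1, QuadraticMap.polar_sub_right, QuadraticMap.polar_smul_right, hy2, (hSw v hvS).2]
    simp
  have hub1 : pol (⇑Q₀) u b1 = 0 := by
    rw [hb1, QuadraticMap.polar_sub_right, QuadraticMap.polar_smul_right, hy1, (hSw u huS).2]
    simp
  have hwb1 : pol (⇑Q₀) w b1 = 0 := by
    rw [hb1, QuadraticMap.polar_sub_right, QuadraticMap.polar_smul_right, hwws, pc w y]
    simp
  obtain ⟨b1', hb1'⟩ : ∃ b1' : W, b1' = b1 - Q₀ b1 • v := ⟨_, rfl⟩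
  have hQb1' : Q₀ b1' = 0 := by rw [hb1']; exact Q_sub_smul_one Q₀ b1 v hv hvb1
  have s1 : Par B Q ρ M u w c := by
    refine par_step R h13 hM (b' := b1') hu hv hQb1' hw huv ?_ ?_ ?_ (hSw u huS).1 (hSw v hvS).1 h
    · rw [hb1', QuadraticMap.polar_sub_left, QuadraticMap.polar_smul_left, pc b1 v, hvb1,
        pol_self_of_sing Q₀ v hv]
      simp
    · rw [hb1', QuadraticMap.polar_sub_left, QuadraticMap.polar_smul_left, pc b1 u, hub1, pc v u,
        huv]
      simp
    · rw [hb1', QuadraticMap.polar_sub_left, QuadraticMap.polar_smul_left, pc b1 w, hwb1,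
        (hSw v hvS).1]
      simp
  have s1' : Par B Q ρ M w u c := par_symm R hu hw (hSw u huS).1 s1
  -- step 2
  obtain ⟨f, hQf, huf⟩ := exists_hyp_partner Q₀ R.nd₀ u hune hu
  obtain ⟨y1, hy1def⟩ : ∃ y1 : W, y1 = f - pol (⇑Q₀) f w • ws - pol (⇑Q₀) f w' • ws' := ⟨_, rfl⟩
  have huy1 : pol (⇑Q₀) u y1 = 1 := by
    rw [hy1def, QuadraticMap.polar_sub_right, QuadraticMap.polar_sub_right,
      QuadraticMap.polar_smul_right, QuadraticMap.polar_smul_right, huf, (hSw u huS).2,
      (hSw' u huS).2]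
    simp
  have hwy1 : pol (⇑Q₀) w y1 = 0 := by
    rw [hy1def, QuadraticMap.polar_sub_right, QuadraticMap.polar_sub_right,
      QuadraticMap.polar_smul_right, QuadraticMap.polar_smul_right, hwws, hwws', pc w f]
    simp
  have hw'y1 : pol (⇑Q₀) w' y1 = 0 := by
    rw [hy1def, QuadraticMap.polar_sub_right, QuadraticMap.polar_sub_right,
      QuadraticMap.polar_smul_right, QuadraticMap.polar_smul_right, hw'ws', pc w' ws, hwsw',
      pc w' f]
    simp
  obtain ⟨b2, hb2⟩ : ∃ b2 : W, b2 = y1 - Q₀ y1 • u := ⟨_, rfl⟩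
  have hQb2 : Q₀ b2 = 0 := by rw [hb2]; exact Q_sub_smul_one Q₀ y1 u hu huy1
  have s2 : Par B Q ρ M w w' c := by
    refine par_step R h13 hM (b' := b2) hw hu hQb2 hw' (by rw [pc]; exact (hSw u huS).1) ?_ ?_ ?_
      hww' (hSw' u huS).1 s1'
    · rw [hb2, QuadraticMap.polar_sub_left, QuadraticMap.polar_smul_left, pc y1 u, huy1,
        pol_self_of_sing Q₀ u hu]
      simp
    · rw [hb2, QuadraticMap.polar_sub_left, QuadraticMap.polar_smul_left, pc y1 w, hwy1,
        (hSw u huS).1]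
      simp
    · rw [hb2, QuadraticMap.polar_sub_left, QuadraticMap.polar_smul_left, pc y1 w', hw'y1,
        (hSw' u huS).1]
      simp
  have s2' : Par B Q ρ M w' w c := par_symm R hw hw' hww' s2
  -- step 3
  have s3 : Par B Q ρ M w' u' c :=
    par_step R h13 hM (b' := ws) hw' hw hws hu' (by rw [pc]; exact hww') (by rw [pc]; exact hwws)
      hwsw' (by rw [pc]; exact (hSw u' hu'S).2) (by rw [pc]; exact (hSw' u' hu'S).1)
      (by rw [pc]; exact (hSw u' hu'S).1) s2'
  have s3' : Par B Q ρ M u' w' c := par_symm R hw' hu' (by rw [pc]; exact (hSw' u' hu'S).1) s3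
  -- step 4
  exact par_step R h13 hM (b' := ws') hu' hw' hws' hv' (hSw' u' hu'S).1
    (by rw [pc]; exact hw'ws') (by rw [pc]; exact (hSw' u' hu'S).2)
    (by rw [pc]; exact (hSw' v' hv'S).2) hu'v' (by rw [pc]; exact (hSw' v' hv'S).1) s3'

/-- all root elements of `M` along rational lines have rational parameters -/
def Tight (B : BilinForm F V) (Q : V → F) (Q₀ : QuadraticForm F₀ W) (ρ : W → V)
    (M : Subgroup (V ≃ₗ[F] V)) : Prop :=
  ∀ u v, Adm Q₀ u v → ∀ c, Par B Q ρ M u v c → ∃ k : F₀, c = (k : F)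

/-- all root elements along rational lines lie in `M` -/
def Full (B : BilinForm F V) (Q : V → F) (Q₀ : QuadraticForm F₀ W) (ρ : W → V)
    (M : Subgroup (V ≃ₗ[F] V)) : Prop :=
  ∀ u v, Adm Q₀ u v → ∀ c, Par B Q ρ M u v c

lemma adm_of_hyp {e₁ f₁ e₂ f₂ : W} (he₁ : Q₀ e₁ = 0) (he₂ : Q₀ e₂ = 0)
    (h11 : pol (⇑Q₀) e₁ f₁ = 1) (h22 : pol (⇑Q₀) e₂ f₂ = 1) (h12 : pol (⇑Q₀) e₁ e₂ = 0)
    (h12' : pol (⇑Q₀) e₁ f₂ = 0) : Adm Q₀ e₁ e₂ := by
  refine ⟨he₁, he₂, h12, ?_, ?_⟩
  · rintro rfl
    rw [QuadraticMap.polar_zero_left] at h11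
    exact zero_ne_one h11
  · intro c hc
    rw [hc, QuadraticMap.polar_smul_left, h12', smul_zero] at h22
    exact zero_ne_one h22

include R h13 hM in
/-- **the dichotomy** -/
theorem tight_or_full [Finite F] (hprime : ∀ S : Subfield F, F₀ ≤ S → S = F₀ ∨ S = ⊤) :
    Tight B Q Q₀ ρ M ∨ Full B Q Q₀ ρ M := by
  classical
  letI : Fintype F := Fintype.ofFinite F
  obtain ⟨u0, f₁, v0, f₂, h1, h2, h12, h12', -, -⟩ := exists_hyp2 Q₀ R.nd₀ h13 ⊥
    (by rw [finrank_bot]; norm_num)
  have hA0 : Adm Q₀ u0 v0 := adm_of_hyp h1.1 h2.1 h1.2.2.1 h2.2.2.1 h12 h12'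
  obtain ⟨hu0, hv0, hu0v0, hu0ne, hu0ind⟩ := hA0
  have hB0 : B (ρ u0) (ρ v0) = 0 := R.orth hu0v0
  have hsm : ∀ a : F, Q (a • ρ u0) = 0 := fun a => sing_smul R.hQ (R.sing hu0) a
  have hsmB : ∀ a : F, B (a • ρ u0) (ρ v0) = 0 := fun a => by
    rw [map_smul, LinearMap.smul_apply, hB0, smul_zero]
  have hmul : ∀ a b : F, Par B Q ρ M u0 v0 a → Par B Q ρ M u0 v0 b → Par B Q ρ M u0 v0 (a * b) := by
    intro a b ha hb
    obtain ⟨w, ws, -, -, h3, -⟩ := exists_hyp2 Q₀ R.nd₀ h13 (Submodule.span F₀ {u0, v0})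
      ((finrank_span_pair_le u0 v0).trans (by norm_num))
    obtain ⟨hw, hws, hwws, hS⟩ := h3
    have hu0S : u0 ∈ Submodule.span F₀ ({u0, v0} : Set W) := Submodule.subset_span (by simp)
    have hv0S : v0 ∈ Submodule.span F₀ ({u0, v0} : Set W) := Submodule.subset_span (by simp)
    have pc := QuadraticMap.polar_comm (⇑Q₀)
    have hAw : Adm Q₀ u0 w := by
      refine ⟨hu0, hw, (hS u0 hu0S).1, hu0ne, ?_⟩
      intro c hc
      have := hwws
      rw [hc, QuadraticMap.polar_smul_left, (hS u0 hu0S).2, smul_zero] at this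
      exact zero_ne_one this
    have hAws : Adm Q₀ ws v0 := by
      refine ⟨hws, hv0, by rw [pc]; exact (hS v0 hv0S).2, ?_, ?_⟩
      · rintro rfl
        rw [QuadraticMap.polar_zero_right] at hwws
        exact zero_ne_one hwws
      · intro c hc
        have := (hS v0 hv0S).1
        rw [hc, QuadraticMap.polar_smul_left, pc, hwws, smul_eq_mul, mul_one] at this
        rw [this, zero_smul] at hc
        have h0 := h2.2.2.1
        rw [hc, QuadraticMap.polar_zero_left] at h0
        exact zero_ne_one h0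
    have ha' : Par B Q ρ M u0 w a := par_transfer R h13 hM ⟨hu0, hv0, hu0v0, hu0ne, hu0ind⟩ hAw ha
    have hb' : Par B Q ρ M ws v0 b :=
      par_transfer R h13 hM ⟨hu0, hv0, hu0v0, hu0ne, hu0ind⟩ hAws hb
    unfold Par at ha' hb' ⊢
    have hc := comm_siegel R.hQ (a := a • ρ u0) (b := ρ v0) (c := ρ w) (c' := b • ρ ws)
      (hsm a) (R.sing hv0) (R.sing hw) (sing_smul R.hQ (R.sing hws) b) (hsmB a)
      (by rw [map_smul, LinearMap.smul_apply, R.orth (hS u0 hu0S).1, smul_zero])
      (by rw [map_smul, LinearMap.smul_apply, R.orth (by rw [pc]; exact (hS v0 hv0S).2),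
        smul_zero])
      (by rw [map_smul, map_smul, LinearMap.smul_apply, R.orth (by rw [pc]; exact (hS u0 hu0S).2),
        smul_zero, smul_zero])
      (R.orth (by rw [pc]; exact (hS v0 hv0S).1))
    have e1 : B (b • ρ ws) (ρ w) = b := by
      rw [map_smul, LinearMap.smul_apply, R.one (by rw [pc]; exact hwws), smul_eq_mul, mul_one]
    rw [e1, smul_smul] at hc
    have h3 : (siegel B Q ((b * a) • ρ u0) (ρ v0))⁻¹ ∈ M := by
      rw [← hc]
      exact (Subgroup.commutator_le_self M) (Subgroup.commutator_mem_commutator ha' hb')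
    have := inv_mem h3
    rwa [inv_inv, mul_comm] at this
  have hone : Par B Q ρ M u0 v0 1 := by
    unfold Par
    rw [one_smul]
    exact ratSiegel_mem R h13 hM hu0 hv0 hu0v0
  have hadd : ∀ a b : F, Par B Q ρ M u0 v0 a → Par B Q ρ M u0 v0 b → Par B Q ρ M u0 v0 (a + b) := by
    intro a b ha hb
    unfold Par at ha hb ⊢
    rw [add_smul, siegel_add_left R.hQ (hsm a) (hsm b) (R.sing hv0) (hsmB a) (hsmB b)
      (by rw [map_smul, map_smul, LinearMap.smul_apply, sing_self R.hQ (R.sing hu0), smul_zero,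
        smul_zero])]
    exact mul_mem ha hb
  have hzero : Par B Q ρ M u0 v0 0 := by
    unfold Par
    rw [zero_smul, siegel_zero_left R.hQ (R.sing hv0)]
    exact one_mem _
  have hneg : ∀ a : F, Par B Q ρ M u0 v0 a → Par B Q ρ M u0 v0 (-a) := by
    intro a ha
    unfold Par at ha ⊢
    rw [neg_smul, siegel_neg_left R.hQ (hsm a) (R.sing hv0) (hsmB a)]
    exact inv_mem ha
  have hpow : ∀ (a : F) (n : ℕ), Par B Q ρ M u0 v0 a → Par B Q ρ M u0 v0 (a ^ n) := by
    intro a n ha
    induction n with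
    | zero => rw [pow_zero]; exact hone
    | succ n ih => rw [pow_succ]; exact hmul _ _ ih ha
  let S0 : Subfield F :=
    { carrier := {c | Par B Q ρ M u0 v0 c}
      mul_mem' := fun {a b} ha hb => hmul a b ha hb
      one_mem' := hone
      add_mem' := fun {a b} ha hb => hadd a b ha hb
      zero_mem' := hzero
      neg_mem' := fun {a} ha => hneg a ha
      inv_mem' := by
        intro a ha
        by_cases h0 : a = 0
        · rw [h0, inv_zero]; exact hzero
        · have h1 : a ^ (Fintype.card F - 1) = 1 := FiniteField.pow_card_sub_one_eq_one a h0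
          have h2 : a⁻¹ = a ^ (Fintype.card F - 2) := by
            have hq : 2 ≤ Fintype.card F := Fintype.one_lt_card
            have : a * a ^ (Fintype.card F - 2) = 1 := by
              rw [← pow_succ']
              have : Fintype.card F - 2 + 1 = Fintype.card F - 1 := by omega
              rw [this, h1]
            exact inv_eq_of_mul_eq_one_right this
          show Par B Q ρ M u0 v0 a⁻¹
          rw [h2]
          exact hpow a _ ha }
  have hle : F₀ ≤ S0 := by
    intro k hk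
    show Par B Q ρ M u0 v0 k
    unfold Par
    have : k • ρ u0 = ρ ((⟨k, hk⟩ : F₀) • u0) := by rw [R.smul]
    rw [this]
    apply ratSiegel_mem R h13 hM
    · rw [QuadraticMap.map_smul, hu0, smul_zero]
    · exact hv0
    · rw [QuadraticMap.polar_smul_left, hu0v0, smul_zero]
  rcases hprime S0 hle with h | h
  · left
    intro u v hA c hc
    have h3 : c ∈ S0 := par_transfer R h13 hM hA ⟨hu0, hv0, hu0v0, hu0ne, hu0ind⟩ hc
    rw [h] at h3
    exact ⟨⟨c, h3⟩, rfl⟩
  · right
    intro u v hA c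
    have h3 : c ∈ S0 := by rw [h]; trivial
    exact par_transfer R h13 hM ⟨hu0, hv0, hu0v0, hu0ne, hu0ind⟩ hA h3

end Main

end Cfsg.Agent.Lib.Helper95.OSub
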