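/-
Helper95: overgroups of the rational orthogonal group, part D: in the tight case the root
elements of `M` in the unipotent radical of a rational singular point are rational.
-/
import Mathlib
import Cfsg.Agent.Lib.Helper95.OSubC

set_option autoImplicit false
set_option linter.unusedSimpArgs false
set_option linter.unusedSectionVars false
set_option linter.unusedVariables false

namespace Cfsg.Agent.Lib.Helper95.OSub

open LinearMap (BilinForm)
open Module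
open Cfsg.Agent.Lib.Helper94 Cfsg.Agent.Lib.Helper94.QuadData Cfsg.Agent.Lib.Helper44
open scoped commutatorElement

variable {F : Type*} [Field F] {V : Type*} [AddCommGroup V] [Module F V]
variable {F₀ : Subfield F} {W : Type*} [AddCommGroup W] [Module F₀ W]
variable {B : BilinForm F V} {Q : V → F} {Q₀ : QuadraticForm F₀ W} {ρ : W → V}

local notation "pol" => QuadraticMap.polar

variable [Finite F₀] [FiniteDimensional F₀ W]
variable (R : OSet B Q Q₀ ρ) (h13 : 13 ≤ finrank F₀ W) {M : Subgroup (V ≃ₗ[F] V)}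
  (hM : Over Q ρ M) (hT : Tight B Q Q₀ ρ M)

lemma OSet.form_mem (R : OSet B Q Q₀ ρ) (a b : W) : B (ρ a) (ρ b) ∈ F₀ := by
  rw [R.form]; exact (pol (⇑Q₀) a b).2

include R h13 hM hT in
/-- step A: the products with singular rational vectors orthogonal to `s` -/
lemma tight_radical_sing {s : W} (hs : Q₀ s = 0) (hs0 : s ≠ 0) {c : V} (hc : Q c = 0)
    (hcs : B c (ρ s) = 0) (h : siegel B Q c (ρ s) ∈ M) {u₁ : W} (hu₁ : Q₀ u₁ = 0)
    (hu₁s : pol (⇑Q₀) u₁ s = 0) : B c (ρ u₁) ∈ F₀ := by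
  have pc := QuadraticMap.polar_comm (⇑Q₀)
  obtain ⟨u₂, u₃, u₄, u₄s, h1, h2, h24, h24s, h34, h34s⟩ :=
    exists_hyp2 Q₀ R.nd₀ h13 (Submodule.span F₀ {s, u₁})
      ((finrank_span_pair_le s u₁).trans (by norm_num))
  obtain ⟨hu₂, hu₃, hu₂₃, hS⟩ := h1
  obtain ⟨hu₄, hu₄s, hu₄₄s, hS'⟩ := h2
  have hsS : s ∈ Submodule.span F₀ ({s, u₁} : Set W) := Submodule.subset_span (by simp)
  have hu₁S : u₁ ∈ Submodule.span F₀ ({s, u₁} : Set W) := Submodule.subset_span (by simp)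
  set α := B c (ρ u₁) with hα
  set β := B c (ρ u₂) with hβ
  have hss : Q (ρ s) = 0 := R.sing hs
  -- first conjugation
  have hh : siegel B Q (ρ u₁) (ρ u₂) ∈ M := ratSiegel_mem R h13 hM hu₁ hu₂ (hS u₁ hu₁S).1
  have hhO : siegel B Q (ρ u₁) (ρ u₂) ∈ OG Q :=
    siegel_mem_OG R.hQ (R.sing hu₁) (R.sing hu₂) (R.orth (hS u₁ hu₁S).1)
  have hhs : siegel B Q (ρ u₁) (ρ u₂) (ρ s) = ρ s := by
    rw [siegel_apply R.hQ (R.sing hu₁) (R.sing hu₂) (R.orth (hS u₁ hu₁S).1),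
      R.orth (by rw [pc]; exact hu₁s), R.orth (hS s hsS).1]
    simp
  obtain ⟨c₁, hc₁⟩ : ∃ c₁ : V, c₁ = α • ρ u₂ + (-β) • ρ u₁ := ⟨_, rfl⟩
  have hhc : siegel B Q (ρ u₁) (ρ u₂) c = c + c₁ := by
    rw [siegel_apply R.hQ (R.sing hu₁) (R.sing hu₂) (R.orth (hS u₁ hu₁S).1), hc₁]
    simp only [neg_smul]
    abel
  have hB12 : B (ρ u₂) (ρ u₁) = 0 := R.orth (by rw [pc]; exact (hS u₁ hu₁S).1)
  have hQc₁ : Q c₁ = 0 := by
    rw [hc₁]
    apply sing_add R.hQ (sing_smul R.hQ (R.sing hu₂) _) (sing_smul R.hQ (R.sing hu₁) _)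
    rw [map_smul, map_smul, LinearMap.smul_apply, hB12, smul_zero, smul_zero]
  have hc₁s : B c₁ (ρ s) = 0 := by
    rw [hc₁, map_add, map_smul, map_smul, LinearMap.add_apply, LinearMap.smul_apply,
      LinearMap.smul_apply, R.orth (by rw [pc]; exact (hS s hsS).1), R.orth hu₁s]
    simp
  have hcc₁ : B c c₁ = 0 := by
    rw [hc₁, map_add, map_smul, map_smul, ← hα, ← hβ]
    simp only [smul_eq_mul]
    ring
  have hy₁ : siegel B Q c₁ (ρ s) ∈ M := by
    have e1 := conj_siegel R.hQ hhO hc hss hcs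
    rw [hhs, hhc, siegel_add_left R.hQ hc hQc₁ hss hcs hc₁s hcc₁] at e1
    have e2 : siegel B Q c₁ (ρ s) = (siegel B Q c (ρ s))⁻¹ *
        (siegel B Q (ρ u₁) (ρ u₂) * siegel B Q c (ρ s) * (siegel B Q (ρ u₁) (ρ u₂))⁻¹) := by
      rw [e1]; group
    rw [e2]
    exact mul_mem (inv_mem h) (mul_mem (mul_mem hh h) (inv_mem hh))
  -- second conjugation
  have h34' : pol (⇑Q₀) u₃ u₄ = 0 := h34
  have hh' : siegel B Q (ρ u₃) (ρ u₄) ∈ M := ratSiegel_mem R h13 hM hu₃ hu₄ h34'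
  have hh'O : siegel B Q (ρ u₃) (ρ u₄) ∈ OG Q :=
    siegel_mem_OG R.hQ (R.sing hu₃) (R.sing hu₄) (R.orth h34')
  have hh's : siegel B Q (ρ u₃) (ρ u₄) (ρ s) = ρ s := by
    rw [siegel_apply R.hQ (R.sing hu₃) (R.sing hu₄) (R.orth h34'), R.orth (hS s hsS).2,
      R.orth (hS' s hsS).1]
    simp
  have hh'c₁ : siegel B Q (ρ u₃) (ρ u₄) c₁ = c₁ + α • ρ u₄ := by
    rw [siegel_apply R.hQ (R.sing hu₃) (R.sing hu₄) (R.orth h34'), hc₁]
    simp only [map_add, map_smul, LinearMap.add_apply, LinearMap.smul_apply, R.one hu₂₃,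
      R.orth (hS u₁ hu₁S).2, R.orth h24, R.orth (hS' u₁ hu₁S).1, smul_eq_mul, mul_one, mul_zero,
      add_zero, zero_smul, sub_zero]
  have hQα : Q (α • ρ u₄) = 0 := sing_smul R.hQ (R.sing hu₄) α
  have hαs : B (α • ρ u₄) (ρ s) = 0 := by
    rw [map_smul, LinearMap.smul_apply, R.orth (by rw [pc]; exact (hS' s hsS).1), smul_zero]
  have hc₁α : B c₁ (α • ρ u₄) = 0 := by
    rw [hc₁, map_smul, map_add, map_smul, map_smul, LinearMap.add_apply, LinearMap.smul_apply,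
      LinearMap.smul_apply, R.orth h24, R.orth (hS' u₁ hu₁S).1]
    simp
  have hpar : Par B Q ρ M u₄ s α := by
    unfold Par
    have e1 := conj_siegel R.hQ hh'O hQc₁ hss hc₁s
    rw [hh's, hh'c₁, siegel_add_left R.hQ hQc₁ hQα hss hc₁s hαs hc₁α] at e1
    have e2 : siegel B Q (α • ρ u₄) (ρ s) = (siegel B Q c₁ (ρ s))⁻¹ *
        (siegel B Q (ρ u₃) (ρ u₄) * siegel B Q c₁ (ρ s) * (siegel B Q (ρ u₃) (ρ u₄))⁻¹) := by
      rw [e1]; group
    rw [e2]
    exact mul_mem (inv_mem hy₁) (mul_mem (mul_mem hh' hy₁) (inv_mem hh'))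
  have hAdm : Adm Q₀ u₄ s := by
    refine ⟨hu₄, hs, by rw [pc]; exact (hS' s hsS).1, ?_, ?_⟩
    · rintro rfl
      rw [QuadraticMap.polar_zero_left] at hu₄₄s
      exact zero_ne_one hu₄₄s
    · intro k hk
      have := (hS' s hsS).2
      rw [hk, QuadraticMap.polar_smul_left, hu₄₄s, smul_eq_mul, mul_one] at this
      rw [this, zero_smul] at hk
      exact hs0 hk
  obtain ⟨k, hk⟩ := hT u₄ s hAdm α hpar
  rw [hk]
  exact k.2

include R h13 hM hT in
/-- step A': the products with all rational vectors orthogonal to `s` -/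
lemma tight_radical_perp {s : W} (hs : Q₀ s = 0) (hs0 : s ≠ 0) {c : V} (hc : Q c = 0)
    (hcs : B c (ρ s) = 0) (h : siegel B Q c (ρ s) ∈ M) {t : W}
    (hts : pol (⇑Q₀) t s = 0) : B c (ρ t) ∈ F₀ := by
  have pc := QuadraticMap.polar_comm (⇑Q₀)
  obtain ⟨e, f, -, -, h1, -⟩ := exists_hyp2 Q₀ R.nd₀ h13 (Submodule.span F₀ {s, t})
    ((finrank_span_pair_le s t).trans (by norm_num))
  obtain ⟨he, hf, hef, hS⟩ := h1
  have hsS : s ∈ Submodule.span F₀ ({s, t} : Set W) := Submodule.subset_span (by simp)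
  have htS : t ∈ Submodule.span F₀ ({s, t} : Set W) := Submodule.subset_span (by simp)
  obtain ⟨q, hq⟩ : ∃ q : F₀, q = Q₀ (t + e) := ⟨_, rfl⟩
  obtain ⟨t₁, ht₁⟩ : ∃ t₁ : W, t₁ = (t + e) - q • f := ⟨_, rfl⟩
  have hQt₁ : Q₀ t₁ = 0 := by
    rw [ht₁, hq]
    apply Q_sub_smul_one Q₀ (t + e) f hf
    rw [QuadraticMap.polar_add_right, pc f t, (hS t htS).2, pc f e, hef, zero_add]
  have ht₁s : pol (⇑Q₀) t₁ s = 0 := by
    rw [ht₁, QuadraticMap.polar_sub_left, QuadraticMap.polar_add_left,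
      QuadraticMap.polar_smul_left, hts, pc e s, (hS s hsS).1, pc f s, (hS s hsS).2]
    simp
  have e1 : ρ t = ρ t₁ - ρ e + (q : F) • ρ f := by
    rw [← R.smul, ← R.sub, ← R.add, ht₁]
    congr 1
    abel
  have m1 := tight_radical_sing R h13 hM hT hs hs0 hc hcs h hQt₁ ht₁s
  have m2 := tight_radical_sing R h13 hM hT hs hs0 hc hcs h he
    (by rw [pc]; exact (hS s hsS).1)
  have m3 := tight_radical_sing R h13 hM hT hs hs0 hc hcs h hf
    (by rw [pc]; exact (hS s hsS).2)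
  rw [e1, map_add, map_sub, map_smul, smul_eq_mul]
  exact F₀.add_mem (F₀.sub_mem m1 m2) (F₀.mul_mem q.2 m3)

include R h13 hM hT in
/-- **the root elements of `M` in the radical of a rational singular point are rational** -/
theorem tight_radical {s : W} (hs : Q₀ s = 0) (hs0 : s ≠ 0) {c : V} (hc : Q c = 0)
    (hcs : B c (ρ s) = 0) (h : siegel B Q c (ρ s) ∈ M) :
    ∃ (w : W) (κ : F), c = ρ w + κ • ρ s := by
  have pc := QuadraticMap.polar_comm (⇑Q₀)
  obtain ⟨s', hQs', hss'⟩ := exists_hyp_partner Q₀ R.nd₀ s hs0 hs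
  obtain ⟨κ, hκ⟩ : ∃ κ : F, κ = B c (ρ s') := ⟨_, rfl⟩
  have key : ∀ a, ∃ t : F₀, B (c - κ • ρ s) (ρ a) = (t : F) := by
    intro a
    obtain ⟨a₁, ha₁⟩ : ∃ a₁ : W, a₁ = a - pol (⇑Q₀) a s • s' := ⟨_, rfl⟩
    have ha₁s : pol (⇑Q₀) a₁ s = 0 := by
      rw [ha₁, QuadraticMap.polar_sub_left, QuadraticMap.polar_smul_left, pc s' s, hss']
      simp
    have m := tight_radical_perp R h13 hM hT hs hs0 hc hcs h ha₁s
    refine ⟨⟨_, m⟩, ?_⟩
    have e1 : ρ a = ρ a₁ + ((pol (⇑Q₀) a s : F₀) : F) • ρ s' := by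
      rw [← R.smul, ← R.add, ha₁]
      congr 1
      abel
    have e2 : B (ρ s) (ρ a₁) = 0 := R.orth (by rw [pc]; exact ha₁s)
    have e3 : B (ρ s) (ρ s') = 1 := R.one hss'
    rw [e1, map_sub, LinearMap.sub_apply, map_add, map_add, map_smul, map_smul, ← hκ,
      map_smul, LinearMap.smul_apply, LinearMap.smul_apply, e2, e3]
    simp only [smul_eq_mul, mul_zero, mul_one, zero_add]
    ring
  obtain ⟨b, hb⟩ := R.detect _ key
  exact ⟨b, κ, by rw [← hb]; abel⟩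

end Cfsg.Agent.Lib.Helper95.OSub
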