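/-
Helper95: overgroups of the rational orthogonal group, part E: in the tight case a root element
of `M` whose line is orthogonal to a rational hyperbolic pair is rational.
-/
import Mathlib
import Cfsg.Agent.Lib.Helper95.OSubD

set_option autoImplicit false
set_option linter.unusedSimpArgs false
set_option linter.unusedSectionVars false
set_option linter.unusedVariables false

namespace Cfsg.Agent.Lib.Helper95.OSub

open LinearMap (BilinForm)
open Module
open Cfsg.Agent.Lib.Helper94 Cfsg.Agent.Lib.Helper94.QuadData Cfsg.Agent.Lib.Helper44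
open scoped commutatorElement

variable {F : Type*} [Field F] {V : Type*} [AddCommGroup V] [Module F V]
variable {F₀ : Subfield F} {W : Type*} [AddCommGroup W] [Module F₀ W]
variable {B : BilinForm F V} {Q : V → F} {Q₀ : QuadraticForm F₀ W} {ρ : W → V}

local notation "pol" => QuadraticMap.polar

/-- conjugating a Siegel transformation by one with a common orthogonal vector -/
lemma conj_siegel_radical (hQ : QuadData B Q) {a b t s : V} (ha : Q a = 0) (hb : Q b = 0)
    (ht : Q t = 0) (hs : Q s = 0) (hab : B a b = 0) (has : B a s = 0) (hbs : B b s = 0)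
    (hts : B t s = 0) :
    siegel B Q t s * siegel B Q a b * (siegel B Q t s)⁻¹ =
      siegel B Q (B b t • a - B a t • b) s * siegel B Q a b := by
  have hxO : siegel B Q t s ∈ OG Q := siegel_mem_OG hQ ht hs hts
  have hsa : B s a = 0 := by rw [hQ.symm, has]
  have hsb : B s b = 0 := by rw [hQ.symm, hbs]
  have hba : B b a = 0 := by rw [hQ.symm, hab]
  have hss : B s s = 0 := sing_self hQ hs
  have haa : B a a = 0 := sing_self hQ ha
  have hbb : B b b = 0 := sing_self hQ hb
  rw [conj_siegel hQ hxO ha hb hab]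
  have e1 : siegel B Q t s a = a + B a t • s := by
    rw [siegel_apply hQ ht hs hts, has, zero_smul, sub_zero]
  have e2 : siegel B Q t s b = b + B b t • s := by
    rw [siegel_apply hQ ht hs hts, hbs, zero_smul, sub_zero]
  rw [e1, e2]
  set α := B a t
  set β := B b t
  have hQ1 : Q (a + α • s) = 0 := by
    apply sing_add hQ ha (sing_smul hQ hs α)
    rw [map_smul, has, smul_zero]
  have hQ2 : Q (b + β • s) = 0 := by
    apply sing_add hQ hb (sing_smul hQ hs β)
    rw [map_smul, hbs, smul_zero]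
  have hB12 : B (a + α • s) (b + β • s) = 0 := by
    simp only [map_add, map_smul, LinearMap.add_apply, LinearMap.smul_apply, hab, has, hsb, hss,
      smul_eq_mul, mul_zero, add_zero]
  have hQd : Q (β • a - α • b) = 0 := by
    rw [sub_eq_add_neg, ← neg_smul]
    apply sing_add hQ (sing_smul hQ ha β) (sing_smul hQ hb _)
    rw [map_smul, map_smul, LinearMap.smul_apply, hab, smul_zero, smul_zero]
  have hds : B (β • a - α • b) s = 0 := by
    simp only [map_sub, map_smul, LinearMap.sub_apply, LinearMap.smul_apply, has, hbs, smul_eq_mul,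
      mul_zero, sub_zero]
  apply LinearEquiv.ext
  intro v
  rw [LinearEquiv.mul_apply, siegel_apply hQ hQ1 hQ2 hB12, siegel_apply hQ hQd hs hds,
    siegel_apply hQ ha hb hab]
  simp only [map_add, map_sub, map_smul, LinearMap.add_apply, LinearMap.sub_apply,
    LinearMap.smul_apply, hab, hba, has, hbs, hsa, hsb, hss, haa, hbb, smul_eq_mul, mul_zero,
    add_zero, sub_zero, zero_mul, zero_sub, zero_add]
  module

section Main

variable [Finite F₀] [FiniteDimensional F₀ W]
variable (R : OSet B Q Q₀ ρ) (h13 : 13 ≤ finrank F₀ W) {M : Subgroup (V ≃ₗ[F] V)}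
  (hM : Over Q ρ M) (hT : Tight B Q Q₀ ρ M)

include R h13 in
/-- every vector is the sum of three singular vectors, compatibly with two given vectors -/
lemma three_sing (t x y : W) : ∃ (e f t₁ : W) (q : F₀), Q₀ e = 0 ∧ Q₀ f = 0 ∧ Q₀ t₁ = 0 ∧
    t = t₁ - e + q • f ∧ pol (⇑Q₀) e x = 0 ∧ pol (⇑Q₀) f x = 0 ∧ pol (⇑Q₀) e y = 0 ∧
    pol (⇑Q₀) f y = 0 ∧ pol (⇑Q₀) t₁ x = pol (⇑Q₀) t x ∧ pol (⇑Q₀) t₁ y = pol (⇑Q₀) t y := by
  have pc := QuadraticMap.polar_comm (⇑Q₀)
  obtain ⟨e, f, -, -, h1, -⟩ := exists_hyp2 Q₀ R.nd₀ h13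
    (Submodule.span F₀ {x, y} ⊔ Submodule.span F₀ {t, t}) (finrank_span_four_le x y t t)
  obtain ⟨he, hf, hef, hS⟩ := h1
  have hxS : x ∈ (Submodule.span F₀ {x, y} ⊔ Submodule.span F₀ {t, t} : Submodule F₀ W) :=
    Submodule.mem_sup_left (Submodule.subset_span (by simp))
  have hyS : y ∈ (Submodule.span F₀ {x, y} ⊔ Submodule.span F₀ {t, t} : Submodule F₀ W) :=
    Submodule.mem_sup_left (Submodule.subset_span (by simp))
  have htS : t ∈ (Submodule.span F₀ {x, y} ⊔ Submodule.span F₀ {t, t} : Submodule F₀ W) :=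
    Submodule.mem_sup_right (Submodule.subset_span (by simp))
  refine ⟨e, f, (t + e) - Q₀ (t + e) • f, Q₀ (t + e), he, hf, ?_, by abel, ?_, ?_, ?_, ?_, ?_, ?_⟩
  · apply Q_sub_smul_one Q₀ (t + e) f hf
    rw [QuadraticMap.polar_add_right, pc f t, (hS t htS).2, pc f e, hef, zero_add]
  · rw [pc]; exact (hS x hxS).1
  · rw [pc]; exact (hS x hxS).2
  · rw [pc]; exact (hS y hyS).1
  · rw [pc]; exact (hS y hyS).2
  · rw [QuadraticMap.polar_sub_left, QuadraticMap.polar_add_left, QuadraticMap.polar_smul_left,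
      pc e x, (hS x hxS).1, pc f x, (hS x hxS).2]
    simp
  · rw [QuadraticMap.polar_sub_left, QuadraticMap.polar_add_left, QuadraticMap.polar_smul_left,
      pc e y, (hS y hyS).1, pc f y, (hS y hyS).2]
    simp

include R h13 hM hT in
/-- the singular case of `star2` -/
lemma star2_sing {a b : V} (ha : Q a = 0) (hb : Q b = 0) (hab : B a b = 0) {s s' : W}
    (hs : Q₀ s = 0) (hs' : Q₀ s' = 0) (hss' : pol (⇑Q₀) s s' = 1) (has : B a (ρ s) = 0)
    (has' : B a (ρ s') = 0) (hbs : B b (ρ s) = 0) (hbs' : B b (ρ s') = 0)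
    (hy : siegel B Q a b ∈ M) {t : W} (ht : Q₀ t = 0) (hts : pol (⇑Q₀) t s = 0) :
    ∃ u : W, B (ρ t) a • b - B (ρ t) b • a = ρ u := by
  have pc := QuadraticMap.polar_comm (⇑Q₀)
  have hs0 : s ≠ 0 := by
    rintro rfl
    rw [QuadraticMap.polar_zero_left] at hss'
    exact zero_ne_one hss'
  have hx : siegel B Q (ρ t) (ρ s) ∈ M := ratSiegel_mem R h13 hM ht hs hts
  have h1 := conj_siegel_radical R.hQ ha hb (R.sing ht) (R.sing hs) hab has hbs (R.orth hts)
  obtain ⟨d, hd⟩ : ∃ d : V, d = B b (ρ t) • a - B a (ρ t) • b := ⟨_, rfl⟩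
  rw [← hd] at h1
  have hdM : siegel B Q d (ρ s) ∈ M := by
    have e2 : siegel B Q d (ρ s) = siegel B Q (ρ t) (ρ s) * siegel B Q a b *
        (siegel B Q (ρ t) (ρ s))⁻¹ * (siegel B Q a b)⁻¹ := by
      rw [h1]; group
    rw [e2]
    exact mul_mem (mul_mem (mul_mem hx hy) (inv_mem hx)) (inv_mem hy)
  have hQd : Q d = 0 := by
    rw [hd, sub_eq_add_neg, ← neg_smul]
    apply sing_add R.hQ (sing_smul R.hQ ha _) (sing_smul R.hQ hb _)
    rw [map_smul, map_smul, LinearMap.smul_apply, hab, smul_zero, smul_zero]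
  have hds : B d (ρ s) = 0 := by
    rw [hd]
    simp only [map_sub, map_smul, LinearMap.sub_apply, LinearMap.smul_apply, has, hbs, smul_eq_mul,
      mul_zero, sub_zero]
  have hds' : B d (ρ s') = 0 := by
    rw [hd]
    simp only [map_sub, map_smul, LinearMap.sub_apply, LinearMap.smul_apply, has', hbs',
      smul_eq_mul, mul_zero, sub_zero]
  obtain ⟨u, κ, hu⟩ := tight_radical R h13 hM hT hs hs0 hQd hds hdM
  have hκ : κ ∈ F₀ := by
    have e3 := hds'
    rw [hu, map_add, map_smul, LinearMap.add_apply, LinearMap.smul_apply, R.one hss', smul_eq_mul,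
      mul_one] at e3
    have : κ = -B (ρ u) (ρ s') := by linear_combination e3
    rw [this]
    exact F₀.neg_mem (R.form_mem u s')
  refine ⟨-(u + (⟨κ, hκ⟩ : F₀) • s), ?_⟩
  rw [R.neg, R.add, R.smul, ← hu, hd, R.hQ.symm (ρ t) a, R.hQ.symm (ρ t) b]
  abel

include R h13 hM hT in
/-- **(★)**: a root element of `M` whose line is orthogonal to a rational hyperbolic pair maps
rational vectors to rational vectors -/
theorem star2 {a b : V} (ha : Q a = 0) (hb : Q b = 0) (hab : B a b = 0) {s s' : W}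
    (hs : Q₀ s = 0) (hs' : Q₀ s' = 0) (hss' : pol (⇑Q₀) s s' = 1) (has : B a (ρ s) = 0)
    (has' : B a (ρ s') = 0) (hbs : B b (ρ s) = 0) (hbs' : B b (ρ s') = 0)
    (hy : siegel B Q a b ∈ M) : Rat1 ρ (siegel B Q a b) := by
  have pc := QuadraticMap.polar_comm (⇑Q₀)
  -- all vectors orthogonal to `s`, `s'`
  have h2 : ∀ t : W, pol (⇑Q₀) t s = 0 → ∃ u : W, B (ρ t) a • b - B (ρ t) b • a = ρ u := by
    intro t hts
    obtain ⟨e, f, t₁, q, he, hf, ht₁, htd, hes, hfs, -, -, ht₁s, -⟩ := three_sing R h13 t s s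
    obtain ⟨u₁, hu₁⟩ := star2_sing R h13 hM hT ha hb hab hs hs' hss' has has' hbs hbs' hy ht₁
      (by rw [ht₁s]; exact hts)
    obtain ⟨u₂, hu₂⟩ := star2_sing R h13 hM hT ha hb hab hs hs' hss' has has' hbs hbs' hy he hes
    obtain ⟨u₃, hu₃⟩ := star2_sing R h13 hM hT ha hb hab hs hs' hss' has has' hbs hbs' hy hf hfs
    refine ⟨u₁ - u₂ + q • u₃, ?_⟩
    rw [R.add, R.sub, R.smul, ← hu₁, ← hu₂, ← hu₃]
    have e1 : ρ t = ρ t₁ - ρ e + (q : F) • ρ f := by
      rw [← R.smul, ← R.sub, ← R.add, ← htd]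
    rw [e1]
    simp only [map_add, map_sub, map_smul, LinearMap.add_apply, LinearMap.sub_apply,
      LinearMap.smul_apply, smul_eq_mul]
    module
  intro w
  obtain ⟨t, ht⟩ : ∃ t : W, t = w - pol (⇑Q₀) w s • s' := ⟨_, rfl⟩
  have hts : pol (⇑Q₀) t s = 0 := by
    rw [ht, QuadraticMap.polar_sub_left, QuadraticMap.polar_smul_left, pc s' s, hss']
    simp
  obtain ⟨u, hu⟩ := h2 t hts
  refine ⟨w + u, ?_⟩
  have e1 : ρ w = ρ t + ((pol (⇑Q₀) w s : F₀) : F) • ρ s' := by
    rw [← R.smul, ← R.add, ht]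
    congr 1
    abel
  have hs'a : B (ρ s') a = 0 := by rw [R.hQ.symm, has']
  have hs'b : B (ρ s') b = 0 := by rw [R.hQ.symm, hbs']
  rw [siegel_apply R.hQ ha hb hab, R.add, ← hu]
  have e2 : B (ρ w) a = B (ρ t) a := by
    rw [e1, map_add, map_smul, LinearMap.add_apply, LinearMap.smul_apply, hs'a, smul_zero,
      add_zero]
  have e3 : B (ρ w) b = B (ρ t) b := by
    rw [e1, map_add, map_smul, LinearMap.add_apply, LinearMap.smul_apply, hs'b, smul_zero,
      add_zero]
  rw [e2, e3]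
  abel

end Main

end Cfsg.Agent.Lib.Helper95.OSub
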