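/-
Helper95: overgroups of the rational orthogonal group, part F (tight case): an element of `M`
mapping the two points of a rational hyperbolic pair to rational points lies in the rational
group; the same for elements adapted to an isometry with eigenvalues `±1`.
-/
import Mathlib
import Cfsg.Agent.Lib.Helper95.OSubE

set_option autoImplicit false
set_option linter.unusedSimpArgs false
set_option linter.unusedSectionVars false
set_option linter.unusedVariables false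

namespace Cfsg.Agent.Lib.Helper95.OSub

open LinearMap (BilinForm)
open Module
open Cfsg.Agent.Lib.Helper94 Cfsg.Agent.Lib.Helper94.QuadData Cfsg.Agent.Lib.Helper44
open scoped commutatorElement

variable {F : Type*} [Field F] {V : Type*} [AddCommGroup V] [Module F V]
variable {F₀ : Subfield F} {W : Type*} [AddCommGroup W] [Module F₀ W]
variable {B : BilinForm F V} {Q : V → F} {Q₀ : QuadraticForm F₀ W} {ρ : W → V}

local notation "pol" => QuadraticMap.polar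

/-- `k` maps the rational vector `a` into `μ • ρ W` -/
def InCl (ρ : W → V) (k : V ≃ₗ[F] V) (μ : F) (a : W) : Prop := ∃ a' : W, k (ρ a) = μ • ρ a'

/-- the class of a rational point does not change along sums -/
lemma inCl_of_add (R : OSet B Q Q₀ ρ) {k : V ≃ₗ[F] V} {μ : F} {a c : W} (ha0 : a ≠ 0)
    (hind : ∀ t : F₀, c ≠ t • a) (ha : InCl ρ k μ a) {l' l'' : F} {c' d : W}
    (hc : k (ρ c) = l' • ρ c') (hd : k (ρ (a + c)) = l'' • ρ d) : InCl ρ k μ c := by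
  obtain ⟨a', ha'⟩ := ha
  have hμ : μ ≠ 0 := by
    rintro rfl
    rw [zero_smul] at ha'
    have : ρ a = 0 := by
      have := k.injective (ha'.trans (map_zero k).symm)
      exact this
    exact R.ne_zero ha0 this
  have ha'0 : a' ≠ 0 := by
    rintro rfl
    rw [R.zero, smul_zero] at ha'
    have : ρ a = 0 := k.injective (ha'.trans (map_zero k).symm)
    exact R.ne_zero ha0 this
  have hsum : μ • ρ a' + l' • ρ c' = l'' • ρ d := by
    rw [← ha', ← hc, ← hd, R.add, map_add]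
  have hind' : ∀ t : F₀, c' ≠ t • a' := by
    intro t htc
    have h1 : k (ρ c) = (l' * t * μ⁻¹) • k (ρ a) := by
      rw [hc, ha', htc, R.smul, smul_smul, smul_smul]
      congr 1
      field_simp
    rw [← map_smul] at h1
    have h2 : (l' * t * μ⁻¹) • ρ a = ρ c := (k.injective h1).symm
    obtain ⟨τ, hτ⟩ := R.coeff_mem ha0 h2
    apply hind τ
    apply R.inj
    rw [R.smul, ← hτ, h2]
  obtain ⟨y₁, hy₁a, hy₁c⟩ := dual2 Q₀ R.nd₀ a' c' ha'0 hind' 1 0
  obtain ⟨y₂, hy₂a, hy₂c⟩ := dual2 Q₀ R.nd₀ a' c' ha'0 hind' 0 1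
  have e1 : μ = l'' * ((pol (⇑Q₀) d y₁ : F₀) : F) := by
    have := congrArg (fun v => B v (ρ y₁)) hsum
    simp only [map_add, map_smul, LinearMap.add_apply, LinearMap.smul_apply, R.form, hy₁a, hy₁c,
      smul_eq_mul] at this
    simpa using this
  have e2 : l' = l'' * ((pol (⇑Q₀) d y₂ : F₀) : F) := by
    have := congrArg (fun v => B v (ρ y₂)) hsum
    simp only [map_add, map_smul, LinearMap.add_apply, LinearMap.smul_apply, R.form, hy₂a, hy₂c,
      smul_eq_mul] at this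
    simpa using this
  have h1 : ((pol (⇑Q₀) d y₁ : F₀) : F) ≠ 0 := by
    intro h0
    rw [h0, mul_zero] at e1
    exact hμ e1
  have h1' : pol (⇑Q₀) d y₁ ≠ 0 := by
    intro h0
    apply h1
    rw [h0]; rfl
  refine ⟨(pol (⇑Q₀) d y₂ * (pol (⇑Q₀) d y₁)⁻¹) • c', ?_⟩
  rw [hc, R.smul, smul_smul]
  congr 1
  rw [e2, e1]
  push_cast
  field_simp

section Main

variable [Finite F₀] [FiniteDimensional F₀ W]
variable (R : OSet B Q Q₀ ρ) (h13 : 13 ≤ finrank F₀ W) {M : Subgroup (V ≃ₗ[F] V)}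
  (hM : Over Q ρ M) (hT : Tight B Q Q₀ ρ M)

include R h13 hM hT in
/-- **the image trick**: `k ∈ M` maps a rational singular point to a rational point as soon as
the images of the point and of a rational hyperbolic pair orthogonal to it are orthogonal to a
rational hyperbolic pair -/
theorem image_trick {k : V ≃ₗ[F] V} (hk : k ∈ M) {p e f s s' : W} (hp : Q₀ p = 0) (hp0 : p ≠ 0)
    (he : Q₀ e = 0) (hf : Q₀ f = 0) (hef : pol (⇑Q₀) e f = 1) (hpe : pol (⇑Q₀) p e = 0)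
    (hpf : pol (⇑Q₀) p f = 0) (hs : Q₀ s = 0) (hs' : Q₀ s' = 0) (hss' : pol (⇑Q₀) s s' = 1)
    (h1 : B (k (ρ p)) (ρ s) = 0) (h1' : B (k (ρ p)) (ρ s') = 0)
    (h2 : B (k (ρ e)) (ρ s) = 0) (h2' : B (k (ρ e)) (ρ s') = 0)
    (h3 : B (k (ρ f)) (ρ s) = 0) (h3' : B (k (ρ f)) (ρ s') = 0) :
    ∃ (l : F) (p' : W), k (ρ p) = l • ρ p' := by
  have pc := QuadraticMap.polar_comm (⇑Q₀)
  have hkO : k ∈ OG Q := commutator_le_OG (hM.le hk)
  have hQp : Q (k (ρ p)) = 0 := by rw [hkO (ρ p)]; exact R.sing hp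
  have hQe : Q (k (ρ e)) = 0 := by rw [hkO (ρ e)]; exact R.sing he
  have hQf : Q (k (ρ f)) = 0 := by rw [hkO (ρ f)]; exact R.sing hf
  have hBpe : B (k (ρ p)) (k (ρ e)) = 0 := by rw [R.hQ.B_map hkO]; exact R.orth hpe
  have hBfp : B (k (ρ f)) (k (ρ p)) = 0 := by
    rw [R.hQ.B_map hkO]; exact R.orth (by rw [pc]; exact hpf)
  have hBfe : B (k (ρ f)) (k (ρ e)) = 1 := by
    rw [R.hQ.B_map hkO]; exact R.one (by rw [pc]; exact hef)
  have hBpp : B (k (ρ p)) (k (ρ p)) = 0 := sing_self R.hQ hQp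
  have hy₁ : siegel B Q (k (ρ p)) (k (ρ e)) ∈ M := by
    rw [← conj_siegel R.hQ hkO (R.sing hp) (R.sing he) (R.orth hpe)]
    exact mul_mem (mul_mem hk (ratSiegel_mem R h13 hM hp he hpe)) (inv_mem hk)
  have hy₂ : siegel B Q (k (ρ f)) (k (ρ p)) ∈ M := by
    rw [← conj_siegel R.hQ hkO (R.sing hf) (R.sing hp) (R.orth (by rw [pc]; exact hpf))]
    exact mul_mem (mul_mem hk (ratSiegel_mem R h13 hM hf hp (by rw [pc]; exact hpf))) (inv_mem hk)
  have r₁ := star2 R h13 hM hT hQp hQe hBpe hs hs' hss' h1 h1' h2 h2' hy₁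
  have r₂ := star2 R h13 hM hT hQf hQp hBfp hs hs' hss' h3 h3' h1 h1' hy₂
  -- a rational vector not orthogonal to `k (ρ p)`
  have hkp0 : k (ρ p) ≠ 0 := by
    intro h0
    exact R.ne_zero hp0 (k.injective (h0.trans (map_zero k).symm))
  obtain ⟨w, hw⟩ : ∃ w : W, B (k (ρ p)) (ρ w) ≠ 0 := by
    by_contra hcon
    push Not at hcon
    exact hkp0 (R.sep hcon)
  obtain ⟨w₂, hw₂⟩ := r₂ w
  rw [siegel_apply R.hQ hQf hQp hBfp] at hw₂
  obtain ⟨β, hβ⟩ : ∃ β : F, β = B (ρ w) (k (ρ p)) := ⟨_, rfl⟩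
  obtain ⟨α, hα⟩ : ∃ α : F, α = B (ρ w) (k (ρ f)) := ⟨_, rfl⟩
  have hβ0 : β ≠ 0 := by rw [hβ, R.hQ.symm]; exact hw
  rw [← hβ, ← hα] at hw₂
  have hu : ρ (w₂ - w) = α • k (ρ p) - β • k (ρ f) := by
    rw [R.sub, ← hw₂]; abel
  obtain ⟨u₁, hu₁⟩ := r₁ (w₂ - w)
  rw [siegel_apply R.hQ hQp hQe hBpe, hu] at hu₁
  have e1 : B (α • k (ρ p) - β • k (ρ f)) (k (ρ p)) = 0 := by
    simp only [map_sub, map_smul, LinearMap.sub_apply, LinearMap.smul_apply, hBpp, hBfp,
      smul_eq_mul, mul_zero, sub_zero]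
  have e2 : B (α • k (ρ p) - β • k (ρ f)) (k (ρ e)) = -β := by
    simp only [map_sub, map_smul, LinearMap.sub_apply, LinearMap.smul_apply, hBpe, hBfe,
      smul_eq_mul, mul_zero, mul_one, zero_sub]
  rw [e1, e2, zero_smul, add_zero, ← hu] at hu₁
  have e3 : β • k (ρ p) = ρ (u₁ - (w₂ - w)) := by
    rw [R.sub u₁, ← hu₁]
    simp only [neg_smul]
    abel
  refine ⟨β⁻¹, u₁ - (w₂ - w), ?_⟩
  rw [← e3, smul_smul, inv_mul_cancel₀ hβ0, one_smul]

include R h13 hM hT in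
/-- one step of the propagation -/
lemma pair_step {k : V ≃ₗ[F] V} (hk : k ∈ M) {s s' s₁ s₂ : W} {l l' : F} (hs : Q₀ s = 0)
    (hs' : Q₀ s' = 0) (hss' : pol (⇑Q₀) s s' = 1) (h1 : k (ρ s) = l • ρ s₁)
    (h2 : k (ρ s') = l' • ρ s₂) {p : W} (hp : Q₀ p = 0) (hp0 : p ≠ 0) (hps : pol (⇑Q₀) p s = 0)
    (hps' : pol (⇑Q₀) p s' = 0) : ∃ (lp : F) (p' : W), k (ρ p) = lp • ρ p' := by
  have pc := QuadraticMap.polar_comm (⇑Q₀)
  have hkO : k ∈ OG Q := commutator_le_OG (hM.le hk)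
  have hB12 : l * l' * B (ρ s₁) (ρ s₂) = 1 := by
    have := R.hQ.B_map hkO (ρ s) (ρ s')
    rw [h1, h2, R.one hss'] at this
    simp only [map_smul, LinearMap.smul_apply, smul_eq_mul] at this
    linear_combination this
  have hl : l ≠ 0 := by
    rintro rfl
    simp at hB12
  have hl' : l' ≠ 0 := by
    rintro rfl
    simp at hB12
  have hc : pol (⇑Q₀) s₁ s₂ ≠ 0 := by
    intro h0
    rw [R.form, h0] at hB12
    simp at hB12
  have hQ1 : Q₀ s₁ = 0 := by
    have := hkO (ρ s)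
    rw [h1, R.hQ.smul, R.sing hs, R.quad] at this
    have h3 : ((Q₀ s₁ : F₀) : F) = 0 := by
      rcases mul_eq_zero.1 this with h | h
      · exact absurd ((pow_eq_zero_iff two_ne_zero).1 h) hl
      · exact h
    exact_mod_cast h3
  have hQ2 : Q₀ s₂ = 0 := by
    have := hkO (ρ s')
    rw [h2, R.hQ.smul, R.sing hs', R.quad] at this
    have h3 : ((Q₀ s₂ : F₀) : F) = 0 := by
      rcases mul_eq_zero.1 this with h | h
      · exact absurd ((pow_eq_zero_iff two_ne_zero).1 h) hl'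
      · exact h
    exact_mod_cast h3
  -- the rescaled partner
  obtain ⟨s₂', hs₂'⟩ : ∃ s₂' : W, s₂' = (pol (⇑Q₀) s₁ s₂)⁻¹ • s₂ := ⟨_, rfl⟩
  have hQ2' : Q₀ s₂' = 0 := by rw [hs₂', QuadraticMap.map_smul, hQ2, smul_zero]
  have h12' : pol (⇑Q₀) s₁ s₂' = 1 := by
    rw [hs₂', QuadraticMap.polar_smul_right, smul_eq_mul, inv_mul_cancel₀ hc]
  -- orthogonality of images
  have key : ∀ x : W, pol (⇑Q₀) x s = 0 → pol (⇑Q₀) x s' = 0 →
      B (k (ρ x)) (ρ s₁) = 0 ∧ B (k (ρ x)) (ρ s₂') = 0 := by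
    intro x hxs hxs'
    have e1 : B (k (ρ x)) (k (ρ s)) = 0 := by rw [R.hQ.B_map hkO]; exact R.orth hxs
    have e2 : B (k (ρ x)) (k (ρ s')) = 0 := by rw [R.hQ.B_map hkO]; exact R.orth hxs'
    rw [h1, map_smul, smul_eq_mul] at e1
    rw [h2, map_smul, smul_eq_mul] at e2
    have e1' : B (k (ρ x)) (ρ s₁) = 0 := by
      rcases mul_eq_zero.1 e1 with h | h
      · exact absurd h hl
      · exact h
    have e2' : B (k (ρ x)) (ρ s₂) = 0 := by
      rcases mul_eq_zero.1 e2 with h | h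
      · exact absurd h hl'
      · exact h
    refine ⟨e1', ?_⟩
    rw [hs₂', R.smul, map_smul, e2', smul_zero]
  obtain ⟨e, f, -, -, hh, -⟩ := exists_hyp2 Q₀ R.nd₀ h13
    (Submodule.span F₀ {s, s'} ⊔ Submodule.span F₀ {p, p}) (finrank_span_four_le s s' p p)
  obtain ⟨he, hf, hef, hS⟩ := hh
  have hsS : s ∈ (Submodule.span F₀ {s, s'} ⊔ Submodule.span F₀ {p, p} : Submodule F₀ W) :=
    Submodule.mem_sup_left (Submodule.subset_span (by simp))
  have hs'S : s' ∈ (Submodule.span F₀ {s, s'} ⊔ Submodule.span F₀ {p, p} : Submodule F₀ W) :=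
    Submodule.mem_sup_left (Submodule.subset_span (by simp))
  have hpS : p ∈ (Submodule.span F₀ {s, s'} ⊔ Submodule.span F₀ {p, p} : Submodule F₀ W) :=
    Submodule.mem_sup_right (Submodule.subset_span (by simp))
  obtain ⟨k1, k1'⟩ := key p hps hps'
  obtain ⟨k2, k2'⟩ := key e (by rw [pc]; exact (hS s hsS).1) (by rw [pc]; exact (hS s' hs'S).1)
  obtain ⟨k3, k3'⟩ := key f (by rw [pc]; exact (hS s hsS).2) (by rw [pc]; exact (hS s' hs'S).2)
  exact image_trick R h13 hM hT hk hp hp0 he hf hef (hS p hpS).1 (hS p hpS).2 hQ1 hQ2' h12'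
    k1 k1' k2 k2' k3 k3'

include R h13 hM hT in
/-- **(P)**: an element of `M` mapping the points of a rational hyperbolic pair to rational
points is in the rational group -/
theorem ratU_of_pair {k : V ≃ₗ[F] V} (hk : k ∈ M) {s s' s₁ s₂ : W} {l l' : F} (hs : Q₀ s = 0)
    (hs' : Q₀ s' = 0) (hss' : pol (⇑Q₀) s s' = 1) (h1 : k (ρ s) = l • ρ s₁)
    (h2 : k (ρ s') = l' • ρ s₂) : RatU ρ k := by
  have pc := QuadraticMap.polar_comm (⇑Q₀)
  have hs0 : s ≠ 0 := by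
    rintro rfl
    rw [QuadraticMap.polar_zero_left] at hss'
    exact zero_ne_one hss'
  -- all rational singular points
  have hall : ∀ w : W, Q₀ w = 0 → w ≠ 0 → ∃ (lw : F) (w' : W), k (ρ w) = lw • ρ w' := by
    intro w hw hw0
    obtain ⟨u, u', -, -, hh, -⟩ := exists_hyp2 Q₀ R.nd₀ h13
      (Submodule.span F₀ {s, s'} ⊔ Submodule.span F₀ {w, w}) (finrank_span_four_le s s' w w)
    obtain ⟨hu, hu', huu', hS⟩ := hh
    have hsS : s ∈ (Submodule.span F₀ {s, s'} ⊔ Submodule.span F₀ {w, w} : Submodule F₀ W) :=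
      Submodule.mem_sup_left (Submodule.subset_span (by simp))
    have hs'S : s' ∈ (Submodule.span F₀ {s, s'} ⊔ Submodule.span F₀ {w, w} : Submodule F₀ W) :=
      Submodule.mem_sup_left (Submodule.subset_span (by simp))
    have hwS : w ∈ (Submodule.span F₀ {s, s'} ⊔ Submodule.span F₀ {w, w} : Submodule F₀ W) :=
      Submodule.mem_sup_right (Submodule.subset_span (by simp))
    have hu0 : u ≠ 0 := by
      rintro rfl
      rw [QuadraticMap.polar_zero_left] at huu'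
      exact zero_ne_one huu'
    have hu'0 : u' ≠ 0 := by
      rintro rfl
      rw [QuadraticMap.polar_zero_right] at huu'
      exact zero_ne_one huu'
    obtain ⟨l₁, u₁, hu₁⟩ := pair_step R h13 hM hT hk hs hs' hss' h1 h2 hu hu0
      (by rw [pc]; exact (hS s hsS).1) (by rw [pc]; exact (hS s' hs'S).1)
    obtain ⟨l₂, u₂, hu₂⟩ := pair_step R h13 hM hT hk hs hs' hss' h1 h2 hu' hu'0
      (by rw [pc]; exact (hS s hsS).2) (by rw [pc]; exact (hS s' hs'S).2)
    exact pair_step R h13 hM hT hk hu hu' huu' hu₁ hu₂ hw hw0 (hS w hwS).1 (hS w hwS).2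
  -- the common scalar
  have hcl : ∀ c : W, Q₀ c = 0 → InCl ρ k l c := by
    intro c hc
    by_cases hc0 : c = 0
    · exact ⟨0, by rw [hc0, R.zero, map_zero, smul_zero]⟩
    obtain ⟨b, b', -, -, hh, -⟩ := exists_hyp2 Q₀ R.nd₀ h13 (Submodule.span F₀ {s, c})
      ((finrank_span_pair_le s c).trans (by norm_num))
    obtain ⟨hb, hb', hbb', hS⟩ := hh
    have hsS : s ∈ Submodule.span F₀ ({s, c} : Set W) := Submodule.subset_span (by simp)
    have hcS : c ∈ Submodule.span F₀ ({s, c} : Set W) := Submodule.subset_span (by simp)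
    have hb0 : b ≠ 0 := by
      rintro rfl
      rw [QuadraticMap.polar_zero_left] at hbb'
      exact zero_ne_one hbb'
    have hbs : ∀ t : F₀, b ≠ t • s := by
      intro t ht
      have := hbb'
      rw [ht, QuadraticMap.polar_smul_left, (hS s hsS).2, smul_zero] at this
      exact zero_ne_one this
    have hcb : ∀ t : F₀, c ≠ t • b := by
      intro t ht
      have h0 := (hS c hcS).2
      rw [ht, QuadraticMap.polar_smul_left, hbb', smul_eq_mul, mul_one] at h0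
      rw [h0, zero_smul] at ht
      exact hc0 ht
    have hsb : Q₀ (s + b) = 0 := by
      rw [QuadraticMap.map_add (⇑Q₀) s b, hs, hb, (hS s hsS).1]; simp
    have hbc : Q₀ (b + c) = 0 := by
      rw [QuadraticMap.map_add (⇑Q₀) b c, hb, hc, pc, (hS c hcS).1]; simp
    have hsb0 : s + b ≠ 0 := by
      intro h0
      apply hbs (-1)
      rw [neg_smul, one_smul]
      exact eq_neg_of_add_eq_zero_right h0
    have hbc0 : b + c ≠ 0 := by
      intro h0
      apply hcb (-1)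
      rw [neg_smul, one_smul]
      exact eq_neg_of_add_eq_zero_right h0
    obtain ⟨lb, b₁, hb₁⟩ := hall b hb hb0
    obtain ⟨lsb, d₁, hd₁⟩ := hall (s + b) hsb hsb0
    have clb : InCl ρ k l b := inCl_of_add R hs0 hbs ⟨s₁, h1⟩ hb₁ hd₁
    obtain ⟨lc, c₁, hc₁⟩ := hall c hc hc0
    obtain ⟨lbc, d₂, hd₂⟩ := hall (b + c) hbc hbc0
    exact inCl_of_add R hb0 hcb clb hc₁ hd₂
  refine ⟨l, fun w => ?_⟩
  obtain ⟨e, f, t₁, q, he, hf, ht₁, htd, -⟩ := three_sing R h13 w 0 0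
  obtain ⟨t₁', ht₁'⟩ := hcl t₁ ht₁
  obtain ⟨e', he'⟩ := hcl e he
  obtain ⟨f', hf'⟩ := hcl f hf
  refine ⟨t₁' - e' + q • f', ?_⟩
  have e1 : ρ w = ρ t₁ - ρ e + (q : F) • ρ f := by
    rw [← R.smul, ← R.sub, ← R.add, ← htd]
  rw [e1, map_add, map_sub, map_smul, ht₁', he', hf', R.add, R.sub, R.smul]
  module

include R h13 hM hT in
/-- **elements adapted to an isometry with eigenvalues `±1`** -/
theorem ratU_of_eigen (h2 : (2 : F) ≠ 0) {k z : V ≃ₗ[F] V} (hk : k ∈ M) (hz : z ∈ OG Q) {ε : F}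
    (hε : ε * ε = 1) {e₁ f₁ e₂ f₂ s s' : W} (he₁ : Q₀ e₁ = 0) (hf₁ : Q₀ f₁ = 0) (he₂ : Q₀ e₂ = 0)
    (hf₂ : Q₀ f₂ = 0) (h11 : pol (⇑Q₀) e₁ f₁ = 1) (h22 : pol (⇑Q₀) e₂ f₂ = 1)
    (h12 : pol (⇑Q₀) e₁ e₂ = 0) (h12' : pol (⇑Q₀) e₁ f₂ = 0) (h21 : pol (⇑Q₀) f₁ e₂ = 0)
    (h21' : pol (⇑Q₀) f₁ f₂ = 0) (hs : Q₀ s = 0) (hs' : Q₀ s' = 0) (hss' : pol (⇑Q₀) s s' = 1)
    (z1 : z (k (ρ e₁)) = ε • k (ρ e₁)) (z2 : z (k (ρ f₁)) = ε • k (ρ f₁))
    (z3 : z (k (ρ e₂)) = ε • k (ρ e₂)) (z4 : z (k (ρ f₂)) = ε • k (ρ f₂))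
    (z5 : z (ρ s) = -ε • ρ s) (z6 : z (ρ s') = -ε • ρ s') : RatU ρ k := by
  have key : ∀ v x : V, z v = ε • v → z x = -ε • x → B v x = 0 := by
    intro v x hv hx
    have e1 := R.hQ.B_map hz v x
    rw [hv, hx] at e1
    simp only [map_smul, LinearMap.smul_apply, smul_eq_mul, map_neg, neg_smul] at e1
    have e2 : (2 : F) * B v x = 0 := by
      have : ε * (ε * B v x) = B v x := by rw [← mul_assoc, hε, one_mul]
      linear_combination -e1 - this
    rcases mul_eq_zero.1 e2 with h | h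
    · exact absurd h h2
    · exact h
  have he₁0 : e₁ ≠ 0 := by
    rintro rfl
    rw [QuadraticMap.polar_zero_left] at h11
    exact zero_ne_one h11
  have hf₁0 : f₁ ≠ 0 := by
    rintro rfl
    rw [QuadraticMap.polar_zero_right] at h11
    exact zero_ne_one h11
  obtain ⟨l₁, p₁, hp₁⟩ := image_trick R h13 hM hT hk he₁ he₁0 he₂ hf₂ h22 h12 h12' hs hs' hss'
    (key _ _ z1 z5) (key _ _ z1 z6) (key _ _ z3 z5) (key _ _ z3 z6) (key _ _ z4 z5) (key _ _ z4 z6)
  obtain ⟨l₂, p₂, hp₂⟩ := image_trick R h13 hM hT hk hf₁ hf₁0 he₂ hf₂ h22 h21 h21' hs hs' hss'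
    (key _ _ z2 z5) (key _ _ z2 z6) (key _ _ z3 z5) (key _ _ z3 z6) (key _ _ z4 z5) (key _ _ z4 z6)
  exact ratU_of_pair R h13 hM hT hk he₁ hf₁ h11 hp₁ hp₂

end Main

end Cfsg.Agent.Lib.Helper95.OSub
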