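/-
Helper95: overgroups of the rational orthogonal group, part H: the full case.  If `M` contains
all root elements along the rational lines (with arbitrary parameters) then `M` contains `Ω`.
-/
import Mathlib
import Cfsg.Agent.Lib.Helper95.OSubF
import Cfsg.Agent.Lib.Helper44.EichlerOdd

set_option autoImplicit false
set_option linter.unusedSimpArgs false
set_option linter.unusedSectionVars false
set_option linter.unusedVariables false

namespace Cfsg.Agent.Lib.Helper95.OSub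

open LinearMap (BilinForm)
open Module
open Cfsg.Agent.Lib.Helper94 Cfsg.Agent.Lib.Helper94.QuadData Cfsg.Agent.Lib.Helper44
open scoped commutatorElement

variable {F : Type*} [Field F] {V : Type*} [AddCommGroup V] [Module F V]
variable {F₀ : Subfield F} {W : Type*} [AddCommGroup W] [Module F₀ W]
variable {B : BilinForm F V} {Q : V → F} {Q₀ : QuadraticForm F₀ W} {ρ : W → V}

local notation "pol" => QuadraticMap.polar

/-- Eichler transformations with singular second vector are Siegel transformations -/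
lemma eich_eq_siegel (hQ : QuadData B Q) {p w : V} (hp : hQ.toQF p = 0)
    (hpw : pol (⇑hQ.toQF) p w = 0) (hw : Q w = 0) :
    eich hQ.toQF p w hp hpw = siegel B Q w p := by
  have hp' : Q p = 0 := hp
  have hpw' : B p w = 0 := by rw [← hQ.polar_toQF]; exact hpw
  apply LinearEquiv.ext
  intro z
  rw [eich_apply, Cfsg.Agent.Lib.Helper13.siegelLin_apply,
    siegel_apply hQ hw hp' (by rw [hQ.symm]; exact hpw'), hQ.polar_toQF, hQ.polar_toQF, toQF_apply,
    hw, zero_mul, sub_zero, hQ.symm w z, hQ.symm p z]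

lemma eich_add' (Qf : QuadraticForm F V) (p w₁ w₂ : V) (hp : Qf p = 0)
    (h1 : pol (⇑Qf) p w₁ = 0) (h2 : pol (⇑Qf) p w₂ = 0)
    (h12 : pol (⇑Qf) p (w₁ + w₂) = 0) :
    eich Qf p (w₁ + w₂) hp h12 = eich Qf p w₁ hp h1 * eich Qf p w₂ hp h2 := by
  have := congrArg (fun g : ↥(Cfsg.Agent.Lib.Helper36.isoGroup Qf) => (g : V ≃ₗ[F] V))
    (eichG_add Qf p w₁ w₂ hp h1 h2)
  exact this

lemma eich_congr (Qf : QuadraticForm F V) {p p' w w' : V} (hp : Qf p = 0)
    (hpw : pol (⇑Qf) p w = 0) (hp' : Qf p' = 0) (hpw' : pol (⇑Qf) p' w' = 0) (h1 : p = p')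
    (h2 : w = w') : eich Qf p w hp hpw = eich Qf p' w' hp' hpw' := by
  subst h1; subst h2; rfl

lemma conj_eich' (Qf : QuadraticForm F V) {k : V ≃ₗ[F] V}
    (hk : k ∈ Cfsg.Agent.Lib.Helper36.isoGroup Qf) (p w : V) (hp : Qf p = 0)
    (hpw : pol (⇑Qf) p w = 0) (hp' : Qf (k p) = 0) (hpw' : pol (⇑Qf) (k p) (k w) = 0) :
    k * eich Qf p w hp hpw * k⁻¹ = eich Qf (k p) (k w) hp' hpw' := by
  have := congrArg (fun g : ↥(Cfsg.Agent.Lib.Helper36.isoGroup Qf) => (g : V ≃ₗ[F] V))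
    (conj_eichG Qf ⟨k, hk⟩ p w hp hpw)
  exact this

lemma OSet.singF (R : OSet B Q Q₀ ρ) {a : W} (ha : Q₀ a = 0) : R.hQ.toQF (ρ a) = 0 := R.sing ha

section Main

variable [Finite F₀] [FiniteDimensional F₀ W]
variable (R : OSet B Q Q₀ ρ) (h13 : 13 ≤ finrank F₀ W) {M : Subgroup (V ≃ₗ[F] V)}
  (hM : Over Q ρ M) (hFull : Full B Q Q₀ ρ M)

include R h13 in
/-- the rational singular vectors separate the points of `V` -/
lemma sep_sing {x : V} (hx : ∀ v : W, Q₀ v = 0 → B x (ρ v) = 0) : x = 0 := by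
  apply R.sep
  intro a
  obtain ⟨e, f, t₁, q, he, hf, ht₁, htd, -⟩ := three_sing R h13 a 0 0
  have e1 : ρ a = ρ t₁ - ρ e + (q : F) • ρ f := by
    rw [← R.smul, ← R.sub, ← R.add, ← htd]
  rw [e1, map_add, map_sub, map_smul, hx t₁ ht₁, hx e he, hx f hf]
  simp

include R h13 in
/-- the orthogonal complement of a rational singular point is spanned by rational singular
vectors -/
lemma perp_le_span [FiniteDimensional F V] {s : W} (hs : Q₀ s = 0) (hs0 : s ≠ 0) {w : V}
    (hw : B w (ρ s) = 0) :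
    w ∈ Submodule.span F {x : V | ∃ v : W, Q₀ v = 0 ∧ pol (⇑Q₀) v s = 0 ∧ x = ρ v} := by
  have pc := QuadraticMap.polar_comm (⇑Q₀)
  set T := Submodule.span F {x : V | ∃ v : W, Q₀ v = 0 ∧ pol (⇑Q₀) v s = 0 ∧ x = ρ v} with hT
  have hN : B.Nondegenerate := by
    have := R.hQ.nondeg_toQF R.nd
    rwa [polarBilin_toQF] at this
  have hrefl : B.IsRefl := fun x y h => by rw [R.hQ.symm]; exact h
  rw [← LinearMap.BilinForm.orthogonal_orthogonal hN hrefl T,
    LinearMap.BilinForm.mem_orthogonal_iff]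
  intro x hx
  rw [LinearMap.BilinForm.mem_orthogonal_iff] at hx
  show B x w = 0
  have hx' : ∀ v : W, Q₀ v = 0 → pol (⇑Q₀) v s = 0 → B x (ρ v) = 0 := by
    intro v hv hvs
    rw [R.hQ.symm]
    exact hx (ρ v) (Submodule.subset_span ⟨v, hv, hvs, rfl⟩)
  obtain ⟨s', hQs', hss'⟩ := exists_hyp_partner Q₀ R.nd₀ s hs0 hs
  have hxs : x = B x (ρ s') • ρ s := by
    rw [← sub_eq_zero]
    apply R.sep
    intro a
    obtain ⟨a₁, ha₁⟩ : ∃ a₁ : W, a₁ = a - pol (⇑Q₀) a s • s' := ⟨_, rfl⟩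
    have ha₁s : pol (⇑Q₀) a₁ s = 0 := by
      rw [ha₁, QuadraticMap.polar_sub_left, QuadraticMap.polar_smul_left, pc s' s, hss']
      simp
    obtain ⟨e, f, t₁, q, he, hf, ht₁, htd, hes, hfs, -, -, ht₁s, -⟩ := three_sing R h13 a₁ s s
    have e1 : ρ a = ρ t₁ - ρ e + (q : F) • ρ f + ((pol (⇑Q₀) a s : F₀) : F) • ρ s' := by
      rw [← R.smul, ← R.smul, ← R.sub, ← R.add, ← R.add, ← htd, ha₁]
      congr 1
      abel
    have k1 := hx' t₁ ht₁ (by rw [ht₁s]; exact ha₁s)
    have k2 := hx' e he hes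
    have k3 := hx' f hf hfs
    have k4 : B (ρ s) (ρ t₁) = 0 := R.orth (by rw [pc, ht₁s]; exact ha₁s)
    have k5 : B (ρ s) (ρ e) = 0 := R.orth (by rw [pc]; exact hes)
    have k6 : B (ρ s) (ρ f) = 0 := R.orth (by rw [pc]; exact hfs)
    have k7 : B (ρ s) (ρ s') = 1 := R.one hss'
    rw [e1]
    simp only [map_add, map_sub, map_smul, LinearMap.add_apply, LinearMap.sub_apply,
      LinearMap.smul_apply, k1, k2, k3, k4, k5, k6, k7, smul_eq_mul, mul_zero, mul_one, sub_zero,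
      add_zero, zero_add]
    ring
  rw [hxs, map_smul, LinearMap.smul_apply, R.hQ.symm (ρ s) w, hw, smul_zero]

include R h13 hM hFull in
/-- the full unipotent radical of a rational singular point lies in `M` -/
lemma full_radical [FiniteDimensional F V] {s : W} (hs : Q₀ s = 0) (hs0 : s ≠ 0) (w : V)
    (hw : pol (⇑R.hQ.toQF) (ρ s) w = 0) :
    eich R.hQ.toQF (ρ s) w (R.singF hs) hw ∈ M := by
  have pc := QuadraticMap.polar_comm (⇑Q₀)
  have hw' : B w (ρ s) = 0 := by rw [R.hQ.symm, ← R.hQ.polar_toQF]; exact hw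
  have hmem := perp_le_span R h13 hs hs0 hw'
  have key : ∀ x ∈ Submodule.span F {x : V | ∃ v : W, Q₀ v = 0 ∧ pol (⇑Q₀) v s = 0 ∧ x = ρ v},
      ∃ h : pol (⇑R.hQ.toQF) (ρ s) x = 0, eich R.hQ.toQF (ρ s) x (R.singF hs) h ∈ M := by
    intro x hx
    induction hx using Submodule.closure_induction with
    | zero =>
      refine ⟨by rw [QuadraticMap.polar_zero_right], ?_⟩
      rw [eich_eq_siegel R.hQ _ _ R.hQ.zero, siegel_zero_left R.hQ (R.sing hs)]
      exact one_mem _
    | add x y _ _ ihx ihy =>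
      obtain ⟨hx1, hx2⟩ := ihx
      obtain ⟨hy1, hy2⟩ := ihy
      have h12 : pol (⇑R.hQ.toQF) (ρ s) (x + y) = 0 := by
        rw [QuadraticMap.polar_add_right, hx1, hy1, add_zero]
      refine ⟨h12, ?_⟩
      rw [eich_add' R.hQ.toQF (ρ s) x y (R.singF hs) hx1 hy1 h12]
      exact mul_mem hx2 hy2
    | smul_mem c x hx =>
      obtain ⟨v, hv, hvs, rfl⟩ := hx
      have h0 : B (ρ s) (ρ v) = 0 := R.orth (by rw [pc]; exact hvs)
      have h0' : B (ρ v) (ρ s) = 0 := R.orth hvs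
      refine ⟨by rw [R.hQ.polar_toQF, map_smul, h0, smul_zero], ?_⟩
      rw [eich_eq_siegel R.hQ _ _ (sing_smul R.hQ (R.sing hv) c)]
      by_cases hA : Adm Q₀ v s
      · exact hFull v s hA c
      · -- degenerate cases: the transformation is trivial
        have htriv : siegel B Q (c • ρ v) (ρ s) = 1 := by
          by_cases hv0 : v = 0
          · rw [hv0, R.zero, smul_zero, siegel_zero_left R.hQ (R.sing hs)]
          · have : ∃ t : F₀, s = t • v := by
              by_contra hcon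
              push Not at hcon
              exact hA ⟨hv, hs, hvs, hv0, hcon⟩
            obtain ⟨t, ht⟩ := this
            apply LinearEquiv.ext
            intro z
            rw [siegel_apply R.hQ (sing_smul R.hQ (R.sing hv) c) (R.sing hs)
              (by rw [map_smul, LinearMap.smul_apply, h0', smul_zero])]
            rw [ht, R.smul]
            simp only [map_smul, smul_eq_mul, smul_smul, LinearEquiv.coe_one, id_eq]
            module
        rw [htriv]
        exact one_mem _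
  obtain ⟨h, hh⟩ := key w hmem
  exact hh

include R h13 hM hFull in
/-- all Eichler transformations lie in `M` -/
lemma full_eich [FiniteDimensional F V] (p w : V) (hp : R.hQ.toQF p = 0)
    (hpw : pol (⇑R.hQ.toQF) p w = 0) : eich R.hQ.toQF p w hp hpw ∈ M := by
  have pc := QuadraticMap.polar_comm (⇑Q₀)
  by_cases hp0 : p = 0
  · subst hp0
    have : eich R.hQ.toQF 0 w hp hpw = 1 := by
      apply LinearEquiv.ext
      intro z
      rw [eich_apply, Cfsg.Agent.Lib.Helper13.siegelLin_apply, QuadraticMap.polar_zero_left]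
      simp
    rw [this]
    exact one_mem _
  have hQp : Q p = 0 := hp
  have hBpw : B p w = 0 := by rw [← R.hQ.polar_toQF]; exact hpw
  obtain ⟨t, ht, htp⟩ : ∃ t : W, Q₀ t = 0 ∧ B p (ρ t) ≠ 0 := by
    by_contra hcon
    push Not at hcon
    exact hp0 (sep_sing R h13 hcon)
  have ht0 : t ≠ 0 := by
    rintro rfl
    rw [R.zero, map_zero] at htp
    exact htp rfl
  obtain ⟨s, hs, hts⟩ := exists_hyp_partner Q₀ R.nd₀ t ht0 ht
  have hs0 : s ≠ 0 := by
    rintro rfl
    rw [QuadraticMap.polar_zero_right] at hts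
    exact zero_ne_one hts
  obtain ⟨c, hc⟩ : ∃ c : F, c = B (ρ t) p := ⟨_, rfl⟩
  have hc0 : c ≠ 0 := by rw [hc, R.hQ.symm]; exact htp
  obtain ⟨p', hp'⟩ : ∃ p' : V, p' = c⁻¹ • p := ⟨_, rfl⟩
  have hpp' : p = c • p' := by rw [hp', smul_smul, mul_inv_cancel₀ hc0, one_smul]
  have hQp' : R.hQ.toQF p' = 0 := by
    show Q p' = 0
    rw [hp']; exact sing_smul R.hQ hQp _
  have htp' : pol (⇑R.hQ.toQF) (ρ t) p' = 1 := by
    rw [R.hQ.polar_toQF, hp', map_smul, ← hc, smul_eq_mul, inv_mul_cancel₀ hc0]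
  have hts' : pol (⇑R.hQ.toQF) (ρ t) (ρ s) = 1 := by
    rw [R.hQ.polar_toQF]; exact R.one hts
  have hd : pol (⇑R.hQ.toQF) (ρ t) (ρ s - p') = 0 := by
    rw [QuadraticMap.polar_sub_right, hts', htp', sub_self]
  have hkM : eich R.hQ.toQF (ρ t) (ρ s - p') (R.singF ht) hd ∈ M :=
    full_radical R h13 hM hFull ht ht0 _ hd
  set k := eich R.hQ.toQF (ρ t) (ρ s - p') (R.singF ht) hd with hk
  have hkiso : k ∈ Cfsg.Agent.Lib.Helper36.isoGroup R.hQ.toQF := eich_mem_isoGroup _ _ _ _ _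
  have hkO : k ∈ OG Q := hkiso
  have hks : k (ρ s) = p' := by
    rw [hk, eich_apply]
    exact eich_trans_opp R.hQ.toQF (ρ t) (ρ s) p' (R.singF hs) hQp' hts' htp'
  obtain ⟨w', hw'⟩ : ∃ w' : V, w' = k⁻¹ (c • w) := ⟨_, rfl⟩
  have hkw' : k w' = c • w := by
    rw [hw']
    exact k.apply_symm_apply _
  have hsw' : pol (⇑R.hQ.toQF) (ρ s) w' = 0 := by
    rw [R.hQ.polar_toQF, ← R.hQ.B_map hkO, hks, hkw', hp', map_smul, map_smul,
      LinearMap.smul_apply, hBpw, smul_zero, smul_zero]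
  have hx : eich R.hQ.toQF (ρ s) w' (R.singF hs) hsw' ∈ M :=
    full_radical R h13 hM hFull hs hs0 _ hsw'
  have hp'cw : pol (⇑R.hQ.toQF) p' (c • w) = 0 := by
    rw [R.hQ.polar_toQF, hp', map_smul, map_smul, LinearMap.smul_apply, hBpw, smul_zero, smul_zero]
  have e1 : eich R.hQ.toQF p w hp hpw = eich R.hQ.toQF p' (c • w) hQp' hp'cw := by
    apply LinearEquiv.ext
    intro z
    rw [eich_apply, eich_apply]
    conv_lhs => rw [hpp']
    exact Cfsg.Agent.Lib.Helper44.siegelLin_smul_left R.hQ.toQF p' w c z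
  have e2 : k * eich R.hQ.toQF (ρ s) w' (R.singF hs) hsw' * k⁻¹ =
      eich R.hQ.toQF p' (c • w) hQp' hp'cw := by
    rw [conj_eich' R.hQ.toQF hkiso (ρ s) w' (R.singF hs) hsw' (by rw [hks]; exact hQp')
      (by rw [hks, hkw']; exact hp'cw)]
    exact eich_congr R.hQ.toQF _ _ _ _ hks hkw'
  rw [e1, ← e2]
  exact mul_mem (mul_mem hkM hx) (inv_mem hkM)

include R h13 hM hFull in
/-- **the full case**: `M` contains `Ω` -/
theorem full_le [Finite F] [FiniteDimensional F V] (h7 : 7 ≤ finrank F V) :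
    ⁅OG Q, OG Q⁆ ≤ M := by
  have hnd := R.hQ.nondeg_toQF R.nd
  have hKE := commutator_eq_KE R.hQ.toQF hnd h7
  have hΩ : ⁅Cfsg.Agent.Lib.Helper36.isoGroup R.hQ.toQF, Cfsg.Agent.Lib.Helper36.isoGroup R.hQ.toQF⁆
      = (KE R.hQ.toQF).map (Cfsg.Agent.Lib.Helper36.isoGroup R.hQ.toQF).subtype := by
    rw [← hKE, Subgroup.map_subtype_commutator]
  have hOG : OG Q = Cfsg.Agent.Lib.Helper36.isoGroup R.hQ.toQF := by
    ext g; rfl
  rw [hOG, hΩ, Subgroup.map_le_iff_le_comap]
  unfold KE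
  rw [Subgroup.closure_le]
  rintro g ⟨p, w, hp, hpw, hg⟩
  show (g : V ≃ₗ[F] V) ∈ M
  have : (g : V ≃ₗ[F] V) = eich R.hQ.toQF p w hp hpw := by
    apply LinearEquiv.ext
    intro z
    rw [hg z, eich_apply]
  rw [this]
  exact full_eich R h13 hM hFull p w hp hpw

end Main

end Cfsg.Agent.Lib.Helper95.OSub
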