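/-
Helper95: overgroups of the rational orthogonal group, part I: products of reflections along
mutually orthogonal vectors (involutions), their fixed spaces, and rationality.
-/
import Mathlib
import Cfsg.Agent.Lib.Helper95.OSubF
import Cfsg.Agent.Lib.Helper94.OmegaRefl

set_option autoImplicit false
set_option linter.unusedSimpArgs false
set_option linter.unusedSectionVars false
set_option linter.unusedVariables false

namespace Cfsg.Agent.Lib.Helper95.OSub

open LinearMap (BilinForm)
open Module
open Cfsg.Agent.Lib.Helper94 Cfsg.Agent.Lib.Helper94.QuadData Cfsg.Agent.Lib.Helper44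
open Cfsg.Agent.Lib.Helper13 (fixSub mem_fixSub)
open scoped commutatorElement

variable {F : Type*} [Field F] {V : Type*} [AddCommGroup V] [Module F V]
variable {B : BilinForm F V} {Q : V → F}

/-- `z` negates the vectors of `S` and fixes the vectors orthogonal to `S` -/
def NegOn (B : BilinForm F V) (z : V ≃ₗ[F] V) (S : Set V) : Prop :=
  (∀ a ∈ S, z a = -a) ∧ ∀ x, (∀ a ∈ S, B x a = 0) → z x = x

lemma negOn_one : NegOn B (1 : V ≃ₗ[F] V) ∅ :=
  ⟨fun a ha => absurd ha (Set.notMem_empty a), fun x _ => rfl⟩

lemma negOn_refl (hQ : QuadData B Q) (a : V) (ha : Q a ≠ 0) : NegOn B (hQ.refl a ha) {a} := by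
  constructor
  · intro x hx
    rw [Set.mem_singleton_iff] at hx
    subst hx
    rw [refl_apply, hQ.self]
    have : (Q x)⁻¹ * (2 * Q x) = 2 := by field_simp
    rw [this, two_smul]
    abel
  · intro x hx
    rw [refl_apply, hx a rfl, mul_zero, zero_smul, sub_zero]

lemma NegOn.mul (hQ : QuadData B Q) {z₁ z₂ : V ≃ₗ[F] V} {S₁ S₂ : Set V} (h₁ : NegOn B z₁ S₁)
    (h₂ : NegOn B z₂ S₂) (horth : ∀ a ∈ S₁, ∀ b ∈ S₂, B a b = 0) :
    NegOn B (z₁ * z₂) (S₁ ∪ S₂) := by
  constructor
  · rintro a (ha | ha)
    · rw [LinearEquiv.mul_apply, h₂.2 a (fun b hb => horth a ha b hb), h₁.1 a ha]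
    · rw [LinearEquiv.mul_apply, h₂.1 a ha, map_neg,
        h₁.2 a (fun b hb => by rw [hQ.symm]; exact horth b hb a ha)]
  · intro x hx
    rw [LinearEquiv.mul_apply, h₂.2 x (fun b hb => hx b (Or.inr hb)),
      h₁.2 x (fun a ha => hx a (Or.inl ha))]

open Classical in
/-- the reflection along `a`, or the identity if `a` is singular -/
noncomputable def reflD (hQ : QuadData B Q) (a : V) : V ≃ₗ[F] V :=
  if h : Q a ≠ 0 then hQ.refl a h else 1

lemma reflD_of_ne (hQ : QuadData B Q) {a : V} (h : Q a ≠ 0) : reflD hQ a = hQ.refl a h := by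
  unfold reflD
  rw [dif_pos h]

/-- the product of the reflections along the vectors of a list -/
noncomputable def reflList (hQ : QuadData B Q) : List V → (V ≃ₗ[F] V)
  | [] => 1
  | a :: l => reflD hQ a * reflList hQ l

lemma reflList_nil (hQ : QuadData B Q) : reflList hQ [] = 1 := rfl

lemma reflList_cons (hQ : QuadData B Q) (a : V) (l : List V) :
    reflList hQ (a :: l) = reflD hQ a * reflList hQ l := rfl

/-- lists of mutually orthogonal non-singular vectors -/
def POrth (B : BilinForm F V) (Q : V → F) (l : List V) : Prop :=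
  (∀ a ∈ l, Q a ≠ 0) ∧ l.Pairwise (fun a b => B a b = 0)

lemma POrth.tail {a : V} {l : List V} (h : POrth B Q (a :: l)) : POrth B Q l :=
  ⟨fun b hb => h.1 b (List.mem_cons_of_mem a hb), (List.pairwise_cons.1 h.2).2⟩

lemma POrth.head {a : V} {l : List V} (h : POrth B Q (a :: l)) : Q a ≠ 0 :=
  h.1 a List.mem_cons_self

lemma POrth.head_orth {a : V} {l : List V} (h : POrth B Q (a :: l)) : ∀ b ∈ l, B a b = 0 :=
  (List.pairwise_cons.1 h.2).1

lemma reflList_mem_OG (hQ : QuadData B Q) : ∀ l : List V, POrth B Q l → reflList hQ l ∈ OG Q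
  | [], _ => one_mem _
  | a :: l, h => by
    rw [reflList_cons, reflD_of_ne hQ h.head]
    exact mul_mem (hQ.refl_mem_OG a h.head) (reflList_mem_OG hQ l h.tail)

lemma negOn_reflList (hQ : QuadData B Q) :
    ∀ l : List V, POrth B Q l → NegOn B (reflList hQ l) {x | x ∈ l}
  | [], _ => by
    have : {x : V | x ∈ ([] : List V)} = ∅ := by ext x; simp
    rw [this]
    exact negOn_one
  | a :: l, h => by
    have : {x : V | x ∈ a :: l} = {a} ∪ {x | x ∈ l} := by
      ext x; simp
    rw [this, reflList_cons, reflD_of_ne hQ h.head]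
    apply NegOn.mul hQ (negOn_refl hQ a h.head) (negOn_reflList hQ l h.tail)
    intro x hx b hb
    rw [Set.mem_singleton_iff] at hx
    subst hx
    exact h.head_orth b hb

lemma reflList_mul_self (hQ : QuadData B Q) :
    ∀ l : List V, POrth B Q l → reflList hQ l * reflList hQ l = 1
  | [], _ => by rw [reflList_nil, mul_one]
  | a :: l, h => by
    have ih := reflList_mul_self hQ l h.tail
    have hP := reflList_mem_OG hQ l h.tail
    have hfix : reflList hQ l a = a := (negOn_reflList hQ l h.tail).2 a (fun b hb => h.head_orth b hb)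
    have hcomm : reflList hQ l * hQ.refl a h.head = hQ.refl a h.head * reflList hQ l := by
      have h1 := hQ.conj_refl hP a h.head
      have h2 : hQ.refl (reflList hQ l a) (by rw [hP a]; exact h.head) = hQ.refl a h.head :=
        (hQ.refl_congr hfix.symm h.head).symm
      rw [h2] at h1
      calc reflList hQ l * hQ.refl a h.head
          = (reflList hQ l * hQ.refl a h.head * (reflList hQ l)⁻¹) * reflList hQ l := by group
        _ = hQ.refl a h.head * reflList hQ l := by rw [h1]
    rw [reflList_cons, reflD_of_ne hQ h.head]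
    calc hQ.refl a h.head * reflList hQ l * (hQ.refl a h.head * reflList hQ l)
        = hQ.refl a h.head * (reflList hQ l * hQ.refl a h.head) * reflList hQ l := by group
      _ = hQ.refl a h.head * (hQ.refl a h.head * reflList hQ l) * reflList hQ l := by rw [hcomm]
      _ = (hQ.refl a h.head * hQ.refl a h.head) * (reflList hQ l * reflList hQ l) := by group
      _ = 1 := by rw [hQ.refl_mul_self, ih, mul_one]

/-- pairs of reflections along vectors of the same norm stay in `Ω` -/
lemma reflList_cons_cons_mem (hQ : QuadData B Q) {a b : V} {l : List V} (ha : Q a ≠ 0)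
    (hb : Q b ≠ 0) (hab : Q a = Q b) (hd : Q (a - b) ≠ 0) (hl : reflList hQ l ∈ ⁅OG Q, OG Q⁆) :
    reflList hQ (a :: b :: l) ∈ ⁅OG Q, OG Q⁆ := by
  rw [reflList_cons, reflList_cons, reflD_of_ne hQ ha, reflD_of_ne hQ hb, ← mul_assoc]
  exact mul_mem (hQ.refl_mul_refl_mem ha hb hab hd) hl

section dims

variable [FiniteDimensional F V]

lemma finrank_span_list_le : ∀ l : List V, finrank F (Submodule.span F {x : V | x ∈ l}) ≤ l.length
  | [] => by
    have : {x : V | x ∈ ([] : List V)} = ∅ := by ext x; simp
    rw [this, Submodule.span_empty, finrank_bot]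
    exact Nat.zero_le _
  | a :: l => by
    have : {x : V | x ∈ a :: l} = {a} ∪ {x | x ∈ l} := by
      ext x; simp
    rw [this, Submodule.span_union, List.length_cons]
    have h1 := Submodule.finrank_add_le_finrank_add_finrank (Submodule.span F ({a} : Set V))
      (Submodule.span F {x : V | x ∈ l})
    have h2 : finrank F (Submodule.span F ({a} : Set V)) ≤ 1 := by
      classical
      exact (finrank_span_le_card ({a} : Set V)).trans (by simp)
    have h3 := finrank_span_list_le l
    omega

/-- the fixed space of an involution negating `k` vectors has codimension at most `k` -/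
lemma finrank_fixSub_ge (hQ : QuadData B Q) (hnd : ∀ x, (∀ y, B x y = 0) → x = 0)
    {z : V ≃ₗ[F] V} {l : List V} (h : NegOn B z {x | x ∈ l}) :
    finrank F V ≤ finrank F (fixSub z) + l.length := by
  have hN : B.Nondegenerate := by
    have := hQ.nondeg_toQF hnd
    rwa [polarBilin_toQF] at this
  have hle : B.orthogonal (Submodule.span F {x : V | x ∈ l}) ≤ fixSub z := by
    intro x hx
    rw [LinearMap.BilinForm.mem_orthogonal_iff] at hx
    rw [mem_fixSub]
    apply h.2
    intro a ha
    rw [hQ.symm]
    exact hx a (Submodule.subset_span ha)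
  have h1 := LinearMap.BilinForm.finrank_orthogonal hN (Submodule.span F {x : V | x ∈ l})
  have h2 := Submodule.finrank_mono hle
  have h3 := finrank_span_list_le (F := F) l
  omega

/-- the fixed space of an involution negating `k` mutually orthogonal non-singular vectors has
codimension at least `k` -/
lemma finrank_fixSub_le (hQ : QuadData B Q) (h2 : (2 : F) ≠ 0) {z : V ≃ₗ[F] V} {l : List V}
    (hl : POrth B Q l) (h : NegOn B z {x | x ∈ l}) :
    finrank F (fixSub z) + l.length ≤ finrank F V := by
  set v : Fin l.length → V := fun i => l.get i with hv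
  have hli : LinearIndependent F v := by
    apply LinearMap.BilinForm.linearIndependent_of_iIsOrtho (B := B)
    · rw [LinearMap.BilinForm.iIsOrtho_def]
      intro i j hij
      rcases lt_or_gt_of_ne hij with h' | h'
      · exact (List.pairwise_iff_get.1 hl.2) i j h'
      · rw [hQ.symm]
        exact (List.pairwise_iff_get.1 hl.2) j i h'
    · intro i
      rw [hQ.self]
      exact mul_ne_zero h2 (hl.1 _ (List.get_mem l i))
  have hcard : finrank F (Submodule.span F (Set.range v)) = l.length := by
    rw [finrank_span_eq_card hli, Fintype.card_fin]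
  have hneg : ∀ x ∈ Submodule.span F (Set.range v), z x = -x := by
    intro x hx
    induction hx using Submodule.span_induction with
    | mem x hx =>
      obtain ⟨i, rfl⟩ := hx
      exact h.1 _ (List.get_mem l i)
    | zero => simp
    | add x y _ _ ihx ihy => rw [map_add, ihx, ihy]; abel
    | smul c x _ ihx => rw [map_smul, ihx, smul_neg]
  have hdis : Disjoint (fixSub z) (Submodule.span F (Set.range v)) := by
    rw [Submodule.disjoint_def]
    intro x hx1 hx2
    rw [mem_fixSub] at hx1
    have h3 := hneg x hx2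
    rw [hx1] at h3
    have h4 : (2 : F) • x = 0 := by
      rw [two_smul]
      nth_rewrite 1 [h3]
      exact neg_add_cancel x
    rcases smul_eq_zero.1 h4 with h5 | h5
    · exact absurd h5 h2
    · exact h5
  have := Submodule.finrank_add_finrank_le_of_disjoint hdis
  omega

end dims

section rational

variable {F₀ : Subfield F} {W : Type*} [AddCommGroup W] [Module F₀ W]
variable {Q₀ : QuadraticForm F₀ W} {ρ : W → V}

local notation "pol" => QuadraticMap.polar

lemma rat1_one : Rat1 ρ (1 : V ≃ₗ[F] V) := fun w => ⟨w, rfl⟩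

lemma rat1_refl (R : OSet B Q Q₀ ρ) (α : W) (hα : Q (ρ α) ≠ 0) :
    Rat1 ρ (R.hQ.refl (ρ α) hα) := by
  intro w
  refine ⟨w - ((Q₀ α)⁻¹ * pol (⇑Q₀) w α) • α, ?_⟩
  rw [refl_apply, R.sub, R.smul, R.quad, R.form]
  push_cast
  rfl

lemma rat1_reflList (R : OSet B Q Q₀ ρ) :
    ∀ l : List W, POrth B Q (l.map ρ) → Rat1 ρ (reflList R.hQ (l.map ρ))
  | [], _ => rat1_one
  | a :: l, h => by
    rw [List.map_cons] at h ⊢
    rw [reflList_cons, reflD_of_ne R.hQ h.head]
    exact Rat1.mul (rat1_refl R a h.head) (rat1_reflList R l h.tail)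

end rational

end Cfsg.Agent.Lib.Helper95.OSub
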