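/-
Helper95: overgroups of the rational orthogonal group, part J: the rational involutions attached
to hyperbolic frames, and the centralizers in `M` of these involutions (tight case).
-/
import Mathlib
import Cfsg.Agent.Lib.Helper95.OSubI

set_option autoImplicit false
set_option linter.unusedSimpArgs false
set_option linter.unusedSectionVars false
set_option linter.unusedVariables false

namespace Cfsg.Agent.Lib.Helper95.OSub

open LinearMap (BilinForm)
open Module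
open Cfsg.Agent.Lib.Helper94 Cfsg.Agent.Lib.Helper94.QuadData Cfsg.Agent.Lib.Helper44
open Cfsg.Agent.Lib.Helper13 (fixSub mem_fixSub)
open scoped commutatorElement

variable {F : Type*} [Field F] {V : Type*} [AddCommGroup V] [Module F V]
variable {F₀ : Subfield F} {W : Type*} [AddCommGroup W] [Module F₀ W]
variable {B : BilinForm F V} {Q : V → F} {Q₀ : QuadraticForm F₀ W} {ρ : W → V}

local notation "pol" => QuadraticMap.polar

section hyp

variable {k : ℕ} {e f : Fin k → W}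

lemma hyp_ef (h : HypSys Q₀ e f) (i j : Fin k) : pol (⇑Q₀) (e i) (f j) = if i = j then 1 else 0 :=
  h.2.1 i j

lemma hyp_fe (h : HypSys Q₀ e f) (i j : Fin k) : pol (⇑Q₀) (f i) (e j) = if i = j then 1 else 0 := by
  rw [QuadraticMap.polar_comm, h.2.1 j i]
  by_cases hij : i = j
  · rw [if_pos hij, if_pos hij.symm]
  · rw [if_neg hij, if_neg (Ne.symm hij)]

lemma hyp_Q_p (h : HypSys Q₀ e f) (i : Fin k) : Q₀ (e i + f i) = 1 := by
  rw [QuadraticMap.map_add (⇑Q₀), (h.1 i).1, (h.1 i).2, hyp_ef h, if_pos rfl]; simp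

lemma hyp_Q_m (h : HypSys Q₀ e f) (i : Fin k) : Q₀ (e i - f i) = -1 := by
  rw [sub_eq_add_neg, QuadraticMap.map_add (⇑Q₀), QuadraticMap.map_neg, (h.1 i).1, (h.1 i).2,
    QuadraticMap.polar_neg_right, hyp_ef h, if_pos rfl]; simp

lemma hyp_pol_pp (h : HypSys Q₀ e f) {i j : Fin k} (hij : i ≠ j) :
    pol (⇑Q₀) (e i + f i) (e j + f j) = 0 := by
  simp only [QuadraticMap.polar_add_left, QuadraticMap.polar_add_right, hyp_ef h, hyp_fe h,
    (h.2.2 i j).1, (h.2.2 i j).2, if_neg hij, add_zero]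

lemma hyp_pol_mm (h : HypSys Q₀ e f) {i j : Fin k} (hij : i ≠ j) :
    pol (⇑Q₀) (e i - f i) (e j - f j) = 0 := by
  simp only [QuadraticMap.polar_sub_left, QuadraticMap.polar_sub_right, hyp_ef h, hyp_fe h,
    (h.2.2 i j).1, (h.2.2 i j).2, if_neg hij, sub_zero]

lemma hyp_pol_pm (h : HypSys Q₀ e f) (i j : Fin k) :
    pol (⇑Q₀) (e i + f i) (e j - f j) = 0 := by
  simp only [QuadraticMap.polar_add_left, QuadraticMap.polar_sub_right, hyp_ef h, hyp_fe h,
    (h.2.2 i j).1, (h.2.2 i j).2]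
  by_cases hij : i = j
  · simp [hij]
  · simp [hij]

lemma hyp_pol_mp (h : HypSys Q₀ e f) (i j : Fin k) :
    pol (⇑Q₀) (e i - f i) (e j + f j) = 0 := by
  rw [QuadraticMap.polar_comm]; exact hyp_pol_pm h j i

lemma hyp_Q_pp (h : HypSys Q₀ e f) {i j : Fin k} (hij : i ≠ j) :
    Q₀ ((e i + f i) - (e j + f j)) = 2 := by
  rw [sub_eq_add_neg, QuadraticMap.map_add (⇑Q₀), QuadraticMap.map_neg, hyp_Q_p h, hyp_Q_p h,
    QuadraticMap.polar_neg_right, hyp_pol_pp h hij]
  norm_num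

lemma hyp_Q_mm (h : HypSys Q₀ e f) {i j : Fin k} (hij : i ≠ j) :
    Q₀ ((e i - f i) - (e j - f j)) = -2 := by
  rw [sub_eq_add_neg, QuadraticMap.map_add (⇑Q₀), QuadraticMap.map_neg, hyp_Q_m h, hyp_Q_m h,
    QuadraticMap.polar_neg_right, hyp_pol_mm h hij]
  norm_num

end hyp

/-- the data of a rational involution of `M` negating `k` independent vectors -/
structure InvData (B : BilinForm F V) (ρ : W → V) (M : Subgroup (V ≃ₗ[F] V))
    (z : V ≃ₗ[F] V) (k : ℕ) (S : Set W) : Prop where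
  mem : z ∈ M
  sq : z * z = 1
  cent : ∀ c ∈ M, c * z = z * c → RatU ρ c
  fix_ge : finrank F V ≤ finrank F (fixSub z) + k
  fix_le : finrank F (fixSub z) + k ≤ finrank F V
  fixes : ∀ v : V, (∀ x ∈ S, B v (ρ x) = 0) → z v = v

section Main

variable [Finite F₀] [FiniteDimensional F₀ W] [FiniteDimensional F V]
variable (R : OSet B Q Q₀ ρ) (h13 : 13 ≤ finrank F₀ W) {M : Subgroup (V ≃ₗ[F] V)}
  (hM : Over Q ρ M) (hT : Tight B Q Q₀ ρ M) (h2 : (2 : F) ≠ 0)

include R h13 hM hT h2 in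
lemma invData_core (L : List W) (hL : POrth B Q (L.map ρ))
    (hΩ : reflList R.hQ (L.map ρ) ∈ ⁅OG Q, OG Q⁆) {e₁ f₁ e₂ f₂ s s' : W}
    (he₁ : Q₀ e₁ = 0) (hf₁ : Q₀ f₁ = 0) (he₂ : Q₀ e₂ = 0)
    (hf₂ : Q₀ f₂ = 0) (h11 : pol (⇑Q₀) e₁ f₁ = 1) (h22 : pol (⇑Q₀) e₂ f₂ = 1)
    (h12 : pol (⇑Q₀) e₁ e₂ = 0) (h12' : pol (⇑Q₀) e₁ f₂ = 0) (h21 : pol (⇑Q₀) f₁ e₂ = 0)
    (h21' : pol (⇑Q₀) f₁ f₂ = 0) (hs : Q₀ s = 0) (hs' : Q₀ s' = 0) (hss' : pol (⇑Q₀) s s' = 1)
    (hsL : s + s' ∈ L) (hsL' : s - s' ∈ L)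
    (horth : ∀ x ∈ L, pol (⇑Q₀) x e₁ = 0 ∧ pol (⇑Q₀) x f₁ = 0 ∧ pol (⇑Q₀) x e₂ = 0 ∧
      pol (⇑Q₀) x f₂ = 0)
    (S : Set W) (hS : ∀ v : V, (∀ x ∈ S, B v (ρ x) = 0) → ∀ x ∈ L, B v (ρ x) = 0) :
    InvData B ρ M (reflList R.hQ (L.map ρ)) L.length S := by
  have pc := QuadraticMap.polar_comm (⇑Q₀)
  set z := reflList R.hQ (L.map ρ) with hz
  have hneg : NegOn B z {x | x ∈ L.map ρ} := negOn_reflList R.hQ _ hL
  have hzO : z ∈ OG Q := reflList_mem_OG R.hQ _ hL
  have hfix : ∀ v : V, (∀ x ∈ L, B v (ρ x) = 0) → z v = v := by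
    intro v hv
    apply hneg.2
    intro a ha
    obtain ⟨x, hx, rfl⟩ := List.mem_map.1 ha
    exact hv x hx
  have hnegL : ∀ x ∈ L, z (ρ x) = -ρ x := fun x hx => hneg.1 _ (List.mem_map.2 ⟨x, hx, rfl⟩)
  have hzM : z ∈ M := hM.ge z hΩ (Rat1.ratU (rat1_reflList R L hL))
  refine ⟨hzM, reflList_mul_self R.hQ _ hL, ?_, ?_, ?_, fun v hv => hfix v (hS v hv)⟩
  · intro c hc hcz
    have hcomm : ∀ v, z (c v) = c (z v) := by
      intro v
      have := congrArg (fun g : V ≃ₗ[F] V => g v) hcz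
      simp only [LinearEquiv.mul_apply] at this
      exact this.symm
    have hfx : ∀ x : W, (∀ y ∈ L, pol (⇑Q₀) y x = 0) → z (c (ρ x)) = (1 : F) • c (ρ x) := by
      intro x hx
      rw [hcomm, one_smul, hfix (ρ x) (fun y hy => R.orth (by rw [pc]; exact hx y hy))]
    have hneg2 : ∀ x y : W, x + y ∈ L → x - y ∈ L → z (ρ x) = -(1 : F) • ρ x := by
      intro x y h1 h2'
      have e1 := hnegL _ h1
      have e2 := hnegL _ h2'
      rw [R.add] at e1
      rw [R.sub] at e2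
      have e3 : (2 : F) • (z (ρ x) + ρ x) = 0 := by
        have : (2 : F) • (z (ρ x) + ρ x) = z (ρ x + ρ y) + z (ρ x - ρ y) + (2 : F) • ρ x := by
          rw [map_add, map_sub, smul_add, two_smul]; abel
        rw [this, e1, e2, two_smul]
        abel
      rcases smul_eq_zero.1 e3 with h | h
      · exact absurd h h2
      · rw [neg_smul, one_smul]
        exact eq_neg_of_add_eq_zero_left h
    have hs'L : s' + s ∈ L := by rw [add_comm]; exact hsL
    have hneg3 : z (ρ s') = -(1 : F) • ρ s' := by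
      have e1 := hnegL _ hsL
      have e2 := hnegL _ hsL'
      rw [R.add] at e1
      rw [R.sub] at e2
      have e3 : (2 : F) • (z (ρ s') + ρ s') = 0 := by
        have : (2 : F) • (z (ρ s') + ρ s') = z (ρ s + ρ s') - z (ρ s - ρ s') + (2 : F) • ρ s' := by
          rw [map_add, map_sub, smul_add, two_smul]; abel
        rw [this, e1, e2, two_smul]
        abel
      rcases smul_eq_zero.1 e3 with h | h
      · exact absurd h h2
      · rw [neg_smul, one_smul]
        exact eq_neg_of_add_eq_zero_left h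
    exact ratU_of_eigen R h13 hM hT h2 hc hzO (ε := 1) (by ring) he₁ hf₁ he₂ hf₂ h11 h22 h12 h12'
      h21 h21' hs hs' hss'
      (hfx e₁ fun y hy => (horth y hy).1) (hfx f₁ fun y hy => (horth y hy).2.1)
      (hfx e₂ fun y hy => (horth y hy).2.2.1) (hfx f₂ fun y hy => (horth y hy).2.2.2)
      (hneg2 s s' hsL hsL') hneg3
  · have := finrank_fixSub_ge R.hQ R.nd hneg
    rwa [List.length_map] at this
  · have := finrank_fixSub_le R.hQ h2 hL hneg
    rwa [List.length_map] at this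

include R in
lemma quad_ne_p {k : ℕ} {e f : Fin k → W} (h : HypSys Q₀ e f) (i : Fin k) :
    Q (ρ (e i + f i)) ≠ 0 := by
  rw [R.quad, hyp_Q_p h]
  simp

include R in
lemma quad_ne_m {k : ℕ} {e f : Fin k → W} (h : HypSys Q₀ e f) (i : Fin k) :
    Q (ρ (e i - f i)) ≠ 0 := by
  rw [R.quad, hyp_Q_m h]
  simp

include R h2 in
lemma quad_sub_ne_p {k : ℕ} {e f : Fin k → W} (h : HypSys Q₀ e f) {i j : Fin k} (hij : i ≠ j) :
    Q (ρ (e i + f i) - ρ (e j + f j)) ≠ 0 := by
  rw [← R.sub, R.quad, hyp_Q_pp h hij]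
  exact h2

include R h2 in
lemma quad_sub_ne_m {k : ℕ} {e f : Fin k → W} (h : HypSys Q₀ e f) {i j : Fin k} (hij : i ≠ j) :
    Q (ρ (e i - f i) - ρ (e j - f j)) ≠ 0 := by
  rw [← R.sub, R.quad, hyp_Q_mm h hij]
  push_cast
  exact neg_ne_zero.2 h2

include R h13 hM hT h2 in
/-- the involution negating two hyperbolic pairs -/
theorem exists_inv4 {e f : Fin 4 → W} (h : HypSys Q₀ e f) :
    ∃ z : V ≃ₗ[F] V, InvData B ρ M z 4 {e 0, f 0, e 1, f 1} := by
  have pc := QuadraticMap.polar_comm (⇑Q₀)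
  set L : List W := [e 0 + f 0, e 1 + f 1, e 0 - f 0, e 1 - f 1] with hLdef
  have h01 : (0 : Fin 4) ≠ 1 := by decide
  have hL : POrth B Q (L.map ρ) := by
    constructor
    · intro a ha
      simp only [hLdef, List.map_cons, List.map_nil, List.mem_cons, List.not_mem_nil,
        or_false] at ha
      rcases ha with rfl | rfl | rfl | rfl
      · exact quad_ne_p R h 0
      · exact quad_ne_p R h 1
      · exact quad_ne_m R h 0
      · exact quad_ne_m R h 1
    · simp only [hLdef, List.map_cons, List.map_nil, List.pairwise_cons, List.mem_cons,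
        List.not_mem_nil, or_false, forall_eq_or_imp, forall_eq, IsEmpty.forall_iff,
        implies_true, List.Pairwise.nil, and_true]
      refine ⟨⟨?_, ?_, ?_⟩, ⟨?_, ?_⟩, ?_⟩
      · exact R.orth (hyp_pol_pp h h01)
      · exact R.orth (hyp_pol_pm h 0 0)
      · exact R.orth (hyp_pol_pm h 0 1)
      · exact R.orth (hyp_pol_pm h 1 0)
      · exact R.orth (hyp_pol_pm h 1 1)
      · exact R.orth (hyp_pol_mm h h01)
  have hΩ : reflList R.hQ (L.map ρ) ∈ ⁅OG Q, OG Q⁆ := by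
    simp only [hLdef, List.map_cons, List.map_nil]
    apply reflList_cons_cons_mem R.hQ (quad_ne_p R h 0) (quad_ne_p R h 1)
      (by rw [R.quad, R.quad, hyp_Q_p h, hyp_Q_p h]) (quad_sub_ne_p R h2 h h01)
    apply reflList_cons_cons_mem R.hQ (quad_ne_m R h 0) (quad_ne_m R h 1)
      (by rw [R.quad, R.quad, hyp_Q_m h, hyp_Q_m h]) (quad_sub_ne_m R h2 h h01)
    rw [reflList_nil]
    exact one_mem _
  refine ⟨reflList R.hQ (L.map ρ), ?_⟩
  have key := invData_core R h13 hM hT h2 L hL hΩ (e₁ := e 2) (f₁ := f 2) (e₂ := e 3) (f₂ := f 3)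
    (s := e 0) (s' := f 0) (h.1 2).1 (h.1 2).2 (h.1 3).1 (h.1 3).2
    (by rw [hyp_ef h]; simp) (by rw [hyp_ef h]; simp) (h.2.2 2 3).1
    (by rw [hyp_ef h]; simp) (by rw [hyp_fe h]; simp) (h.2.2 2 3).2 (h.1 0).1 (h.1 0).2
    (by rw [hyp_ef h]; simp) (by simp [hLdef]) (by simp [hLdef]) ?_ {e 0, f 0, e 1, f 1} ?_
  · exact key
  · intro x hx
    simp only [hLdef, List.mem_cons, List.not_mem_nil, or_false] at hx
    rcases hx with rfl | rfl | rfl | rfl <;>
    simp [QuadraticMap.polar_add_left, QuadraticMap.polar_sub_left, hyp_ef h, hyp_fe h,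
      (h.2.2 _ _).1, (h.2.2 _ _).2]
  · intro v hv x hx
    have v0 := hv (e 0) (by simp)
    have v1 := hv (f 0) (by simp)
    have v2 := hv (e 1) (by simp)
    have v3 := hv (f 1) (by simp)
    simp only [hLdef, List.mem_cons, List.not_mem_nil, or_false] at hx
    rcases hx with rfl | rfl | rfl | rfl <;>
    simp [R.add, R.sub, v0, v1, v2, v3]

include R h13 hM hT h2 in
/-- the involution negating a six-dimensional rational subspace -/
theorem exists_inv6 {e f : Fin 4 → W} (h : HypSys Q₀ e f) {e' f' : Fin 2 → W}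
    (hx : HypSys Q₀ e' f')
    (hc : ∀ i i', pol (⇑Q₀) (e i) (e' i') = 0 ∧ pol (⇑Q₀) (e i) (f' i') = 0 ∧
      pol (⇑Q₀) (f i) (e' i') = 0 ∧ pol (⇑Q₀) (f i) (f' i') = 0) :
    ∃ z : V ≃ₗ[F] V, InvData B ρ M z 6 {e 0, f 0, e 1, f 1, e 2, f 2, e 3, f 3} := by
  have pc := QuadraticMap.polar_comm (⇑Q₀)
  set L : List W := [e 0 + f 0, e 1 + f 1, e 0 - f 0, e 1 - f 1, e 2 + f 2, e 3 + f 3] with hLdef
  have h01 : (0 : Fin 4) ≠ 1 := by decide
  have h02 : (0 : Fin 4) ≠ 2 := by decide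
  have h03 : (0 : Fin 4) ≠ 3 := by decide
  have h12 : (1 : Fin 4) ≠ 2 := by decide
  have h13' : (1 : Fin 4) ≠ 3 := by decide
  have h23 : (2 : Fin 4) ≠ 3 := by decide
  have hL : POrth B Q (L.map ρ) := by
    constructor
    · intro a ha
      simp only [hLdef, List.map_cons, List.map_nil, List.mem_cons, List.not_mem_nil,
        or_false] at ha
      rcases ha with rfl | rfl | rfl | rfl | rfl | rfl
      · exact quad_ne_p R h 0
      · exact quad_ne_p R h 1
      · exact quad_ne_m R h 0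
      · exact quad_ne_m R h 1
      · exact quad_ne_p R h 2
      · exact quad_ne_p R h 3
    · simp only [hLdef, List.map_cons, List.map_nil, List.pairwise_cons, List.mem_cons,
        List.not_mem_nil, or_false, forall_eq_or_imp, forall_eq, IsEmpty.forall_iff,
        implies_true, List.Pairwise.nil, and_true]
      refine ⟨⟨?_, ?_, ?_, ?_, ?_⟩, ⟨?_, ?_, ?_, ?_⟩, ⟨?_, ?_, ?_⟩, ⟨?_, ?_⟩, ?_⟩
      · exact R.orth (hyp_pol_pp h h01)
      · exact R.orth (hyp_pol_pm h 0 0)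
      · exact R.orth (hyp_pol_pm h 0 1)
      · exact R.orth (hyp_pol_pp h h02)
      · exact R.orth (hyp_pol_pp h h03)
      · exact R.orth (hyp_pol_pm h 1 0)
      · exact R.orth (hyp_pol_pm h 1 1)
      · exact R.orth (hyp_pol_pp h h12)
      · exact R.orth (hyp_pol_pp h h13')
      · exact R.orth (hyp_pol_mm h h01)
      · exact R.orth (hyp_pol_mp h 0 2)
      · exact R.orth (hyp_pol_mp h 0 3)
      · exact R.orth (hyp_pol_mp h 1 2)
      · exact R.orth (hyp_pol_mp h 1 3)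
      · exact R.orth (hyp_pol_pp h h23)
  have hΩ : reflList R.hQ (L.map ρ) ∈ ⁅OG Q, OG Q⁆ := by
    simp only [hLdef, List.map_cons, List.map_nil]
    apply reflList_cons_cons_mem R.hQ (quad_ne_p R h 0) (quad_ne_p R h 1)
      (by rw [R.quad, R.quad, hyp_Q_p h, hyp_Q_p h]) (quad_sub_ne_p R h2 h h01)
    apply reflList_cons_cons_mem R.hQ (quad_ne_m R h 0) (quad_ne_m R h 1)
      (by rw [R.quad, R.quad, hyp_Q_m h, hyp_Q_m h]) (quad_sub_ne_m R h2 h h01)
    apply reflList_cons_cons_mem R.hQ (quad_ne_p R h 2) (quad_ne_p R h 3)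
      (by rw [R.quad, R.quad, hyp_Q_p h, hyp_Q_p h]) (quad_sub_ne_p R h2 h h23)
    rw [reflList_nil]
    exact one_mem _
  refine ⟨reflList R.hQ (L.map ρ), ?_⟩
  have key := invData_core R h13 hM hT h2 L hL hΩ (e₁ := e' 0) (f₁ := f' 0) (e₂ := e' 1)
    (f₂ := f' 1) (s := e 0) (s' := f 0) (hx.1 0).1 (hx.1 0).2 (hx.1 1).1 (hx.1 1).2
    (by rw [hyp_ef hx]; simp) (by rw [hyp_ef hx]; simp) (hx.2.2 0 1).1
    (by rw [hyp_ef hx]; simp) (by rw [hyp_fe hx]; simp) (hx.2.2 0 1).2 (h.1 0).1 (h.1 0).2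
    (by rw [hyp_ef h]; simp) (by simp [hLdef]) (by simp [hLdef]) ?_
    {e 0, f 0, e 1, f 1, e 2, f 2, e 3, f 3} ?_
  · exact key
  · intro x hx'
    simp only [hLdef, List.mem_cons, List.not_mem_nil, or_false] at hx'
    rcases hx' with rfl | rfl | rfl | rfl | rfl | rfl <;>
    simp [QuadraticMap.polar_add_left, QuadraticMap.polar_sub_left, (hc _ _).1, (hc _ _).2.1,
      (hc _ _).2.2.1, (hc _ _).2.2.2]
  · intro v hv x hx'
    have v0 := hv (e 0) (by simp)
    have v1 := hv (f 0) (by simp)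
    have v2 := hv (e 1) (by simp)
    have v3 := hv (f 1) (by simp)
    have v4 := hv (e 2) (by simp)
    have v5 := hv (f 2) (by simp)
    have v6 := hv (e 3) (by simp)
    have v7 := hv (f 3) (by simp)
    simp only [hLdef, List.mem_cons, List.not_mem_nil, or_false] at hx'
    rcases hx' with rfl | rfl | rfl | rfl | rfl | rfl <;>
    simp [R.add, R.sub, v0, v1, v2, v3, v4, v5, v6, v7]

end Main

end Cfsg.Agent.Lib.Helper95.OSub
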