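/-
Helper95: overgroups of the rational orthogonal group, part K: the dihedral group generated by
two non-conjugate involutions contains a central involution.
-/
import Mathlib
import Cfsg.Agent.Lib.Helper95.OSubJ

set_option autoImplicit false
set_option linter.unusedSimpArgs false
set_option linter.unusedSectionVars false
set_option linter.unusedVariables false

namespace Cfsg.Agent.Lib.Helper95.OSub

open Module
open Cfsg.Agent.Lib.Helper13 (fixSub mem_fixSub)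

variable {F : Type*} [Field F] {V : Type*} [AddCommGroup V] [Module F V]

lemma fixSub_conj (a b : V ≃ₗ[F] V) :
    fixSub (a * b * a⁻¹) = (fixSub b).map (a : V →ₗ[F] V) := by
  ext x
  rw [mem_fixSub, Submodule.mem_map]
  constructor
  · intro hx
    refine ⟨a⁻¹ x, ?_, ?_⟩
    · rw [mem_fixSub]
      have := congrArg (fun v => a⁻¹ v) hx
      simp only [LinearEquiv.mul_apply] at this
      rw [← LinearEquiv.mul_apply a⁻¹ a, inv_mul_cancel, LinearEquiv.coe_one, id_eq] at this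
      exact this
    · show a (a⁻¹ x) = x
      rw [← LinearEquiv.mul_apply, mul_inv_cancel, LinearEquiv.coe_one, id_eq]
  · rintro ⟨y, hy, rfl⟩
    rw [mem_fixSub] at hy
    show (a * b * a⁻¹) (a y) = a y
    rw [LinearEquiv.mul_apply, LinearEquiv.mul_apply, ← LinearEquiv.mul_apply a⁻¹ a,
      inv_mul_cancel, LinearEquiv.coe_one, id_eq, hy]

lemma finrank_fixSub_conj (a b : V ≃ₗ[F] V) :
    finrank F (fixSub (a * b * a⁻¹)) = finrank F (fixSub b) := by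
  rw [fixSub_conj]
  exact LinearEquiv.finrank_map_eq a (fixSub b)

/-- **the dihedral trick** -/
theorem dihedral [Finite (V ≃ₗ[F] V)] (M : Subgroup (V ≃ₗ[F] V)) {z₁ ζ g : V ≃ₗ[F] V}
    (hg : g ∈ M) (hz₁ : z₁ ∈ M) (hζ : ζ ∈ M) (sq₁ : z₁ * z₁ = 1) (sq₂ : ζ * ζ = 1)
    (hnc : finrank F (fixSub z₁) ≠ finrank F (fixSub ζ)) :
    ∃ z ∈ M, z * z = 1 ∧ z ≠ 1 ∧ z * z₁ = z₁ * z ∧ (g⁻¹ * z * g) * ζ = ζ * (g⁻¹ * z * g) ∧
      ∀ v, z₁ v = v → (g * ζ * g⁻¹) v = v → z v = v := by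
  obtain ⟨z₂, hz₂⟩ : ∃ z₂, z₂ = g * ζ * g⁻¹ := ⟨_, rfl⟩
  have hz₂M : z₂ ∈ M := by rw [hz₂]; exact mul_mem (mul_mem hg hζ) (inv_mem hg)
  have sq₂' : z₂ * z₂ = 1 := by
    rw [hz₂]
    calc g * ζ * g⁻¹ * (g * ζ * g⁻¹) = g * (ζ * ζ) * g⁻¹ := by group
      _ = 1 := by rw [sq₂]; group
  have i₁ : z₁⁻¹ = z₁ := inv_eq_of_mul_eq_one_right sq₁
  have i₂ : z₂⁻¹ = z₂ := inv_eq_of_mul_eq_one_right sq₂'
  obtain ⟨u, hu⟩ : ∃ u, u = z₁ * z₂ := ⟨_, rfl⟩
  have huM : u ∈ M := by rw [hu]; exact mul_mem hz₁ hz₂M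
  have c₁ : z₁ * u * z₁⁻¹ = u⁻¹ := by
    rw [hu, mul_inv_rev, i₁, i₂]
    calc z₁ * (z₁ * z₂) * z₁ = (z₁ * z₁) * z₂ * z₁ := by group
      _ = z₂ * z₁ := by rw [sq₁, one_mul]
  have c₂ : z₂ * u * z₂⁻¹ = u⁻¹ := by
    rw [hu, mul_inv_rev, i₁, i₂]
    calc z₂ * (z₁ * z₂) * z₂ = z₂ * z₁ * (z₂ * z₂) := by group
      _ = z₂ * z₁ := by rw [sq₂', mul_one]
  have p₁ : ∀ m : ℕ, z₁ * u ^ m * z₁⁻¹ = (u ^ m)⁻¹ := by
    intro m
    rw [← conj_pow, c₁, inv_pow]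
  have p₂ : ∀ m : ℕ, z₂ * u ^ m * z₂⁻¹ = (u ^ m)⁻¹ := by
    intro m
    rw [← conj_pow, c₂, inv_pow]
  have hN : 0 < orderOf u := orderOf_pos u
  rcases Nat.even_or_odd (orderOf u) with hev | hodd
  · obtain ⟨m, hm⟩ := hev
    have hm0 : m ≠ 0 := by omega
    obtain ⟨z, hzdef⟩ : ∃ z, z = u ^ m := ⟨_, rfl⟩
    have hzz : z * z = 1 := by
      rw [hzdef, ← pow_add, ← hm, pow_orderOf_eq_one]
    have iz : z⁻¹ = z := inv_eq_of_mul_eq_one_right hzz
    have hz1 : z ≠ 1 := by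
      rw [hzdef]
      exact pow_ne_one_of_lt_orderOf hm0 (by omega)
    have k₁ : z * z₁ = z₁ * z := by
      have := p₁ m
      rw [← hzdef, iz, i₁] at this
      calc z * z₁ = (z₁ * z * z₁) * z₁ := by rw [this]
        _ = z₁ * z * (z₁ * z₁) := by group
        _ = z₁ * z := by rw [sq₁, mul_one]
    have k₂ : z * z₂ = z₂ * z := by
      have := p₂ m
      rw [← hzdef, iz, i₂] at this
      calc z * z₂ = (z₂ * z * z₂) * z₂ := by rw [this]
        _ = z₂ * z * (z₂ * z₂) := by group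
        _ = z₂ * z := by rw [sq₂', mul_one]
    refine ⟨z, by rw [hzdef]; exact pow_mem huM m, hzz, hz1, k₁, ?_, ?_⟩
    · have e1 : g⁻¹ * z * g * ζ = g⁻¹ * (z * z₂) * g := by rw [hz₂]; group
      have e2 : ζ * (g⁻¹ * z * g) = g⁻¹ * (z₂ * z) * g := by rw [hz₂]; group
      rw [e1, e2, k₂]
    · intro v hv1 hv2
      rw [← hz₂] at hv2
      have huv : u v = v := by rw [hu, LinearEquiv.mul_apply, hv2, hv1]
      rw [hzdef]
      have hpow : ∀ k : ℕ, (u ^ k) v = v := by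
        intro k
        induction k with
        | zero => simp
        | succ k ih => rw [pow_succ, LinearEquiv.mul_apply, huv, ih]
      exact hpow m
  · exfalso
    obtain ⟨j, hj⟩ := hodd
    obtain ⟨c, hc⟩ : ∃ c, c = u ^ (j + 1) := ⟨_, rfl⟩
    have hcc : c * c = u := by
      rw [hc, ← pow_add]
      have : j + 1 + (j + 1) = orderOf u + 1 := by omega
      rw [this, pow_succ, pow_orderOf_eq_one, one_mul]
    have h1 : z₁ * c = c⁻¹ * z₁ := by
      have := p₁ (j + 1)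
      rw [← hc, i₁] at this
      calc z₁ * c = (z₁ * c * z₁) * z₁ := by
            rw [mul_assoc (z₁ * c), sq₁, mul_one]
        _ = c⁻¹ * z₁ := by rw [this]
    have h2 : c⁻¹ * z₁ * c⁻¹⁻¹ = z₂ := by
      rw [inv_inv, mul_assoc, h1, ← mul_assoc, ← mul_inv_rev, hcc, hu, mul_inv_rev, i₁, i₂,
        mul_assoc, sq₁, mul_one]
    have h3 := finrank_fixSub_conj (F := F) c⁻¹ z₁
    rw [h2, hz₂, finrank_fixSub_conj] at h3
    exact hnc h3.symm

end Cfsg.Agent.Lib.Helper95.OSub
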