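/-
Helper95: overgroups of the rational orthogonal group, part L: the eigenspaces of a rational
involution and their dimensions.
-/
import Mathlib
import Cfsg.Agent.Lib.Helper95.OSubK

set_option autoImplicit false
set_option linter.unusedSimpArgs false
set_option linter.unusedSectionVars false
set_option linter.unusedVariables false

namespace Cfsg.Agent.Lib.Helper95.OSub

open LinearMap (BilinForm)
open Module
open Cfsg.Agent.Lib.Helper94 Cfsg.Agent.Lib.Helper94.QuadData Cfsg.Agent.Lib.Helper44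
open Cfsg.Agent.Lib.Helper13 (fixSub mem_fixSub)

variable {F : Type*} [Field F] {V : Type*} [AddCommGroup V] [Module F V]
variable {F₀ : Subfield F} {W : Type*} [AddCommGroup W] [Module F₀ W]
variable {B : BilinForm F V} {Q : V → F} {Q₀ : QuadraticForm F₀ W} {ρ : W → V}

local notation "pol" => QuadraticMap.polar

lemma quadData_of_form (Q₀ : QuadraticForm F₀ W) :
    QuadData (QuadraticMap.polarBilin Q₀) (⇑Q₀) where
  smul := fun c v => by rw [QuadraticMap.map_smul, smul_eq_mul]; ring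
  polar := fun u v => by
    rw [QuadraticMap.polarBilin_apply_apply, QuadraticMap.polar]; ring

/-- `ρ` maps independent families to independent families -/
lemma linearIndependent_rho [FiniteDimensional F₀ W] (R : OSet B Q Q₀ ρ) {ι : Type*} [Fintype ι]
    (b : ι → W) (hb : LinearIndependent F₀ b) : LinearIndependent F (fun i => ρ (b i)) := by
  classical
  rw [Fintype.linearIndependent_iff]
  intro c hc j
  have hD := quadData_of_form Q₀
  have hj : b j ∉ Submodule.span F₀ (b '' {i | i ≠ j}) :=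
    hb.notMem_span_image (by simp)
  obtain ⟨y, hy1, hy2⟩ := hD.exists_dual_vec (fun x hx => R.nd₀.1 x hx) _ hj
  have h1 := congrArg (fun v => B v (ρ y)) hc
  simp only [map_sum, map_smul, LinearMap.sum_apply, LinearMap.smul_apply, smul_eq_mul,
    map_zero, LinearMap.zero_apply] at h1
  rw [Finset.sum_eq_single j] at h1
  · rw [R.form] at h1
    have : pol (⇑Q₀) (b j) y = 1 := hy2
    rw [this] at h1
    simpa using h1
  · intro i _ hij
    rw [R.form]
    have : pol (⇑Q₀) (b i) y = 0 := hy1 (b i) (Submodule.subset_span ⟨i, hij, rfl⟩)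
    rw [this]
    simp
  · intro hj'
    exact absurd (Finset.mem_univ j) hj'

/-- dimensions do not drop under `ρ` -/
lemma finrank_le_of_maps [FiniteDimensional F₀ W] [FiniteDimensional F V] (R : OSet B Q Q₀ ρ)
    (A : Submodule F₀ W) (A' : Submodule F V) (h : ∀ w ∈ A, ρ w ∈ A') :
    finrank F₀ A ≤ finrank F A' := by
  classical
  set bA := Module.finBasis F₀ A
  have hb : LinearIndependent F₀ (fun i => ((bA i : A) : W)) :=
    bA.linearIndependent.map' A.subtype (Submodule.ker_subtype A)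
  have hli := linearIndependent_rho R _ hb
  have h1 := finrank_span_eq_card hli
  have h2 : Submodule.span F (Set.range fun i => ρ ((bA i : A) : W)) ≤ A' := by
    rw [Submodule.span_le]
    rintro x ⟨i, rfl⟩
    exact h _ (bA i).2
  have h3 := Submodule.finrank_mono h2
  rw [h1, Fintype.card_fin] at h3
  exact h3

/-- the `-1`-eigenspace -/
def negSub (z : V ≃ₗ[F] V) : Submodule F V := LinearMap.ker ((z : V →ₗ[F] V) + LinearMap.id)

lemma mem_negSub (z : V ≃ₗ[F] V) (v : V) : v ∈ negSub z ↔ z v = -v := by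
  unfold negSub
  rw [LinearMap.mem_ker, LinearMap.add_apply, LinearMap.id_apply]
  exact add_eq_zero_iff_eq_neg

lemma disjoint_fix_neg (h2 : (2 : F) ≠ 0) (z : V ≃ₗ[F] V) : Disjoint (fixSub z) (negSub z) := by
  rw [Submodule.disjoint_def]
  intro x hx1 hx2
  rw [mem_fixSub] at hx1
  rw [mem_negSub, hx1] at hx2
  have h4 : (2 : F) • x = 0 := by
    rw [two_smul]
    nth_rewrite 1 [hx2]
    exact neg_add_cancel x
  rcases smul_eq_zero.1 h4 with h5 | h5
  · exact absurd h5 h2
  · exact h5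

/-- the rational `+1`-eigenspace -/
def Wp (R : OSet B Q Q₀ ρ) (z : V ≃ₗ[F] V) : Submodule F₀ W where
  carrier := {w | z (ρ w) = ρ w}
  add_mem' := by
    intro a b ha hb
    show z (ρ (a + b)) = ρ (a + b)
    rw [R.add, map_add, ha, hb]
  zero_mem' := by
    show z (ρ 0) = ρ 0
    rw [R.zero, map_zero]
  smul_mem' := by
    intro c a ha
    show z (ρ (c • a)) = ρ (c • a)
    rw [R.smul, map_smul, ha]

/-- the rational `-1`-eigenspace -/
def Wm (R : OSet B Q Q₀ ρ) (z : V ≃ₗ[F] V) : Submodule F₀ W where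
  carrier := {w | z (ρ w) = -ρ w}
  add_mem' := by
    intro a b ha hb
    show z (ρ (a + b)) = -ρ (a + b)
    rw [R.add, map_add, ha, hb]
    abel
  zero_mem' := by
    show z (ρ 0) = -ρ 0
    rw [R.zero, map_zero, neg_zero]
  smul_mem' := by
    intro c a ha
    show z (ρ (c • a)) = -ρ (c • a)
    rw [R.smul, map_smul, ha, smul_neg]

lemma mem_Wp (R : OSet B Q Q₀ ρ) (z : V ≃ₗ[F] V) (w : W) : w ∈ Wp R z ↔ z (ρ w) = ρ w := Iff.rfl

lemma mem_Wm (R : OSet B Q Q₀ ρ) (z : V ≃ₗ[F] V) (w : W) : w ∈ Wm R z ↔ z (ρ w) = -ρ w := Iff.rfl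

section eigen

variable (R : OSet B Q Q₀ ρ) (h2 : (2 : F) ≠ 0) {z : V ≃ₗ[F] V} (hzO : z ∈ OG Q)
  (hr : Rat1 ρ z) (hsq : z * z = 1)

include h2 in
lemma two_ne_zero_sub : (2 : F₀) ≠ 0 := by
  intro h
  apply h2
  have h3 : ((2 : F₀) : F) = 0 := by rw [h]; rfl
  exact h3

include R h2 hr hsq in
lemma eigen_decomp (w : W) : ∃ a ∈ Wp R z, ∃ b ∈ Wm R z, w = a + b := by
  obtain ⟨t, ht⟩ := hr w
  have h20 := two_ne_zero_sub (F₀ := F₀) h2
  have hzt : z (ρ t) = ρ w := by
    rw [← ht, ← LinearEquiv.mul_apply, hsq]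
    rfl
  refine ⟨(2 : F₀)⁻¹ • (w + t), ?_, (2 : F₀)⁻¹ • (w - t), ?_, ?_⟩
  · rw [mem_Wp, R.smul, map_smul, R.add, map_add, ht, hzt, add_comm]
  · rw [mem_Wm, R.smul, map_smul, R.sub, map_sub, ht, hzt, ← smul_neg, neg_sub]
  · rw [← smul_add]
    have : w + t + (w - t) = (2 : F₀) • w := by rw [two_smul]; abel
    rw [this, smul_smul, inv_mul_cancel₀ h20, one_smul]

include R h2 in
lemma eigen_disjoint : Disjoint (Wp R z) (Wm R z) := by
  rw [Submodule.disjoint_def]
  intro w hw1 hw2
  rw [mem_Wp] at hw1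
  rw [mem_Wm, hw1] at hw2
  have h4 : (2 : F) • ρ w = 0 := by
    rw [two_smul]
    nth_rewrite 1 [hw2]
    exact neg_add_cancel _
  rcases smul_eq_zero.1 h4 with h5 | h5
  · exact absurd h5 h2
  · apply R.inj
    rw [h5, R.zero]

include R h2 hr hsq in
lemma eigen_isCompl : IsCompl (Wp R z) (Wm R z) := by
  refine ⟨eigen_disjoint R h2, ?_⟩
  rw [codisjoint_iff, Submodule.eq_top_iff']
  intro w
  obtain ⟨a, ha, b, hb, rfl⟩ := eigen_decomp R h2 hr hsq w
  exact Submodule.add_mem_sup ha hb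

include R h2 hzO in
lemma eigen_orth {a b : W} (ha : a ∈ Wp R z) (hb : b ∈ Wm R z) : pol (⇑Q₀) a b = 0 := by
  rw [mem_Wp] at ha
  rw [mem_Wm] at hb
  have e1 := R.hQ.B_map hzO (ρ a) (ρ b)
  rw [ha, hb, map_neg] at e1
  have e2 : (2 : F) * B (ρ a) (ρ b) = 0 := by linear_combination -e1
  have e3 : B (ρ a) (ρ b) = 0 := by
    rcases mul_eq_zero.1 e2 with h | h
    · exact absurd h h2
    · exact h
  rw [R.form] at e3
  exact_mod_cast e3

include R h2 hzO hr hsq in
lemma nondeg_Wp : (QuadraticMap.polarBilin (Q₀.comp (Wp R z).subtype)).Nondegenerate := by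
  rw [polarBilin_comp_subtype]
  have key : ∀ x : Wp R z, (∀ y : Wp R z, pol (⇑Q₀) (x : W) (y : W) = 0) → x = 0 := by
    intro x hx
    apply Subtype.ext
    apply R.nd₀.1
    intro u
    obtain ⟨a, ha, b, hb, rfl⟩ := eigen_decomp R h2 hr hsq u
    show pol (⇑Q₀) (x : W) (a + b) = 0
    rw [QuadraticMap.polar_add_right, hx ⟨a, ha⟩, eigen_orth R h2 hzO x.2 hb, add_zero]
  refine ⟨fun x hx => key x hx, fun y hy => key y fun x => ?_⟩
  rw [QuadraticMap.polar_comm]
  exact hy x

include R h2 hzO hr hsq in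
lemma nondeg_Wm : (QuadraticMap.polarBilin (Q₀.comp (Wm R z).subtype)).Nondegenerate := by
  rw [polarBilin_comp_subtype]
  have key : ∀ x : Wm R z, (∀ y : Wm R z, pol (⇑Q₀) (x : W) (y : W) = 0) → x = 0 := by
    intro x hx
    apply Subtype.ext
    apply R.nd₀.1
    intro u
    obtain ⟨a, ha, b, hb, rfl⟩ := eigen_decomp R h2 hr hsq u
    show pol (⇑Q₀) (x : W) (a + b) = 0
    rw [QuadraticMap.polar_add_right, hx ⟨b, hb⟩, QuadraticMap.polar_comm,
      eigen_orth R h2 hzO ha x.2, add_zero]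
  refine ⟨fun x hx => key x hx, fun y hy => key y fun x => ?_⟩
  rw [QuadraticMap.polar_comm]
  exact hy x

include R h2 hr hsq in
lemma finrank_eigen [FiniteDimensional F₀ W] [FiniteDimensional F V]
    (hdim : finrank F V = finrank F₀ W) :
    finrank F₀ (Wp R z) = finrank F (fixSub z) ∧
      finrank F₀ (Wp R z) + finrank F₀ (Wm R z) = finrank F₀ W := by
  have h1 := Submodule.finrank_add_eq_of_isCompl (eigen_isCompl R h2 hr hsq)
  have h3 := finrank_le_of_maps R (Wp R z) (fixSub z) (fun w hw => (mem_fixSub z _).2 hw)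
  have h4 := finrank_le_of_maps R (Wm R z) (negSub z) (fun w hw => (mem_negSub z _).2 hw)
  have h5 := Submodule.finrank_add_finrank_le_of_disjoint (disjoint_fix_neg h2 z)
  constructor
  · omega
  · exact h1

end eigen

end Cfsg.Agent.Lib.Helper95.OSub
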