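/-
Helper95: overgroups of the rational orthogonal group, part M: in the tight case `M` is the
rational group.
-/
import Mathlib
import Cfsg.Agent.Lib.Helper95.OSubL

set_option autoImplicit false
set_option linter.unusedSimpArgs false
set_option linter.unusedSectionVars false
set_option linter.unusedVariables false

namespace Cfsg.Agent.Lib.Helper95.OSub

open LinearMap (BilinForm)
open Module
open Cfsg.Agent.Lib.Helper94 Cfsg.Agent.Lib.Helper94.QuadData Cfsg.Agent.Lib.Helper44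
open Cfsg.Agent.Lib.Helper13 (fixSub mem_fixSub)
open scoped commutatorElement

variable {F : Type*} [Field F] {V : Type*} [AddCommGroup V] [Module F V]
variable {F₀ : Subfield F} {W : Type*} [AddCommGroup W] [Module F₀ W]
variable {B : BilinForm F V} {Q : V → F} {Q₀ : QuadraticForm F₀ W} {ρ : W → V}

local notation "pol" => QuadraticMap.polar

lemma conj_sq {G : Type*} [Group G] {g z : G} (hsq : z * z = 1) :
    (g⁻¹ * z * g) * (g⁻¹ * z * g) = 1 := by
  calc g⁻¹ * z * g * (g⁻¹ * z * g) = g⁻¹ * (z * z) * g := by group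
    _ = 1 := by rw [hsq]; group

/-- eigenvectors for `1` and `-1` of an isometry are orthogonal -/
lemma orth_of_eigen (hQ : QuadData B Q) (h2 : (2 : F) ≠ 0) {z : V ≃ₗ[F] V} (hz : z ∈ OG Q)
    {v y : V} (hv : z v = -v) (hy : z y = y) : B v y = 0 := by
  have e1 := hQ.B_map hz v y
  rw [hv, hy, map_neg, LinearMap.neg_apply] at e1
  have e2 : (2 : F) * B v y = 0 := by linear_combination -e1
  rcases mul_eq_zero.1 e2 with h | h
  · exact absurd h h2
  · exact h

/-- a vector orthogonal to the `-1`-eigenspace of an involutory isometry is fixed -/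
lemma fix_of_orth_neg (hQ : QuadData B Q) (hnd : ∀ x, (∀ y, B x y = 0) → x = 0)
    {z : V ≃ₗ[F] V} (hz : z ∈ OG Q) (hsq : z * z = 1) {x : V}
    (hx : ∀ y, z y = -y → B x y = 0) : z x = x := by
  have hzz : ∀ y, z (z y) = y := by
    intro y
    rw [← LinearEquiv.mul_apply, hsq]
    rfl
  have h0 : x - z x = 0 := by
    apply hnd
    intro y
    have e1 : B (z x) y = B x (z y) := by
      have := hQ.B_map hz x (z y)
      rw [hzz] at this
      exact this
    have e2 : z (y - z y) = -(y - z y) := by rw [map_sub, hzz]; abel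
    have e3 := hx _ e2
    rw [map_sub] at e3
    rw [map_sub, LinearMap.sub_apply, e1]
    exact e3
  exact (sub_eq_zero.1 h0).symm

/-- two involutory isometries commute if one fixes the `-1`-eigenspace of the other -/
lemma comm_of_fix (hQ : QuadData B Q) (hnd : ∀ x, (∀ y, B x y = 0) → x = 0) (h2 : (2 : F) ≠ 0)
    {z z' : V ≃ₗ[F] V} (hz : z ∈ OG Q) (hz' : z' ∈ OG Q) (hsq : z * z = 1)
    (hneg : ∀ v, z v = -v → z' v = v) : z * z' = z' * z := by
  have hzz : ∀ y, z (z y) = y := by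
    intro y
    rw [← LinearEquiv.mul_apply, hsq]
    rfl
  apply LinearEquiv.ext
  intro v
  simp only [LinearEquiv.mul_apply]
  obtain ⟨p, hp⟩ : ∃ p, p = v + z v := ⟨_, rfl⟩
  obtain ⟨m, hm⟩ : ∃ m, m = v - z v := ⟨_, rfl⟩
  have hzp : z p = p := by rw [hp, map_add, hzz]; abel
  have hzm : z m = -m := by rw [hm, map_sub, hzz]; abel
  have hz'm : z' m = m := hneg m hzm
  have hzz'p : z (z' p) = z' p := by
    apply fix_of_orth_neg hQ hnd hz hsq
    intro y hy
    have hz'y : z' y = y := hneg y hy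
    have e1 := hQ.B_map hz' p y
    rw [hz'y] at e1
    rw [e1, hQ.symm]
    exact orth_of_eigen hQ h2 hz hy hzp
  have h2v : (2 : F) • v = p + m := by rw [hp, hm, two_smul]; abel
  have e1 : (2 : F) • z (z' v) = z' p - m := by
    rw [← map_smul, ← map_smul, h2v, map_add, map_add, hzz'p, hz'm, hzm]; abel
  have e2 : (2 : F) • z' (z v) = z' p - m := by
    rw [← map_smul, ← map_smul, h2v, map_add, map_add, hzp, hzm, map_neg, hz'm]; abel
  have e3 : (2 : F) • (z (z' v) - z' (z v)) = 0 := by rw [smul_sub, e1, e2, sub_self]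
  rcases smul_eq_zero.1 e3 with h | h
  · exact absurd h h2
  · exact sub_eq_zero.1 h

section Main

variable [Finite F₀] [FiniteDimensional F₀ W] [FiniteDimensional F V] [Finite (V ≃ₗ[F] V)]
variable (R : OSet B Q Q₀ ρ) (h13 : 13 ≤ finrank F₀ W) {M : Subgroup (V ≃ₗ[F] V)}
  (hM : Over Q ρ M) (hT : Tight B Q Q₀ ρ M) (h2 : (2 : F) ≠ 0)
  (hdim : finrank F V = finrank F₀ W)
  (hInv : ∀ z ∈ ⁅OG Q, OG Q⁆, RatU ρ z → z * z = 1 → Rat1 ρ z)

include R h13 hM hT h2 hdim in
/-- the last step: a rational involution of `M ∩ g M g⁻¹`-type with large eigenspaces forces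
`g` to be rational -/
lemma final_step {g z : V ≃ₗ[F] V} (hg : g ∈ M) (hz : z ∈ M) (hsq : z * z = 1) (hr : Rat1 ρ z)
    (hr' : Rat1 ρ (g⁻¹ * z * g)) (ha : 3 ≤ finrank F₀ (Wp R z)) (hb : 3 ≤ finrank F₀ (Wm R z)) :
    RatU ρ g := by
  have hzO : z ∈ OG Q := commutator_le_OG (hM.le hz)
  obtain ⟨h, hh⟩ : ∃ h, h = g⁻¹ * z * g := ⟨_, rfl⟩
  rw [← hh] at hr'
  have hhM : h ∈ M := by rw [hh]; exact mul_mem (mul_mem (inv_mem hg) hz) hg
  have hhO : h ∈ OG Q := commutator_le_OG (hM.le hhM)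
  have hhsq : h * h = 1 := by rw [hh]; exact conj_sq hsq
  obtain ⟨d1, d2⟩ := finrank_eigen R h2 hr hsq hdim
  obtain ⟨d1', d2'⟩ := finrank_eigen R h2 hr' hhsq hdim
  have hfix : finrank F (fixSub h) = finrank F (fixSub z) := by
    have := finrank_fixSub_conj (F := F) g⁻¹ z
    rw [inv_inv] at this
    rw [hh]
    exact this
  have hzg : ∀ v, z (g v) = g (h v) := by
    intro v
    rw [hh]
    simp only [LinearEquiv.mul_apply]
    rw [← LinearEquiv.mul_apply g g⁻¹, mul_inv_cancel]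
    rfl
  have i01 : (0 : Fin 2) ≠ 1 := by decide
  by_cases h5 : 5 ≤ finrank F₀ (Wp R z)
  · obtain ⟨e, f, hef, hmem⟩ := exists_frame_sub Q₀ (Wp R h) (nondeg_Wp R h2 hhO hr' hhsq) 2
      (by omega)
    obtain ⟨s, s', hss, hsmem⟩ := exists_frame_sub Q₀ (Wm R z) (nondeg_Wm R h2 hzO hr hsq) 1
      (by omega)
    have key : ∀ x ∈ Wp R h, z (g (ρ x)) = (1 : F) • g (ρ x) := by
      intro x hx
      rw [hzg, (mem_Wp R h x).1 hx, one_smul]
    have key' : ∀ x ∈ Wm R z, z (ρ x) = -(1 : F) • ρ x := by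
      intro x hx
      rw [(mem_Wm R z x).1 hx, neg_smul, one_smul]
    exact ratU_of_eigen R h13 hM hT h2 hg hzO (ε := 1) (by ring) (hef.1 0).1 (hef.1 0).2
      (hef.1 1).1 (hef.1 1).2 (by rw [hyp_ef hef]; simp) (by rw [hyp_ef hef]; simp)
      (hef.2.2 0 1).1 (by rw [hyp_ef hef]; simp) (by rw [hyp_fe hef]; simp) (hef.2.2 0 1).2
      (hss.1 0).1 (hss.1 0).2 (by rw [hyp_ef hss]; simp)
      (key _ (hmem 0).1) (key _ (hmem 0).2) (key _ (hmem 1).1) (key _ (hmem 1).2)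
      (key' _ (hsmem 0).1) (key' _ (hsmem 0).2)
  · obtain ⟨e, f, hef, hmem⟩ := exists_frame_sub Q₀ (Wm R h) (nondeg_Wm R h2 hhO hr' hhsq) 2
      (by omega)
    obtain ⟨s, s', hss, hsmem⟩ := exists_frame_sub Q₀ (Wp R z) (nondeg_Wp R h2 hzO hr hsq) 1
      (by omega)
    have key : ∀ x ∈ Wm R h, z (g (ρ x)) = (-1 : F) • g (ρ x) := by
      intro x hx
      rw [hzg, (mem_Wm R h x).1 hx, map_neg, neg_smul, one_smul]
    have key' : ∀ x ∈ Wp R z, z (ρ x) = -(-1 : F) • ρ x := by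
      intro x hx
      rw [(mem_Wp R z x).1 hx, neg_neg, one_smul]
    exact ratU_of_eigen R h13 hM hT h2 hg hzO (ε := -1) (by ring) (hef.1 0).1 (hef.1 0).2
      (hef.1 1).1 (hef.1 1).2 (by rw [hyp_ef hef]; simp) (by rw [hyp_ef hef]; simp)
      (hef.2.2 0 1).1 (by rw [hyp_ef hef]; simp) (by rw [hyp_fe hef]; simp) (hef.2.2 0 1).2
      (hss.1 0).1 (hss.1 0).2 (by rw [hyp_ef hss]; simp)
      (key _ (hmem 0).1) (key _ (hmem 0).2) (key _ (hmem 1).1) (key _ (hmem 1).2)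
      (key' _ (hsmem 0).1) (key' _ (hsmem 0).2)

include R h13 hM h2 hdim in
/-- the dimensions of the eigenspaces of a rational involution of `M` -/
lemma inv_dims {z : V ≃ₗ[F] V} (hz : z ∈ M) (hsq : z * z = 1) (hz1 : z ≠ 1) (hr : Rat1 ρ z) :
    finrank F₀ (Wp R z) = finrank F (fixSub z) ∧
      finrank F₀ (Wp R z) + finrank F₀ (Wm R z) = finrank F₀ W ∧ 2 ≤ finrank F₀ (Wm R z) ∧
      Even (finrank F₀ (Wm R z)) := by
  obtain ⟨d1, d2⟩ := finrank_eigen R h2 hr hsq hdim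
  have hpar := par_eq_zero_of_mem R.hQ R.nd (Or.inr (by omega)) (hM.le hz)
  unfold Cfsg.Agent.Lib.Helper13.par at hpar
  rw [← Nat.cast_add, ZMod.natCast_eq_zero_iff_even] at hpar
  have hne : finrank F (fixSub z) ≠ finrank F V := by
    intro h
    apply hz1
    have htop := Submodule.eq_top_of_finrank_eq h
    apply LinearEquiv.ext
    intro v
    have : v ∈ fixSub z := by rw [htop]; trivial
    exact (mem_fixSub z v).1 this
  have hle := Submodule.finrank_le (fixSub z)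
  obtain ⟨k, hk⟩ := hpar
  refine ⟨d1, d2, by omega, ⟨finrank F V - k, by omega⟩⟩

include R h13 hM hT h2 hdim hInv in
/-- one level of the dihedral argument -/
lemma level {g : V ≃ₗ[F] V} (hg : g ∈ M) {e f : Fin 4 → W} (h4 : HypSys Q₀ e f)
    {e' f' : Fin 4 → W} (h4' : HypSys Q₀ e' f') {e'' f'' : Fin 2 → W} (hx : HypSys Q₀ e'' f'')
    (hc : ∀ i i', pol (⇑Q₀) (e' i) (e'' i') = 0 ∧ pol (⇑Q₀) (e' i) (f'' i') = 0 ∧
      pol (⇑Q₀) (f' i) (e'' i') = 0 ∧ pol (⇑Q₀) (f' i) (f'' i') = 0) :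
    ∃ z ∈ M, z * z = 1 ∧ z ≠ 1 ∧ Rat1 ρ z ∧ Rat1 ρ (g⁻¹ * z * g) ∧
      finrank F V ≤ finrank F (fixSub z) + 10 ∧
      ∀ v : V, (∀ x ∈ ({e 0, f 0, e 1, f 1} : Set W), B v (ρ x) = 0) →
        (∀ x ∈ ({e' 0, f' 0, e' 1, f' 1, e' 2, f' 2, e' 3, f' 3} : Set W),
          B (g⁻¹ v) (ρ x) = 0) → z v = v := by
  obtain ⟨z₁, D₁⟩ := exists_inv4 R h13 hM hT h2 h4
  obtain ⟨ζ, D₂⟩ := exists_inv6 R h13 hM hT h2 h4' hx hc
  have hnc : finrank F (fixSub z₁) ≠ finrank F (fixSub ζ) := by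
    have := D₁.fix_ge
    have := D₂.fix_le
    omega
  obtain ⟨z, hzM, hsq, hz1, k₁, k₂, hfix⟩ := dihedral M hg D₁.mem D₂.mem D₁.sq D₂.sq hnc
  have hhM : g⁻¹ * z * g ∈ M := mul_mem (mul_mem (inv_mem hg) hzM) hg
  have r1 : Rat1 ρ z := hInv z (hM.le hzM) (D₁.cent z hzM k₁) hsq
  have r2 : Rat1 ρ (g⁻¹ * z * g) :=
    hInv _ (hM.le hhM) (D₂.cent _ hhM k₂) (conj_sq hsq)
  refine ⟨z, hzM, hsq, hz1, r1, r2, ?_, ?_⟩
  · have hle : fixSub z₁ ⊓ fixSub (g * ζ * g⁻¹) ≤ fixSub z := by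
      intro v hv
      rw [Submodule.mem_inf, mem_fixSub, mem_fixSub] at hv
      rw [mem_fixSub]
      exact hfix v hv.1 hv.2
    have e1 := Submodule.finrank_sup_add_finrank_inf_eq (fixSub z₁) (fixSub (g * ζ * g⁻¹))
    have e2 := Submodule.finrank_le (fixSub z₁ ⊔ fixSub (g * ζ * g⁻¹))
    have e3 := finrank_fixSub_conj (F := F) g ζ
    have e4 := Submodule.finrank_mono hle
    have e5 := D₁.fix_ge
    have e6 := D₂.fix_ge
    omega
  · intro v hv1 hv2
    apply hfix v (D₁.fixes v hv1)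
    have := D₂.fixes (g⁻¹ v) hv2
    simp only [LinearEquiv.mul_apply]
    rw [this, ← LinearEquiv.mul_apply, mul_inv_cancel]
    rfl

include R h13 hM hT h2 hdim hInv in
/-- **the tight case**: `M` consists of rational elements -/
theorem tight_le {g : V ≃ₗ[F] V} (hg : g ∈ M) : RatU ρ g := by
  have pc := QuadraticMap.polar_comm (⇑Q₀)
  -- level one
  obtain ⟨e, f, h4, -⟩ := exists_frame Q₀ R.nd₀ 4 ⊥ 0 inf_le_left (by rw [finrank_bot])
    (by omega)
  obtain ⟨e'', f'', hx, hc⟩ := exists_frame_perp_frame Q₀ R.nd₀ e f h4 2 (by omega)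
  obtain ⟨z', hz'M, hsq', hz'1, r', rh', hd', -⟩ :=
    level R h13 hM hT h2 hdim hInv hg h4 h4 hx hc
  obtain ⟨a1, a2, a3, a4⟩ := inv_dims R h13 hM h2 hdim hz'M hsq' hz'1 r'
  by_cases hb : 3 ≤ finrank F₀ (Wm R z')
  · exact final_step R h13 hM hT h2 hdim hg hz'M hsq' r' rh' (by omega) hb
  have hb2 : finrank F₀ (Wm R z') = 2 := by omega
  have hz'O : z' ∈ OG Q := commutator_le_OG (hM.le hz'M)
  obtain ⟨h', hh'⟩ : ∃ h', h' = g⁻¹ * z' * g := ⟨_, rfl⟩
  rw [← hh'] at rh'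
  have hh'M : h' ∈ M := by rw [hh']; exact mul_mem (mul_mem (inv_mem hg) hz'M) hg
  have hh'O : h' ∈ OG Q := commutator_le_OG (hM.le hh'M)
  have hh'sq : h' * h' = 1 := by rw [hh']; exact conj_sq hsq'
  have hfixh : finrank F (fixSub h') = finrank F (fixSub z') := by
    have := finrank_fixSub_conj (F := F) g⁻¹ z'
    rw [inv_inv] at this
    rw [hh']
    exact this
  obtain ⟨c1, c2⟩ := finrank_eigen R h2 rh' hh'sq hdim
  -- level two
  obtain ⟨e₂, f₂, g4, gmem⟩ := exists_frame_sub Q₀ (Wp R z') (nondeg_Wp R h2 hz'O r' hsq') 4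
    (by omega)
  obtain ⟨e₃, f₃, g4', gmem'⟩ := exists_frame_sub Q₀ (Wp R h') (nondeg_Wp R h2 hh'O rh' hh'sq) 4
    (by omega)
  obtain ⟨e₄, f₄, gx, gc⟩ := exists_frame_perp_frame Q₀ R.nd₀ e₃ f₃ g4' 2 (by omega)
  obtain ⟨z'', hz''M, hsq'', hz''1, r'', rh'', hd'', hfix''⟩ :=
    level R h13 hM hT h2 hdim hInv hg g4 g4' gx gc
  have hz''O : z'' ∈ OG Q := commutator_le_OG (hM.le hz''M)
  have hneg : ∀ v, z' v = -v → z'' v = v := by
    intro v hv
    apply hfix''
    · intro x hx'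
      have hxm : x ∈ Wp R z' := by
        simp only [Set.mem_insert_iff, Set.mem_singleton_iff] at hx'
        rcases hx' with rfl | rfl | rfl | rfl
        · exact (gmem 0).1
        · exact (gmem 0).2
        · exact (gmem 1).1
        · exact (gmem 1).2
      exact orth_of_eigen R.hQ h2 hz'O hv ((mem_Wp R z' x).1 hxm)
    · intro x hx'
      have hxm : x ∈ Wp R h' := by
        simp only [Set.mem_insert_iff, Set.mem_singleton_iff] at hx'
        rcases hx' with rfl | rfl | rfl | rfl | rfl | rfl | rfl | rfl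
        · exact (gmem' 0).1
        · exact (gmem' 0).2
        · exact (gmem' 1).1
        · exact (gmem' 1).2
        · exact (gmem' 2).1
        · exact (gmem' 2).2
        · exact (gmem' 3).1
        · exact (gmem' 3).2
      have hv' : h' (g⁻¹ v) = -(g⁻¹ v) := by
        rw [hh']
        simp only [LinearEquiv.mul_apply]
        rw [← LinearEquiv.mul_apply g g⁻¹, mul_inv_cancel]
        show g⁻¹ (z' v) = _
        rw [hv, map_neg]
      exact orth_of_eigen R.hQ h2 hh'O hv' ((mem_Wp R h' x).1 hxm)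
  obtain ⟨b1, b2, b3, b4⟩ := inv_dims R h13 hM h2 hdim hz''M hsq'' hz''1 r''
  by_cases hb' : 3 ≤ finrank F₀ (Wm R z'')
  · exact final_step R h13 hM hT h2 hdim hg hz''M hsq'' r'' rh'' (by omega) hb'
  have hb2' : finrank F₀ (Wm R z'') = 2 := by omega
  -- the product of the two involutions
  have hcomm : z' * z'' = z'' * z' := comm_of_fix R.hQ R.nd h2 hz'O hz''O hsq' hneg
  obtain ⟨zs, hzs⟩ : ∃ zs, zs = z' * z'' := ⟨_, rfl⟩
  have hzsM : zs ∈ M := by rw [hzs]; exact mul_mem hz'M hz''M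
  have hzssq : zs * zs = 1 := by
    rw [hzs]
    calc z' * z'' * (z' * z'') = z' * (z'' * z') * z'' := by group
      _ = z' * (z' * z'') * z'' := by rw [hcomm]
      _ = (z' * z') * (z'' * z'') := by group
      _ = 1 := by rw [hsq', hsq'', mul_one]
  have rs : Rat1 ρ zs := by rw [hzs]; exact r'.mul r''
  have rhs : Rat1 ρ (g⁻¹ * zs * g) := by
    have : g⁻¹ * zs * g = h' * (g⁻¹ * z'' * g) := by rw [hzs, hh']; group
    rw [this]
    exact rh'.mul rh''
  have hzsO : zs ∈ OG Q := commutator_le_OG (hM.le hzsM)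
  -- the eigenspaces of the product
  have hm1 : Wm R z' ≤ Wm R zs := by
    intro w hw
    rw [mem_Wm] at hw ⊢
    rw [hzs, LinearEquiv.mul_apply, hneg _ hw, hw]
  have hz'fix : ∀ w ∈ Wm R z'', z' (ρ w) = ρ w := by
    intro w hw
    rw [mem_Wm] at hw
    apply fix_of_orth_neg R.hQ R.nd hz'O hsq'
    intro y hy
    exact orth_of_eigen R.hQ h2 hz''O hw (hneg y hy)
  have hm2 : Wm R z'' ≤ Wm R zs := by
    intro w hw
    have hw' := (mem_Wm R z'' w).1 hw
    rw [mem_Wm, hzs, LinearEquiv.mul_apply, hw', map_neg, hz'fix w hw]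
  have hdisj : Wm R z' ⊓ Wm R z'' = ⊥ := by
    rw [eq_bot_iff]
    intro w hw
    rw [Submodule.mem_inf, mem_Wm, mem_Wm] at hw
    have h1 := hneg _ hw.1
    rw [hw.2] at h1
    have h4' : (2 : F) • ρ w = 0 := by
      rw [two_smul]
      nth_rewrite 1 [← h1]
      exact neg_add_cancel _
    rcases smul_eq_zero.1 h4' with h5 | h5
    · exact absurd h5 h2
    · rw [Submodule.mem_bot]
      apply R.inj
      rw [h5, R.zero]
  have hbs : 3 ≤ finrank F₀ (Wm R zs) := by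
    have e1 := Submodule.finrank_sup_add_finrank_inf_eq (Wm R z') (Wm R z'')
    rw [hdisj, finrank_bot] at e1
    have e2 := Submodule.finrank_mono (sup_le hm1 hm2)
    omega
  have has : 3 ≤ finrank F₀ (Wp R zs) := by
    have hle : Wp R z' ⊓ Wp R z'' ≤ Wp R zs := by
      intro w hw
      rw [Submodule.mem_inf, mem_Wp, mem_Wp] at hw
      rw [mem_Wp, hzs, LinearEquiv.mul_apply, hw.2, hw.1]
    have e1 := Submodule.finrank_sup_add_finrank_inf_eq (Wp R z') (Wp R z'')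
    have e2 := Submodule.finrank_le (Wp R z' ⊔ Wp R z'')
    have e3 := Submodule.finrank_mono hle
    omega
  exact final_step R h13 hM hT h2 hdim hg hzsM hzssq rs rhs has hbs

end Main

end Cfsg.Agent.Lib.Helper95.OSub
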