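/-
Helper95: overgroups of the rational orthogonal group, part N: the abstract main theorem.
-/
import Mathlib
import Cfsg.Agent.Lib.Helper95.OSubM
import Cfsg.Agent.Lib.Helper95.OSubH

set_option autoImplicit false
set_option linter.unusedSimpArgs false
set_option linter.unusedSectionVars false
set_option linter.unusedVariables false

namespace Cfsg.Agent.Lib.Helper95.OSub

open LinearMap (BilinForm)
open Module
open Cfsg.Agent.Lib.Helper94 Cfsg.Agent.Lib.Helper94.QuadData Cfsg.Agent.Lib.Helper44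
open scoped commutatorElement

variable {F : Type*} [Field F] {V : Type*} [AddCommGroup V] [Module F V]
variable {F₀ : Subfield F} {W : Type*} [AddCommGroup W] [Module F₀ W]
variable {B : BilinForm F V} {Q : V → F} {Q₀ : QuadraticForm F₀ W} {ρ : W → V}

local notation "pol" => QuadraticMap.polar

section Main

variable [Finite F] [FiniteDimensional F₀ W] [FiniteDimensional F V] [Finite (V ≃ₗ[F] V)]
variable (R : OSet B Q Q₀ ρ) (h13 : 13 ≤ finrank F₀ W) {M : Subgroup (V ≃ₗ[F] V)}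
  (hM : Over Q ρ M) (h2 : (2 : F) ≠ 0)
  (hdim : finrank F V = finrank F₀ W)
  (hInv : ∀ z ∈ ⁅OG Q, OG Q⁆, RatU ρ z → z * z = 1 → Rat1 ρ z)
  (hprime : ∀ S : Subfield F, F₀ ≤ S → S = F₀ ∨ S = ⊤)

include R h13 hM h2 hdim hInv hprime in
/-- **the dichotomy for overgroups of the rational group** -/
theorem overgroup_dichotomy : (∀ g ∈ M, RatU ρ g) ∨ ⁅OG Q, OG Q⁆ ≤ M := by
  rcases tight_or_full R h13 hM hprime with hT | hF
  · left
    intro g hg
    exact tight_le R h13 hM hT h2 hdim hInv hg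
  · right
    exact full_le R h13 hM hF (by omega)

include R h13 in
/-- the rational group is a proper subgroup of `Ω` -/
theorem exists_not_ratU (hne : ∃ c : F, c ∉ F₀) : ∃ g ∈ ⁅OG Q, OG Q⁆, ¬ RatU ρ g := by
  have pc := QuadraticMap.polar_comm (⇑Q₀)
  obtain ⟨c, hc⟩ := hne
  obtain ⟨u, u', v, v', h1, h2', huv, huv', hu'v, hu'v'⟩ := exists_hyp2 Q₀ R.nd₀ h13 ⊥
    (by rw [finrank_bot]; norm_num)
  obtain ⟨hu, hu', huu', -⟩ := h1
  obtain ⟨hv, hv', hvv', -⟩ := h2'
  obtain ⟨w, w', -, -, h3, -⟩ := exists_hyp2 Q₀ R.nd₀ h13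
    (Submodule.span F₀ {u, u'} ⊔ Submodule.span F₀ {v, v'}) (finrank_span_four_le u u' v v')
  obtain ⟨hw, hw', hww', hS⟩ := h3
  have huS : u ∈ (Submodule.span F₀ {u, u'} ⊔ Submodule.span F₀ {v, v'} : Submodule F₀ W) :=
    Submodule.mem_sup_left (Submodule.subset_span (by simp))
  have hu'S : u' ∈ (Submodule.span F₀ {u, u'} ⊔ Submodule.span F₀ {v, v'} : Submodule F₀ W) :=
    Submodule.mem_sup_left (Submodule.subset_span (by simp))
  have hvS : v ∈ (Submodule.span F₀ {u, u'} ⊔ Submodule.span F₀ {v, v'} : Submodule F₀ W) :=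
    Submodule.mem_sup_right (Submodule.subset_span (by simp))
  have hv'S : v' ∈ (Submodule.span F₀ {u, u'} ⊔ Submodule.span F₀ {v, v'} : Submodule F₀ W) :=
    Submodule.mem_sup_right (Submodule.subset_span (by simp))
  have hQcu : Q (c • ρ u) = 0 := sing_smul R.hQ (R.sing hu) c
  have hBcuv : B (c • ρ u) (ρ v) = 0 := by
    rw [map_smul, LinearMap.smul_apply, R.orth huv, smul_zero]
  refine ⟨siegel B Q (c • ρ u) (ρ v), ?_, ?_⟩
  · apply siegel_mem_commutator R.hQ hQcu (R.sing hv) hBcuv (R.sing hw) (R.sing hw') (R.one hww')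
    · rw [map_smul, R.orth (by rw [pc]; exact (hS u huS).1), smul_zero]
    · exact R.orth (by rw [pc]; exact (hS v hvS).1)
    · rw [map_smul, R.orth (by rw [pc]; exact (hS u huS).2), smul_zero]
    · exact R.orth (by rw [pc]; exact (hS v hvS).2)
  · rintro ⟨μ, hμ⟩
    have hw0 : w ≠ 0 := by
      rintro rfl
      rw [QuadraticMap.polar_zero_left] at hww'
      exact zero_ne_one hww'
    have hv0 : v ≠ 0 := by
      rintro rfl
      rw [QuadraticMap.polar_zero_left] at hvv'
      exact zero_ne_one hvv'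
    -- `w` is fixed
    obtain ⟨w₁, hw₁⟩ := hμ w
    rw [siegel_apply R.hQ hQcu (R.sing hv) hBcuv, map_smul,
      R.orth (by rw [pc]; exact (hS u huS).1), R.orth (by rw [pc]; exact (hS v hvS).1)] at hw₁
    simp only [smul_zero, zero_smul, add_zero, sub_zero] at hw₁
    have hw₁0 : w₁ ≠ 0 := by
      rintro rfl
      rw [R.zero, smul_zero] at hw₁
      exact R.ne_zero hw0 hw₁
    obtain ⟨m, hm⟩ := R.coeff_mem hw₁0 hw₁.symm
    -- the image of `u'`
    obtain ⟨u₁, hu₁⟩ := hμ u'
    rw [siegel_apply R.hQ hQcu (R.sing hv) hBcuv, map_smul, R.one (by rw [pc]; exact huu'),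
      R.orth hu'v] at hu₁
    simp only [smul_eq_mul, mul_one, zero_smul, sub_zero] at hu₁
    have e1 : c • ρ v = ρ (m • u₁ - u') := by
      rw [R.sub, R.smul, ← hm, ← hu₁]
      abel
    obtain ⟨k, hk⟩ := R.coeff_mem hv0 e1
    exact hc (hk ▸ k.2)

end Main

end Cfsg.Agent.Lib.Helper95.OSub
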