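/-
Helper95: the concrete rational structure `a ↦ P *ᵥ a` attached to an invertible matrix `P` on
whose rational span a quadratic form takes values in the subfield.
-/
import Mathlib
import Cfsg.Agent.Lib.Helper95.OSubN
import Cfsg.Agent.Lib.Helper94.OrthBridge
import Cfsg.Agent.Lib.Helper94.SubfieldStd

set_option autoImplicit false
set_option linter.unusedSimpArgs false
set_option linter.unusedSectionVars false
set_option linter.unusedVariables false

namespace Cfsg.Agent.Lib.Helper95.OSub

open LinearMap (BilinForm)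
open Module Matrix
open Cfsg.Agent.Lib.Helper94 Cfsg.Agent.Lib.Helper94.QuadData Cfsg.Agent.Lib.Helper44
open scoped commutatorElement MatrixGroups

variable {ι : Type} [Fintype ι] [DecidableEq ι] {F : Type*} [Field F]
variable (F₀ : Subfield F) (P : GL ι F) {Q : (ι → F) → F}

/-- the rational vectors of the structure `P` -/
def ratP (a : ι → F₀) : ι → F := (P : Matrix ι ι F) *ᵥ ratV F₀ a

lemma ratP_add (a b : ι → F₀) : ratP F₀ P (a + b) = ratP F₀ P a + ratP F₀ P b := by
  unfold ratP
  rw [ratV_add, mulVec_add]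

lemma ratP_smul (c : F₀) (a : ι → F₀) : ratP F₀ P (c • a) = (c : F) • ratP F₀ P a := by
  unfold ratP
  rw [ratV_smul, mulVec_smul]

lemma ratP_inj {a b : ι → F₀} (h : ratP F₀ P a = ratP F₀ P b) : a = b := by
  have h4 : ratV F₀ a = ratV F₀ b := gl_mulVec_inj P h
  funext i
  have := congrFun h4 i
  apply Subtype.ext
  exact this

/-- a vector orthogonal to all rational vectors is zero -/
lemma ratP_sep (hQ : Cfsg.Geo.IsNondegenerateQuadraticForm Q) {x : ι → F}
    (hx : ∀ a : ι → F₀, polarBilin hQ x (ratP F₀ P a) = 0) : x = 0 := by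
  have h2 : (polarBilin hQ x).comp (Matrix.toLin' (P : Matrix ι ι F)) = 0 := by
    apply (Pi.basisFun F ι).ext
    intro j
    have := hx (Pi.single j 1)
    unfold ratP at this
    rw [ratV_single] at this
    rw [LinearMap.comp_apply, Pi.basisFun_apply, Matrix.toLin'_apply, this]
    rfl
  apply nondeg_polarBilin hQ
  intro y
  have := LinearMap.congr_fun h2 (((P⁻¹ : GL ι F) : Matrix ι ι F) *ᵥ y)
  rw [LinearMap.comp_apply, Matrix.toLin'_apply, mulVec_mulVec, ← Units.val_mul,
    mul_inv_cancel, Units.val_one, one_mulVec] at this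
  exact this

variable {F₀ P}

lemma polar_mem (hP : Cfsg.Geo.IsQuadFormRationalStructure Q F₀ P) (a b : ι → F₀) :
    QuadraticMap.polar Q (ratP F₀ P a) (ratP F₀ P b) ∈ F₀ := by
  unfold QuadraticMap.polar
  rw [← ratP_add]
  exact F₀.sub_mem (F₀.sub_mem (hP _ (fun i => ((a + b) i).2)) (hP _ (fun i => (a i).2)))
    (hP _ (fun i => (b i).2))

/-- the polar form on the rational vectors -/
noncomputable def ratBil (hQ : Cfsg.Geo.IsNondegenerateQuadraticForm Q)
    (hP : Cfsg.Geo.IsQuadFormRationalStructure Q F₀ P) : BilinForm F₀ (ι → F₀) :=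
  LinearMap.mk₂ F₀
    (fun a b => (⟨polarBilin hQ (ratP F₀ P a) (ratP F₀ P b), polar_mem hP a b⟩ : F₀))
    (by
      intro a a' b
      apply Subtype.ext
      simp only [ratP_add, map_add, LinearMap.add_apply, Subfield.coe_add])
    (by
      intro c a b
      apply Subtype.ext
      simp only [ratP_smul, map_smul, LinearMap.smul_apply, smul_eq_mul, Subfield.coe_mul])
    (by
      intro a b b'
      apply Subtype.ext
      simp only [ratP_add, map_add, Subfield.coe_add])
    (by
      intro c a b
      apply Subtype.ext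
      simp only [ratP_smul, map_smul, smul_eq_mul, Subfield.coe_mul])

/-- the quadratic form on the rational vectors -/
noncomputable def ratQF (hQ : Cfsg.Geo.IsNondegenerateQuadraticForm Q)
    (hP : Cfsg.Geo.IsQuadFormRationalStructure Q F₀ P) : QuadraticForm F₀ (ι → F₀) where
  toFun := fun a => ⟨Q (ratP F₀ P a), hP _ (fun i => (a i).2)⟩
  toFun_smul := by
    intro c a
    apply Subtype.ext
    simp only [ratP_smul, hQ.smul, smul_eq_mul, Subfield.coe_mul]
    ring
  exists_companion' := ⟨ratBil hQ hP, by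
    intro a b
    apply Subtype.ext
    simp only [ratBil, LinearMap.mk₂_apply, Subfield.coe_add, ratP_add, polarBilin_apply,
      QuadraticMap.polar]
    ring⟩

lemma ratQF_apply (hQ : Cfsg.Geo.IsNondegenerateQuadraticForm Q)
    (hP : Cfsg.Geo.IsQuadFormRationalStructure Q F₀ P) (a : ι → F₀) :
    ((ratQF hQ hP a : F₀) : F) = Q (ratP F₀ P a) := rfl

lemma ratQF_polar (hQ : Cfsg.Geo.IsNondegenerateQuadraticForm Q)
    (hP : Cfsg.Geo.IsQuadFormRationalStructure Q F₀ P) (a b : ι → F₀) :
    ((QuadraticMap.polar (⇑(ratQF hQ hP)) a b : F₀) : F) =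
      polarBilin hQ (ratP F₀ P a) (ratP F₀ P b) := by
  rw [polarBilin_apply]
  unfold QuadraticMap.polar
  simp only [Subfield.coe_sub, ratQF_apply, ratP_add]

lemma ratQF_nondeg (hQ : Cfsg.Geo.IsNondegenerateQuadraticForm Q)
    (hP : Cfsg.Geo.IsQuadFormRationalStructure Q F₀ P) :
    (QuadraticMap.polarBilin (ratQF hQ hP)).Nondegenerate := by
  have key : ∀ a : ι → F₀, (∀ b, QuadraticMap.polar (⇑(ratQF hQ hP)) a b = 0) → a = 0 := by
    intro a ha
    have h1 : ratP F₀ P a = 0 := by
      apply ratP_sep F₀ P hQ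
      intro b
      rw [← ratQF_polar hQ hP, ha b]
      rfl
    apply ratP_inj F₀ P
    rw [h1]
    unfold ratP
    have : ratV F₀ (0 : ι → F₀) = 0 := by funext i; simp [ratV]
    rw [this, mulVec_zero]
  refine ⟨fun a ha => key a ha, fun b hb => key b fun a => ?_⟩
  rw [QuadraticMap.polar_comm]
  exact hb a

/-- **the rational structure attached to `P`** -/
theorem oset_ratP (hQ : Cfsg.Geo.IsNondegenerateQuadraticForm Q)
    (hP : Cfsg.Geo.IsQuadFormRationalStructure Q F₀ P) :
    OSet (polarBilin hQ) Q (ratQF hQ hP) (ratP F₀ P) where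
  hQ := quadData_polarBilin hQ
  nd₀ := ratQF_nondeg hQ hP
  add := ratP_add F₀ P
  smul := ratP_smul F₀ P
  form := fun a b => (ratQF_polar hQ hP a b).symm
  quad := fun a => rfl
  detect := by
    intro w hw
    have hmem : ∀ a, polarBilin hQ w (ratP F₀ P a) ∈ F₀ := by
      intro a
      obtain ⟨t, ht⟩ := hw a
      rw [ht]
      exact t.2
    let φ : (ι → F₀) →ₗ[F₀] F₀ :=
      { toFun := fun a => ⟨polarBilin hQ w (ratP F₀ P a), hmem a⟩
        map_add' := by
          intro a b
          apply Subtype.ext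
          simp only [ratP_add, map_add, Subfield.coe_add]
        map_smul' := by
          intro c a
          apply Subtype.ext
          simp only [ratP_smul, map_smul, smul_eq_mul, Subfield.coe_mul, RingHom.id_apply] }
    have hnd := ratQF_nondeg hQ hP
    obtain ⟨b, hb⟩ : ∃ b : ι → F₀, ∀ a, QuadraticMap.polarBilin (ratQF hQ hP) b a = φ a :=
      ⟨(LinearMap.BilinForm.toDual _ hnd).symm φ, fun a =>
        LinearMap.BilinForm.apply_toDual_symm_apply φ a⟩
    refine ⟨b, ?_⟩
    rw [← sub_eq_zero]
    apply ratP_sep F₀ P hQ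
    intro a
    have h1 := congrArg (fun x : F₀ => (x : F)) (hb a)
    simp only [QuadraticMap.polarBilin_apply_apply] at h1
    rw [ratQF_polar] at h1
    rw [map_sub, LinearMap.sub_apply, h1]
    exact sub_self _

end Cfsg.Agent.Lib.Helper95.OSub
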