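/-
Helper95: the subfield subgroups of `Ω_n(q)`, `n q` odd, are maximal (bridge to the Prelude).
-/
import Mathlib
import Cfsg.Agent.Lib.Helper95.OSubP
import Cfsg.Agent.Lib.Helper94.MaxSingularBridge
import Cfsg.Agent.Lib.Helper94.OmegaSubBridge

set_option autoImplicit false
set_option linter.unusedSimpArgs false
set_option linter.unusedSectionVars false
set_option linter.unusedVariables false

namespace Cfsg.Agent.Lib.Helper95.OSub

open LinearMap (BilinForm)
open Module Matrix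
open Cfsg.Agent.Lib.Helper94 Cfsg.Agent.Lib.Helper94.QuadData Cfsg.Agent.Lib.Helper44
open scoped commutatorElement MatrixGroups

variable {ι : Type} [Fintype ι] [DecidableEq ι] {F : Type*} [Field F]
variable {F₀ : Subfield F} {P : GL ι F} {Q : (ι → F) → F}

lemma conj_mulVec (P y : GL ι F) (v : ι → F) :
    ((P * y * P⁻¹ : GL ι F) : Matrix ι ι F) *ᵥ ((P : Matrix ι ι F) *ᵥ v) =
      (P : Matrix ι ι F) *ᵥ ((y : Matrix ι ι F) *ᵥ v) := by
  rw [mulVec_mulVec, mulVec_mulVec, ← Units.val_mul, ← Units.val_mul]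
  congr 2
  group

/-- membership in the subfield group in terms of the action on the rational vectors -/
lemma mem_subfield_iff [Finite F] [Nonempty ι] (g : (ι → F) ≃ₗ[F] (ι → F)) :
    (glEquiv ι F).symm g ∈ Cfsg.Geo.subfieldSubgroup F₀ P ↔ RatU (ratP F₀ P) g := by
  rw [subfieldSubgroup_eq_map]
  constructor
  · rintro ⟨y, hy, hyx⟩
    obtain ⟨A, μ, hA⟩ := action_of_mem_std F₀ y hy
    refine ⟨μ, fun a => ⟨(A : Matrix ι ι F₀) *ᵥ a, ?_⟩⟩
    have hx : (glEquiv ι F).symm g = P * y * P⁻¹ := hyx.symm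
    unfold ratP
    rw [← glEquiv_symm_mulVec g, hx, conj_mulVec, hA a, mulVec_smul]
  · rintro ⟨μ, hμ⟩
    obtain ⟨x, hx⟩ : ∃ x, x = (glEquiv ι F).symm g := ⟨_, rfl⟩
    rw [← hx]
    have hy : P⁻¹ * x * P ∈ Cfsg.Geo.subfieldSubgroup F₀ (1 : GL ι F) := by
      apply mem_std_of_proprat F₀
      intro a
      obtain ⟨a', ha'⟩ := hμ a
      refine ⟨μ, a', ?_⟩
      have e1 : (x : Matrix ι ι F) *ᵥ ((P : Matrix ι ι F) *ᵥ ratV F₀ a) =
          μ • ((P : Matrix ι ι F) *ᵥ ratV F₀ a') := by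
        rw [hx, glEquiv_symm_mulVec]
        exact ha'
      have e2 : ((P⁻¹ * x * P : GL ι F) : Matrix ι ι F) *ᵥ ratV F₀ a =
          ((P⁻¹ : GL ι F) : Matrix ι ι F) *ᵥ ((x : Matrix ι ι F) *ᵥ
            ((P : Matrix ι ι F) *ᵥ ratV F₀ a)) := by
        rw [mulVec_mulVec, mulVec_mulVec, ← Units.val_mul, ← Units.val_mul, mul_assoc]
      rw [e2, e1, mulVec_smul, mulVec_mulVec, ← Units.val_mul, inv_mul_cancel, Units.val_one,
        one_mulVec]
    refine ⟨P⁻¹ * x * P, hy, ?_⟩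
    show P * (P⁻¹ * x * P) * P⁻¹ = x
    group

/-- elements of a commutator subgroup of `GL` have determinant one -/
lemma det_eq_one_of_mem_commutator (H : Subgroup (GL ι F)) {x : GL ι F} (hx : x ∈ ⁅H, H⁆) :
    (x : Matrix ι ι F).det = 1 := by
  have h1 : ⁅H, H⁆ ≤ (Matrix.GeneralLinearGroup.det (n := ι) (R := F)).ker := by
    rw [Subgroup.commutator_le]
    intro a _ b _
    rw [MonoidHom.mem_ker, map_commutatorElement]
    exact commutatorElement_eq_one_iff_commute.2 (Commute.all _ _)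
  have h2 := h1 hx
  rw [MonoidHom.mem_ker] at h2
  have h3 := congrArg Units.val h2
  exact h3

/-- **rational involutions of `Ω` in odd dimension map rational vectors to rational vectors** -/
lemma rat1_of_ratU [Fintype F] [Nonempty ι] (hQ : Cfsg.Geo.IsNondegenerateQuadraticForm Q)
    (hP : Cfsg.Geo.IsQuadFormRationalStructure Q F₀ P) (h13 : 13 ≤ Fintype.card ι)
    (hodd : Odd (Fintype.card ι)) {z : (ι → F) ≃ₗ[F] (ι → F)}
    (hz : z ∈ ⁅OG Q, OG Q⁆) (hr : RatU (ratP F₀ P) z) : Rat1 (ratP F₀ P) z := by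
  have R := oset_ratP hQ hP
  have hzO : z ∈ OG Q := commutator_le_OG hz
  obtain ⟨x, hx⟩ : ∃ x, x = (glEquiv ι F).symm z := ⟨_, rfl⟩
  have hxΩ : x ∈ Cfsg.Geo.omegaGL Q := by
    rw [← map_omegaGL] at hz
    obtain ⟨x', hx', hx'z⟩ := hz
    have : x = x' := by
      rw [hx, ← hx'z]
      exact (glEquiv ι F).symm_apply_apply x'
    rw [this]
    exact hx'
  have hdet : (x : Matrix ι ι F).det = 1 := by
    rw [omegaGL_eq] at hxΩ
    exact det_eq_one_of_mem_commutator _ hxΩ
  have hxs : x ∈ Cfsg.Geo.subfieldSubgroup F₀ P := by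
    rw [hx]
    exact (mem_subfield_iff z).2 hr
  rw [subfieldSubgroup_eq_map] at hxs
  obtain ⟨y, hy, hyx⟩ := hxs
  have hxy : x = P * y * P⁻¹ := hyx.symm
  obtain ⟨A, ν, hA⟩ := (mem_std_iff F₀ y).1 hy
  have hact : ∀ a : ι → F₀, z (ratP F₀ P a) = (ν : F) • ratP F₀ P ((A : Matrix ι ι F₀) *ᵥ a) := by
    intro a
    unfold ratP
    rw [← glEquiv_symm_mulVec z, ← hx, hxy, conj_mulVec, hA, smul_mulVec, ← ratV_mulVec,
      mulVec_smul]
  -- the determinant
  have hdety : (y : Matrix ι ι F).det = 1 := by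
    have h1 : (x : Matrix ι ι F).det = (y : Matrix ι ι F).det := by
      rw [hxy, Units.val_mul, Units.val_mul, det_mul, det_mul, mul_comm, ← mul_assoc,
        ← det_mul, ← Units.val_mul, inv_mul_cancel, Units.val_one, det_one, one_mul]
    rw [← h1, hdet]
  have hν0 : (ν : F) ≠ 0 := ν.ne_zero
  have hn : (ν : F) ^ Fintype.card ι ∈ F₀ := by
    rw [hA, det_smul] at hdety
    have h1 : ((A : Matrix ι ι F₀).map F₀.subtype).det = ((A : Matrix ι ι F₀).det : F) := by
      have := RingHom.map_det F₀.subtype (A : Matrix ι ι F₀)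
      exact this.symm
    rw [h1] at hdety
    have h2 : ((A : Matrix ι ι F₀).det : F) ≠ 0 := by
      intro h0
      rw [h0, mul_zero] at hdety
      exact zero_ne_one hdety
    have h3 : (ν : F) ^ Fintype.card ι = (((A : Matrix ι ι F₀).det)⁻¹ : F₀) := by
      rw [Subfield.coe_inv]
      field_simp
      exact hdety
    rw [h3]
    exact ((A : Matrix ι ι F₀).det)⁻¹.2
  -- the square
  have h13' : 13 ≤ finrank F₀ (ι → F₀) := by
    rw [Module.finrank_fintype_fun_eq_card]; exact h13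
  have hsq : (ν : F) ^ 2 ∈ F₀ := by
    have : Finite F₀ := Finite.of_injective (fun x : F₀ => (x : F)) Subtype.val_injective
    obtain ⟨e, f, -, -, h1, -⟩ := exists_hyp2 (ratQF hQ hP) R.nd₀ h13' ⊥
      (by rw [finrank_bot]; norm_num)
    obtain ⟨he, hf, hef, -⟩ := h1
    have hQa : ratQF hQ hP (e + f) = 1 := by
      rw [QuadraticMap.map_add (⇑(ratQF hQ hP)), he, hf, hef]; simp
    have e1 := hzO (ratP F₀ P (e + f))
    rw [hact, (quadData_polarBilin hQ).smul, R.quad, R.quad, hQa] at e1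
    have h2 : ((ratQF hQ hP ((A : Matrix ι ι F₀) *ᵥ (e + f)) : F₀) : F) ≠ 0 := by
      intro h0
      rw [h0, mul_zero] at e1
      simp at e1
    have h3 : (ν : F) ^ 2 = (((ratQF hQ hP ((A : Matrix ι ι F₀) *ᵥ (e + f)))⁻¹ : F₀) : F) := by
      rw [Subfield.coe_inv]
      field_simp
      rw [e1]
      simp
    rw [h3]
    exact (ratQF hQ hP ((A : Matrix ι ι F₀) *ᵥ (e + f)))⁻¹.2
  have hν : (ν : F) ∈ F₀ := by
    obtain ⟨k, hk⟩ := hodd
    have h1 : (ν : F) = (ν : F) ^ Fintype.card ι * (((ν : F) ^ 2) ^ k)⁻¹ := by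
      rw [hk, pow_succ, pow_mul]
      field_simp
    rw [h1]
    exact F₀.mul_mem hn (F₀.inv_mem (F₀.pow_mem hsq k))
  intro a
  refine ⟨(⟨(ν : F), hν⟩ : F₀) • ((A : Matrix ι ι F₀) *ᵥ a), ?_⟩
  rw [hact, ratP_smul]

/-- **Maximality of the subfield subgroups of `Ω_n(q)`, `n q` odd, `n ≥ 13`.** -/
theorem subfield_isMaximalIn_odd [Fintype F] (hQ : Cfsg.Geo.IsNondegenerateQuadraticForm Q)
    (h2 : (2 : F) ≠ 0) (h13 : 13 ≤ Fintype.card ι) (hodd : Odd (Fintype.card ι))
    (F₀ : Subfield F) (r : ℕ) (hr : r.Prime) (hcard : Fintype.card F = Nat.card F₀ ^ r)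
    (P : GL ι F) (hP : Cfsg.Geo.IsQuadFormRationalStructure Q F₀ P) :
    Cfsg.Geo.IsMaximalIn (Cfsg.Geo.omegaGL Q)
      (Cfsg.Geo.subfieldSubgroup F₀ P ⊓ Cfsg.Geo.omegaGL Q) := by
  classical
  have : Nonempty ι := by
    rw [← Fintype.card_pos_iff]; omega
  haveI : Fintype F₀ := Fintype.ofFinite F₀
  have R := oset_ratP hQ hP
  apply isMaximalIn_of_map (glEquiv ι F)
  rw [map_inf_equiv, map_omegaGL]
  have hHs : ∀ g : (ι → F) ≃ₗ[F] (ι → F),
      g ∈ (Cfsg.Geo.subfieldSubgroup F₀ P).map (glEquiv ι F).toMonoidHom ↔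
        RatU (ratP F₀ P) g := by
    intro g
    rw [Subgroup.mem_map_equiv]
    exact mem_subfield_iff g
  have : Finite ((ι → F) ≃ₗ[F] (ι → F)) :=
    Finite.of_injective (fun g : (ι → F) ≃ₗ[F] (ι → F) => (g : (ι → F) → (ι → F)))
      DFunLike.coe_injective
  have h13' : 13 ≤ finrank F₀ (ι → F₀) := by
    rw [Module.finrank_fintype_fun_eq_card]; exact h13
  have hdim : finrank F (ι → F) = finrank F₀ (ι → F₀) := by
    rw [Module.finrank_fintype_fun_eq_card, Module.finrank_fintype_fun_eq_card]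
  have hInv : ∀ z ∈ ⁅OG Q, OG Q⁆, RatU (ratP F₀ P) z → z * z = 1 → Rat1 (ratP F₀ P) z :=
    fun z hz hr' _ => rat1_of_ratU hQ hP h13 hodd hz hr'
  -- the degree of the extension
  have hfr : Module.finrank F₀ F = r := by
    have h1 : Fintype.card F = Fintype.card F₀ ^ Module.finrank F₀ F := Module.card_eq_pow_finrank
    rw [Nat.card_eq_fintype_card] at hcard
    rw [hcard] at h1
    have h2' : 2 ≤ Fintype.card F₀ := Fintype.one_lt_card
    exact (Nat.pow_right_injective h2' h1).symm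
  have : IsSimpleOrder (IntermediateField F₀ F) :=
    IntermediateField.isSimpleOrder_of_finrank_prime F₀ F (by rw [hfr]; exact hr)
  have hprime : ∀ S : Subfield F, F₀ ≤ S → S = F₀ ∨ S = ⊤ := by
    intro S hS
    let SI : IntermediateField F₀ F := Subfield.toIntermediateField S (fun x => hS x.2)
    rcases eq_bot_or_eq_top SI with h | h
    · left
      apply le_antisymm _ hS
      intro c hc
      have : c ∈ SI := hc
      rw [h, IntermediateField.mem_bot] at this
      obtain ⟨x, rfl⟩ := this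
      exact x.2
    · right
      rw [eq_top_iff]
      intro c _
      have : c ∈ SI := by rw [h]; trivial
      exact this
  have hne : ∃ c : F, c ∉ F₀ := by
    by_contra hcon
    push Not at hcon
    have h1 : Fintype.card F₀ = Fintype.card F :=
      Fintype.card_of_bijective (f := fun x : F₀ => (x : F))
        ⟨Subtype.val_injective, fun c => ⟨⟨c, hcon c⟩, rfl⟩⟩
    rw [Nat.card_eq_fintype_card, h1] at hcard
    have h3 : 2 ≤ Fintype.card F := Fintype.one_lt_card
    have h4 : Fintype.card F ^ 1 = Fintype.card F ^ r := by rw [pow_one]; exact hcard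
    have h5 := Nat.pow_right_injective h3 h4
    rw [← h5] at hr
    exact Nat.not_prime_one hr
  constructor
  · refine lt_of_le_of_ne inf_le_right ?_
    intro heq
    obtain ⟨g, hg, hng⟩ := exists_not_ratU R h13' hne
    rw [← heq] at hg
    exact hng ((hHs g).1 hg.1)
  · intro M hHM hMΩ
    have hOver : Over Q (ratP F₀ P) M := ⟨hMΩ, fun g hg hr' => hHM ⟨(hHs g).2 hr', hg⟩⟩
    rcases overgroup_dichotomy R h13' hOver h2 hdim hInv hprime with h | h
    · left
      exact le_antisymm (fun g hg => ⟨(hHs g).2 (h g hg), hMΩ hg⟩) hHM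
    · right
      exact le_antisymm hMΩ h

end Cfsg.Agent.Lib.Helper95.OSub
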