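import Mathlib
import Cfsg.Prelude.Def_Amalgam
import Cfsg.Agent.Lib.Helper68.AmalBDefs
import Cfsg.Agent.Lib.Helper68.AmalBTools
import Cfsg.Agent.Lib.Helper19.AmalBP2a
import Cfsg.Agent.Lib.Helper19.AmalBP2b
import Cfsg.Agent.Lib.Helper19.AmalBP2c

/-!
# S2751, case (B), `b = 2` (helper68's sheet `AmalBSHEET.md`): module GSB-[B2-K1] (helper95)

`b2_card_Zb_of`: `|Z_y| = 2` for every β-type vertex `y`.  `_of` form: the definition `AllCrit2`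
(unfolded, `hall`) and [P3] `Za_le_Qb` (`hQb`) enter as hypotheses; the exact sheet statement
`b2_card_Zb` is the one-line instance in `AmalBB2Exact.lean`.

`x₁, x₂ ~ y`, `x₁ ≠ x₂`.  `Y := Z_{x₁} ∩ Q_{x₂}` has index `≤ 2` in `Z_{x₁}` (`Z_{x₁} ≤ Q_y ≤ T_{x₂ y}`,
`|T_{x₂ y} : Q_{x₂}| = 2`).  Pick `a ∈ Z_{x₂} ∖ Q_{x₁}` (`AllCrit2`); `a ∈ T_{x₁ y} ∖ Q_{x₁}` centralizes
`Y ≤ Q_{x₂}`, so `Y ≤ C_{Z_{x₁}}(a) ≤ Z_y` (`Za_fix_le`).  Hence `|Z_y|² = |Z_{x₁}| ≤ 2 |Z_y|`.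
-/

set_option autoImplicit false

namespace Cfsg.Agent.Lib.Helper68.AmalB.H95

open Cfsg Cfsg.Agent.Lib.Helper12.Amal Cfsg.Agent.Lib.Helper68.AmalD Cfsg.Agent.Lib.Helper68.AmalW
  Cfsg.Agent.Lib.Helper68.AmalB

variable {G : Type*} [Group G] {P₁ P₂ : Subgroup G}

/-- if `A, Q ≤ T` and `|T| = 2 |Q|` then `|A| ≤ 2 |A ∩ Q|` -/
theorem h95_card_le_two_mul_inf {A Q T : Subgroup G} (hA : A ≤ T) (hQ : Q ≤ T)
    (hT : Nat.card ↥T = 2 * Nat.card ↥Q) (hpos : 0 < Nat.card ↥Q) :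
    Nat.card ↥A ≤ 2 * Nat.card ↥(A ⊓ Q) := by
  have h1 : Nat.card ↥Q * Q.relIndex T = Nat.card ↥T := by
    have := Subgroup.relIndex_mul_relIndex ⊥ Q T bot_le hQ
    rwa [Subgroup.relIndex_bot_left, Subgroup.relIndex_bot_left] at this
  have hidx : Q.relIndex T = 2 := by
    have : Nat.card ↥Q * Q.relIndex T = Nat.card ↥Q * 2 := by
      rw [h1, hT, mul_comm]
    exact Nat.eq_of_mul_eq_mul_left hpos this
  have hle : Q.relIndex A ≤ 2 := by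
    rw [← hidx]
    exact Subgroup.relIndex_le_of_le_right hA (by rw [hidx]; norm_num)
  have hDa : Nat.card ↥(A ⊓ Q) * Q.relIndex A = Nat.card ↥A := by
    have := Subgroup.relIndex_mul_relIndex ⊥ (A ⊓ Q) A bot_le inf_le_left
    rw [Subgroup.relIndex_bot_left, Subgroup.relIndex_bot_left] at this
    rwa [inf_comm, Subgroup.inf_relIndex_right, inf_comm] at this
  rw [← hDa, mul_comm]
  exact Nat.mul_le_mul_right _ hle

/-- **[B2-K1]**, `_of` form: `AllCrit2` unfolded (`hall`), [P3] `Za_le_Qb` as the hypothesis `hQb` -/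
theorem b2_card_Zb_of (hB : BaseB P₁ P₂)
    (hQb : ∀ x y : CosetVertex P₁ P₂, (cosetGraph P₁ P₂).Adj x y → IsB y → Zv x ≤ Qv y)
    (hall : ∀ x y x' : CosetVertex P₁ P₂, ¬ IsB x → (cosetGraph P₁ P₂).Adj x y →
      (cosetGraph P₁ P₂).Adj y x' → x' ≠ x → ¬ Zv x' ≤ Qv x)
    {y : CosetVertex P₁ P₂} (hy : IsB y) : Nat.card ↥(Zv y) = 2 := by
  have hW := hB.W
  -- two neighbours of `y`
  have h3 := hW.card_nbr y
  obtain ⟨x₁, hx₁, -⟩ := Set.exists_ne_of_one_lt_ncard (by omega :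
    1 < ((cosetGraph P₁ P₂).neighborSet y).ncard) y
  obtain ⟨x₂, hx₂, hne⟩ := Set.exists_ne_of_one_lt_ncard (by omega :
    1 < ((cosetGraph P₁ P₂).neighborSet y).ncard) x₁
  have hyx₁ : (cosetGraph P₁ P₂).Adj y x₁ := hx₁
  have hyx₂ : (cosetGraph P₁ P₂).Adj y x₂ := hx₂
  have ha₁ : ¬ IsB x₁ := (hB.adj_type y x₁ hyx₁).1 hy
  -- finiteness
  have hfinG : Finite ↥(Gv y) := hW.fin y
  have hZG : Zv y ≤ Gv y := le_trans (hW.Z_le_Q y) (Q_le_G hW y)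
  have hfinZ : Finite ↥(Zv y) :=
    Finite.of_injective (Subgroup.inclusion hZG) (Subgroup.inclusion_injective _)
  have hfinG₂ : Finite ↥(Gv x₂) := hW.fin x₂
  have hfinQ₂ : Finite ↥(Qv x₂) :=
    Finite.of_injective (Subgroup.inclusion (Q_le_G hW x₂)) (Subgroup.inclusion_injective _)
  -- `a ∈ Z_{x₂} ∖ Q_{x₁}`
  obtain ⟨a, haZ, haQ⟩ := SetLike.not_le_iff_exists.1 (hall x₁ y x₂ ha₁ hyx₁.symm hyx₂ hne)
  have haT : a ∈ Gv x₁ ⊓ Gv y := Q_le_T' hW hyx₁.symm (hQb x₂ y hyx₂.symm hy haZ)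
  -- `Y ≤ Z_y`
  have hY : Zv x₁ ⊓ Qv x₂ ≤ Zv y := by
    intro z hz
    have hc : a * z = z * a := (Q_comm_Z hW hz.2 haZ).symm
    exact Za_fix_le hB hyx₁.symm hy haT haQ hz.1 hc
  -- `|Z_{x₁}| ≤ 2 |Y|`
  have hZT : Zv x₁ ≤ Gv x₂ ⊓ Gv y := le_trans (hQb x₁ y hyx₁.symm hy) (Q_le_T' hW hyx₂.symm)
  have hcard := h95_card_le_two_mul_inf hZT (Q_le_T hW hyx₂.symm) (hW.card_T x₂ y hyx₂.symm)
    Nat.card_pos
  have hYc : Nat.card ↥(Zv x₁ ⊓ Qv x₂) ≤ Nat.card ↥(Zv y) := Subgroup.card_le_of_le hY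
  have hsq := Za_card hB ha₁ hyx₁.symm
  have hpos : 0 < Nat.card ↥(Zv y) := Nat.card_pos
  have hne1 : Nat.card ↥(Zv y) ≠ 1 := by
    intro h1
    exact hB.ne_bot y (Subgroup.card_eq_one.1 h1)
  have hle2 : Nat.card ↥(Zv y) ≤ 2 := by
    have : Nat.card ↥(Zv y) * Nat.card ↥(Zv y) ≤ 2 * Nat.card ↥(Zv y) := by
      rw [← hsq]
      omega
    exact Nat.le_of_mul_le_mul_right this hpos
  omega

end Cfsg.Agent.Lib.Helper68.AmalB.H95
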