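import Mathlib
import Cfsg.Prelude.Def_GeometricClasses
import Cfsg.Agent.Lib.Helper99.AschDefs
import Cfsg.Agent.Lib.Helper5.AschODefs
import Cfsg.Agent.Lib.Helper5.AschOBasic
import Cfsg.Agent.Lib.Helper81.AschOFrame3

set_option autoImplicit false

namespace Cfsg.Agent.Lib.Helper95.AschO2R2A3

open Cfsg Cfsg.Geo Cfsg.Agent.Lib.Helper99.Asch Cfsg.Agent.Lib.Helper5.AschO
open scoped MatrixGroups Matrix

variable {ι : Type} [Fintype ι] [DecidableEq ι] {F : Type*} [Field F]

set_option linter.unusedSectionVars false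

/-- the polar form of an isometry-invariant `Q` is invariant -/
theorem polar_map_of_mem {Q : (ι → F) → F} {g : GL ι F} (hg : g ∈ isometryGroup F Q)
    (x y : ι → F) :
    QuadraticMap.polar Q ((g : Matrix ι ι F) *ᵥ x) ((g : Matrix ι ι F) *ᵥ y) =
      QuadraticMap.polar Q x y := by
  have h := (mem_isometryGroup_iff g).1 hg
  have := polar_map_of_similarity (Q := Q) (g : Matrix ι ι F) 1
    (fun v => by rw [h v, one_mul]) x y
  rw [this, one_mul]

/-- An orthogonal family of vectors with non-zero `Q`-value is linearly independent. -/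
theorem linearIndependent_of_frame {Q : (ι → F) → F} (hQ : IsNondegenerateQuadraticForm Q)
    (h2 : (2 : F) ≠ 0) {m : ℕ} (u : Fin m → (ι → F)) (c : F) (hc : c ≠ 0)
    (hQu : ∀ i, Q (u i) = c)
    (horth : ∀ i j, i ≠ j → QuadraticMap.polar Q (u i) (u j) = 0) : LinearIndependent F u := by
  rw [Fintype.linearIndependent_iff]
  intro g hg j
  have h1 : QuadraticMap.polar Q (∑ i, g i • u i) (u j) = g j * (2 * c) := by
    rw [polar_eq_dotProduct hQ, sum_dotProduct, Finset.sum_eq_single j]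
    · rw [smul_dotProduct, ← polar_eq_dotProduct hQ, polar_self hQ, hQu, smul_eq_mul]
    · intro i _ hij
      rw [smul_dotProduct, ← polar_eq_dotProduct hQ, horth i j hij, smul_zero]
    · intro hj; exact absurd (Finset.mem_univ j) hj
  rw [hg] at h1
  have h0 : QuadraticMap.polar Q (0 : ι → F) (u j) = 0 := by
    rw [polar_eq_dotProduct hQ, zero_dotProduct]
  rw [h0] at h1
  rcases mul_eq_zero.1 h1.symm with h | h
  · exact h
  · exact absurd h (mul_ne_zero h2 hc)

/-- Lemma C: a signed frame gives a decomposition into isometric lines, stabilised by every isometry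
permuting the frame up to sign. -/
theorem lines_of_signed_frame {Q : (ι → F) → F} (hQ : IsNondegenerateQuadraticForm Q)
    (h2 : (2 : F) ≠ 0) {N : ℕ} (hN : 2 ≤ N) (hcard : N = Fintype.card ι) (u : Fin N → (ι → F))
    (c : F) (hc : c ≠ 0) (hQu : ∀ i, Q (u i) = c)
    (horth : ∀ i j, i ≠ j → QuadraticMap.polar Q (u i) (u j) = 0) :
    IsOrthogonalMDecomposition Q 1 (fun i => Submodule.span F {u i}) ∧
      ∀ g ∈ isometryGroup F Q, (∀ i, ∃ j, (g : Matrix ι ι F) *ᵥ u i = u j ∨
        (g : Matrix ι ι F) *ᵥ u i = - u j) →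
        g ∈ decompositionStabilizer (fun i => Submodule.span F {u i}) := by
  classical
  have hbil := hQ.polar_bilinear
  have h2c : (2 : F) * c ≠ 0 := mul_ne_zero h2 hc
  have hli : LinearIndependent F u := linearIndependent_of_frame hQ h2 u c hc hQu horth
  have hne : ∀ i, u i ≠ 0 := fun i => hli.ne_zero i
  have hself : ∀ i, QuadraticMap.polar Q (u i) (u i) = 2 * c := fun i => by
    rw [polar_self hQ, hQu]
  have hmem : ∀ i (w : ι → F), w ∈ Submodule.span F {u i} ↔ ∃ r : F, r • u i = w := fun i w =>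
    Submodule.mem_span_singleton
  have hdec : IsMDecomposition 1 (fun i => Submodule.span F {u i}) := by
    refine ⟨hN, Nat.one_pos, fun i => finrank_span_singleton (hne i),
      hli.iSupIndep_span_singleton, ?_⟩
    show (⨆ i, Submodule.span F {u i}) = ⊤
    rw [← Submodule.span_range_eq_iSup]
    apply hli.span_eq_top_of_card_eq_finrank'
    simp [hcard]
  have hnd : IsNondegenerateMDecomposition (QuadraticMap.polar Q) 1
      (fun i => Submodule.span F {u i}) := by
    refine ⟨hdec, ?_, ?_⟩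
    · intro i w hw hw0
      obtain ⟨r, rfl⟩ := (hmem i w).1 hw
      have hr : r ≠ 0 := by
        rintro rfl
        exact hw0 (zero_smul _ _)
      refine ⟨⟨u i, Submodule.mem_span_singleton_self _, ?_⟩,
        ⟨u i, Submodule.mem_span_singleton_self _, ?_⟩⟩
      · rw [hbil.smul_right, hself]
        exact mul_ne_zero hr h2c
      · rw [hbil.smul_left, hself]
        exact mul_ne_zero hr h2c
    · intro i j hij a ha b hb
      obtain ⟨r, rfl⟩ := (hmem i a).1 ha
      obtain ⟨s, rfl⟩ := (hmem j b).1 hb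
      rw [hbil.smul_left, hbil.smul_right, horth i j hij, mul_zero, mul_zero]
  have hiso : ∀ i j, AreIsometricFor Q (Submodule.span F {u i}) (Submodule.span F {u j}) := by
    intro i j
    let ei := LinearEquiv.toSpanNonzeroSingleton F (ι → F) (u i) (hne i)
    let ej := LinearEquiv.toSpanNonzeroSingleton F (ι → F) (u j) (hne j)
    refine ⟨ei.symm.trans ej, fun w => ?_⟩
    have h1 : (w : ι → F) = ei.symm w • u i :=
      (LinearEquiv.toSpanNonzeroSingleton_symm_apply_smul F (ι → F) (u i) (hne i) w).symm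
    have h3 : (((ei.symm.trans ej) w : Submodule.span F {u j}) : ι → F) = ei.symm w • u j := rfl
    rw [h3, h1, hQ.smul, hQ.smul, hQu, hQu]
  refine ⟨⟨hnd, hiso⟩, ?_⟩
  intro h hh hperm
  choose s hs using hperm
  have hinj : Function.Injective s := by
    intro i i' hii
    by_contra hne'
    have h0 := polar_map_of_mem hh (u i) (u i')
    rw [horth i i' hne'] at h0
    have hval : ∀ a b : F, (a = 1 ∨ a = -1) → (b = 1 ∨ b = -1) →
        QuadraticMap.polar Q (a • u (s i)) (b • u (s i)) ≠ 0 := by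
      intro a b ha hb
      rw [hbil.smul_left, hbil.smul_right, hself]
      rcases ha with rfl | rfl <;> rcases hb with rfl | rfl <;> simpa using h2c
    have e1 : ∃ a : F, (a = 1 ∨ a = -1) ∧ (h : Matrix ι ι F) *ᵥ u i = a • u (s i) := by
      rcases hs i with h1 | h1
      · exact ⟨1, Or.inl rfl, by rw [h1, one_smul]⟩
      · exact ⟨-1, Or.inr rfl, by rw [h1, neg_one_smul]⟩
    have e2 : ∃ b : F, (b = 1 ∨ b = -1) ∧ (h : Matrix ι ι F) *ᵥ u i' = b • u (s i) := by
      rcases hs i' with h1 | h1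
      · exact ⟨1, Or.inl rfl, by rw [h1, one_smul, hii]⟩
      · exact ⟨-1, Or.inr rfl, by rw [h1, neg_one_smul, hii]⟩
    obtain ⟨a, ha, hau⟩ := e1
    obtain ⟨b, hb, hbu⟩ := e2
    rw [hau, hbu] at h0
    exact hval a b ha hb h0
  refine ⟨Equiv.ofBijective s (Finite.injective_iff_bijective.1 hinj), fun i => ?_⟩
  show (Submodule.span F {u i}).map (Matrix.toLin' (h : Matrix ι ι F)) =
    Submodule.span F {u (s i)}
  rw [Submodule.map_span, Set.image_singleton, Matrix.toLin'_apply]
  rcases hs i with h1 | h1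
  · rw [h1]
  · rw [h1, ← neg_one_smul F (u (s i))]
    exact Submodule.span_singleton_smul_eq (isUnit_one.neg) _

/-- Lemma A: a non-degenerate 3-space over `F₃` has a frame `±u₀, ±u₁, ±u₂` which is exactly the set of
its vectors of one `Q`-value `c`. -/
theorem exists_block_frame [Fintype F] {Q : (ι → F) → F} (hQ : IsNondegenerateQuadraticForm Q)
    (hF : Fintype.card F = 3)
    (W : Submodule F (ι → F)) (hdim : Module.finrank F W = 3)
    (hW : IsNondegenerateOn (QuadraticMap.polar Q) W) :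
    ∃ (u : Fin 3 → (ι → F)) (c : F), c ≠ 0 ∧ (∀ j, u j ∈ W) ∧ (∀ j, Q (u j) = c) ∧
      (∀ j j', j ≠ j' → QuadraticMap.polar Q (u j) (u j') = 0) ∧
      ∀ x ∈ W, Q x = c → ∃ j, x = u j ∨ x = - u j := by
  classical
  have h2 : (2 : F) ≠ 0 := by
    rw [Cfsg.Agent.Lib.Helper81.AschOFrame3.two_eq_neg_one hF]; simp
  have hbil := hQ.polar_bilinear
  let b : Module.Basis (Fin 3) F W := Module.finBasisOfFinrankEq F W hdim
  let L : (Fin 3 → F) →ₗ[F] (ι → F) := W.subtype ∘ₗ (b.equivFun.symm : (Fin 3 → F) ≃ₗ[F] W).toLinearMap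
  have hLmem : ∀ x, L x ∈ W := fun x => (b.equivFun.symm x).2
  have hLinj : Function.Injective L := by
    intro x y hxy
    have : b.equivFun.symm x = b.equivFun.symm y := Subtype.ext hxy
    exact b.equivFun.symm.injective this
  have hLsurj : ∀ w ∈ W, ∃ y, L y = w := by
    intro w hw
    refine ⟨b.equivFun ⟨w, hw⟩, ?_⟩
    show ((b.equivFun.symm (b.equivFun ⟨w, hw⟩) : W) : ι → F) = w
    rw [LinearEquiv.symm_apply_apply]
  let f₀ : (Fin 3 → F) → (Fin 3 → F) → F := fun x y => QuadraticMap.polar Q (L x) (L y)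
  have hf₀ : IsSymmetricForm f₀ := by
    refine ⟨⟨?_, ?_, ?_, ?_⟩, ?_, ?_⟩
    · intro x y v
      show QuadraticMap.polar Q (L (x + y)) (L v) = _
      rw [map_add, hbil.add_left]
    · intro a x v
      show QuadraticMap.polar Q (L (a • x)) (L v) = _
      rw [map_smul, hbil.smul_left]
    · intro v x y
      show QuadraticMap.polar Q (L v) (L (x + y)) = _
      rw [map_add, hbil.add_right]
    · intro a v x
      show QuadraticMap.polar Q (L v) (L (a • x)) = _
      rw [map_smul, hbil.smul_right]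
    · intro x y
      exact QuadraticMap.polar_comm Q _ _
    · intro v hv
      have hLv : L v ≠ 0 := by
        intro h0
        apply hv
        apply hLinj
        rw [h0, map_zero]
      obtain ⟨⟨x, hx, hx1⟩, ⟨y, hy, hy1⟩⟩ := hW (L v) (hLmem v) hLv
      obtain ⟨x', rfl⟩ := hLsurj x hx
      obtain ⟨y', rfl⟩ := hLsurj y hy
      exact ⟨⟨x', hx1⟩, ⟨y', hy1⟩⟩
  obtain ⟨v, c₀, hc₀, hli, hvv, horth, -⟩ := exists_frame_three hF f₀ hf₀
  have hQL : ∀ y, Q (L y) = f₀ y y / 2 := fun y => Q_eq_half_polar hQ h2 (L y)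
  refine ⟨fun j => L (v j), c₀ / 2, div_ne_zero hc₀ h2, fun j => hLmem _, ?_, ?_, ?_⟩
  · intro j
    rw [hQL, hvv]
  · intro j j' hjj
    exact horth j j' hjj
  · intro x hx hQx
    obtain ⟨y, rfl⟩ := hLsurj x hx
    have hyy : f₀ y y = c₀ := by
      have := hQL y
      rw [hQx] at this
      field_simp at this
      exact this.symm
    let bv := basisOfLinearIndependentOfCardEqFinrank hli (by simp)
    have hbv : ∀ i, bv i = v i := by
      intro i; simp [bv]
    have hA : y = bv.repr y 0 • v 0 + bv.repr y 1 • v 1 + bv.repr y 2 • v 2 := by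
      conv_lhs => rw [← bv.sum_repr y]
      rw [Fin.sum_univ_three]
      simp only [hbv]
    have o01 := horth 0 1 (by decide)
    have o10 := horth 1 0 (by decide)
    have o02 := horth 0 2 (by decide)
    have o20 := horth 2 0 (by decide)
    have o12 := horth 1 2 (by decide)
    have o21 := horth 2 1 (by decide)
    have hf := hf₀.bilinear
    have key : f₀ y y = (bv.repr y 0 ^ 2 + bv.repr y 1 ^ 2 + bv.repr y 2 ^ 2) * c₀ := by
      conv_lhs => rw [hA]
      simp only [hf.add_left, hf.add_right, hf.smul_left, hf.smul_right, hvv, o01, o10, o02, o20,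
        o12, o21]
      ring
    have hsq : bv.repr y 0 ^ 2 + bv.repr y 1 ^ 2 + bv.repr y 2 ^ 2 = 1 := by
      rw [hyy] at key
      have : (bv.repr y 0 ^ 2 + bv.repr y 1 ^ 2 + bv.repr y 2 ^ 2) * c₀ = 1 * c₀ := by
        rw [one_mul]; exact key.symm
      exact mul_right_cancel₀ hc₀ this
    rcases Cfsg.Agent.Lib.Helper81.AschOFrame3.sq_sum_eq_one hF _ _ _ hsq with
      ⟨h1, h2', h0 | h0⟩ | ⟨h0, h2', h1 | h1⟩ | ⟨h0, h1, h2' | h2'⟩
    · exact ⟨0, Or.inl (by rw [hA, h0, h1, h2']; simp)⟩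
    · exact ⟨0, Or.inr (by rw [hA, h0, h1, h2']; simp)⟩
    · exact ⟨1, Or.inl (by rw [hA, h0, h1, h2']; simp)⟩
    · exact ⟨1, Or.inr (by rw [hA, h0, h1, h2']; simp)⟩
    · exact ⟨2, Or.inl (by rw [hA, h0, h1, h2']; simp)⟩
    · exact ⟨2, Or.inr (by rw [hA, h0, h1, h2']; simp)⟩

/-- Lemma B: transport of a frame along an isometry of subspaces -/
theorem transport_block_frame {Q : (ι → F) → F} (W W' : Submodule F (ι → F))
    (hiso : AreIsometricFor Q W W') (u : Fin 3 → (ι → F)) (c : F) (hu : ∀ j, u j ∈ W)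
    (hQu : ∀ j, Q (u j) = c)
    (horth : ∀ j j', j ≠ j' → QuadraticMap.polar Q (u j) (u j') = 0)
    (hchar : ∀ x ∈ W, Q x = c → ∃ j, x = u j ∨ x = - u j) :
    ∃ u' : Fin 3 → (ι → F), (∀ j, u' j ∈ W') ∧ (∀ j, Q (u' j) = c) ∧
      (∀ j j', j ≠ j' → QuadraticMap.polar Q (u' j) (u' j') = 0) ∧
      ∀ x ∈ W', Q x = c → ∃ j, x = u' j ∨ x = - u' j := by
  obtain ⟨e, he⟩ := hiso
  have hpol : ∀ a b : W, QuadraticMap.polar Q ((e a : W') : ι → F) ((e b : W') : ι → F) =
      QuadraticMap.polar Q (a : ι → F) (b : ι → F) := by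
    intro a b
    unfold QuadraticMap.polar
    rw [he a, he b]
    have : ((e a : W') : ι → F) + ((e b : W') : ι → F) = ((e (a + b) : W') : ι → F) := by
      rw [map_add]; rfl
    rw [this, he]
    rfl
  refine ⟨fun j => ((e ⟨u j, hu j⟩ : W') : ι → F), fun j => (e ⟨u j, hu j⟩).2, ?_, ?_, ?_⟩
  · intro j
    rw [he]
    exact hQu j
  · intro j j' hjj
    rw [hpol]
    exact horth j j' hjj
  · intro x hx hQx
    have h1 : Q ((e.symm ⟨x, hx⟩ : W) : ι → F) = c := by
      have := he (e.symm ⟨x, hx⟩)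
      rw [LinearEquiv.apply_symm_apply] at this
      rw [← this]
      exact hQx
    obtain ⟨j, hj | hj⟩ := hchar _ (e.symm ⟨x, hx⟩).2 h1
    · refine ⟨j, Or.inl ?_⟩
      have : e.symm ⟨x, hx⟩ = ⟨u j, hu j⟩ := Subtype.ext hj
      have h3 : (⟨x, hx⟩ : W') = e ⟨u j, hu j⟩ := by
        rw [← this, LinearEquiv.apply_symm_apply]
      exact congrArg Subtype.val h3
    · refine ⟨j, Or.inr ?_⟩
      have : e.symm ⟨x, hx⟩ = - ⟨u j, hu j⟩ := Subtype.ext hj
      have h3 : (⟨x, hx⟩ : W') = - e ⟨u j, hu j⟩ := by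
        rw [← map_neg, ← this, LinearEquiv.apply_symm_apply]
      exact congrArg Subtype.val h3

end Cfsg.Agent.Lib.Helper95.AschO2R2A3
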