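import Mathlib
import Cfsg.Prelude.Def_GeometricClasses
import Cfsg.Agent.Lib.Helper99.AschDefs
import Cfsg.Agent.Lib.Helper5.AschODefs
import Cfsg.Agent.Lib.Helper5.AschOBasic
import Cfsg.Agent.Lib.Helper81.AschOFrame3
import Cfsg.Agent.Lib.Helper95.AschO2R2A3Kit

set_option autoImplicit false

namespace Cfsg.Agent.Lib.Helper95.AschO2R2A3

open Cfsg Cfsg.Geo Cfsg.Agent.Lib.Helper99.Asch Cfsg.Agent.Lib.Helper5.AschO
open scoped MatrixGroups Matrix

variable {ι : Type} [Fintype ι] [DecidableEq ι] {F : Type*} [Field F]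

set_option linter.unusedSectionVars false

theorem card_eq_of_isMDecomposition {t m : ℕ} (D : Fin t → Submodule F (ι → F))
    (hD : IsMDecomposition m D) : t * m = Fintype.card ι := by
  classical
  have hint : DirectSum.IsInternal D :=
    DirectSum.isInternal_submodule_of_iSupIndep_of_iSup_eq_top hD.indep hD.iSup_eq_top
  have h1 : Module.finrank F (ι → F) = ∑ i, Module.finrank F (D i) := by
    have e := LinearEquiv.ofBijective (DirectSum.coeLinearMap D) hint
    rw [← e.finrank_eq, Module.finrank_directSum]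
  simp only [hD.finrank_eq, Finset.sum_const, Finset.card_univ, Fintype.card_fin, smul_eq_mul,
    Module.finrank_fintype_fun_eq_card] at h1
  exact h1.symm

end Cfsg.Agent.Lib.Helper95.AschO2R2A3

namespace Cfsg.Agent.Lib.Helper5.AschO

open Cfsg Cfsg.Geo Cfsg.Agent.Lib.Helper99.Asch
open scoped MatrixGroups Matrix Kronecker
open Cfsg.Agent.Lib.Helper95.AschO2R2A3

variable {ι : Type} [Fintype ι] [DecidableEq ι] {F : Type*} [Field F] [Fintype F]

theorem exists_line_refinement {Q : (ι → F) → F} (hQ : IsNondegenerateQuadraticForm Q) (hF : Fintype.card F = 3)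
    {t : ℕ} (D : Fin t → Submodule F (ι → F)) (hD : IsOrthogonalMDecomposition Q 3 D) :
    ∃ D' : Fin (3 * t) → Submodule F (ι → F), IsOrthogonalMDecomposition Q 1 D' ∧
      decompositionStabilizer D ⊓ isometryGroup F Q ≤ decompositionStabilizer D' := by
  classical
  have h2 : (2 : F) ≠ 0 := by
    rw [Cfsg.Agent.Lib.Helper81.AschOFrame3.two_eq_neg_one hF]; simp
  have ht : 2 ≤ t := hD.decomp.decomp.two_le
  have hcard : 3 * t = Fintype.card ι := by
    rw [mul_comm]; exact card_eq_of_isMDecomposition D hD.decomp.decomp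
  let i₀ : Fin t := ⟨0, by omega⟩
  obtain ⟨u₀, c, hc, hu₀, hQu₀, horth₀, hchar₀⟩ :=
    exists_block_frame hQ hF (D i₀) (hD.decomp.decomp.finrank_eq i₀) (hD.decomp.nondegenerate i₀)
  have hblock : ∀ i, ∃ u' : Fin 3 → (ι → F), (∀ j, u' j ∈ D i) ∧ (∀ j, Q (u' j) = c) ∧
      (∀ j j', j ≠ j' → QuadraticMap.polar Q (u' j) (u' j') = 0) ∧
      ∀ x ∈ D i, Q x = c → ∃ j, x = u' j ∨ x = - u' j := fun i =>
    transport_block_frame (D i₀) (D i) (hD.isometric i₀ i) u₀ c hu₀ hQu₀ horth₀ hchar₀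
  choose w hwmem hQw horthw hcharw using hblock
  let π : Fin (3 * t) ≃ Fin 3 × Fin t := finProdFinEquiv.symm
  let U : Fin (3 * t) → (ι → F) := fun x => w (π x).2 (π x).1
  have hQU : ∀ x, Q (U x) = c := fun x => hQw _ _
  have horthU : ∀ x y, x ≠ y → QuadraticMap.polar Q (U x) (U y) = 0 := by
    intro x y hxy
    have hπ : π x ≠ π y := fun h => hxy (π.injective h)
    by_cases hblk : (π x).2 = (π y).2
    · have h1 : (π x).1 ≠ (π y).1 := fun h => hπ (Prod.ext h hblk)
      show QuadraticMap.polar Q (w (π x).2 (π x).1) (w (π y).2 (π y).1) = 0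
      rw [← hblk]
      exact horthw _ _ _ h1
    · exact hD.decomp.orthogonal _ _ hblk _ (hwmem _ _) _ (hwmem _ _)
  obtain ⟨hdec, hstab⟩ := lines_of_signed_frame hQ h2 (by omega) hcard U c hc hQU horthU
  refine ⟨fun x => Submodule.span F {U x}, hdec, ?_⟩
  intro g hg
  obtain ⟨⟨σ, hσ⟩, hgi⟩ := hg
  apply hstab g hgi
  intro x
  have hmem : (g : Matrix ι ι F) *ᵥ U x ∈ D (σ (π x).2) := by
    rw [← hσ (π x).2]
    refine ⟨U x, hwmem _ _, ?_⟩
    rw [Matrix.toLin'_apply]
  have hQg : Q ((g : Matrix ι ι F) *ᵥ U x) = c := by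
    rw [(mem_isometryGroup_iff g).1 hgi, hQU]
  obtain ⟨j, hj⟩ := hcharw (σ (π x).2) _ hmem hQg
  refine ⟨π.symm (j, σ (π x).2), ?_⟩
  have hU : U (π.symm (j, σ (π x).2)) = w (σ (π x).2) j := by
    show w (π (π.symm (j, σ (π x).2))).2 (π (π.symm (j, σ (π x).2))).1 = _
    rw [Equiv.apply_symm_apply]
  rw [hU]
  exact hj

end Cfsg.Agent.Lib.Helper5.AschO
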