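import Mathlib
import Cfsg.Prelude.Def_GeometricClasses
import Cfsg.Agent.Lib.Helper99.AschDefs
import Cfsg.Agent.Lib.Helper5.AschODefs
import Cfsg.Agent.Lib.Helper5.AschODefsTr
import Cfsg.Agent.Lib.Helper95.AschOTrKit

/-!
# ASCHO-[TR-47] (helper5's project ASCHO, S5673) (helper95): transport of the tensor classes 4 and 7
-/

set_option autoImplicit false
set_option linter.unusedSectionVars false

namespace Cfsg.Agent.Lib.Helper95.AschOTr

open Cfsg Cfsg.Geo Cfsg.Agent.Lib.Helper99.Asch Cfsg.Agent.Lib.Helper5.AschO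
open scoped MatrixGroups Matrix Kronecker

variable {ι : Type} [Fintype ι] [DecidableEq ι] {n : ℕ} {F : Type*} [Field F]

/-- pull-back of a conjugate of a reindexed standard subgroup -/
theorem comap_conj_reindex {μ : Type} [Fintype μ] [DecidableEq μ] (e : ι ≃ Fin n) (e' : Fin n ≃ μ)
    (P' : GL (Fin n) F) (S : Subgroup (GL μ F)) :
    ((S.map (glReindex e'.symm).toMonoidHom).map (MulAut.conj P').toMonoidHom).comap
        (glReindex e).toMonoidHom =
      (S.map (glReindex (e.trans e').symm).toMonoidHom).map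
        (MulAut.conj (glReindex e.symm P')).toMonoidHom := by
  have hf : ((glReindex e.symm).toMonoidHom : GL (Fin n) F →* GL ι F).comp
      ((glReindex e'.symm).toMonoidHom : GL μ F →* GL (Fin n) F) =
      ((glReindex (e.trans e').symm).toMonoidHom : GL μ F →* GL ι F) := by
    ext x : 1
    show glReindex e.symm (glReindex e'.symm x) = glReindex (e.trans e').symm x
    rw [glReindex_trans]
    rfl
  rw [comap_eq_map_symm, map_conj_map_reindex]
  congr 1
  rw [Subgroup.map_map, hf]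

/-- the key computation for form structures -/
theorem polar_reQ_mulVec (e : ι ≃ Fin n) (Q : (ι → F) → F) (P' : GL (Fin n) F) (w w' : Fin n → F) :
    QuadraticMap.polar (reQ e Q) ((P' : Matrix (Fin n) (Fin n) F) *ᵥ w)
        ((P' : Matrix (Fin n) (Fin n) F) *ᵥ w') =
      QuadraticMap.polar Q (((glReindex e.symm P' : GL ι F) : Matrix ι ι F) *ᵥ (w ∘ e))
        (((glReindex e.symm P' : GL ι F) : Matrix ι ι F) *ᵥ (w' ∘ e)) := by
  rw [polar_reQ]
  have h : ∀ z : Fin n → F, ((P' : Matrix (Fin n) (Fin n) F) *ᵥ z) ∘ e =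
      ((glReindex e.symm P' : GL ι F) : Matrix ι ι F) *ᵥ (z ∘ e) := by
    intro z
    conv_lhs => rw [← glReindex_glReindex_symm e P']
    rw [glReindex_mulVec_comp]
  rw [h, h]

end Cfsg.Agent.Lib.Helper95.AschOTr

namespace Cfsg.Agent.Lib.Helper5.AschO

open Cfsg Cfsg.Geo Cfsg.Agent.Lib.Helper99.Asch
open scoped MatrixGroups Matrix Kronecker

variable {n : ℕ} {F : Type*} [Field F] [Fintype F]

section transport

variable {ι : Type} [Fintype ι] [DecidableEq ι]

open Cfsg.Agent.Lib.Helper95.AschOTr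

/-- ASCHO-[TR-47] -/
theorem isO4_comap (e : ι ≃ Fin n) (Q : (ι → F) → F) (M' : Subgroup (GL (Fin n) F))
    (h : IsO4 (reQ e Q) M') : IsO4 Q (M'.comap (glReindex e).toMonoidHom) := by
  obtain ⟨n₁, n₂, e', P', f₁, f₂, h1, h2, h3, h4, ⟨c, hc, hform⟩, rfl⟩ := h
  refine ⟨n₁, n₂, e.trans e', glReindex e.symm P', f₁, f₂, h1, h2, h3, h4, ⟨c, hc, ?_⟩, ?_⟩
  · intro x y
    rw [← hform x y, polar_reQ_mulVec]
    rfl
  · rw [comap_inf_isometryGroup]
    congr 1
    exact comap_conj_reindex e e' P' _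

/-- ASCHO-[TR-47] -/
theorem isO7_comap (e : ι ≃ Fin n) (Q : (ι → F) → F) (M' : Subgroup (GL (Fin n) F))
    (h : IsO7 (reQ e Q) M') : IsO7 Q (M'.comap (glReindex e).toMonoidHom) := by
  obtain ⟨k, t, e', P', f₁, h1, h2, h3, h4, ⟨c, hc, hform⟩, rfl⟩ := h
  refine ⟨k, t, e.trans e', glReindex e.symm P', f₁, h1, h2, h3, h4, ⟨c, hc, ?_⟩, ?_⟩
  · intro x y
    rw [← hform x y, polar_reQ_mulVec]
    rfl
  · rw [comap_inf_isometryGroup]
    congr 1
    exact comap_conj_reindex e e' P' _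

end transport

end Cfsg.Agent.Lib.Helper5.AschO
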