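import Mathlib
import Cfsg.Agent.S0734

set_option autoImplicit false

namespace Cfsg.Agent.Lib.Helper95.Babai

open Cfsg.Agent.S0734

variable {G Ω : Type*} [Group G] [MulAction G Ω]

/-- `z` separates `a` and `b`: they lie in different orbits of the stabiliser of `z`. -/
def Sep (G : Type*) [Group G] {Ω : Type*} [MulAction G Ω] (a b z : Ω) : Prop :=
  ¬ ∃ h : G, h • z = z ∧ h • a = b

theorem sep_symm {a b z : Ω} : Sep G a b z ↔ Sep G b a z := by
  unfold Sep
  constructor
  · rintro h ⟨k, hk1, hk2⟩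
    exact h ⟨k⁻¹, by rw [inv_smul_eq_iff, hk1], by rw [inv_smul_eq_iff, hk2]⟩
  · rintro h ⟨k, hk1, hk2⟩
    exact h ⟨k⁻¹, by rw [inv_smul_eq_iff, hk1], by rw [inv_smul_eq_iff, hk2]⟩

theorem sep_smul (g : G) {a b z : Ω} : Sep G (g • a) (g • b) (g • z) ↔ Sep G a b z := by
  unfold Sep
  constructor
  · rintro h ⟨k, hk1, hk2⟩
    refine h ⟨g * k * g⁻¹, ?_, ?_⟩
    · rw [mul_smul, inv_smul_smul, mul_smul, hk1]
    · rw [mul_smul, inv_smul_smul, mul_smul, hk2]
  · rintro h ⟨k, hk1, hk2⟩
    refine h ⟨g⁻¹ * k * g, ?_, ?_⟩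
    · rw [mul_smul, mul_smul, hk1, inv_smul_smul]
    · rw [mul_smul, mul_smul, hk2, inv_smul_smul]

theorem sep_triangle {a b c z : Ω} (h : Sep G a c z) : Sep G a b z ∨ Sep G b c z := by
  unfold Sep at *
  by_contra hcon
  push Not at hcon
  obtain ⟨⟨k1, h11, h12⟩, ⟨k2, h21, h22⟩⟩ := hcon
  exact h ⟨k2 * k1, by rw [mul_smul, h11, h21], by rw [mul_smul, h12, h22]⟩

theorem sep_left {a b : Ω} (h : a ≠ b) : Sep G a b a := by
  rintro ⟨k, hk1, hk2⟩
  exact h (hk1.symm.trans hk2)

theorem sep_right {a b : Ω} (h : a ≠ b) : Sep G a b b := by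
  rintro ⟨k, hk1, hk2⟩
  apply h
  have : k • a = k • b := hk2.trans hk1.symm
  exact MulAction.injective k this

theorem not_sep_self (a z : Ω) : ¬ Sep G a a z := by
  intro h
  exact h ⟨1, one_smul _ _, one_smul _ _⟩

theorem moved_of_sep {g : G} {x z : Ω} (h : Sep G x (g • x) z) : g • z ≠ z := by
  intro hz
  exact h ⟨g, hz, rfl⟩

section Fin

variable [Fintype Ω]

open Classical in
/-- The set of separating points. -/
noncomputable def sepSet (G : Type*) [Group G] {Ω : Type*} [MulAction G Ω] [Fintype Ω]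
    (a b : Ω) : Finset Ω := Finset.univ.filter (fun z => Sep G a b z)

theorem mem_sepSet {a b z : Ω} : z ∈ sepSet G a b ↔ Sep G a b z := by
  unfold sepSet; simp

/-- The distinguishing number of the pair. -/
noncomputable def dnum (G : Type*) [Group G] {Ω : Type*} [MulAction G Ω] [Fintype Ω]
    (a b : Ω) : ℕ := (sepSet G a b).card

theorem dnum_symm (a b : Ω) : dnum G a b = dnum G b a := by
  unfold dnum
  congr 1
  ext z
  rw [mem_sepSet, mem_sepSet, sep_symm]

theorem dnum_smul (g : G) (a b : Ω) : dnum G (g • a) (g • b) = dnum G a b := by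
  classical
  unfold dnum
  symm
  apply Finset.card_bij (fun z _ => g • z)
  · intro z hz
    rw [mem_sepSet] at hz ⊢
    exact (sep_smul g).mpr hz
  · intro z1 _ z2 _ h
    exact MulAction.injective g h
  · intro z hz
    refine ⟨g⁻¹ • z, ?_, smul_inv_smul g z⟩
    rw [mem_sepSet] at hz ⊢
    rw [← sep_smul g, smul_inv_smul]
    exact hz

theorem dnum_triangle (a b c : Ω) : dnum G a c ≤ dnum G a b + dnum G b c := by
  classical
  unfold dnum
  refine le_trans (Finset.card_le_card ?_) (Finset.card_union_le _ _)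
  intro z hz
  rw [Finset.mem_union, mem_sepSet, mem_sepSet]
  rw [mem_sepSet] at hz
  exact sep_triangle hz

theorem dnum_self (a : Ω) : dnum G a a = 0 := by
  unfold dnum
  rw [Finset.card_eq_zero, Finset.eq_empty_iff_forall_notMem]
  intro z hz
  rw [mem_sepSet] at hz
  exact not_sep_self a z hz

end Fin

end Cfsg.Agent.Lib.Helper95.Babai
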