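import Mathlib
import Cfsg.Agent.S0734

set_option autoImplicit false

namespace Cfsg.Agent.Lib.Helper95.Babai

variable {G Ω : Type*} [Group G] [MulAction G Ω]

section Rel

variable [Fintype Ω]

open Classical in
/-- out-neighbours of `x` for the relation `R`. -/
noncomputable def outN (R : Ω → Ω → Prop) (x : Ω) : Finset Ω := Finset.univ.filter (fun w => R x w)

theorem mem_outN {R : Ω → Ω → Prop} {x w : Ω} : w ∈ outN R x ↔ R x w := by
  unfold outN; simp

variable {R : Ω → Ω → Prop}

theorem inv_iff (hR : ∀ (g : G) (u w : Ω), R u w → R (g • u) (g • w)) (g : G) (u w : Ω) :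
    R (g • u) (g • w) ↔ R u w := by
  constructor
  · intro h
    have := hR g⁻¹ _ _ h
    rwa [inv_smul_smul, inv_smul_smul] at this
  · exact hR g u w

theorem card_outN_smul (hR : ∀ (g : G) (u w : Ω), R u w → R (g • u) (g • w)) (g : G) (x : Ω) :
    (outN R (g • x)).card = (outN R x).card := by
  symm
  apply Finset.card_bij (fun z _ => g • z)
  · intro z hz
    rw [mem_outN] at hz ⊢
    exact hR g _ _ hz
  · intro z1 _ z2 _ h
    exact MulAction.injective g h
  · intro z hz
    refine ⟨g⁻¹ • z, ?_, smul_inv_smul g z⟩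
    rw [mem_outN] at hz ⊢
    rw [← inv_iff hR g, smul_inv_smul]
    exact hz

theorem card_outN_eq [MulAction.IsPretransitive G Ω]
    (hR : ∀ (g : G) (u w : Ω), R u w → R (g • u) (g • w)) (x y : Ω) :
    (outN R x).card = (outN R y).card := by
  obtain ⟨g, rfl⟩ := MulAction.exists_smul_eq G x y
  exact (card_outN_smul hR g x).symm

theorem inv_swap (hR : ∀ (g : G) (u w : Ω), R u w → R (g • u) (g • w)) :
    ∀ (g : G) (u w : Ω), (fun a b => R b a) u w → (fun a b => R b a) (g • u) (g • w) :=
  fun g u w h => hR g w u h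

/-- in-degree equals out-degree -/
theorem card_inN_eq [MulAction.IsPretransitive G Ω]
    (hR : ∀ (g : G) (u w : Ω), R u w → R (g • u) (g • w)) (x : Ω) :
    (outN (fun a b => R b a) x).card = (outN R x).card := by
  classical
  have h1 : ∑ u : Ω, (outN R u).card = ∑ w : Ω, (outN (fun a b => R b a) w).card := by
    have := Finset.sum_card_bipartiteAbove_eq_sum_card_bipartiteBelow
      (s := (Finset.univ : Finset Ω)) (t := (Finset.univ : Finset Ω)) R
    convert this using 3
    · ext z; simp [Finset.bipartiteAbove, mem_outN]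
    · ext z; simp [Finset.bipartiteBelow, mem_outN]
  have h2 : ∑ u : Ω, (outN R u).card = Fintype.card Ω * (outN R x).card := by
    rw [Finset.sum_congr rfl (fun u _ => card_outN_eq hR u x)]
    simp
  have h3 : ∑ w : Ω, (outN (fun a b => R b a) w).card
      = Fintype.card Ω * (outN (fun a b => R b a) x).card := by
    rw [Finset.sum_congr rfl (fun u _ => card_outN_eq (inv_swap hR) u x)]
    simp
  rw [h2, h3] at h1
  have hpos : 0 < Fintype.card Ω := Fintype.card_pos_iff.mpr ⟨x⟩
  exact (Nat.eq_of_mul_eq_mul_left hpos h1).symm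

end Rel

end Cfsg.Agent.Lib.Helper95.Babai
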