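import Mathlib
import Cfsg.Agent.S0734
import Cfsg.Agent.Lib.Helper95.BabaiA
import Cfsg.Agent.Lib.Helper95.BabaiB

set_option autoImplicit false

namespace Cfsg.Agent.Lib.Helper95.Babai

variable {G Ω : Type*} [Group G] [MulAction G Ω]

section Cnt

variable [Fintype Ω] {R : Ω → Ω → Prop}

theorem sep_of_left (hR : ∀ (g : G) (u w : Ω), R u w → R (g • u) (g • w)) {x v w : Ω}
    (h1 : R x w) (h2 : ¬ R v w) : Sep G x v w := by
  rintro ⟨k, hk1, hk2⟩
  apply h2
  have := hR k _ _ h1
  rwa [hk1, hk2] at this

theorem sep_of_right (hR : ∀ (g : G) (u w : Ω), R u w → R (g • u) (g • w)) {x v w : Ω}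
    (h1 : ¬ R x w) (h2 : R v w) : Sep G x v w := by
  rw [sep_symm]
  exact sep_of_left hR h2 h1

open Classical in
theorem card_sdiff_le_dnum (hR : ∀ (g : G) (u w : Ω), R u w → R (g • u) (g • w)) (x v : Ω) :
    (outN R x \ outN R v).card + (outN R v \ outN R x).card ≤ dnum G x v := by
  classical
  unfold dnum
  rw [← Finset.card_union_of_disjoint]
  · apply Finset.card_le_card
    intro w hw
    rw [mem_sepSet]
    rw [Finset.mem_union, Finset.mem_sdiff, Finset.mem_sdiff, mem_outN, mem_outN] at hw
    rcases hw with ⟨h1, h2⟩ | ⟨h1, h2⟩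
    · exact sep_of_left hR h1 h2
    · exact sep_of_right hR h2 h1
  · rw [Finset.disjoint_left]
    intro w hw1 hw2
    rw [Finset.mem_sdiff] at hw1 hw2
    exact hw2.2 hw1.1

open Classical in
theorem sum_sdiff_left [MulAction.IsPretransitive G Ω]
    (hR : ∀ (g : G) (u w : Ω), R u w → R (g • u) (g • w)) (x : Ω) :
    ∑ v : Ω, (outN R x \ outN R v).card
      = (outN R x).card * (Fintype.card Ω - (outN R x).card) := by
  classical
  have := Finset.sum_card_bipartiteAbove_eq_sum_card_bipartiteBelow
      (s := (Finset.univ : Finset Ω)) (t := outN R x) (fun v w => ¬ R v w)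
  have e1 : ∀ v : Ω, (outN R x \ outN R v) = Finset.bipartiteAbove (fun v w => ¬ R v w) (outN R x) v := by
    intro v; ext w; simp [Finset.bipartiteAbove, mem_outN]
  have e2 : ∀ w : Ω, (Finset.bipartiteBelow (fun v w => ¬ R v w) Finset.univ w).card
      = Fintype.card Ω - (outN R x).card := by
    intro w
    have h1 : Finset.bipartiteBelow (fun v w => ¬ R v w) Finset.univ w
        = Finset.univ \ outN (fun a b => R b a) w := by
      ext v; simp [Finset.bipartiteBelow, mem_outN]
    rw [h1, Finset.card_sdiff_of_subset (Finset.subset_univ _), Finset.card_univ,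
      card_inN_eq hR w, card_outN_eq hR w x]
  rw [Finset.sum_congr rfl (fun v _ => by rw [e1 v]), this,
    Finset.sum_congr rfl (fun w _ => e2 w)]
  simp

open Classical in
theorem sum_sdiff_right [MulAction.IsPretransitive G Ω]
    (hR : ∀ (g : G) (u w : Ω), R u w → R (g • u) (g • w)) (x : Ω) :
    ∑ v : Ω, (outN R v \ outN R x).card
      = (Fintype.card Ω - (outN R x).card) * (outN R x).card := by
  classical
  have := Finset.sum_card_bipartiteAbove_eq_sum_card_bipartiteBelow
      (s := (Finset.univ : Finset Ω)) (t := Finset.univ \ outN R x) (fun v w => R v w)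
  have e1 : ∀ v : Ω, (outN R v \ outN R x)
      = Finset.bipartiteAbove (fun v w => R v w) (Finset.univ \ outN R x) v := by
    intro v; ext w; simp [Finset.bipartiteAbove, mem_outN, and_comm]
  have e2 : ∀ w : Ω, (Finset.bipartiteBelow (fun v w => R v w) Finset.univ w).card
      = (outN R x).card := by
    intro w
    have h1 : Finset.bipartiteBelow (fun v w => R v w) Finset.univ w
        = outN (fun a b => R b a) w := by
      ext v; simp [Finset.bipartiteBelow, mem_outN]
    rw [h1, card_inN_eq hR w, card_outN_eq hR w x]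
  rw [Finset.sum_congr rfl (fun v _ => by rw [e1 v]), this,
    Finset.sum_congr rfl (fun w _ => e2 w)]
  simp [Finset.card_sdiff_of_subset (Finset.subset_univ _)]

/-- The counting bound: if all pairs are separated by at most `E` points, then
`2 s (n - s) ≤ (n - 1) E` for every invariant relation of out-degree `s`. -/
theorem count_bound [MulAction.IsPretransitive G Ω]
    (hR : ∀ (g : G) (u w : Ω), R u w → R (g • u) (g • w)) (x : Ω) (E : ℕ)
    (hE : ∀ v : Ω, dnum G x v ≤ E) :
    2 * ((outN R x).card * (Fintype.card Ω - (outN R x).card)) ≤ (Fintype.card Ω - 1) * E := by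
  classical
  have h1 : 2 * ((outN R x).card * (Fintype.card Ω - (outN R x).card))
      = ∑ v : Ω, ((outN R x \ outN R v).card + (outN R v \ outN R x).card) := by
    rw [Finset.sum_add_distrib, sum_sdiff_left hR x, sum_sdiff_right hR x]
    ring
  rw [h1]
  have h2 : ∑ v : Ω, ((outN R x \ outN R v).card + (outN R v \ outN R x).card)
      = ∑ v ∈ Finset.univ.erase x, ((outN R x \ outN R v).card + (outN R v \ outN R x).card) := by
    rw [← Finset.add_sum_erase Finset.univ _ (Finset.mem_univ x)]
    simp
  rw [h2]
  calc ∑ v ∈ Finset.univ.erase x, ((outN R x \ outN R v).card + (outN R v \ outN R x).card)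
      ≤ ∑ v ∈ Finset.univ.erase x, E := by
        apply Finset.sum_le_sum
        intro v _
        exact (card_sdiff_le_dnum hR x v).trans (hE v)
    _ = (Fintype.card Ω - 1) * E := by
        rw [Finset.sum_const, Finset.card_erase_of_mem (Finset.mem_univ x), Finset.card_univ]
        simp

end Cnt

end Cfsg.Agent.Lib.Helper95.Babai
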