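import Mathlib
import Cfsg.Agent.S0734
import Cfsg.Agent.Lib.Helper95.BabaiA
import Cfsg.Agent.Lib.Helper95.BabaiB
import Cfsg.Agent.Lib.Helper95.BabaiC

set_option autoImplicit false

namespace Cfsg.Agent.Lib.Helper95.Babai

open Cfsg.Agent.S0734

theorem mem_of_closed {V : Type*} {Γ : SimpleGraph V} (hc : Γ.Connected) (B : Set V) {x : V}
    (hx : x ∈ B) (hcl : ∀ u ∈ B, ∀ v, Γ.Adj u v → v ∈ B) (z : V) : z ∈ B := by
  obtain ⟨w⟩ := hc.preconnected x z
  induction w with
  | nil => exact hx
  | cons hadj _ ih => exact ih (hcl _ hx _ hadj)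

variable {G Ω : Type*} [Group G] [MulAction G Ω]

section Orb

variable [Fintype Ω] {a b : Ω}

theorem adj_inv : ∀ (g : G) (u w : Ω), (orbGraph G a b).Adj u w → (orbGraph G a b).Adj (g • u) (g • w) :=
  fun g _ _ h => adj_smul g h

theorem dnum_adj {u v : Ω} (h : (orbGraph G a b).Adj u v) : dnum G u v = dnum G a b := by
  rw [SimpleGraph.fromRel_adj] at h
  rcases h.2 with ⟨g, rfl, rfl⟩ | ⟨g, rfl, rfl⟩
  · exact dnum_smul g a b
  · rw [dnum_symm]; exact dnum_smul g a b

/-- (T1): every point other than `x` is separated from `x` by some neighbour. -/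
theorem exists_adj_sep (hc : (orbGraph G a b).Connected) {x z : Ω} (hzx : z ≠ x) :
    ∃ y, (orbGraph G a b).Adj x y ∧ Sep G x y z := by
  by_contra hcon
  push Not at hcon
  have key : ∀ y, (orbGraph G a b).Adj x y → ∃ h : G, h • z = z ∧ h • x = y := by
    intro y hy
    have := hcon y hy
    unfold Sep at this
    push Not at this
    exact this
  have hz := mem_of_closed hc {u | ∃ h : G, h • z = z ∧ h • x = u} (x := x)
    ⟨1, one_smul _ _, one_smul _ _⟩ ?_ z
  · obtain ⟨h, h1, h2⟩ := hz
    exact hzx (MulAction.injective h (h1.trans h2.symm))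
  · rintro u ⟨h, h1, h2⟩ v huv
    have h3 : (orbGraph G a b).Adj x (h⁻¹ • v) := by
      have := adj_smul h⁻¹ huv
      rwa [← h2, inv_smul_smul] at this
    obtain ⟨h', h1', h2'⟩ := key _ h3
    refine ⟨h * h', ?_, ?_⟩
    · rw [mul_smul, h1', h1]
    · rw [mul_smul, h2', smul_inv_smul]

theorem card_le_deg_mul (hc : (orbGraph G a b).Connected) (x : Ω) :
    Fintype.card Ω - 1 ≤ (outN (orbGraph G a b).Adj x).card * (dnum G a b - 1) := by
  classical
  have hsub : Finset.univ.erase x ⊆
      (outN (orbGraph G a b).Adj x).biUnion (fun y => (sepSet G x y).erase x) := by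
    intro z hz
    rw [Finset.mem_erase] at hz
    obtain ⟨y, hy1, hy2⟩ := exists_adj_sep hc hz.1
    rw [Finset.mem_biUnion]
    exact ⟨y, mem_outN.mpr hy1, Finset.mem_erase.mpr ⟨hz.1, mem_sepSet.mpr hy2⟩⟩
  have h1 := Finset.card_le_card hsub
  rw [Finset.card_erase_of_mem (Finset.mem_univ x), Finset.card_univ] at h1
  refine h1.trans (Finset.card_biUnion_le.trans ?_)
  rw [← smul_eq_mul, ← Finset.sum_const]
  apply Finset.sum_le_sum
  intro y hy
  rw [mem_outN] at hy
  have hxy : x ≠ y := hy.ne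
  rw [Finset.card_erase_of_mem (mem_sepSet.mpr (sep_left hxy))]
  have := dnum_adj hy
  unfold dnum at this
  rw [this]
  rfl

/-- Case I: a walk of length three whose ends have no common neighbour. -/
theorem two_deg_le [MulAction.IsPretransitive G Ω] (x : Ω) {u p q v : Ω}
    (h1 : (orbGraph G a b).Adj u p) (h2 : (orbGraph G a b).Adj p q)
    (h3 : (orbGraph G a b).Adj q v)
    (hno : ∀ c, ¬ ((orbGraph G a b).Adj u c ∧ (orbGraph G a b).Adj c v)) :
    2 * (outN (orbGraph G a b).Adj x).card ≤ 3 * dnum G a b := by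
  classical
  have hsub : outN (orbGraph G a b).Adj u ∪ outN (orbGraph G a b).Adj v ⊆ sepSet G u v := by
    intro c hc
    rw [mem_sepSet]
    rw [Finset.mem_union, mem_outN, mem_outN] at hc
    rcases hc with hc | hc
    · rintro ⟨h, hh1, hh2⟩
      have := adj_smul h hc
      rw [hh1, hh2] at this
      exact hno c ⟨hc, this.symm⟩
    · rintro ⟨h, hh1, hh2⟩
      have := adj_smul h⁻¹ hc
      rw [← hh2, inv_smul_smul, inv_smul_eq_iff.mpr hh1.symm] at this
      exact hno c ⟨this, hc.symm⟩
  have hdisj : Disjoint (outN (orbGraph G a b).Adj u) (outN (orbGraph G a b).Adj v) := by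
    rw [Finset.disjoint_left]
    intro c hc1 hc2
    rw [mem_outN] at hc1 hc2
    exact hno c ⟨hc1, hc2.symm⟩
  have hcard := Finset.card_le_card hsub
  rw [Finset.card_union_of_disjoint hdisj, card_outN_eq (G := G) adj_inv u x,
    card_outN_eq (G := G) adj_inv v x] at hcard
  have htri : dnum G u v ≤ 3 * dnum G a b := by
    have t1 := dnum_triangle (G := G) u p v
    have t2 := dnum_triangle (G := G) p q v
    rw [dnum_adj h1] at t1
    rw [dnum_adj h2, dnum_adj h3] at t2
    omega
  have hcard' : (outN (orbGraph G a b).Adj x).card + (outN (orbGraph G a b).Adj x).card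
      ≤ dnum G u v := hcard
  omega

/-- Case II: every walk of length three can be shortened, so everything is within distance 2. -/
theorem dnum_le_two (hc : (orbGraph G a b).Connected)
    (hII : ∀ u p q v, (orbGraph G a b).Adj u p → (orbGraph G a b).Adj p q →
      (orbGraph G a b).Adj q v → ∃ c, (orbGraph G a b).Adj u c ∧ (orbGraph G a b).Adj c v)
    (u v : Ω) : dnum G u v ≤ 2 * dnum G a b := by
  have hv := mem_of_closed hc {w | w = u ∨ (orbGraph G a b).Adj u w ∨
      ∃ p, (orbGraph G a b).Adj u p ∧ (orbGraph G a b).Adj p w} (x := u) (Or.inl rfl) ?_ v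
  · rcases hv with rfl | hv | ⟨p, hp1, hp2⟩
    · rw [dnum_self]; exact Nat.zero_le _
    · rw [dnum_adj hv]; omega
    · have := dnum_triangle (G := G) u p v
      rw [dnum_adj hp1, dnum_adj hp2] at this
      omega
  · rintro w hw w' hww'
    rcases hw with rfl | hw | ⟨p, hp1, hp2⟩
    · exact Or.inr (Or.inl hww')
    · exact Or.inr (Or.inr ⟨w, hw, hww'⟩)
    · exact Or.inr (Or.inr (hII u p w w' hp1 hp2 hww'))

end Orb

end Cfsg.Agent.Lib.Helper95.Babai
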