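import Mathlib
import Cfsg.Agent.S0734
import Cfsg.Agent.Lib.Helper95.BabaiA
import Cfsg.Agent.Lib.Helper95.BabaiB
import Cfsg.Agent.Lib.Helper95.BabaiC
import Cfsg.Agent.Lib.Helper95.BabaiD

set_option autoImplicit false

namespace Cfsg.Agent.Lib.Helper95.Babai

open Cfsg.Agent.S0734

variable {G Ω : Type*} [Group G] [MulAction G Ω]

/-- the orbital relation of the pair `(a, b)` -/
def ORel (G : Type*) [Group G] {Ω : Type*} [MulAction G Ω] (a b : Ω) (u v : Ω) : Prop :=
  ∃ g : G, g • a = u ∧ g • b = v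

theorem orel_inv {a b : Ω} : ∀ (g : G) (u w : Ω), ORel G a b u w → ORel G a b (g • u) (g • w) := by
  rintro g u w ⟨k, rfl, rfl⟩
  exact ⟨g * k, mul_smul _ _ _, mul_smul _ _ _⟩

theorem orel_ne {a b : Ω} (hab : a ≠ b) {u v : Ω} (h : ORel G a b u v) : u ≠ v := by
  obtain ⟨g, rfl, rfl⟩ := h
  exact fun h => hab (MulAction.injective g h)

theorem orel_symm {a b : Ω} (hs : ORel G a b b a) {u v : Ω} (h : ORel G a b u v) :
    ORel G a b v u := by
  obtain ⟨g, rfl, rfl⟩ := h
  obtain ⟨k, hk1, hk2⟩ := hs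
  exact ⟨g * k, by rw [mul_smul, hk1], by rw [mul_smul, hk2]⟩

theorem orel_of_both {a b : Ω} {u v : Ω} (h1 : ORel G a b u v) (h2 : ORel G a b v u) :
    ORel G a b b a := by
  obtain ⟨g, hg1, hg2⟩ := h1
  obtain ⟨k, hk1, hk2⟩ := h2
  refine ⟨g⁻¹ * k, ?_, ?_⟩
  · rw [mul_smul, hk1, ← hg2, inv_smul_smul]
  · rw [mul_smul, hk2, ← hg1, inv_smul_smul]

theorem orel_stab {a b : Ω} {x v v0 : Ω} (h1 : ORel G a b x v) (h0 : ORel G a b x v0) :
    ∃ h : G, h • x = x ∧ h • v0 = v := by
  obtain ⟨g, hg1, hg2⟩ := h1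
  obtain ⟨k, hk1, hk2⟩ := h0
  refine ⟨g * k⁻¹, ?_, ?_⟩
  · calc (g * k⁻¹) • x = g • (k⁻¹ • (k • a)) := by rw [mul_smul, hk1]
      _ = x := by rw [inv_smul_smul, hg1]
  · calc (g * k⁻¹) • v0 = g • (k⁻¹ • (k • b)) := by rw [mul_smul, hk2]
      _ = v := by rw [inv_smul_smul, hg2]

theorem adj_iff_orel {a b : Ω} {u v : Ω} :
    (orbGraph G a b).Adj u v ↔ u ≠ v ∧ (ORel G a b u v ∨ ORel G a b v u) := by
  rw [SimpleGraph.fromRel_adj]
  rfl

section Fin

variable [Fintype Ω] {a b : Ω}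

/-- `ρ ≤ 2 s` -/
theorem deg_le_two_mul [MulAction.IsPretransitive G Ω] (x : Ω) :
    (outN (orbGraph G a b).Adj x).card ≤ 2 * (outN (ORel G a b) x).card := by
  classical
  have hsub : outN (orbGraph G a b).Adj x ⊆
      outN (ORel G a b) x ∪ outN (fun u v => ORel G a b v u) x := by
    intro w hw
    rw [mem_outN, adj_iff_orel] at hw
    rw [Finset.mem_union, mem_outN, mem_outN]
    exact hw.2
  have := (Finset.card_le_card hsub).trans (Finset.card_union_le _ _)
  rw [card_inN_eq (G := G) orel_inv x] at this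
  omega

/-- non-symmetric orbital: `2 s ≤ n - 1` -/
theorem two_mul_le_of_not_symm [MulAction.IsPretransitive G Ω] (hab : a ≠ b)
    (hs : ¬ ORel G a b b a) (x : Ω) :
    2 * (outN (ORel G a b) x).card ≤ Fintype.card Ω - 1 := by
  classical
  have hsub : outN (ORel G a b) x ∪ outN (fun u v => ORel G a b v u) x ⊆ Finset.univ.erase x := by
    intro w hw
    rw [Finset.mem_union, mem_outN, mem_outN] at hw
    rw [Finset.mem_erase]
    refine ⟨?_, Finset.mem_univ _⟩
    rcases hw with hw | hw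
    · exact (orel_ne hab hw).symm
    · exact orel_ne hab hw
  have hdisj : Disjoint (outN (ORel G a b) x) (outN (fun u v => ORel G a b v u) x) := by
    rw [Finset.disjoint_left]
    intro w h1 h2
    rw [mem_outN] at h1 h2
    exact hs (orel_of_both h1 h2)
  have := Finset.card_le_card hsub
  rw [Finset.card_union_of_disjoint hdisj, card_inN_eq (G := G) orel_inv x,
    Finset.card_erase_of_mem (Finset.mem_univ x), Finset.card_univ] at this
  omega

/-- symmetric orbital: adjacency is the orbital relation -/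
theorem outN_adj_eq_of_symm (hab : a ≠ b) (hs : ORel G a b b a) (x : Ω) :
    outN (orbGraph G a b).Adj x = outN (ORel G a b) x := by
  ext w
  rw [mem_outN, mem_outN, adj_iff_orel]
  constructor
  · rintro ⟨_, h | h⟩
    · exact h
    · exact orel_symm hs h
  · intro h
    exact ⟨orel_ne hab h, Or.inl h⟩

end Fin

end Cfsg.Agent.Lib.Helper95.Babai
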