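import Mathlib
import Cfsg.Agent.S0734
import Cfsg.Agent.Lib.Helper95.BabaiA
import Cfsg.Agent.Lib.Helper95.BabaiB
import Cfsg.Agent.Lib.Helper95.BabaiC
import Cfsg.Agent.Lib.Helper95.BabaiD
import Cfsg.Agent.Lib.Helper95.BabaiE

set_option autoImplicit false

namespace Cfsg.Agent.Lib.Helper95.Babai

open Cfsg.Agent.S0734

variable {G Ω : Type*} [Group G] [MulAction G Ω]

/-- the complementary relation -/
def CRel (G : Type*) [Group G] {Ω : Type*} [MulAction G Ω] (a b : Ω) (u v : Ω) : Prop :=
  u ≠ v ∧ ¬ ORel G a b u v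

theorem crel_inv {a b : Ω} : ∀ (g : G) (u w : Ω), CRel G a b u w → CRel G a b (g • u) (g • w) := by
  rintro g u w ⟨h1, h2⟩
  refine ⟨fun h => h1 (MulAction.injective g h), fun h => h2 ?_⟩
  have := orel_inv g⁻¹ _ _ h
  rwa [inv_smul_smul, inv_smul_smul] at this

theorem crel_symm {a b : Ω} (hs : ORel G a b b a) {u v : Ω} (h : CRel G a b u v) :
    CRel G a b v u :=
  ⟨h.1.symm, fun h' => h.2 (orel_symm hs h')⟩

section Fin

variable [Fintype Ω] {a b : Ω}

theorem card_outN_crel (hab : a ≠ b) (x : Ω) :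
    (outN (CRel G a b) x).card + (outN (ORel G a b) x).card + 1 = Fintype.card Ω := by
  classical
  have h1 : outN (CRel G a b) x = (Finset.univ.erase x) \ outN (ORel G a b) x := by
    ext w
    rw [mem_outN, Finset.mem_sdiff, Finset.mem_erase, mem_outN]
    unfold CRel
    constructor
    · rintro ⟨h1, h2⟩
      exact ⟨⟨h1.symm, Finset.mem_univ _⟩, h2⟩
    · rintro ⟨⟨h1, _⟩, h2⟩
      exact ⟨h1.symm, h2⟩
  have h2 : outN (ORel G a b) x ⊆ Finset.univ.erase x := by
    intro w hw
    rw [mem_outN] at hw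
    rw [Finset.mem_erase]
    exact ⟨(orel_ne hab hw).symm, Finset.mem_univ _⟩
  rw [h1, Finset.card_sdiff_of_subset h2, Finset.card_erase_of_mem (Finset.mem_univ x),
    Finset.card_univ]
  have h3 := Finset.card_le_card h2
  rw [Finset.card_erase_of_mem (Finset.mem_univ x), Finset.card_univ] at h3
  have hpos : 0 < Fintype.card Ω := Fintype.card_pos_iff.mpr ⟨x⟩
  omega

theorem exists_crel_nbr [MulAction.IsPretransitive G Ω]
    (hconn : ∀ a b : Ω, a ≠ b → (orbGraph G a b).Connected)
    (hab : a ≠ b) (hs : ORel G a b b a) (x w0 : Ω) (hw0 : CRel G a b x w0)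
    (v : Ω) (hv : ORel G a b x v) : ∃ w, CRel G a b x w ∧ CRel G a b w v := by
  by_contra hcon
  push Not at hcon
  -- no out-neighbour of x is C-adjacent to a C-neighbour of x
  have hall : ∀ v', ORel G a b x v' → ∀ w, CRel G a b x w → ¬ CRel G a b w v' := by
    intro v' hv' w hw hwv'
    obtain ⟨h, h1, h2⟩ := orel_stab hv hv'
    -- h x = x, h v' = v
    have hw' : CRel G a b x (h • w) := by
      have := crel_inv h _ _ hw
      rwa [h1] at this
    have := crel_inv h _ _ hwv'
    rw [h2] at this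
    exact hcon _ hw' this
  have hc := hconn x w0 hw0.1
  have hmem := mem_of_closed hc {u | u = x ∨ CRel G a b x u} (x := x) (Or.inl rfl) ?_ v
  · rcases hmem with rfl | hmem
    · exact orel_ne hab hv rfl
    · exact hmem.2 hv
  · intro u hu v' huv'
    -- adjacency in orbGraph x w0 implies CRel
    have hC : CRel G a b u v' := by
      rw [SimpleGraph.fromRel_adj] at huv'
      rcases huv'.2 with ⟨g, rfl, rfl⟩ | ⟨g, rfl, rfl⟩
      · exact crel_inv g _ _ hw0
      · exact crel_symm hs (crel_inv g _ _ hw0)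
    rcases hu with rfl | hu
    · exact Or.inr hC
    · by_cases hx : v' = x
      · exact Or.inl hx
      · by_cases hR : ORel G a b x v'
        · exact absurd hC (hall v' hR u hu)
        · exact Or.inr ⟨fun h => hx h.symm, hR⟩

theorem moore_bound [MulAction.IsPretransitive G Ω]
    (hconn : ∀ a b : Ω, a ≠ b → (orbGraph G a b).Connected)
    (hab : a ≠ b) (hs : ORel G a b b a) (x : Ω) (hk1 : 1 ≤ (outN (CRel G a b) x).card) :
    (outN (ORel G a b) x).card ≤ (outN (CRel G a b) x).card * ((outN (CRel G a b) x).card - 1) := by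
  classical
  obtain ⟨w0, hw0⟩ := Finset.card_pos.mp hk1
  rw [mem_outN] at hw0
  have hsub : outN (ORel G a b) x ⊆
      (outN (CRel G a b) x).biUnion (fun w => (outN (CRel G a b) w).erase x) := by
    intro v hv
    rw [mem_outN] at hv
    obtain ⟨w, hw1, hw2⟩ := exists_crel_nbr hconn hab hs x w0 hw0 v hv
    rw [Finset.mem_biUnion]
    refine ⟨w, mem_outN.mpr hw1, ?_⟩
    rw [Finset.mem_erase, mem_outN]
    exact ⟨(orel_ne hab hv).symm, hw2⟩
  refine (Finset.card_le_card hsub).trans (Finset.card_biUnion_le.trans ?_)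
  rw [← smul_eq_mul, ← Finset.sum_const]
  apply Finset.sum_le_sum
  intro w hw
  rw [mem_outN] at hw
  rw [Finset.card_erase_of_mem (mem_outN.mpr (crel_symm hs hw)),
    card_outN_eq (G := G) crel_inv w x]

end Fin

end Cfsg.Agent.Lib.Helper95.Babai
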