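import Mathlib
import Cfsg.Agent.S0734
import Cfsg.Agent.Lib.Helper95.BabaiA
import Cfsg.Agent.Lib.Helper95.BabaiB
import Cfsg.Agent.Lib.Helper95.BabaiC
import Cfsg.Agent.Lib.Helper95.BabaiD
import Cfsg.Agent.Lib.Helper95.BabaiE
import Cfsg.Agent.Lib.Helper95.BabaiF

set_option autoImplicit false

namespace Cfsg.Agent.Lib.Helper95.Babai

open Cfsg.Agent.S0734

variable {G Ω : Type*} [Group G] [MulAction G Ω]

theorem babai_dichotomy [Fintype Ω] [MulAction.IsPretransitive G Ω]
    (hconn : ∀ a b : Ω, a ≠ b → (orbGraph G a b).Connected) {a b : Ω} (hab : a ≠ b) :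
    Fintype.card Ω ≤ (2 * dnum G a b + 1) ^ 2 ∨ (∀ u v : Ω, u ≠ v → ORel G a b u v) := by
  classical
  have hc := hconn a b hab
  have hT1 := card_le_deg_mul (G := G) hc a
  have hD1 : 1 ≤ dnum G a b := by
    unfold dnum
    exact Finset.card_pos.mpr ⟨a, mem_sepSet.mpr (sep_left hab)⟩
  obtain ⟨D', hD'⟩ : ∃ D', dnum G a b = D' + 1 := ⟨dnum G a b - 1, by omega⟩
  have hk := card_outN_crel (G := G) hab a
  have hnpos : 0 < Fintype.card Ω := Fintype.card_pos_iff.mpr ⟨a⟩
  set n := Fintype.card Ω with hn
  set ρ := (outN (orbGraph G a b).Adj a).card with hρ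
  set s := (outN (ORel G a b) a).card with hs
  set k := (outN (CRel G a b) a).card with hkdef
  rw [hD'] at hT1 ⊢
  have hT1' : n ≤ 1 + ρ * D' := by
    have : D' + 1 - 1 = D' := by omega
    rw [this] at hT1
    omega
  by_cases hI : ∃ u p q v, (orbGraph G a b).Adj u p ∧ (orbGraph G a b).Adj p q ∧
      (orbGraph G a b).Adj q v ∧ ∀ c, ¬ ((orbGraph G a b).Adj u c ∧ (orbGraph G a b).Adj c v)
  · -- Case I
    left
    obtain ⟨u, p, q, v, h1, h2, h3, hno⟩ := hI
    have h := two_deg_le (G := G) a h1 h2 h3 hno
    rw [hD'] at h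
    have : ρ * D' * 2 ≤ (3 * (D' + 1)) * D' := by nlinarith
    nlinarith
  · -- Case II
    have hII : ∀ u p q v, (orbGraph G a b).Adj u p → (orbGraph G a b).Adj p q →
        (orbGraph G a b).Adj q v → ∃ c, (orbGraph G a b).Adj u c ∧ (orbGraph G a b).Adj c v := by
      intro u p q v h1 h2 h3
      by_contra hcon
      push Not at hcon
      exact hI ⟨u, p, q, v, h1, h2, h3, fun c hc => hcon c hc.1 hc.2⟩
    have hE : ∀ v, dnum G a v ≤ 2 * (D' + 1) := by
      intro v
      have := dnum_le_two (G := G) hc hII a v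
      rwa [hD'] at this
    have hcb := count_bound (G := G) (R := ORel G a b) orel_inv a (2 * (D' + 1)) hE
    rw [← hn, ← hs] at hcb
    -- n = k + s + 1
    have hns : n - s = k + 1 := by omega
    have hn1 : n - 1 = k + s := by omega
    rw [hns, hn1] at hcb
    have hcb' : s * (k + 1) ≤ (k + s) * (D' + 1) := by nlinarith
    have hρs : ρ ≤ 2 * s := deg_le_two_mul (G := G) a
    by_cases h2s : 2 * s ≤ n
    · left
      have hsk : s ≤ k + 1 := by omega
      have hs2D : s ≤ 2 * D' + 1 := by
        by_contra hcon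
        push Not at hcon
        nlinarith
      have : ρ * D' ≤ 2 * (2 * D' + 1) * D' := by
        calc ρ * D' ≤ (2 * s) * D' := Nat.mul_le_mul_right _ hρs
          _ ≤ (2 * (2 * D' + 1)) * D' := Nat.mul_le_mul_right _ (by omega)
          _ = 2 * (2 * D' + 1) * D' := rfl
      nlinarith
    · push Not at h2s
      have hsym : ORel G a b b a := by
        by_contra hcon
        have := two_mul_le_of_not_symm (G := G) hab hcon a
        rw [← hn, ← hs] at this
        omega
      have hρeq : ρ = s := by
        rw [hρ, outN_adj_eq_of_symm (G := G) hab hsym a]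
      have hks : k + 1 < s := by omega
      have hk2D : k + 1 ≤ 2 * D' + 1 := by
        by_contra hcon
        push Not at hcon
        nlinarith
      by_cases hk0 : k = 0
      · right
        have hall : ∀ v, v ≠ a → ORel G a b a v := by
          intro v hv
          by_contra hcon
          have : v ∈ outN (CRel G a b) a := mem_outN.mpr ⟨hv.symm, hcon⟩
          rw [hkdef, Finset.card_eq_zero] at hk0
          rw [hk0] at this
          exact absurd this (Finset.notMem_empty _)
        intro u v huv
        obtain ⟨g, rfl⟩ := MulAction.exists_smul_eq G a u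
        have hv : g⁻¹ • v ≠ a := by
          intro h
          apply huv
          rw [← h, smul_inv_smul]
        have := orel_inv g _ _ (hall _ hv)
        rwa [smul_inv_smul] at this
      · left
        have hk1 : 1 ≤ k := Nat.one_le_iff_ne_zero.mpr hk0
        have hm := moore_bound (G := G) hconn hab hsym a hk1
        rw [← hkdef, ← hs] at hm
        obtain ⟨k', hk'⟩ : ∃ k', k = k' + 1 := ⟨k - 1, by omega⟩
        have hkk : k - 1 = k' := by omega
        rw [hkk, hk'] at hm
        have hk'D : k' + 1 ≤ 2 * D' := by omega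
        have hn2 : n = k' + 1 + s + 1 := by omega
        nlinarith

end Cfsg.Agent.Lib.Helper95.Babai
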