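import Mathlib

set_option autoImplicit false

namespace Cfsg.Agent.Lib.Helper95.Babai

theorem card_fibre_mul_le {T X : Type*} [Group T] [Finite T] [MulAction T X] (a b : X) :
    Nat.card {h : T // h • a = b} * (MulAction.orbit T a).ncard ≤ Nat.card T := by
  by_cases hex : ∃ h0 : T, h0 • a = b
  · obtain ⟨h0, rfl⟩ := hex
    have e : {h : T // h • a = h0 • a} ≃ MulAction.stabilizer T a :=
      { toFun := fun h => ⟨h0⁻¹ * h.1, by
          rw [MulAction.mem_stabilizer_iff, mul_smul, h.2, inv_smul_smul]⟩
        invFun := fun k => ⟨h0 * k.1, by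
          rw [mul_smul, MulAction.mem_stabilizer_iff.mp k.2]⟩
        left_inv := fun h => by
          apply Subtype.ext
          simp
        right_inv := fun k => by
          apply Subtype.ext
          simp }
    rw [Nat.card_congr e, ← MulAction.index_stabilizer, Subgroup.card_mul_index]
  · have : IsEmpty {h : T // h • a = b} := ⟨fun h => hex ⟨h.1, h.2⟩⟩
    simp

theorem exists_smul_disjoint {T X : Type*} [Group T] [Finite T] [MulAction T X] [DecidableEq X]
    (A B : Finset X) (N : ℕ) (hN : ∀ a ∈ A, N ≤ (MulAction.orbit T a).ncard)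
    (hlt : A.card * B.card < N) : ∃ h : T, ∀ a ∈ A, h • a ∉ B := by
  classical
  have := Fintype.ofFinite T
  by_contra hcon
  push Not at hcon
  have hcover : (Finset.univ : Finset T) ⊆
      (A ×ˢ B).biUnion (fun p => Finset.univ.filter (fun h : T => h • p.1 = p.2)) := by
    intro h _
    obtain ⟨a, ha, hb⟩ := hcon h
    rw [Finset.mem_biUnion]
    exact ⟨(a, h • a), Finset.mem_product.mpr ⟨ha, hb⟩, by simp⟩
  have h1 : Fintype.card T ≤
      ∑ p ∈ A ×ˢ B, (Finset.univ.filter (fun h : T => h • p.1 = p.2)).card := by
    rw [← Finset.card_univ]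
    exact (Finset.card_le_card hcover).trans Finset.card_biUnion_le
  have h2 : ∀ p ∈ A ×ˢ B,
      (Finset.univ.filter (fun h : T => h • p.1 = p.2)).card * N ≤ Fintype.card T := by
    intro p hp
    rw [Finset.mem_product] at hp
    have := card_fibre_mul_le (T := T) p.1 p.2
    rw [Nat.card_eq_fintype_card, Nat.card_eq_fintype_card, Fintype.card_subtype] at this
    exact (Nat.mul_le_mul_left _ (hN p.1 hp.1)).trans this
  have h3 : (∑ p ∈ A ×ˢ B, (Finset.univ.filter (fun h : T => h • p.1 = p.2)).card) * N
      ≤ (A.card * B.card) * Fintype.card T := by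
    rw [Finset.sum_mul]
    calc ∑ p ∈ A ×ˢ B, (Finset.univ.filter (fun h : T => h • p.1 = p.2)).card * N
        ≤ ∑ _p ∈ A ×ˢ B, Fintype.card T := Finset.sum_le_sum h2
      _ = (A.card * B.card) * Fintype.card T := by
        rw [Finset.sum_const, Finset.card_product, smul_eq_mul]
  have hT : 0 < Fintype.card T := Fintype.card_pos
  have h4 : Fintype.card T * N ≤ (A.card * B.card) * Fintype.card T :=
    (Nat.mul_le_mul_right _ h1).trans h3
  have h5 : (A.card * B.card) * Fintype.card T < N * Fintype.card T :=
    Nat.mul_lt_mul_of_pos_right hlt hT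
  rw [mul_comm] at h4
  exact absurd h4 (not_le.mpr h5)

theorem isThreeCycle_commutator {α : Type*} [Fintype α] [DecidableEq α] (σ τ : Equiv.Perm α)
    (a : α) (hσ : σ a ≠ a) (hτ : τ a ≠ a) (h : ∀ y, σ y ≠ y → τ y ≠ y → y = a) :
    (σ * τ * σ⁻¹ * τ⁻¹).IsThreeCycle := by
  have ais : ∀ (f : Equiv.Perm α) (y : α), f (f⁻¹ y) = y := fun f y => by
    rw [Equiv.Perm.inv_def]; exact f.apply_symm_apply y
  have ias : ∀ (f : Equiv.Perm α) (y : α), f⁻¹ (f y) = y := fun f y => by
    rw [Equiv.Perm.inv_def]; exact f.symm_apply_apply y
  have hi : ∀ y, y ≠ a → σ y = y ∨ τ y = y := by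
    intro y hy
    by_contra hcon
    push Not at hcon
    exact hy (h y hcon.1 hcon.2)
  have hσi : ∀ y, σ y = y → σ⁻¹ y = y := fun y hy => by
    rw [Equiv.Perm.inv_eq_iff_eq]; exact hy.symm
  have hτi : ∀ y, τ y = y → τ⁻¹ y = y := fun y hy => by
    rw [Equiv.Perm.inv_eq_iff_eq]; exact hy.symm
  have hστ : σ a ≠ τ a := by
    intro heq
    have h1 : σ (σ a) ≠ σ a := fun hh => hσ (σ.injective hh)
    have h2 : τ (σ a) ≠ σ a := by
      rw [heq]; exact fun hh => hτ (τ.injective hh)
    exact hσ (h _ h1 h2)
  -- σ fixes τ a, τ fixes σ a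
  have hσa : τ (σ a) = σ a := by
    rcases hi (σ a) hσ with h1 | h1
    · exact absurd (σ.injective h1) hσ
    · exact h1
  have hτa : σ (τ a) = τ a := by
    rcases hi (τ a) hτ with h1 | h1
    · exact h1
    · exact absurd (τ.injective h1) hτ
  have key : σ * τ * σ⁻¹ * τ⁻¹ = Equiv.swap a (τ a) * Equiv.swap a (σ a) := by
    ext x
    simp only [Equiv.Perm.mul_apply]
    by_cases hxa : x = a
    · subst hxa
      rw [Equiv.swap_apply_left, Equiv.swap_apply_of_ne_of_ne hσ hστ]
      -- u = τ⁻¹ x
      have hu : τ⁻¹ x ≠ x := fun hh => hτ (by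
        have := congrArg τ hh
        rw [ais] at this
        exact this.symm)
      have hτu : τ (τ⁻¹ x) ≠ τ⁻¹ x := by
        rw [ais]; exact fun hh => hu hh.symm
      have hσu : σ (τ⁻¹ x) = τ⁻¹ x := by
        rcases hi _ hu with h1 | h1
        · exact h1
        · exact absurd h1 hτu
      rw [hσi _ hσu, ais]
    · by_cases hxs : x = σ a
      · subst hxs
        rw [Equiv.swap_apply_right, Equiv.swap_apply_left]
        rw [hτi _ hσa, ias, hτa]
      · by_cases hxt : x = τ a
        · subst hxt
          rw [Equiv.swap_apply_of_ne_of_ne hτ (fun hh => hστ hh.symm), Equiv.swap_apply_right]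
          rw [ias]
          -- v = σ⁻¹ a
          have hv : σ⁻¹ a ≠ a := fun hh => hσ (by
            have := congrArg σ hh
            rw [ais] at this
            exact this.symm)
          have hσv : σ (σ⁻¹ a) ≠ σ⁻¹ a := by
            rw [ais]; exact fun hh => hv hh.symm
          have hτv : τ (σ⁻¹ a) = σ⁻¹ a := by
            rcases hi _ hv with h1 | h1
            · exact absurd h1 hσv
            · exact h1
          rw [hτv, ais]
        · rw [Equiv.swap_apply_of_ne_of_ne hxa hxs, Equiv.swap_apply_of_ne_of_ne hxa hxt]
          by_cases hτx : τ x = x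
          · rw [hτi _ hτx]
            by_cases hσx : σ x = x
            · rw [hσi _ hσx, hτx, hσx]
            · -- z = σ⁻¹ x
              have hz : σ⁻¹ x ≠ a := fun hh => hxs (by
                have := congrArg σ hh
                rw [ais] at this
                exact this)
              have hσz : σ (σ⁻¹ x) ≠ σ⁻¹ x := by
                rw [ais]
                intro hh
                apply hσx
                have := congrArg σ hh
                rw [ais] at this
                exact this
              have hτz : τ (σ⁻¹ x) = σ⁻¹ x := by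
                rcases hi _ hz with h1 | h1
                · exact absurd h1 hσz
                · exact h1
              rw [hτz, ais]
          · have hσx : σ x = x := by
              rcases hi _ hxa with h1 | h1
              · exact h1
              · exact absurd h1 hτx
            have hy : τ⁻¹ x ≠ a := fun hh => hxt (by
              have := congrArg τ hh
              rw [ais] at this
              exact this)
            have hτy : τ (τ⁻¹ x) ≠ τ⁻¹ x := by
              rw [ais]
              intro hh
              apply hτx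
              have := congrArg τ hh
              rw [ais] at this
              exact this
            have hσy : σ (τ⁻¹ x) = τ⁻¹ x := by
              rcases hi _ hy with h1 | h1
              · exact h1
              · exact absurd h1 hτy
            rw [hσi _ hσy, ais, hσx]
  rw [key]
  exact Equiv.Perm.isThreeCycle_swap_mul_swap_same (fun hh => hτ hh.symm) (fun hh => hσ hh.symm)
    (fun hh => hστ hh.symm)

end Cfsg.Agent.Lib.Helper95.Babai
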