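import Mathlib
import Cfsg.Agent.Lib.Helper95.BabaiH

set_option autoImplicit false

namespace Cfsg.Agent.Lib.Helper95.Babai

theorem two_trans_bound {G Ω : Type*} [Group G] [Finite G] [MulAction G Ω] [Fintype Ω]
    [DecidableEq Ω] (hprim : MulAction.IsPreprimitive G Ω)
    (hA : ¬ alternatingGroup Ω ≤ (MulAction.toPermHom G Ω).range)
    (h2 : ∀ u v u' v' : Ω, u ≠ v → u' ≠ v' → ∃ g : G, g • u = u' ∧ g • v = v')
    (g : G) (x : Ω) (hx : g • x ≠ x) (M : Finset Ω) (hM : ∀ y, y ∈ M ↔ g • y ≠ y) :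
    Fintype.card Ω - 1 ≤ (M.card - 1) ^ 2 := by
  by_contra hlt
  push Not at hlt
  have hxM : x ∈ M := (hM x).mpr hx
  have hAcard : (M.erase x).card = M.card - 1 := Finset.card_erase_of_mem hxM
  have hN : ∀ β ∈ M.erase x,
      Fintype.card Ω - 1 ≤ (MulAction.orbit (MulAction.stabilizer G x) β).ncard := by
    intro β hβ
    have hβx : β ≠ x := (Finset.mem_erase.mp hβ).1
    have hsub : ((Finset.univ.erase x : Finset Ω) : Set Ω) ⊆
        MulAction.orbit (MulAction.stabilizer G x) β := by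
      intro γ hγ
      have hγx : γ ≠ x := by simpa using hγ
      obtain ⟨h, h1, h2'⟩ := h2 x β x γ hβx.symm hγx.symm
      exact ⟨⟨h, h1⟩, h2'⟩
    have := Set.ncard_le_ncard hsub (Set.toFinite _)
    rwa [Set.ncard_coe_finset, Finset.card_erase_of_mem (Finset.mem_univ x),
      Finset.card_univ] at this
  obtain ⟨h, hh⟩ := exists_smul_disjoint (T := MulAction.stabilizer G x) (M.erase x) (M.erase x)
    (Fintype.card Ω - 1) hN (by rw [hAcard, ← sq]; exact hlt)
  obtain ⟨h0, hh0⟩ := h
  have hh0' : h0 • x = x := hh0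
  have hh0i : h0⁻¹ • x = x := by rw [inv_smul_eq_iff, hh0']
  set σ : Equiv.Perm Ω := MulAction.toPerm g with hσdef
  set τ : Equiv.Perm Ω := MulAction.toPerm (h0 * g * h0⁻¹) with hτdef
  have hσx : σ x ≠ x := hx
  have hτapp : ∀ y, τ y = h0 • g • h0⁻¹ • y := by
    intro y
    rw [hτdef, MulAction.toPerm_apply, mul_smul, mul_smul]
  have hτx : τ x ≠ x := by
    rw [hτapp, hh0i]
    intro hcon
    apply hx
    have := congrArg (fun z => h0⁻¹ • z) hcon
    simp only [inv_smul_smul] at this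
    rw [hh0i] at this
    exact this
  have hinter : ∀ y, σ y ≠ y → τ y ≠ y → y = x := by
    intro y hσy hτy
    by_contra hyx
    have hyM : y ∈ M.erase x := Finset.mem_erase.mpr ⟨hyx, (hM y).mpr hσy⟩
    have hβ : h0⁻¹ • y ∈ M.erase x := by
      rw [Finset.mem_erase, hM]
      constructor
      · intro hcon
        apply hyx
        rw [inv_smul_eq_iff, hh0'] at hcon
        exact hcon
      · intro hcon
        apply hτy
        rw [hτapp, hcon, smul_inv_smul]
    have := hh _ hβ
    apply this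
    have e : (⟨h0, hh0⟩ : MulAction.stabilizer G x) • (h0⁻¹ • y) = y := by
      change h0 • (h0⁻¹ • y) = y
      rw [smul_inv_smul]
    rw [e]
    exact hyM
  have three := isThreeCycle_commutator σ τ x hσx hτx hinter
  have hmem : σ * τ * σ⁻¹ * τ⁻¹ ∈ (MulAction.toPermHom G Ω).range := by
    refine ⟨g * (h0 * g * h0⁻¹) * g⁻¹ * (h0 * g * h0⁻¹)⁻¹, ?_⟩
    show MulAction.toPermHom G Ω _ = MulAction.toPermHom G Ω g *
      MulAction.toPermHom G Ω (h0 * g * h0⁻¹) * (MulAction.toPermHom G Ω g)⁻¹ *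
      (MulAction.toPermHom G Ω (h0 * g * h0⁻¹))⁻¹
    simp only [map_mul, map_inv]
  have hprim' : MulAction.IsPreprimitive (MulAction.toPermHom G Ω).range Ω := by
    let φ : G → (MulAction.toPermHom G Ω).range := (MulAction.toPermHom G Ω).rangeRestrict
    let f : Ω →ₑ[φ] Ω := { toFun := id, map_smul' := fun k y => rfl }
    exact MulAction.IsPreprimitive.of_surjective (f := f) Function.surjective_id
  exact hA (Equiv.Perm.alternatingGroup_le_of_isPreprimitive_of_isThreeCycle_mem hprim' three hmem)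

end Cfsg.Agent.Lib.Helper95.Babai
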