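import Mathlib
import Cfsg.Prelude.Def_GeometricClasses
import Cfsg.Agent.Lib.Helper99.AschDefs
import Cfsg.Agent.Lib.Helper99.AschDefsR
import Cfsg.Agent.Lib.Helper95.BhrE5

/-!
# BHR-[E6] (helper99's project ASCH, second sheet) (helper95)

`decomp_planes_four_card_three`: over `F₃` the part of determinant one of the stabiliser of a decomposition of `F⁴`
into two planes consists of similarities of the direct sum of the determinant forms of the planes.

The determinant of `g` is computed by the Pfaffian identity `det X = Pf (Xᵀ J X)` for 4 × 4 matrices: it is the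
product of the two plane factors of `g`.
-/

set_option autoImplicit false

namespace Cfsg.Agent.Lib.Helper95.BhrE6

open Cfsg Cfsg.Geo Module
open scoped MatrixGroups Matrix

/-- the Pfaffian identity for 4 × 4 matrices and the form `x₀y₁ - x₁y₀ + x₂y₃ - x₃y₂` -/
theorem det_four_pfaffian {R : Type*} [CommRing R] (X : Matrix (Fin 4) (Fin 4) R) :
    X.det =
      (X 0 0 * X 1 1 - X 1 0 * X 0 1 + (X 2 0 * X 3 1 - X 3 0 * X 2 1)) *
        (X 0 2 * X 1 3 - X 1 2 * X 0 3 + (X 2 2 * X 3 3 - X 3 2 * X 2 3)) -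
      (X 0 0 * X 1 2 - X 1 0 * X 0 2 + (X 2 0 * X 3 2 - X 3 0 * X 2 2)) *
        (X 0 1 * X 1 3 - X 1 1 * X 0 3 + (X 2 1 * X 3 3 - X 3 1 * X 2 3)) +
      (X 0 0 * X 1 3 - X 1 0 * X 0 3 + (X 2 0 * X 3 3 - X 3 0 * X 2 3)) *
        (X 0 1 * X 1 2 - X 1 1 * X 0 2 + (X 2 1 * X 3 2 - X 3 1 * X 2 2)) := by
  have h1 : (Fin.succ (2 : Fin 3)) = (3 : Fin 4) := rfl
  have h2 : Fin.succAbove (2 : Fin 4) (2 : Fin 3) = 3 := by decide
  have h3 : Fin.succAbove (1 : Fin 4) (2 : Fin 3) = 3 := by decide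
  have h4 : Fin.succAbove (3 : Fin 4) (2 : Fin 3) = 2 := by decide
  rw [Matrix.det_succ_row_zero]
  simp only [Fin.sum_univ_succ, Matrix.det_fin_three, Matrix.submatrix_apply, Fin.succ_zero_eq_one,
    Fin.succ_one_eq_two, Fin.val_zero, Fin.zero_succAbove, Finset.univ_unique, Fin.val_succ,
    Fin.default_eq_zero, Finset.sum_singleton, Fin.succ_succAbove_zero, Fin.succ_succAbove_one,
    h1, h2, h3, h4]
  ring

/-- the enumeration of the index set of the collected basis -/
def idx : Fin 4 → (Σ _ : Fin 2, Fin 2) := ![⟨0, 0⟩, ⟨0, 1⟩, ⟨1, 0⟩, ⟨1, 1⟩]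

theorem idx_bijective : Function.Bijective idx := by decide

/-- the index equivalence -/
noncomputable def idxEquiv : (Σ _ : Fin 2, Fin 2) ≃ Fin 4 := (Equiv.ofBijective idx idx_bijective).symm

theorem idxEquiv_symm_apply (s : Fin 4) : idxEquiv.symm s = idx s := rfl

theorem idx_zero : idx 0 = ⟨0, 0⟩ := rfl
theorem idx_one : idx 1 = ⟨0, 1⟩ := rfl
theorem idx_two : idx 2 = ⟨1, 0⟩ := rfl
theorem idx_three : idx 3 = ⟨1, 1⟩ := rfl

variable {F : Type*} [Field F]

section general
variable {D : Fin 2 → Submodule F (Fin 4 → F)} (hint : DirectSum.IsInternal D)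
  (b : ∀ i, Basis (Fin 2) F (D i))

open Cfsg.Agent.Lib.Helper95.BhrE5

/-- the determinant of an endomorphism through the plane form -/
theorem det_eq_planeForm (G : (Fin 4 → F) →ₗ[F] (Fin 4 → F)) :
    LinearMap.det G =
      planeForm hint b (G (hint.collectedBasis b ⟨0, 0⟩)) (G (hint.collectedBasis b ⟨0, 1⟩)) *
        planeForm hint b (G (hint.collectedBasis b ⟨1, 0⟩)) (G (hint.collectedBasis b ⟨1, 1⟩)) -
      planeForm hint b (G (hint.collectedBasis b ⟨0, 0⟩)) (G (hint.collectedBasis b ⟨1, 0⟩)) *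
        planeForm hint b (G (hint.collectedBasis b ⟨0, 1⟩)) (G (hint.collectedBasis b ⟨1, 1⟩)) +
      planeForm hint b (G (hint.collectedBasis b ⟨0, 0⟩)) (G (hint.collectedBasis b ⟨1, 1⟩)) *
        planeForm hint b (G (hint.collectedBasis b ⟨0, 1⟩)) (G (hint.collectedBasis b ⟨1, 0⟩)) := by
  rw [← LinearMap.det_toMatrix ((hint.collectedBasis b).reindex idxEquiv), det_four_pfaffian]
  simp only [LinearMap.toMatrix_apply, Basis.reindex_apply, Basis.repr_reindex_apply,
    idxEquiv_symm_apply, planeForm_apply, Fin.sum_univ_two]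
  simp only [idx_zero, idx_one, idx_two, idx_three]

/-- the value of the plane form on the two basis vectors of a plane -/
theorem planeForm_basis_pair (i : Fin 2) :
    planeForm hint b (hint.collectedBasis b ⟨i, 0⟩) (hint.collectedBasis b ⟨i, 1⟩) = 1 := by
  rw [planeForm_basis_one, Basis.repr_self, Finsupp.single_eq_same]

/-- the determinant of an element of the stabiliser is the product of its two plane factors -/
theorem det_eq_mul (g : GL (Fin 4) F) (σ : Equiv.Perm (Fin 2))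
    (hσ : ∀ i, (D i).map (Matrix.toLin' (g : Matrix (Fin 4) (Fin 4) F)) = D (σ i)) (c : Fin 2 → F)
    (hc : ∀ i, ∀ x ∈ D i, ∀ y ∈ D i,
      planeForm hint b ((g : Matrix (Fin 4) (Fin 4) F) *ᵥ x) ((g : Matrix (Fin 4) (Fin 4) F) *ᵥ y) =
        c i * planeForm hint b x y) :
    (g : Matrix (Fin 4) (Fin 4) F).det = c 0 * c 1 := by
  set G : (Fin 4 → F) →ₗ[F] (Fin 4 → F) := Matrix.toLin' (g : Matrix (Fin 4) (Fin 4) F) with hG
  have hGmem : ∀ i, ∀ x ∈ D i, G x ∈ D (σ i) := by
    intro i x hx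
    rw [← hσ i]
    exact Submodule.mem_map_of_mem hx
  have hm : ∀ p : (Σ _ : Fin 2, Fin 2), hint.collectedBasis b p ∈ D p.1 :=
    fun p => hint.collectedBasis_mem b p
  have h01 : σ 0 ≠ σ 1 := fun h => absurd (σ.injective h) (by decide)
  have hz : ∀ k l : Fin 2, planeForm hint b (G (hint.collectedBasis b ⟨0, k⟩))
      (G (hint.collectedBasis b ⟨1, l⟩)) = 0 := fun k l =>
    planeForm_of_mem_ne hint b (hGmem 0 _ (hm ⟨0, k⟩)) (hGmem 1 _ (hm ⟨1, l⟩)) h01
  have hp : ∀ i : Fin 2, planeForm hint b (G (hint.collectedBasis b ⟨i, 0⟩))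
      (G (hint.collectedBasis b ⟨i, 1⟩)) = c i := by
    intro i
    have := hc i _ (hm ⟨i, 0⟩) _ (hm ⟨i, 1⟩)
    rw [planeForm_basis_pair, mul_one] at this
    rw [hG, Matrix.toLin'_apply, Matrix.toLin'_apply]
    exact this
  rw [← LinearMap.det_toLin', ← hG, det_eq_planeForm hint b G, hz 0 0, hz 0 1, hp, hp]
  ring

end general

end Cfsg.Agent.Lib.Helper95.BhrE6

namespace Cfsg.Agent.Lib.Helper99.Asch

open Cfsg Cfsg.Geo
open scoped MatrixGroups Matrix Kronecker

variable {n : ℕ} {F : Type*} [Field F] [Fintype F]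

/-- BHR-[E6] -/
theorem decomp_planes_four_card_three (D : Fin 2 → Submodule F (Fin 4 → F))
    (hD : IsMDecomposition 2 D) (hq : Fintype.card F = 3) :
    ∃ f : (Fin 4 → F) → (Fin 4 → F) → F, IsSymplecticForm f ∧
      decompositionStabilizer D ⊓ specialLinear (Fin 4) F ≤ similarityGroup f := by
  classical
  have hint : DirectSum.IsInternal D :=
    DirectSum.isInternal_submodule_of_iSupIndep_of_iSup_eq_top hD.indep hD.iSup_eq_top
  let b : ∀ i, Module.Basis (Fin 2) F (D i) := fun i => Module.finBasisOfFinrankEq F (D i) (hD.finrank_eq i)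
  have hsq : ∀ c : F, c ≠ 0 → c * c = 1 := by
    intro c hc
    have := FiniteField.pow_card_sub_one_eq_one c hc
    rw [hq] at this
    rw [← this]
    ring
  refine ⟨fun u v => Cfsg.Agent.Lib.Helper95.BhrE5.planeForm hint b u v,
    Cfsg.Agent.Lib.Helper95.BhrE5.planeForm_isSymplectic hint b, ?_⟩
  rintro g ⟨⟨σ, hσ⟩, hdet⟩
  have hc := fun i => Cfsg.Agent.Lib.Helper95.BhrE5.planeForm_map hint b hD.finrank_eq g σ hσ i
  choose c hc0 hc using hc
  have hdet1 : (g : Matrix (Fin 4) (Fin 4) F).det = 1 := by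
    have h1 : Matrix.GeneralLinearGroup.det g = 1 := hdet
    have h2 := congrArg (fun u : Fˣ => (u : F)) h1
    simpa using h2
  have hprod : c 0 * c 1 = 1 := by
    rw [← Cfsg.Agent.Lib.Helper95.BhrE6.det_eq_mul hint b g σ hσ c hc, hdet1]
  have hceq : c 1 = c 0 := by
    calc c 1 = (c 0 * c 0) * c 1 := by rw [hsq (c 0) (hc0 0), one_mul]
      _ = c 0 * (c 0 * c 1) := by ring
      _ = c 0 := by rw [hprod, mul_one]
  refine ⟨Units.mk0 (c 0) (hc0 0), fun u v => ?_⟩
  rw [Units.val_mk0]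
  apply Cfsg.Agent.Lib.Helper95.BhrE5.planeForm_similarity hint b g σ hσ (c 0)
  intro i x hx y hy
  rw [hc i x hx y hy]
  congr 1
  fin_cases i
  · rfl
  · exact hceq

end Cfsg.Agent.Lib.Helper99.Asch
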