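/-
helper95: S5634 part 2 (helper94's BLK project), module BLK-[1] `exists_nonblock_tv`, exact skeleton statement:
`Blk1Of.exists_nonblock_tv_of` + helper54's [BLK-1B] `mem_stabDec_of_forall`.
-/
import Mathlib
import Cfsg.Agent.Lib.Helper95.Blk1Of
import Cfsg.Agent.Lib.Helper54.BlkOneB
set_option autoImplicit false
namespace Cfsg.Agent.Lib.Helper95.Blk1
open Cfsg.Agent.Lib.Helper94 Cfsg.Agent.Lib.Helper94.SympData Cfsg.Agent.Lib.Helper94.Blk
variable {K V : Type*} [Field K] [AddCommGroup V] [Module K V] [FiniteDimensional K V]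
  {t m : ℕ} {D : Fin t → Submodule K V}

/-- [BLK-1] -/
theorem exists_nonblock_tv (hD : LDecomp m D) (hm : 2 ≤ m) {M : Subgroup (V ≃ₗ[K] V)}
    (hNM : stabDec D ⊓ SLe K V ≤ M) {g : V ≃ₗ[K] V} (hg : g ∈ M) (hgs : g ∉ stabDec D) :
    ∃ (f : Module.Dual K V) (v : V), TvIn M f v ∧ f ≠ 0 ∧ v ≠ 0 ∧ ¬ IsBlock D f v :=
  exists_nonblock_tv_of
    (fun h => Cfsg.Agent.Lib.Helper54.Blk1B.mem_stabDec_of_forall hD (by omega) h) hD hm hNM hg hgs

end Cfsg.Agent.Lib.Helper95.Blk1
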