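import Mathlib
import Cfsg.Prelude.Def_Classical

/-!
# Reindexing isometry groups (helper95)

`isometryGroup_reindex`: if `Q' w = Q (w ∘ e)` for an equivalence `e : ι ≃ κ` of index types, then the
isometry groups `Cfsg.isometryGroup F Q'` and `Cfsg.isometryGroup F Q` are isomorphic.
-/

set_option autoImplicit false

namespace Cfsg.Agent.Lib.Helper95

open Matrix

/-- transfer of isometry groups along a reindexing -/
theorem isometryGroup_reindex {ι κ : Type} [Fintype ι] [DecidableEq ι] [Fintype κ] [DecidableEq κ]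
    (F : Type*) [Field F] (e : ι ≃ κ) (Q : (ι → F) → F) (Q' : (κ → F) → F)
    (h : ∀ w, Q' w = Q (w ∘ e)) :
    Nonempty (Cfsg.isometryGroup F Q' ≃* Cfsg.isometryGroup F Q) := by
  let φ : Matrix.GeneralLinearGroup κ F ≃* Matrix.GeneralLinearGroup ι F :=
    Units.mapEquiv (Matrix.reindexAlgEquiv F F e.symm).toMulEquiv
  have hφ : ∀ g : Matrix.GeneralLinearGroup κ F, ∀ v : ι → F,
      ((φ g : Matrix.GeneralLinearGroup ι F) : Matrix ι ι F) *ᵥ v
        = ((g : Matrix κ κ F) *ᵥ (v ∘ e.symm)) ∘ e := by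
    intro g v
    show (Matrix.reindex e.symm e.symm (g : Matrix κ κ F)) *ᵥ v = _
    rw [Matrix.reindex_apply, Matrix.submatrix_mulVec_equiv]
    simp
  have hmem : ∀ g : Matrix.GeneralLinearGroup κ F,
      g ∈ Cfsg.isometryGroup F Q' ↔ φ g ∈ Cfsg.isometryGroup F Q := by
    intro g
    constructor
    · intro hg u _
      show Q (((φ g : Matrix.GeneralLinearGroup ι F) : Matrix ι ι F) *ᵥ u) = Q u
      rw [hφ, ← h]
      have h2 : Q' ((g : Matrix κ κ F) *ᵥ (u ∘ e.symm)) = Q' (u ∘ e.symm) :=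
        hg (u ∘ e.symm) (u ∘ e.symm)
      rw [h2, h]
      congr 1
      ext i; simp
    · intro hg w _
      show Q' ((g : Matrix κ κ F) *ᵥ w) = Q' w
      have h2 : Q (((φ g : Matrix.GeneralLinearGroup ι F) : Matrix ι ι F) *ᵥ (w ∘ e)) = Q (w ∘ e) :=
        hg (w ∘ e) (w ∘ e)
      have hw : (w ∘ e) ∘ e.symm = w := by ext i; simp
      rw [hφ, hw] at h2
      rw [h, h w, h2]
  refine ⟨{ toFun := fun g => ⟨φ g.1, (hmem g.1).mp g.2⟩
            invFun := fun g => ⟨φ.symm g.1, (hmem _).mpr (by rw [MulEquiv.apply_symm_apply]; exact g.2)⟩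
            left_inv := fun g => Subtype.ext (φ.symm_apply_apply g.1)
            right_inv := fun g => Subtype.ext (φ.apply_symm_apply g.1)
            map_mul' := fun g g' => Subtype.ext (map_mul φ g.1 g'.1) }⟩

end Cfsg.Agent.Lib.Helper95
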