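import Mathlib
import Cfsg.Prelude.Def_KGroupFacts
import Cfsg.Agent.S2247
import Cfsg.Agent.Lib.Helper6.SzTI
import Cfsg.Agent.Lib.Helper6.SzStab

/-!
# Automorphisms of the Suzuki groups (helper95)

`Out(Sz(q))` has order `2m+1` for `q = 2^(2m+1)`.  Skeleton: `Aut G = Inn G · A0` where `A0` is the group of
automorphisms stabilising the pair `(S, S^w)` of opposite Sylow 2-subgroups; `A0` acts on `S/Z(S) ≅ F` by
`a ↦ c τ(a)` with `τ ∈ Aut(F)` (`Psi : A0 →* RingAut F`), the kernel of `Psi` is `A0 ∩ Inn G = conj(H)`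
(`Psi_eq_one_iff`, via `eq_one_of_fOf_id`), and field automorphisms (`phi`) show surjectivity.
-/

set_option autoImplicit false
set_option linter.unusedSectionVars false
set_option linter.unusedSimpArgs false

namespace Cfsg.Agent.Lib.Helper95.OutSz

open Cfsg Cfsg.Agent.Lib.Helper6 Cfsg.Agent.S2247 Matrix MulAction


/-- Abstract skeleton: `Out G ≃ Γ` (as cardinalities) from a subgroup `A₀` of automorphisms
supplementing `Inn G` with a surjection to `Γ` whose kernel is `A₀ ∩ Inn G`. -/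
theorem card_out_eq {G : Type*} [Group G] {Γ : Type*} [Group Γ] (A₀ : Subgroup (MulAut G))
    (hsup : ∀ β : MulAut G, ∃ g : G, ∃ α ∈ A₀, β = MulAut.conj g * α)
    (Ψ : A₀ →* Γ) (hsurj : Function.Surjective Ψ)
    (hker : ∀ α : A₀, Ψ α = 1 ↔ (α : MulAut G) ∈ Cfsg.Inn G) :
    Nat.card (Cfsg.Out G) = Nat.card Γ := by
  let π : A₀ →* Cfsg.Out G := (QuotientGroup.mk' (Cfsg.Inn G)).comp A₀.subtype
  have hπ : Function.Surjective π := by
    intro q
    obtain ⟨β, rfl⟩ := QuotientGroup.mk_surjective q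
    obtain ⟨g, α, hα, rfl⟩ := hsup β
    refine ⟨⟨α, hα⟩, ?_⟩
    show (QuotientGroup.mk α : Cfsg.Out G) = QuotientGroup.mk (MulAut.conj g * α)
    rw [QuotientGroup.mk_mul]
    have : (QuotientGroup.mk (MulAut.conj g) : Cfsg.Out G) = 1 :=
      (QuotientGroup.eq_one_iff _).mpr ⟨g, rfl⟩
    rw [this, one_mul]
  have hk : π.ker = Ψ.ker := by
    ext α
    rw [MonoidHom.mem_ker, MonoidHom.mem_ker, hker]
    show (QuotientGroup.mk (α : MulAut G) : Cfsg.Out G) = 1 ↔ _
    exact QuotientGroup.eq_one_iff _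
  have e1 := QuotientGroup.quotientKerEquivOfSurjective π hπ
  have e2 := QuotientGroup.quotientKerEquivOfSurjective Ψ hsurj
  rw [← Nat.card_congr e1.toEquiv, ← Nat.card_congr e2.toEquiv, hk]




section basic

variable {F : Type*} [Field F] [Fintype F] [CharP F 2] {m : ℕ} (hσ : SgSq (F := F) m)

/-- the Weyl involution as an element of the Suzuki group -/
noncomputable def wz : Sz F m := ⟨szW, szW_mem hσ⟩

theorem wz_smul_inf : wz hσ • infPt F m = affPt m 0 0 := by
  apply Subtype.ext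
  show (szW : SpecialLinearGroup (Fin 4) F) • suzukiPointInfinity F = szPt m 0 0
  rw [szW_smul_infPt, szPt_zero]

theorem wz_smul_zero : wz hσ • affPt m (0 : F) 0 = infPt F m := by
  apply Subtype.ext
  show (szW : SpecialLinearGroup (Fin 4) F) • szPt m 0 0 = suzukiPointInfinity F
  rw [szPt_zero, szW_smul_zeroPt]

/-- the `a`-coordinate of a translation -/
def aOf (g : Sz F m) : F := g.1.1 2 3
/-- the `b`-coordinate of a translation -/
def bOf (g : Sz F m) : F := g.1.1 1 3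

theorem aOf_tz (a b : F) : aOf (tz hσ a b) = a := by
  simp [aOf, tz, szT, szTmat]

theorem bOf_tz (a b : F) : bOf (tz hσ a b) = b := by
  simp [bOf, tz, szT, szTmat]

theorem hz_mul (k l : Fˣ) : hz hσ (k * l) = hz hσ k * hz hσ l :=
  Subtype.ext (szH_mul k l)

theorem hz_one : hz hσ (1 : Fˣ) = 1 := Subtype.ext szH_one

theorem hz_inj {k l : Fˣ} (h : hz hσ k = hz hσ l) : k = l :=
  szH_injective (congrArg Subtype.val h)

theorem tz_eq_mul (a b : F) : tz hσ a b = tz hσ a 0 * tz hσ 0 b := by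
  rw [tz_mul]; simp

theorem tz0_eq_t0 (b : F) : tz hσ 0 b = t0 hσ b := rfl

end basic

section A0

variable {F : Type*} [Field F] [Fintype F] [CharP F 2] {m : ℕ} (hσ : SgSq (F := F) m)

theorem normalizer_iff_of_iff {G : Type*} [Group G] {K : Subgroup G} (α : MulAut G)
    (h : ∀ g, α g ∈ K ↔ g ∈ K) (g : G) :
    α g ∈ Subgroup.normalizer (K : Set G) ↔ g ∈ Subgroup.normalizer (K : Set G) := by
  rw [Subgroup.mem_normalizer_iff, Subgroup.mem_normalizer_iff]
  constructor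
  · intro hg n
    have := hg (α n)
    rw [h, ← map_inv, ← map_mul, ← map_mul, h] at this
    exact this
  · intro hg n
    obtain ⟨n', rfl⟩ := α.surjective n
    rw [h, ← map_inv, ← map_mul, ← map_mul, h]
    exact hg n'

/-- the opposite Sylow subgroup `w S w⁻¹` -/
noncomputable def Sm : Subgroup (Sz F m) := (szTsub hσ).map (MulAut.conj (wz hσ)).toMonoidHom

variable (hm : 1 ≤ m) (hF : Fintype.card F = 2 ^ (2 * m + 1))

include hm hF in
theorem normalizer_Sm :
    Subgroup.normalizer ((Sm hσ : Subgroup (Sz F m)) : Set (Sz F m)) =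
      stabilizer (Sz F m) (affPt m (0 : F) 0) := by
  have h1 := Subgroup.map_equiv_normalizer_eq (szTsub hσ) (MulAut.conj (wz hσ))
  have h2 : ((szTsub hσ).map (MulAut.conj (wz hσ)).toMonoidHom) = Sm hσ := rfl
  rw [← h2, ← h1, normalizer_eq hσ hm hF, ← wz_smul_inf hσ,
    MulAction.stabilizer_smul_eq_stabilizer_map_conj]

/-- automorphisms stabilising the pair of opposite Sylow 2-subgroups -/
noncomputable def A0 : Subgroup (MulAut (Sz F m)) where
  carrier := {α | (∀ g, α g ∈ szTsub hσ ↔ g ∈ szTsub hσ) ∧ (∀ g, α g ∈ Sm hσ ↔ g ∈ Sm hσ)}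
  mul_mem' := by
    rintro α β ⟨h1, h2⟩ ⟨h3, h4⟩
    refine ⟨fun g => ?_, fun g => ?_⟩
    · rw [MulAut.mul_apply, h1, h3]
    · rw [MulAut.mul_apply, h2, h4]
  one_mem' := ⟨fun g => Iff.rfl, fun g => Iff.rfl⟩
  inv_mem' := by
    rintro α ⟨h1, h2⟩
    refine ⟨fun g => ?_, fun g => ?_⟩
    · rw [← h1, MulAut.apply_inv_self]
    · rw [← h2, MulAut.apply_inv_self]

variable {hσ}

theorem A0.mem_S {α : MulAut (Sz F m)} (hα : α ∈ A0 hσ) (g : Sz F m) :
    α g ∈ szTsub hσ ↔ g ∈ szTsub hσ := hα.1 g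

include hm hF in
theorem A0.mem_stab_inf {α : MulAut (Sz F m)} (hα : α ∈ A0 hσ) (g : Sz F m) :
    α g ∈ stabilizer (Sz F m) (infPt F m) ↔ g ∈ stabilizer (Sz F m) (infPt F m) := by
  rw [← normalizer_eq hσ hm hF]
  exact normalizer_iff_of_iff α hα.1 g

include hm hF in
theorem A0.mem_stab_zero {α : MulAut (Sz F m)} (hα : α ∈ A0 hσ) (g : Sz F m) :
    α g ∈ stabilizer (Sz F m) (affPt m (0 : F) 0) ↔ g ∈ stabilizer (Sz F m) (affPt m (0 : F) 0) := by
  rw [← normalizer_Sm hσ hm hF]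
  exact normalizer_iff_of_iff α hα.2 g

include hm hF in
/-- the two-point stabiliser is the torus -/
theorem eq_hz_of_fix {g : Sz F m} (h1 : g ∈ stabilizer (Sz F m) (infPt F m))
    (h2 : g ∈ stabilizer (Sz F m) (affPt m (0 : F) 0)) : ∃ k : Fˣ, g = hz hσ k := by
  obtain ⟨c, d, k, rfl⟩ := stab_eq hσ hm hF h1
  refine ⟨k, ?_⟩
  rw [mem_stabilizer_iff, mul_smul, hz_smul_aff, mul_zero, mul_zero, tz_smul_aff] at h2
  obtain ⟨hc, hd⟩ := affPt_inj h2
  simp only [zero_add, mul_zero] at hc hd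
  rw [hc, hd, tz_zero, one_mul]

theorem hz_mem_stab_inf (k : Fˣ) : hz hσ k ∈ stabilizer (Sz F m) (infPt F m) :=
  mem_stabilizer_iff.mpr (hz_smul_inf hσ k)

theorem hz_mem_stab_zero (k : Fˣ) : hz hσ k ∈ stabilizer (Sz F m) (affPt m (0 : F) 0) := by
  rw [mem_stabilizer_iff, hz_smul_aff, mul_zero, mul_zero]

include hm hF in
theorem A0.exists_hz {α : MulAut (Sz F m)} (hα : α ∈ A0 hσ) (k : Fˣ) :
    ∃ k' : Fˣ, α (hz hσ k) = hz hσ k' :=
  eq_hz_of_fix hm hF ((A0.mem_stab_inf hm hF hα _).mpr (hz_mem_stab_inf k))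
    ((A0.mem_stab_zero hm hF hα _).mpr (hz_mem_stab_zero k))

theorem A0.exists_tz {α : MulAut (Sz F m)} (hα : α ∈ A0 hσ) (a b : F) :
    ∃ a' b' : F, α (tz hσ a b) = tz hσ a' b' :=
  (mem_szTsub_iff hσ _).mp ((hα.1 _).mpr (tz_mem hσ a b))

theorem A0.exists_t0 {α : MulAut (Sz F m)} (hα : α ∈ A0 hσ) (b : F) :
    ∃ b' : F, α (tz hσ 0 b) = tz hσ 0 b' := by
  have h1 : α (tz hσ 0 b) ∈ szTsub hσ := (hα.1 _).mpr (tz_mem hσ 0 b)
  have h2 : α (tz hσ 0 b) * α (tz hσ 0 b) = 1 := by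
    rw [← map_mul, tz0_eq_t0, t0_mul_self, map_one]
  obtain ⟨b', hb'⟩ := eq_t0_of_mul_self hσ h1 h2
  exact ⟨b', hb'⟩

end A0

section fmap

variable {F : Type*} [Field F] [Fintype F] [CharP F 2] {m : ℕ} (hσ : SgSq (F := F) m)

/-- the action of an automorphism on `S/Z(S) ≅ F` -/
noncomputable def fOf (α : MulAut (Sz F m)) (a : F) : F := aOf (α (tz hσ a 0))

variable {hσ} {α β : MulAut (Sz F m)} (hα : α ∈ A0 hσ) (hβ : β ∈ A0 hσ)

include hα in
theorem map_tz0 (a : F) : α (tz hσ a 0) = tz hσ (fOf hσ α a) (bOf (α (tz hσ a 0))) := by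
  obtain ⟨a', b', h⟩ := A0.exists_tz hα a 0
  rw [fOf, h, aOf_tz, bOf_tz]

include hα in
theorem aOf_map_tz (a b : F) : aOf (α (tz hσ a b)) = fOf hσ α a := by
  obtain ⟨b', hb'⟩ := A0.exists_t0 hα b
  rw [tz_eq_mul hσ a b, map_mul, hb', map_tz0 hα a, tz_mul, aOf_tz, add_zero]

include hα in
theorem map_tz (a b : F) : α (tz hσ a b) = tz hσ (fOf hσ α a) (bOf (α (tz hσ a b))) := by
  obtain ⟨a', b', h⟩ := A0.exists_tz hα a b
  have := aOf_map_tz hα a b
  rw [h, aOf_tz] at this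
  rw [h, bOf_tz, this]

include hα in
theorem fOf_add (a a' : F) : fOf hσ α (a + a') = fOf hσ α a + fOf hσ α a' := by
  have h1 : tz hσ a 0 * tz hσ a' 0 = tz hσ (a + a') (sg m a * a') := by
    rw [tz_mul]; simp
  have h2 := congrArg (fun g => aOf (α g)) h1
  simp only [map_mul] at h2
  rw [aOf_map_tz hα, map_tz0 hα a, map_tz0 hα a', tz_mul, aOf_tz] at h2
  exact h2.symm

include hα in
theorem fOf_zero : fOf hσ α 0 = 0 := by
  have := fOf_add hα 0 0
  rw [add_zero] at this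
  exact left_eq_add.mp this

include hα in
theorem fOf_injective : Function.Injective (fOf hσ α) := by
  intro a a' h
  have h1 : aOf (α (tz hσ (a + a') 0)) = 0 := by
    show fOf hσ α (a + a') = 0
    rw [fOf_add hα, h, CharTwo.add_self_eq_zero]
  obtain ⟨b', hb'⟩ : ∃ b', α (tz hσ (a + a') 0) = tz hσ 0 b' := by
    rw [map_tz0 hα]; exact ⟨_, by rw [show fOf hσ α (a + a') = 0 from h1]⟩
  obtain ⟨b'', hb''⟩ := A0.exists_t0 (A0 hσ |>.inv_mem hα) b'
  have h2 : tz hσ (a + a') 0 = tz hσ 0 b'' := by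
    rw [← hb'', ← hb', MulAut.inv_apply_self]
  have := (tz_inj hσ h2).1
  exact (CharTwo.add_eq_zero.mp this)

variable (hm : 1 ≤ m) (hF : Fintype.card F = 2 ^ (2 * m + 1))

include hm hF hα in
theorem fOf_smul (k : Fˣ) : ∃ k' : Fˣ, α (hz hσ k) = hz hσ k' ∧
    ∀ a : F, fOf hσ α ((k : F) * a) = (k' : F) * fOf hσ α a := by
  obtain ⟨k', hk'⟩ := A0.exists_hz hm hF hα k
  refine ⟨k', hk', fun a => ?_⟩
  have h1 := hz_tz hσ hm hF k a 0
  rw [mul_zero] at h1
  have h2 := congrArg α h1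
  rw [map_mul, map_mul, hk', map_tz0 hα a, map_tz0 hα ((k : F) * a), hz_tz hσ hm hF] at h2
  have h3 := mul_right_cancel h2
  exact ((tz_inj hσ h3).1).symm

include hm hF hα in
theorem fOf_mul (x a : F) : fOf hσ α (x * a) * fOf hσ α 1 = fOf hσ α x * fOf hσ α a := by
  by_cases hx : x = 0
  · rw [hx, zero_mul, fOf_zero hα, zero_mul, zero_mul]
  · obtain ⟨k', -, hk'⟩ := fOf_smul hα hm hF (Units.mk0 x hx)
    have h1 := hk' a
    have h2 := hk' 1
    rw [Units.val_mk0] at h1 h2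
    rw [mul_one] at h2
    rw [h1, h2]; ring

include hα in
theorem fOf_one_ne_zero : fOf hσ α 1 ≠ 0 := by
  intro h
  have := fOf_injective hα (h.trans (fOf_zero hα).symm)
  exact one_ne_zero this

/-- the field automorphism induced by an element of `A0` -/
noncomputable def tauHom : F →+* F where
  toFun x := fOf hσ α x / fOf hσ α 1
  map_one' := div_self (fOf_one_ne_zero hα)
  map_mul' x y := by
    have h := fOf_mul hα hm hF x y
    have h1 := fOf_one_ne_zero hα
    field_simp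
    linear_combination h
  map_zero' := by rw [fOf_zero hα, zero_div]
  map_add' x y := by rw [fOf_add hα, add_div]

theorem tauHom_apply (x : F) : tauHom hα hm hF x = fOf hσ α x / fOf hσ α 1 := rfl

include hα hm hF in
theorem fOf_eq (x : F) : fOf hσ α x = fOf hσ α 1 * tauHom hα hm hF x := by
  rw [tauHom_apply, mul_div_cancel₀ _ (fOf_one_ne_zero hα)]

/-- the field automorphism induced by an element of `A0`, as a ring equivalence -/
noncomputable def tauEquiv : F ≃+* F :=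
  RingEquiv.ofBijective (tauHom hα hm hF)
    ⟨(tauHom hα hm hF).injective, Finite.surjective_of_injective (tauHom hα hm hF).injective⟩

theorem tauEquiv_apply (x : F) : tauEquiv hα hm hF x = fOf hσ α x / fOf hσ α 1 := rfl

include hα hβ in
theorem fOf_comp (a : F) : fOf hσ (α * β) a = fOf hσ α (fOf hσ β a) := by
  show aOf (α (β (tz hσ a 0))) = _
  rw [map_tz0 hβ a, aOf_map_tz hα]

theorem fOf_id (a : F) : fOf hσ (1 : MulAut (Sz F m)) a = a := by
  show aOf (tz hσ a 0) = a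
  exact aOf_tz hσ a 0

/-- the homomorphism `A0 → Aut(F)` -/
noncomputable def Psi : A0 hσ →* RingAut F where
  toFun α := tauEquiv α.2 hm hF
  map_one' := by
    ext x
    rw [tauEquiv_apply]
    show fOf hσ (1 : MulAut (Sz F m)) x / fOf hσ (1 : MulAut (Sz F m)) 1 = x
    rw [fOf_id, fOf_id, div_one]
  map_mul' := by
    rintro ⟨α, hα⟩ ⟨β, hβ⟩
    ext x
    show fOf hσ (α * β) x / fOf hσ (α * β) 1 = tauEquiv hα hm hF (tauEquiv hβ hm hF x)
    rw [fOf_comp hα hβ, fOf_comp hα hβ, fOf_eq hα hm hF (fOf hσ β x), fOf_eq hα hm hF (fOf hσ β 1),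
      mul_div_mul_left _ _ (fOf_one_ne_zero hα), ← map_div₀]
    rfl

theorem Psi_apply (α : A0 hσ) (x : F) : Psi hm hF α x = fOf hσ α.1 x / fOf hσ α.1 1 := rfl

end fmap

section inj

variable {F : Type*} [Field F] [Fintype F] [CharP F 2] {m : ℕ} {hσ : SgSq (F := F) m}
  {α : MulAut (Sz F m)} (hα : α ∈ A0 hσ) (hm : 1 ≤ m) (hF : Fintype.card F = 2 ^ (2 * m + 1))

theorem mem_Sm_iff (g : Sz F m) : g ∈ Sm hσ ↔ (wz hσ)⁻¹ * g * wz hσ ∈ szTsub hσ := by
  constructor
  · rintro ⟨s, hs, rfl⟩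
    have : (wz hσ)⁻¹ * (MulAut.conj (wz hσ)).toMonoidHom s * wz hσ = s := by
      show (wz hσ)⁻¹ * (wz hσ * s * (wz hσ)⁻¹) * wz hσ = s
      group
    rw [this]; exact hs
  · intro h
    refine ⟨_, h, ?_⟩
    show wz hσ * ((wz hσ)⁻¹ * g * wz hσ) * (wz hσ)⁻¹ = g
    group

include hα hm hF in
/-- the image of `w` under an element of `A0` still maps `∞` to `0` -/
theorem map_wz_smul_inf : α (wz hσ) • infPt F m = affPt m (0 : F) 0 := by
  have h1 : (wz hσ)⁻¹ * α (wz hσ) ∈ Subgroup.normalizer ((szTsub hσ : Subgroup (Sz F m)) : Set (Sz F m)) := by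
    rw [Subgroup.mem_normalizer_iff]
    intro n
    obtain ⟨n', rfl⟩ := α.surjective n
    have e : (wz hσ)⁻¹ * α (wz hσ) * α n' * ((wz hσ)⁻¹ * α (wz hσ))⁻¹ =
        (wz hσ)⁻¹ * α (wz hσ * n' * (wz hσ)⁻¹) * wz hσ := by
      rw [map_mul, map_mul, map_inv]; group
    rw [e, ← mem_Sm_iff, hα.2, hα.1, mem_Sm_iff]
    have : (wz hσ)⁻¹ * (wz hσ * n' * (wz hσ)⁻¹) * wz hσ = n' := by group
    rw [this]
  rw [normalizer_eq hσ hm hF, mem_stabilizer_iff, mul_smul, inv_smul_eq_iff, wz_smul_inf] at h1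
  exact h1

variable (hid : ∀ a, fOf hσ α a = a)

include hα hid in
theorem inj_t0 (b : F) : α (tz hσ 0 b) = tz hσ 0 b := by
  obtain ⟨a, rfl⟩ : ∃ a : F, a * sg m a = b :=
    Finite.surjective_of_injective (mul_sg_injective hσ) b
  have h1 : tz hσ a 0 * tz hσ a 0 = tz hσ 0 (a * sg m a) := by
    rw [tz_mul, CharTwo.add_self_eq_zero, add_zero, zero_add, mul_comm]
  have h2 := congrArg α h1
  rw [map_mul, map_tz0 hα a, hid, tz_mul, CharTwo.add_self_eq_zero, CharTwo.add_self_eq_zero,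
    zero_add, mul_comm] at h2
  exact h2.symm

include hα hid in
theorem inj_tz_eq (a b : F) : α (tz hσ a b) = tz hσ a (bOf (α (tz hσ a 0)) + b) := by
  have h := map_tz0 hα a
  rw [hid] at h
  generalize bOf (α (tz hσ a 0)) = δ at h ⊢
  rw [tz_eq_mul hσ a b, map_mul, inj_t0 hα hid, h, tz_mul]
  simp

include hα hid hm hF in
theorem inj_hz (k : Fˣ) : α (hz hσ k) = hz hσ k := by
  obtain ⟨k', hk', h⟩ := fOf_smul hα hm hF k
  have := h 1
  rw [hid, hid, mul_one, mul_one] at this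
  rw [hk', Units.ext this]

include hα hid hm hF in
theorem inj_delta_smul (k : Fˣ) (a : F) :
    bOf (α (tz hσ ((k : F) * a) 0)) = (k : F) * sg m (k : F) * bOf (α (tz hσ a 0)) := by
  have h1 := hz_tz hσ hm hF k a 0
  rw [mul_zero] at h1
  have h2 := congrArg α h1
  rw [map_mul, map_mul, inj_hz hα hm hF hid, map_tz0 hα a, map_tz0 hα ((k : F) * a), hid, hid,
    hz_tz hσ hm hF] at h2
  exact ((tz_inj hσ (mul_right_cancel h2)).2).symm

include hα hid in
theorem inj_delta_add (a a' : F) :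
    bOf (α (tz hσ (a + a') 0)) = bOf (α (tz hσ a 0)) + bOf (α (tz hσ a' 0)) := by
  have h1 : tz hσ a 0 * tz hσ a' 0 = tz hσ (a + a') (sg m a * a') := by
    rw [tz_mul]; simp
  have h2 := congrArg α h1
  have ha := map_tz0 hα a
  have ha' := map_tz0 hα a'
  have haa := inj_tz_eq hα hid (a + a') (sg m a * a')
  rw [hid] at ha ha'
  generalize bOf (α (tz hσ a 0)) = δ at ha ⊢
  generalize bOf (α (tz hσ a' 0)) = δ' at ha' ⊢
  generalize bOf (α (tz hσ (a + a') 0)) = δ'' at haa ⊢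
  rw [map_mul, ha, ha', tz_mul, haa] at h2
  have h3 := (tz_inj hσ h2).2
  exact (add_right_cancel h3).symm

include hα hid hm hF in
theorem inj_delta_zero (a : F) : bOf (α (tz hσ a 0)) = 0 := by
  obtain ⟨c, hc⟩ := exists_sg_ne hm hF hσ
  have hc0 : c ≠ 0 := by rintro rfl; exact hc (map_zero _)
  have hc1 : c + 1 ≠ 0 := by
    intro h
    have : c = 1 := by
      have := CharTwo.add_eq_zero.mp h
      exact this
    exact hc (by rw [this, map_one])
  set d1 := bOf (α (tz hσ 1 0)) with hd1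
  have e1 := inj_delta_smul hα hm hF hid (Units.mk0 c hc0) 1
  have e2 := inj_delta_smul hα hm hF hid (Units.mk0 (c + 1) hc1) 1
  have e3 := inj_delta_add hα hid c 1
  rw [Units.val_mk0, mul_one] at e1 e2
  rw [e1, e2, ← hd1] at e3
  have h4 : (c + sg m c) * d1 = 0 := by
    rw [map_add, map_one] at e3
    linear_combination e3
  have hd1z : d1 = 0 := by
    rcases mul_eq_zero.mp h4 with h | h
    · exfalso; apply hc
      exact (CharTwo.add_eq_zero.mp h).symm
    · exact h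
  by_cases ha : a = 0
  · have := inj_delta_add hα hid 0 0
    rw [add_zero] at this
    rw [ha]
    exact left_eq_add.mp this
  · have := inj_delta_smul hα hm hF hid (Units.mk0 a ha) 1
    rw [Units.val_mk0, mul_one, ← hd1, hd1z, mul_zero] at this
    exact this

include hα hid hm hF in
theorem inj_tz (a b : F) : α (tz hσ a b) = tz hσ a b := by
  rw [inj_tz_eq hα hid, inj_delta_zero hα hm hF hid, zero_add]

include hα hid hm hF in
theorem inj_smul_inf (g : Sz F m) : α g • infPt F m = g • infPt F m := by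
  rcases ovoid_cases (g • infPt F m) with h | ⟨x, y, h⟩
  · obtain ⟨c, d, k, rfl⟩ := stab_eq hσ hm hF (mem_stabilizer_iff.mpr h)
    rw [map_mul, inj_tz hα hm hF hid, inj_hz hα hm hF hid]
  · have hs : (tz hσ x y * wz hσ) • infPt F m = affPt m x y := by
      rw [mul_smul, wz_smul_inf, tz_smul_aff]; simp
    have hb : (tz hσ x y * wz hσ)⁻¹ * g ∈ stabilizer (Sz F m) (infPt F m) := by
      rw [mem_stabilizer_iff, mul_smul, h, inv_smul_eq_iff, hs]
    obtain ⟨c, d, k, hcd⟩ := stab_eq hσ hm hF hb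
    have hg : g = tz hσ x y * wz hσ * (tz hσ c d * hz hσ k) := by
      rw [← hcd]; group
    have hfix : (tz hσ c d * hz hσ k) • infPt F m = infPt F m := by
      rw [mul_smul, hz_smul_inf, tz_smul_inf]
    rw [h, hg, map_mul, map_mul, map_mul, inj_tz hα hm hF hid, inj_tz hα hm hF hid,
      inj_hz hα hm hF hid, mul_smul, hfix, mul_smul, map_wz_smul_inf hα hm hF, tz_smul_aff]
    simp

include hα hid hm hF in
/-- an element of `A0` acting trivially on `S/Z(S)` is the identity -/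
theorem eq_one_of_fOf_id : α = 1 := by
  refine MulEquiv.ext fun g => ?_
  show α g = g
  apply faithful hm hF
  intro p
  obtain ⟨x, rfl⟩ : ∃ x : Sz F m, x • infPt F m = p := by
    rcases ovoid_cases p with rfl | ⟨a, b, rfl⟩
    · exact ⟨1, one_smul _ _⟩
    · refine ⟨tz hσ a b * wz hσ, ?_⟩
      rw [mul_smul, wz_smul_inf, tz_smul_aff]; simp
  rw [← inj_smul_inf hα hm hF hid x, ← mul_smul, ← map_mul, inj_smul_inf hα hm hF hid, mul_smul,
    inj_smul_inf hα hm hF hid x]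

end inj

section kernel

variable {F : Type*} [Field F] [Fintype F] [CharP F 2] {m : ℕ} {hσ : SgSq (F := F) m}
  (hm : 1 ≤ m) (hF : Fintype.card F = 2 ^ (2 * m + 1))

include hm hF in
theorem conj_mem_A0 {g : Sz F m} (h1 : g ∈ stabilizer (Sz F m) (infPt F m))
    (h2 : g ∈ stabilizer (Sz F m) (affPt m (0 : F) 0)) : MulAut.conj g ∈ A0 hσ := by
  rw [← normalizer_eq hσ hm hF, Subgroup.mem_normalizer_iff] at h1
  rw [← normalizer_Sm hσ hm hF, Subgroup.mem_normalizer_iff] at h2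
  exact ⟨fun n => (h1 n).symm, fun n => (h2 n).symm⟩

include hm hF in
theorem conj_hz_mem_A0 (k : Fˣ) : MulAut.conj (hz hσ k) ∈ A0 hσ :=
  conj_mem_A0 hm hF (hz_mem_stab_inf k) (hz_mem_stab_zero k)

include hm hF in
theorem fOf_conj_hz (k : Fˣ) (a : F) : fOf hσ (MulAut.conj (hz hσ k)) a = (k : F) * a := by
  show aOf (hz hσ k * tz hσ a 0 * (hz hσ k)⁻¹) = _
  rw [hz_tz hσ hm hF, mul_inv_cancel_right, aOf_tz]

include hm hF in
theorem of_conj_mem_A0 {g : Sz F m} (h : MulAut.conj g ∈ A0 hσ) : ∃ k : Fˣ, g = hz hσ k := by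
  have h1 : g ∈ stabilizer (Sz F m) (infPt F m) := by
    rw [← normalizer_eq hσ hm hF, Subgroup.mem_normalizer_iff]
    exact fun n => (h.1 n).symm
  have h2 : g ∈ stabilizer (Sz F m) (affPt m (0 : F) 0) := by
    rw [← normalizer_Sm hσ hm hF, Subgroup.mem_normalizer_iff]
    exact fun n => (h.2 n).symm
  exact eq_hz_of_fix hm hF h1 h2

theorem Psi_eq_one_iff (α : A0 hσ) :
    Psi hm hF α = 1 ↔ (α : MulAut (Sz F m)) ∈ Cfsg.Inn (Sz F m) := by
  obtain ⟨α, hα⟩ := α
  constructor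
  · intro h
    have hfx : ∀ x, fOf hσ α x = fOf hσ α 1 * x := by
      intro x
      have := congrArg (fun e : RingAut F => e x) h
      simp only [Psi_apply, RingAut.one_apply] at this
      rw [div_eq_iff (fOf_one_ne_zero hα)] at this
      rw [this, mul_comm]
    set c : Fˣ := Units.mk0 (fOf hσ α 1) (fOf_one_ne_zero hα) with hc
    have hγ : MulAut.conj (hz hσ c⁻¹) * α ∈ A0 hσ :=
      (A0 hσ).mul_mem (conj_hz_mem_A0 hm hF _) hα
    have hid : ∀ a, fOf hσ (MulAut.conj (hz hσ c⁻¹) * α) a = a := by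
      intro a
      rw [fOf_comp (conj_hz_mem_A0 hm hF _) hα, fOf_conj_hz hm hF, hfx a, hc, Units.val_inv_eq_inv_val,
        Units.val_mk0, inv_mul_cancel_left₀ (fOf_one_ne_zero hα)]
    have h1 := eq_one_of_fOf_id hγ hm hF hid
    refine ⟨hz hσ c, ?_⟩
    have e : hz hσ c⁻¹ * hz hσ c = 1 := by rw [← hz_mul, inv_mul_cancel, hz_one]
    have h2 : MulAut.conj (hz hσ c⁻¹) * MulAut.conj (hz hσ c) = 1 := by
      rw [← map_mul, e, map_one]
    exact mul_left_cancel (h2.trans h1.symm)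
  · rintro ⟨g, hg⟩
    have hg' : MulAut.conj g = α := hg
    subst hg'
    obtain ⟨k, rfl⟩ := of_conj_mem_A0 hm hF hα
    ext x
    rw [Psi_apply, RingAut.one_apply]
    show fOf hσ (MulAut.conj (hz hσ k)) x / fOf hσ (MulAut.conj (hz hσ k)) 1 = x
    rw [fOf_conj_hz hm hF, fOf_conj_hz hm hF, mul_one, mul_div_cancel_left₀ _ k.ne_zero]

end kernel

section supplement

variable {F : Type*} [Field F] [Fintype F] [CharP F 2] {m : ℕ} {hσ : SgSq (F := F) m}
  (hm : 1 ≤ m) (hF : Fintype.card F = 2 ^ (2 * m + 1))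

include hm hF in
theorem mem_A0_of {α : MulAut (Sz F m)} (h1 : ∀ g, α g ∈ szTsub hσ ↔ g ∈ szTsub hσ)
    (h2 : α (wz hσ) • infPt F m = affPt m (0 : F) 0) : α ∈ A0 hσ := by
  refine ⟨h1, fun n => ?_⟩
  have hb : (wz hσ)⁻¹ * α (wz hσ) ∈
      Subgroup.normalizer ((szTsub hσ : Subgroup (Sz F m)) : Set (Sz F m)) := by
    rw [normalizer_eq hσ hm hF, mem_stabilizer_iff, mul_smul, h2, inv_smul_eq_iff, wz_smul_inf]
  rw [Subgroup.mem_normalizer_iff] at hb
  rw [mem_Sm_iff, mem_Sm_iff, ← h1 ((wz hσ)⁻¹ * n * wz hσ), map_mul, map_mul, map_inv,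
    hb ((α (wz hσ))⁻¹ * α n * α (wz hσ))]
  have e : (wz hσ)⁻¹ * α (wz hσ) * ((α (wz hσ))⁻¹ * α n * α (wz hσ)) * ((wz hσ)⁻¹ * α (wz hσ))⁻¹ =
      (wz hσ)⁻¹ * α n * wz hσ := by group
  rw [e]

theorem wz_not_mem_stab : wz hσ ∉ stabilizer (Sz F m) (infPt F m) := by
  rw [mem_stabilizer_iff, wz_smul_inf]
  exact affPt_ne_inf 0 0

include hm hF in
theorem exists_supplement (β : MulAut (Sz F m)) :
    ∃ g : Sz F m, ∃ α ∈ A0 hσ, β = MulAut.conj g * α := by
  classical
  have : Fact (Nat.Prime 2) := ⟨Nat.prime_two⟩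
  -- step 1: move β(S) back to S
  have hS2 : IsPGroup 2 (szTsub hσ) := by
    have := (szSylow hσ hm hF).isPGroup'
    rwa [coe_szSylow] at this
  have hE : IsPGroup 2 ((szTsub hσ).map β.toMonoidHom) := hS2.map _
  obtain ⟨g₁, hg₁⟩ := exists_conj_le_szTsub hσ hm hF hE
  set α₁ : MulAut (Sz F m) := MulAut.conj g₁ * β with hα₁
  have h1 : ∀ g, g ∈ szTsub hσ → α₁ g ∈ szTsub hσ := by
    intro g hg
    exact hg₁ (β g) ⟨g, hg, rfl⟩
  have h1' : ∀ g, α₁ g ∈ szTsub hσ ↔ g ∈ szTsub hσ := by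
    have hle : (szTsub hσ).map α₁.toMonoidHom ≤ szTsub hσ := by
      rintro _ ⟨g, hg, rfl⟩
      exact h1 g hg
    have hcard : Nat.card ((szTsub hσ).map α₁.toMonoidHom) = Nat.card (szTsub hσ) :=
      Subgroup.card_map_of_injective α₁.injective
    have heq : (szTsub hσ).map α₁.toMonoidHom = szTsub hσ :=
      Subgroup.eq_of_le_of_card_ge hle hcard.ge
    intro g
    constructor
    · intro hg
      rw [← heq] at hg
      obtain ⟨g', hg', hgg'⟩ := hg
      have : g' = g := α₁.injective hgg'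
      rwa [this] at hg'
    · exact h1 g
  -- step 2: move α₁(w)∞ to 0
  have hx : α₁ (wz hσ) ∉ stabilizer (Sz F m) (infPt F m) := by
    rw [← normalizer_eq hσ hm hF, normalizer_iff_of_iff α₁ h1', normalizer_eq hσ hm hF]
    exact wz_not_mem_stab
  obtain ⟨a, b, hab⟩ : ∃ a b : F, α₁ (wz hσ) • infPt F m = affPt m a b := by
    rcases ovoid_cases (α₁ (wz hσ) • infPt F m) with h | h
    · exact absurd (mem_stabilizer_iff.mpr h) hx
    · exact h
  set s := tz hσ a b with hs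
  set α₂ : MulAut (Sz F m) := MulAut.conj s⁻¹ * α₁ with hα₂
  have hs0 : s • affPt m (0 : F) 0 = affPt m a b := by
    rw [hs, tz_smul_aff]; simp
  have h2 : ∀ g, α₂ g ∈ szTsub hσ ↔ g ∈ szTsub hσ := by
    intro g
    rw [← h1' g]
    show s⁻¹ * α₁ g * s⁻¹⁻¹ ∈ szTsub hσ ↔ _
    have hsS : s ∈ szTsub hσ := tz_mem hσ a b
    constructor
    · intro h
      have := (szTsub hσ).mul_mem ((szTsub hσ).mul_mem hsS h) ((szTsub hσ).inv_mem hsS)
      have e : s * (s⁻¹ * α₁ g * s⁻¹⁻¹) * s⁻¹ = α₁ g := by group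
      rwa [e] at this
    · intro h
      exact (szTsub hσ).mul_mem ((szTsub hσ).mul_mem ((szTsub hσ).inv_mem hsS) h)
        ((szTsub hσ).inv_mem ((szTsub hσ).inv_mem hsS))
  have h3 : α₂ (wz hσ) • infPt F m = affPt m (0 : F) 0 := by
    show (s⁻¹ * α₁ (wz hσ) * s⁻¹⁻¹) • infPt F m = _
    rw [inv_inv, mul_smul, mul_smul, hs, tz_smul_inf, hab, ← hs, inv_smul_eq_iff, hs0]
  refine ⟨g₁⁻¹ * s, α₂, mem_A0_of hm hF h2 h3, ?_⟩
  rw [hα₂, hα₁, map_mul, map_inv, map_inv]
  group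

end supplement




section fieldaut

variable {F : Type*} [Field F] [Fintype F] [CharP F 2] {m : ℕ}

/-- entrywise action of a field automorphism on `SL₄` -/
noncomputable def mapSL (τ : F ≃+* F) : SpecialLinearGroup (Fin 4) F →* SpecialLinearGroup (Fin 4) F :=
  SpecialLinearGroup.map (τ : F →+* F)

omit [Fintype F] [CharP F 2] in
theorem mapSL_apply (τ : F ≃+* F) (g : SpecialLinearGroup (Fin 4) F) (i j : Fin 4) :
    (mapSL τ g).1 i j = τ (g.1 i j) := rfl

omit [Fintype F] [CharP F 2] in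
theorem mapSL_smul (τ : F ≃+* F) (g : SpecialLinearGroup (Fin 4) F) (v : Fin 4 → F) :
    mapSL τ g • (fun i => τ (v i)) = fun i => τ ((g • v) i) := by
  ext i
  rw [sl_smul_apply, sl_smul_apply, map_sum]
  refine Finset.sum_congr rfl fun j _ => ?_
  rw [mapSL_apply, map_mul]

omit [Fintype F] [CharP F 2] in
theorem map_szF (τ : F ≃+* F) (x y : F) : τ (szF m x y) = szF m (τ x) (τ y) := by
  simp [szF, map_add, map_mul, map_pow]

omit [Fintype F] [CharP F 2] in
theorem map_szVec (τ : F ≃+* F) (x y : F) :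
    (fun i => τ (szVec m x y i)) = szVec m (τ x) (τ y) := by
  ext i
  fin_cases i <;> simp [szVec, map_szF]

omit [Fintype F] [CharP F 2] in
theorem map_e0 (τ : F ≃+* F) : (fun i => τ ((![1, 0, 0, 0] : Fin 4 → F) i)) = ![1, 0, 0, 0] := by
  ext i
  fin_cases i <;> simp

omit [Fintype F] [CharP F 2] in
theorem map_ne_zero (τ : F ≃+* F) {u : Fin 4 → F} (hu : u ≠ 0) : (fun i => τ (u i)) ≠ 0 := by
  intro h
  apply hu
  ext i
  have := congrFun h i
  simpa using this

omit [Fintype F] [CharP F 2] in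
theorem ovoid_map (τ : F ≃+* F) {u : Fin 4 → F} (hu : u ≠ 0)
    (h : Projectivization.mk F u hu ∈ suzukiOvoid F m) :
    Projectivization.mk F (fun i => τ (u i)) (map_ne_zero τ hu) ∈ suzukiOvoid F m := by
  rcases (mem_suzukiOvoid_iff m _).1 h with h | ⟨x, y, h⟩
  · rw [suzukiPointInfinity, Projectivization.mk_eq_mk_iff'] at h
    obtain ⟨c, hc⟩ := h
    rw [mem_suzukiOvoid_iff]
    left
    rw [suzukiPointInfinity, Projectivization.mk_eq_mk_iff']
    refine ⟨τ c, ?_⟩
    rw [← map_e0 τ, ← hc]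
    ext i
    simp [map_mul]
  · rw [szPt, Projectivization.mk_eq_mk_iff'] at h
    obtain ⟨c, hc⟩ := h
    rw [mem_suzukiOvoid_iff]
    right
    refine ⟨τ x, τ y, ?_⟩
    rw [szPt, Projectivization.mk_eq_mk_iff']
    refine ⟨τ c, ?_⟩
    rw [← map_szVec τ, ← hc]
    ext i
    simp [map_mul]

theorem mapSL_mem (τ : F ≃+* F) {g : SpecialLinearGroup (Fin 4) F} (hg : g ∈ Sz F m) :
    mapSL τ g ∈ Sz F m := by
  apply mem_Sz_of_forall
  · have h1 : g • suzukiPointInfinity F ∈ suzukiOvoid F m := sz_smul_mem hg (szInf_mem m)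
    rw [suzukiPointInfinity, Projectivization.smul_mk] at h1 ⊢
    have h2 := ovoid_map τ _ h1
    have e : (mapSL τ g • (![1, 0, 0, 0] : Fin 4 → F)) =
        fun i => τ ((g • (![1, 0, 0, 0] : Fin 4 → F)) i) := by
      rw [← mapSL_smul, map_e0]
    simp only [e]
    exact h2
  · intro x y
    have h1 : g • szPt m (τ.symm x) (τ.symm y) ∈ suzukiOvoid F m := sz_smul_mem hg (szPt_mem m _ _)
    rw [szPt, Projectivization.smul_mk] at h1 ⊢
    have h2 := ovoid_map τ _ h1
    have e : (mapSL τ g • szVec m x y) =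
        fun i => τ ((g • szVec m (τ.symm x) (τ.symm y)) i) := by
      rw [← mapSL_smul, map_szVec, RingEquiv.apply_symm_apply, RingEquiv.apply_symm_apply]
    simp only [e]
    exact h2

end fieldaut

section fieldaut2

variable {F : Type*} [Field F] [Fintype F] [CharP F 2] {m : ℕ}

/-- the field automorphism as an endomorphism of the Suzuki group -/
noncomputable def phiHom (τ : F ≃+* F) : Sz F m →* Sz F m :=
  MonoidHom.codRestrict ((mapSL τ).comp (Sz F m).subtype) (Sz F m) (fun g => mapSL_mem τ g.2)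

theorem phiHom_coe (τ : F ≃+* F) (g : Sz F m) :
    ((phiHom τ g : Sz F m) : SpecialLinearGroup (Fin 4) F) = mapSL τ g.1 := rfl

theorem phiHom_phiHom (τ τ' : F ≃+* F) (h : ∀ x, τ (τ' x) = x) (g : Sz F m) :
    phiHom τ (phiHom τ' g) = g := by
  apply Subtype.ext
  apply Subtype.ext
  ext i j
  rw [phiHom_coe, mapSL_apply, phiHom_coe, mapSL_apply, h]

/-- the field automorphism as an automorphism of the Suzuki group -/
noncomputable def phi (τ : F ≃+* F) : MulAut (Sz F m) :=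
  MonoidHom.toMulEquiv (phiHom τ) (phiHom τ.symm)
    (MonoidHom.ext fun g => phiHom_phiHom τ.symm τ τ.symm_apply_apply g)
    (MonoidHom.ext fun g => phiHom_phiHom τ τ.symm τ.apply_symm_apply g)

theorem phi_apply (τ : F ≃+* F) (g : Sz F m) : phi τ g = phiHom τ g := rfl

variable (hσ : SgSq (F := F) m)

theorem phi_tz (τ : F ≃+* F) (a b : F) : phi τ (tz hσ a b) = tz hσ (τ a) (τ b) := by
  apply Subtype.ext
  apply Subtype.ext
  ext i j
  rw [phi_apply, phiHom_coe, mapSL_apply]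
  show τ (szTmat m a b i j) = szTmat m (τ a) (τ b) i j
  have hsg : ∀ x : F, τ (sg m x) = sg m (τ x) := fun x => by
    rw [sg_apply, sg_apply, map_pow]
  fin_cases i <;> fin_cases j <;> simp [szTmat, hsg, map_szF]

theorem phi_wz (τ : F ≃+* F) : phi τ (wz hσ) = wz hσ := by
  apply Subtype.ext
  apply Subtype.ext
  ext i j
  rw [phi_apply, phiHom_coe, mapSL_apply]
  show τ (szWmat i j) = szWmat i j
  fin_cases i <;> fin_cases j <;> simp [szWmat]

end fieldaut2



theorem card_ringAut {F : Type*} [Field F] [Fintype F] [CharP F 2] {m : ℕ}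
    (hF : Fintype.card F = 2 ^ (2 * m + 1)) : Nat.card (RingAut F) = 2 * m + 1 := by
  let _ : Algebra (ZMod 2) F := ZMod.algebra F 2
  have hbij := FiniteField.bijective_frobeniusAlgEquivOfAlgebraic_pow (ZMod 2) F
  have h1 : Nat.card (F ≃ₐ[ZMod 2] F) = Module.finrank (ZMod 2) F := by
    rw [← Nat.card_congr (Equiv.ofBijective _ hbij), Nat.card_fin]
  have h2 : Module.finrank (ZMod 2) F = 2 * m + 1 := by
    have := Module.card_eq_pow_finrank (K := ZMod 2) (V := F)
    rw [ZMod.card, hF] at this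
    exact (Nat.pow_right_injective (le_refl 2) this).symm
  let e : (F ≃ₐ[ZMod 2] F) ≃ (F ≃+* F) :=
    { toFun := fun f => f.toRingEquiv
      invFun := fun f => AlgEquiv.ofRingEquiv (f := f) (fun x =>
        RingHom.congr_fun (Subsingleton.elim ((f : F →+* F).comp (algebraMap (ZMod 2) F))
          (algebraMap (ZMod 2) F)) x)
      left_inv := fun f => by ext x; rfl
      right_inv := fun f => by ext x; rfl }
  rw [← Nat.card_congr e, h1, h2]


section final

variable {F : Type*} [Field F] [Fintype F] [CharP F 2] {m : ℕ} {hσ : SgSq (F := F) m}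
  (hm : 1 ≤ m) (hF : Fintype.card F = 2 ^ (2 * m + 1))

include hm hF in
theorem phi_mem_A0 (τ : F ≃+* F) : phi τ ∈ A0 hσ := by
  have hfw : ∀ (τ : F ≃+* F) (g : Sz F m), g ∈ szTsub hσ → phi τ g ∈ szTsub hσ := by
    intro τ g hg
    obtain ⟨a, b, rfl⟩ := (mem_szTsub_iff hσ g).mp hg
    rw [phi_tz]
    exact tz_mem hσ _ _
  apply mem_A0_of hm hF
  · intro g
    constructor
    · intro h
      have := hfw τ.symm _ h
      rwa [phi_apply, phi_apply, phiHom_phiHom τ.symm τ τ.symm_apply_apply] at this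
    · exact hfw τ g
  · rw [phi_wz, wz_smul_inf]

theorem fOf_phi (τ : F ≃+* F) (a : F) : fOf hσ (phi τ) a = τ a := by
  show aOf (phi τ (tz hσ a 0)) = τ a
  rw [phi_tz, aOf_tz]

theorem Psi_surjective : Function.Surjective (Psi (hσ := hσ) hm hF) := by
  intro τ
  refine ⟨⟨phi τ, phi_mem_A0 hm hF τ⟩, ?_⟩
  ext x
  rw [Psi_apply]
  show fOf hσ (phi τ) x / fOf hσ (phi τ) 1 = τ x
  rw [fOf_phi, fOf_phi, map_one, div_one]

include hσ hm hF in
/-- `Out` of the Suzuki group (ovoid model) has order `2m+1` -/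
theorem card_out_Sz : Nat.card (Cfsg.Out (Sz F m)) = 2 * m + 1 := by
  rw [card_out_eq (A0 hσ) (exists_supplement hm hF) (Psi hm hF) (Psi_surjective hm hF)
    (Psi_eq_one_iff hm hF), card_ringAut hF]

end final

/-- `Out` is invariant under isomorphism (cardinality) -/
theorem card_out_congr {G G' : Type*} [Group G] [Group G'] (e : G ≃* G') :
    Nat.card (Cfsg.Out G) = Nat.card (Cfsg.Out G') := by
  let E : MulAut G ≃* MulAut G' := MulAut.congr e
  have hE : (Cfsg.Inn G).map E.toMonoidHom = Cfsg.Inn G' := by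
    ext φ
    constructor
    · rintro ⟨_, ⟨g, rfl⟩, rfl⟩
      refine ⟨e g, ?_⟩
      ext x
      show e g * x * (e g)⁻¹ = e (g * e.symm x * g⁻¹)
      rw [map_mul, map_mul, map_inv, MulEquiv.apply_symm_apply]
    · rintro ⟨g', rfl⟩
      refine ⟨MulAut.conj (e.symm g'), ⟨_, rfl⟩, ?_⟩
      ext x
      show e (e.symm g' * e.symm x * (e.symm g')⁻¹) = g' * x * g'⁻¹
      rw [map_mul, map_mul, map_inv, MulEquiv.apply_symm_apply, MulEquiv.apply_symm_apply]
  exact Nat.card_congr (QuotientGroup.congr (Cfsg.Inn G) (Cfsg.Inn G') E hE).toEquiv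

end Cfsg.Agent.Lib.Helper95.OutSz
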