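import Mathlib
import Cfsg.Agent.Lib.Helper95.SzAut
import Cfsg.Agent.S2238

/-!
# Nilpotent covers (helper95)

`no_nilpotent_minimal_cover`: abstract criterion; `claim1`, `claim2`: in `Sz(q)` a nilpotent subgroup containing
the involution `t(0,1)` lies in `T`, one containing a nontrivial element of the torus `H` fixes `∞`.
`no_mixed`: no element of `Sz(q)` of odd order `> 1` commutes with an involution.
-/

set_option autoImplicit false
set_option linter.unusedSectionVars false
set_option linter.unusedSimpArgs false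

namespace Cfsg.Agent.Lib.Helper95.NilCover

open Cfsg Cfsg.Agent.Lib.Helper6 Cfsg.Agent.S2247 Cfsg.Agent.Lib.Helper95.OutSz MulAction

/-- abstract criterion: two elements whose nilpotent overgroups all lie in one proper subgroup `M` but which
never lie in a common nilpotent subgroup obstruct nilpotent minimal covers -/
theorem no_nilpotent_minimal_cover {G : Type*} [Group G] (M : Subgroup G) (hM : M ≠ ⊤) (g h : G)
    (hg : ∀ A : Subgroup G, Group.IsNilpotent A → g ∈ A → A ≤ M)
    (hh : ∀ A : Subgroup G, Group.IsNilpotent A → h ∈ A → A ≤ M)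
    (hgh : ∀ A : Subgroup G, Group.IsNilpotent A → g ∈ A → h ∉ A) :
    ¬ ∃ 𝓐 : Finset (Subgroup G), ((∀ A ∈ 𝓐, A ≠ ⊤) ∧ (∀ x : G, ∃ A ∈ 𝓐, x ∈ A)) ∧
      (∀ 𝓑 : Finset (Subgroup G), (∀ A ∈ 𝓑, A ≠ ⊤) ∧ (∀ x : G, ∃ A ∈ 𝓑, x ∈ A) →
        𝓐.card ≤ 𝓑.card) ∧ (∀ A ∈ 𝓐, Group.IsNilpotent ↥A) := by
  classical
  rintro ⟨𝓐, ⟨hprop, hcov⟩, hmin, hnil⟩
  obtain ⟨A₁, hA₁, hgA₁⟩ := hcov g
  obtain ⟨A₂, hA₂, hhA₂⟩ := hcov h
  have hne : A₂ ≠ A₁ := by
    rintro rfl
    exact hgh A₂ (hnil _ hA₁) hgA₁ hhA₂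
  have h1 : A₁ ≤ M := hg A₁ (hnil _ hA₁) hgA₁
  have h2 : A₂ ≤ M := hh A₂ (hnil _ hA₂) hhA₂
  set 𝓑 : Finset (Subgroup G) := insert M ((𝓐.erase A₁).erase A₂) with h𝓑
  have hB := hmin 𝓑 ⟨?_, ?_⟩
  · have c1 : (𝓐.erase A₁).card = 𝓐.card - 1 := Finset.card_erase_of_mem hA₁
    have hA₂' : A₂ ∈ 𝓐.erase A₁ := Finset.mem_erase.mpr ⟨hne, hA₂⟩
    have c2 : ((𝓐.erase A₁).erase A₂).card = (𝓐.erase A₁).card - 1 := Finset.card_erase_of_mem hA₂'
    have c3 : 𝓑.card ≤ ((𝓐.erase A₁).erase A₂).card + 1 := Finset.card_insert_le _ _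
    have c4 : 0 < (𝓐.erase A₁).card := Finset.card_pos.mpr ⟨A₂, hA₂'⟩
    have c5 : 0 < 𝓐.card := Finset.card_pos.mpr ⟨A₁, hA₁⟩
    omega
  · intro A hA
    rcases Finset.mem_insert.mp hA with rfl | hA
    · exact hM
    · exact hprop A (Finset.mem_of_mem_erase (Finset.mem_of_mem_erase hA))
  · intro x
    obtain ⟨A, hA, hx⟩ := hcov x
    by_cases e1 : A = A₁
    · exact ⟨M, Finset.mem_insert_self _ _, h1 (e1 ▸ hx)⟩
    · by_cases e2 : A = A₂
      · exact ⟨M, Finset.mem_insert_self _ _, h2 (e2 ▸ hx)⟩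
      · exact ⟨A, Finset.mem_insert_of_mem
          (Finset.mem_erase.mpr ⟨e2, Finset.mem_erase.mpr ⟨e1, hA⟩⟩), hx⟩

/-- transport of the criterion along an isomorphism -/
theorem no_nilpotent_minimal_cover_of_equiv {G G' : Type*} [Group G] [Group G'] (e : G ≃* G')
    (M : Subgroup G) (hM : M ≠ ⊤) (g h : G)
    (hg : ∀ A : Subgroup G, Group.IsNilpotent A → g ∈ A → A ≤ M)
    (hh : ∀ A : Subgroup G, Group.IsNilpotent A → h ∈ A → A ≤ M)
    (hgh : ∀ A : Subgroup G, Group.IsNilpotent A → g ∈ A → h ∉ A) :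
    ¬ ∃ 𝓐 : Finset (Subgroup G'), ((∀ A ∈ 𝓐, A ≠ ⊤) ∧ (∀ x : G', ∃ A ∈ 𝓐, x ∈ A)) ∧
      (∀ 𝓑 : Finset (Subgroup G'), (∀ A ∈ 𝓑, A ≠ ⊤) ∧ (∀ x : G', ∃ A ∈ 𝓑, x ∈ A) →
        𝓐.card ≤ 𝓑.card) ∧ (∀ A ∈ 𝓐, Group.IsNilpotent ↥A) := by
  have key : ∀ A' : Subgroup G', Group.IsNilpotent A' →
      Group.IsNilpotent (A'.map e.symm.toMonoidHom) := by
    intro A' hA'
    exact Group.nilpotent_of_mulEquiv (e.symm.subgroupMap A')
  have hmem : ∀ (A' : Subgroup G') (x : G), e x ∈ A' → x ∈ A'.map e.symm.toMonoidHom := by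
    intro A' x hx
    exact ⟨e x, hx, by simp⟩
  have hle : ∀ A' : Subgroup G', A'.map e.symm.toMonoidHom ≤ M → A' ≤ M.map e.toMonoidHom := by
    intro A' hA' x hx
    exact ⟨e.symm x, hA' ⟨x, hx, rfl⟩, by simp⟩
  refine no_nilpotent_minimal_cover (M.map e.toMonoidHom) ?_ (e g) (e h) ?_ ?_ ?_
  · intro htop
    apply hM
    rw [eq_top_iff]
    intro x _
    have : e x ∈ M.map e.toMonoidHom := by rw [htop]; trivial
    obtain ⟨y, hy, hxy⟩ := this
    have : y = x := e.injective hxy
    exact this ▸ hy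
  · intro A' hA' hgA'
    exact hle A' (hg _ (key A' hA') (hmem A' g hgA'))
  · intro A' hA' hhA'
    exact hle A' (hh _ (key A' hA') (hmem A' h hhA'))
  · intro A' hA' hgA' hhA'
    exact hgh _ (key A' hA') (hmem A' g hgA') (hmem A' h hhA')

section sz

variable {F : Type*} [Field F] [Fintype F] [CharP F 2] {m : ℕ} (hσ : SgSq (F := F) m)
  (hm : 1 ≤ m) (hF : Fintype.card F = 2 ^ (2 * m + 1))

/-- a nontrivial translation fixes only the point at infinity -/
theorem fix_tz {a b : F} (hab : tz hσ a b ≠ 1) {p : suzukiOvoid F m} (hp : tz hσ a b • p = p) :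
    p = infPt F m := by
  rcases ovoid_cases p with rfl | ⟨x, y, rfl⟩
  · rfl
  · exfalso
    rw [tz_smul_aff] at hp
    obtain ⟨h1, h2⟩ := affPt_inj hp
    have ha : a = 0 := by simpa using h1
    subst ha
    have hb : b = 0 := by simpa using h2
    subst hb
    exact hab (tz_zero hσ)

/-- a nontrivial torus element fixes only the two base points -/
theorem fix_hz {k : Fˣ} (hk : k ≠ 1) {p : suzukiOvoid F m} (hp : hz hσ k • p = p) :
    p = infPt F m ∨ p = affPt m 0 0 := by
  rcases ovoid_cases p with rfl | ⟨x, y, rfl⟩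
  · exact Or.inl rfl
  · right
    rw [hz_smul_aff] at hp
    obtain ⟨h1, h2⟩ := affPt_inj hp
    have hk1 : (k : F) ≠ 1 := fun h => hk (Units.ext h)
    have hx : x = 0 := by
      by_contra hx
      apply hk1
      have : (k : F) * x = 1 * x := by rw [one_mul]; exact h1
      exact mul_right_cancel₀ hx this
    have hy : y = 0 := by
      by_contra hy
      apply hk1
      have : ((k : F) * sg m (k : F)) * y = 1 * y := by rw [one_mul]; exact h2
      exact eq_one_of_mul_sg_eq_one hσ (mul_right_cancel₀ hy this)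
    rw [hx, hy]

include hm hF in
/-- the centraliser of a nontrivial translation consists of translations -/
theorem mem_T_of_commute {a b : F} (hab : tz hσ a b ≠ 1) {x : Sz F m}
    (hx : x * tz hσ a b = tz hσ a b * x) : x ∈ szTsub hσ := by
  have h1 : tz hσ a b • (x • infPt F m) = x • infPt F m := by
    rw [← mul_smul, ← hx, mul_smul, tz_smul_inf]
  have h2 : x ∈ stabilizer (Sz F m) (infPt F m) := mem_stabilizer_iff.mpr (fix_tz hσ hab h1)
  obtain ⟨c, d, k, rfl⟩ := stab_eq hσ hm hF h2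
  have e1 : tz hσ c d * hz hσ k * tz hσ a b
      = tz hσ c d * tz hσ ((k : F) * a) ((k : F) * sg m (k : F) * b) * hz hσ k := by
    rw [mul_assoc, hz_tz hσ hm hF, ← mul_assoc]
  rw [e1, ← mul_assoc] at hx
  have e2 := mul_right_cancel hx
  rw [tz_mul, tz_mul] at e2
  obtain ⟨h3, h4⟩ := tz_inj hσ e2
  have hk : (k : F) = 1 := by
    by_cases ha : a = 0
    · subst ha
      have hb : b ≠ 0 := by
        rintro rfl
        exact hab (tz_zero hσ)
      simp only [mul_zero, add_zero, map_zero, zero_mul, zero_add] at h4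
      have : ((k : F) * sg m (k : F)) * b = 1 * b := by
        rw [one_mul]
        rw [add_comm b d] at h4
        exact add_left_cancel h4
      exact eq_one_of_mul_sg_eq_one hσ (mul_right_cancel₀ hb this)
    · have : (k : F) * a = 1 * a := by
        rw [one_mul]
        rw [add_comm a c] at h3
        exact add_left_cancel h3
      exact mul_right_cancel₀ ha this
  have : k = 1 := Units.ext hk
  rw [this, hz_one, mul_one]
  exact tz_mem hσ c d

include hm hF in
/-- nilpotent subgroups containing the central involution `t(0,1)` consist of translations -/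
theorem claim1 (A : Subgroup (Sz F m)) (hA : Group.IsNilpotent A) (hg : tz hσ 0 1 ∈ A) :
    A ≤ szTsub hσ := by
  have hg1 : tz hσ (0 : F) 1 ≠ 1 := by
    intro h
    rw [← tz_zero hσ] at h
    exact one_ne_zero (tz_inj hσ h).2
  have : Nontrivial A := ⟨⟨⟨_, hg⟩, 1, fun h => hg1 (congrArg Subtype.val h)⟩⟩
  have hc := Group.IsNilpotent.center_ne_bot (G := A)
  obtain ⟨z, hz1⟩ := (Subgroup.ne_bot_iff_exists_ne_one).mp hc
  -- hz : z ∈ center, z : ↥(center A)
  have hzc : ∀ x : A, x * z.1 = z.1 * x := fun x => Subgroup.mem_center_iff.mp z.2 x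
  have hzT : (z.1 : Sz F m) ∈ szTsub hσ := by
    apply mem_T_of_commute hσ hm hF hg1
    have := hzc ⟨_, hg⟩
    exact (congrArg Subtype.val this).symm
  obtain ⟨a, b, hab⟩ := (mem_szTsub_iff hσ _).mp hzT
  have hab1 : tz hσ a b ≠ 1 := by
    rw [← hab]
    intro h
    apply hz1
    exact Subtype.ext (Subtype.ext h)
  intro x hx
  apply mem_T_of_commute hσ hm hF hab1
  rw [← hab]
  exact congrArg Subtype.val (hzc ⟨x, hx⟩)

include hm hF in
/-- no element of the Suzuki group has order `2 * (odd > 1)`: an element of odd order `> 1` does not commute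
with an involution (from the partition) -/
theorem no_mixed {y b : Sz F m} (hyb : Commute y b) (hb : orderOf b = 2) (hy : Odd (orderOf y))
    (hy1 : y ≠ 1) : False := by
  have hcop : Nat.Coprime (orderOf y) (orderOf b) := by
    rw [hb]; exact Nat.coprime_two_right.mpr hy
  have hord : orderOf (y * b) = orderOf y * 2 := by
    rw [hyb.orderOf_mul_eq_mul_orderOf_of_coprime hcop, hb]
  have hn1 : orderOf y ≠ 1 := fun h => hy1 (orderOf_eq_one_iff.mp h)
  have hne : y * b ≠ 1 := by
    intro h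
    rw [h, orderOf_one] at hord
    have := orderOf_pos y
    omega
  obtain ⟨U, ⟨hU, hmem⟩, -⟩ := Cfsg.Agent.S2238.result hm hF (y * b) hne
  rcases hU with ⟨P, rfl⟩ | ⟨hcyc, hcard⟩
  · have hp : IsPGroup 2 (P : Subgroup (Sz F m)) := P.isPGroup'
    obtain ⟨k, hk⟩ := (IsPGroup.iff_orderOf.mp hp) ⟨y * b, hmem⟩
    rw [Subgroup.orderOf_mk, hord] at hk
    have hd : orderOf y ∣ 2 ^ k := Dvd.intro _ hk
    obtain ⟨j, -, hj⟩ := (Nat.dvd_prime_pow Nat.prime_two).mp hd
    rw [hj] at hy hn1
    rcases Nat.eq_zero_or_pos j with rfl | hjpos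
    · exact hn1 (pow_zero 2)
    · have : Even (2 ^ j) := (Nat.even_pow.mpr ⟨even_two, by omega⟩)
      exact (Nat.not_even_iff_odd.mpr hy) this
  · have hdvd : orderOf (y * b) ∣ Nat.card U := by
      have := orderOf_dvd_natCard (⟨y * b, hmem⟩ : U)
      rwa [Subgroup.orderOf_mk] at this
    have h2 : 2 ∣ Nat.card U := Dvd.dvd.trans (Dvd.intro_left _ rfl) (hord ▸ hdvd)
    have hle : 2 ^ (m + 1) ≤ 2 ^ (2 * m + 1) := Nat.pow_le_pow_right (by norm_num) (by omega)
    obtain ⟨q', hq'⟩ : ∃ q', 2 ^ (2 * m + 1) = 2 * q' := ⟨2 ^ (2 * m), by rw [pow_succ]; ring⟩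
    obtain ⟨r', hr'⟩ : ∃ r', 2 ^ (m + 1) = 2 * r' := ⟨2 ^ m, by rw [pow_succ]; ring⟩
    have hq1 : 1 ≤ 2 ^ (2 * m + 1) := Nat.one_le_two_pow
    rcases hcard with h | h | h
    · rw [h] at h2; omega
    · rw [h] at h2; omega
    · rw [Set.mem_singleton_iff] at h
      rw [h] at h2; omega

/-- an element swapping two points has even order -/
theorem even_orderOf_of_swap {x : Sz F m} {p q : suzukiOvoid F m} (hpq : p ≠ q)
    (h1 : x • p = q) (h2 : x • q = p) : Even (orderOf x) := by
  by_contra hodd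
  rw [Nat.not_even_iff_odd] at hodd
  obtain ⟨j, hj⟩ := hodd
  have hx2 : x ^ 2 • p = p := by rw [pow_two, mul_smul, h1, h2]
  have hsq : ∀ i : ℕ, (x ^ 2) ^ i • p = p := by
    intro i
    induction i with
    | zero => simp
    | succ i ih => rw [pow_succ, mul_smul, hx2, ih]
  have : x ^ (orderOf x) • p = q := by
    rw [hj, pow_succ, pow_mul, mul_smul, h1]
    have : (x ^ 2) ^ j • q = q := by
      have := hsq j
      have h3 : (x ^ 2) ^ j • (x • p) = x • ((x ^ 2) ^ j • p) := by
        rw [← mul_smul, ← mul_smul]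
        congr 1
        exact ((Commute.refl x).pow_left 2).pow_left j |>.eq
      rw [h1, this, h1] at h3
      exact h3
    exact this
  rw [pow_orderOf_eq_one, one_smul] at this
  exact hpq this

/-- an element of even order has an involution among its powers -/
theorem exists_involution_of_even {G : Type*} [Group G] [Finite G] {x : G} (h : Even (orderOf x)) :
    ∃ j : ℕ, orderOf (x ^ j) = 2 := by
  obtain ⟨j, hj⟩ := h
  have hpos := orderOf_pos x
  refine ⟨j, orderOf_eq_prime ?_ ?_⟩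
  · rw [← pow_mul, show j * 2 = orderOf x by omega, pow_orderOf_eq_one]
  · exact pow_ne_one_of_lt_orderOf (by omega) (by omega)

include hm hF in
/-- nilpotent subgroups containing a nontrivial torus element fix the point at infinity -/
theorem claim2 {κ : Fˣ} (hκ : κ ≠ 1) (A : Subgroup (Sz F m)) (hA : Group.IsNilpotent A)
    (hh : hz hσ κ ∈ A) : A ≤ stabilizer (Sz F m) (infPt F m) := by
  have hne0 : affPt m (0 : F) 0 ≠ infPt F m := affPt_ne_inf 0 0
  have hh1 : hz hσ κ ≠ 1 := by
    intro h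
    rw [← hz_one hσ] at h
    exact hκ (hz_inj hσ h)
  have hhodd : Odd (orderOf (hz hσ κ)) := by
    have h1 : hz hσ κ ^ (Fintype.card F - 1) = 1 := by
      have : ∀ n : ℕ, hz hσ κ ^ n = hz hσ (κ ^ n) := by
        intro n
        induction n with
        | zero => simp [hz_one]
        | succ n ih => rw [pow_succ, pow_succ, ih, hz_mul]
      have hk : κ ^ (Fintype.card F - 1) = 1 := by
        rw [← Nat.card_eq_fintype_card, ← Nat.card_units]
        exact pow_card_eq_one'
      rw [this, hk, hz_one]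
    have h2 := orderOf_dvd_of_pow_eq_one h1
    have h3 : Odd (Fintype.card F - 1) := by
      rw [hF]
      refine Nat.Even.sub_odd Nat.one_le_two_pow ?_ odd_one
      exact (Nat.even_pow.mpr ⟨even_two, by omega⟩)
    exact Odd.of_dvd_nat h3 h2
  have : Nontrivial A := ⟨⟨⟨_, hh⟩, 1, fun h => hh1 (congrArg Subtype.val h)⟩⟩
  have hc := Group.IsNilpotent.center_ne_bot (G := A)
  obtain ⟨z, hz1⟩ := (Subgroup.ne_bot_iff_exists_ne_one).mp hc
  have hzc : ∀ x : A, x * z.1 = z.1 * x := fun x => Subgroup.mem_center_iff.mp z.2 x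
  set z' : Sz F m := (z.1 : Sz F m) with hz'
  have hz'1 : z' ≠ 1 := fun h => hz1 (Subtype.ext (Subtype.ext h))
  have hzc' : ∀ x ∈ A, x * z' = z' * x := fun x hx => congrArg Subtype.val (hzc ⟨x, hx⟩)
  -- z' has odd order
  have hzodd : Odd (orderOf z') := by
    by_contra hcon
    rw [Nat.not_odd_iff_even] at hcon
    obtain ⟨j, hj⟩ := exists_involution_of_even hcon
    have hcomm : Commute (hz hσ κ) (z' ^ j) := by
      have : Commute (hz hσ κ) z' := hzc' _ hh
      exact this.pow_right j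
    exact no_mixed hm hF hcomm hj hhodd hh1
  -- a general principle: an element commuting with a nontrivial torus element permutes the base points
  have hperm : ∀ (k : Fˣ), k ≠ 1 → ∀ x : Sz F m, x * hz hσ k = hz hσ k * x →
      ∀ p : suzukiOvoid F m, (p = infPt F m ∨ p = affPt m 0 0) →
        (x • p = infPt F m ∨ x • p = affPt m 0 0) := by
    intro k hk x hx p hp
    apply fix_hz hσ hk
    rw [← mul_smul, ← hx, mul_smul]
    rcases hp with rfl | rfl
    · rw [hz_smul_inf]
    · rw [(mem_stabilizer_iff.mp (hz_mem_stab_zero (hσ := hσ) k))]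
  -- an element of odd order permuting the base points fixes them
  have hfix : ∀ x : Sz F m, Odd (orderOf x) →
      (∀ p : suzukiOvoid F m, (p = infPt F m ∨ p = affPt m 0 0) →
        (x • p = infPt F m ∨ x • p = affPt m 0 0)) →
      x • infPt F m = infPt F m ∧ x • affPt m (0 : F) 0 = affPt m 0 0 := by
    intro x hodd hp
    have hinj : x • infPt F m ≠ x • affPt m (0 : F) 0 := fun h =>
      hne0 ((MulAction.injective x h).symm)
    rcases hp _ (Or.inl rfl) with h1 | h1
    · rcases hp _ (Or.inr rfl) with h2 | h2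
      · exact absurd (h1.trans h2.symm) hinj
      · exact ⟨h1, h2⟩
    · rcases hp _ (Or.inr rfl) with h2 | h2
      · exact absurd (even_orderOf_of_swap hne0.symm h1 h2) (Nat.not_even_iff_odd.mpr hodd)
      · exact absurd (h1.trans h2.symm) hinj
  -- z' is a torus element
  obtain ⟨hzi, hz0⟩ := hfix z' hzodd (hperm κ hκ z' ((hzc' _ hh).symm))
  obtain ⟨k, hk⟩ := eq_hz_of_fix hm hF (mem_stabilizer_iff.mpr hzi) (mem_stabilizer_iff.mpr hz0)
  have hk1 : k ≠ 1 := by
    rintro rfl
    rw [hz_one] at hk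
    exact hz'1 hk
  -- every element of A fixes infinity
  intro x hx
  rw [mem_stabilizer_iff]
  have hxz : x * hz hσ k = hz hσ k * x := by rw [← hk]; exact hzc' x hx
  have hp := hperm k hk1 x hxz
  rcases hp _ (Or.inl rfl) with h1 | h1
  · exact h1
  · exfalso
    have hinj : x • infPt F m ≠ x • affPt m (0 : F) 0 := fun h =>
      hne0 ((MulAction.injective x h).symm)
    rcases hp _ (Or.inr rfl) with h2 | h2
    · have heven := even_orderOf_of_swap hne0.symm h1 h2
      obtain ⟨j, hj⟩ := exists_involution_of_even heven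
      have hcomm : Commute z' (x ^ j) := by
        have : Commute z' x := (hzc' x hx).symm
        exact this.pow_right j
      exact no_mixed hm hF hcomm hj hzodd hz'1
    · exact hinj (h1.trans h2.symm)

end sz


end Cfsg.Agent.Lib.Helper95.NilCover
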