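/-
Helper95: overgroups of the rational orthogonal group, part R: in the tight case a root element
of `M` whose line is orthogonal to ONE rational singular point is rational.
-/
import Mathlib
import Cfsg.Agent.Lib.Helper95.OSubN

set_option autoImplicit false
set_option linter.unusedSimpArgs false
set_option linter.unusedSectionVars false
set_option linter.unusedVariables false

namespace Cfsg.Agent.Lib.Helper95.OSub

open LinearMap (BilinForm)
open Module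
open Cfsg.Agent.Lib.Helper94 Cfsg.Agent.Lib.Helper94.QuadData Cfsg.Agent.Lib.Helper44
open scoped commutatorElement

variable {F : Type*} [Field F] {V : Type*} [AddCommGroup V] [Module F V]
variable {F₀ : Subfield F} {W : Type*} [AddCommGroup W] [Module F₀ W]
variable {B : BilinForm F V} {Q : V → F} {Q₀ : QuadraticForm F₀ W} {ρ : W → V}

local notation "pol" => QuadraticMap.polar

/-- a vector of `ρ W + F ρ u₁` and of `ρ W + F ρ u₂` is rational -/
lemma rat_of_two (R : OSet B Q Q₀ ρ) {u₁ u₂ x w w' : W} {κ κ' : F}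
    (h11 : pol (⇑Q₀) x u₁ = 1) (h12 : pol (⇑Q₀) x u₂ = 0)
    (h : ρ w + κ • ρ u₁ = ρ w' + κ' • ρ u₂) : ∃ w'' : W, ρ w + κ • ρ u₁ = ρ w'' := by
  have e1 := congrArg (fun v => B (ρ x) v) h
  simp only [map_add, map_smul, R.one h11, R.orth h12, smul_eq_mul, mul_one, mul_zero,
    add_zero] at e1
  have hκ : κ = ((pol (⇑Q₀) x w' - pol (⇑Q₀) x w : F₀) : F) := by
    rw [R.form, R.form] at e1
    push_cast
    linear_combination e1
  refine ⟨w + (pol (⇑Q₀) x w' - pol (⇑Q₀) x w) • u₁, ?_⟩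
  rw [R.add, R.smul, ← hκ]

section Main

variable [Finite F₀] [FiniteDimensional F₀ W]
variable (R : OSet B Q Q₀ ρ) (h13 : 13 ≤ finrank F₀ W) {M : Subgroup (V ≃ₗ[F] V)}
  (hM : Over Q ρ M) (hT : Tight B Q Q₀ ρ M)

include R h13 hM hT in
/-- the singular case of `star1_perp` -/
lemma star1_sing {a b : V} (ha : Q a = 0) (hb : Q b = 0) (hab : B a b = 0) {u : W}
    (hu : Q₀ u = 0) (hu0 : u ≠ 0) (hau : B a (ρ u) = 0) (hbu : B b (ρ u) = 0)
    (hy : siegel B Q a b ∈ M) {t : W} (ht : Q₀ t = 0) (htu : pol (⇑Q₀) t u = 0) :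
    ∃ (w : W) (κ : F), B (ρ t) a • b - B (ρ t) b • a = ρ w + κ • ρ u := by
  have hx : siegel B Q (ρ t) (ρ u) ∈ M := ratSiegel_mem R h13 hM ht hu htu
  have h1 := conj_siegel_radical R.hQ ha hb (R.sing ht) (R.sing hu) hab hau hbu (R.orth htu)
  obtain ⟨d, hd⟩ : ∃ d : V, d = B b (ρ t) • a - B a (ρ t) • b := ⟨_, rfl⟩
  rw [← hd] at h1
  have hdM : siegel B Q d (ρ u) ∈ M := by
    have e2 : siegel B Q d (ρ u) = siegel B Q (ρ t) (ρ u) * siegel B Q a b *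
        (siegel B Q (ρ t) (ρ u))⁻¹ * (siegel B Q a b)⁻¹ := by
      rw [h1]; group
    rw [e2]
    exact mul_mem (mul_mem (mul_mem hx hy) (inv_mem hx)) (inv_mem hy)
  have hQd : Q d = 0 := by
    rw [hd, sub_eq_add_neg, ← neg_smul]
    apply sing_add R.hQ (sing_smul R.hQ ha _) (sing_smul R.hQ hb _)
    rw [map_smul, map_smul, LinearMap.smul_apply, hab, smul_zero, smul_zero]
  have hdu : B d (ρ u) = 0 := by
    rw [hd]
    simp only [map_sub, map_smul, LinearMap.sub_apply, LinearMap.smul_apply, hau, hbu, smul_eq_mul,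
      mul_zero, sub_zero]
  obtain ⟨w, κ, hw⟩ := tight_radical R h13 hM hT hu hu0 hQd hdu hdM
  refine ⟨-w, -κ, ?_⟩
  rw [R.neg, neg_smul, ← neg_add, ← hw, hd, R.hQ.symm (ρ t) a, R.hQ.symm (ρ t) b]
  abel

include R h13 hM hT in
/-- the root element modulo a rational singular point orthogonal to its line -/
lemma star1_perp {a b : V} (ha : Q a = 0) (hb : Q b = 0) (hab : B a b = 0) {u : W}
    (hu : Q₀ u = 0) (hu0 : u ≠ 0) (hau : B a (ρ u) = 0) (hbu : B b (ρ u) = 0)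
    (hy : siegel B Q a b ∈ M) {t : W} (htu : pol (⇑Q₀) t u = 0) :
    ∃ (w : W) (κ : F), B (ρ t) a • b - B (ρ t) b • a = ρ w + κ • ρ u := by
  obtain ⟨e, f, t₁, q, he, hf, ht₁, htd, heu, hfu, -, -, ht₁u, -⟩ := three_sing R h13 t u u
  obtain ⟨w₁, κ₁, h₁⟩ := star1_sing R h13 hM hT ha hb hab hu hu0 hau hbu hy ht₁
    (by rw [ht₁u]; exact htu)
  obtain ⟨w₂, κ₂, h₂⟩ := star1_sing R h13 hM hT ha hb hab hu hu0 hau hbu hy he heu
  obtain ⟨w₃, κ₃, h₃⟩ := star1_sing R h13 hM hT ha hb hab hu hu0 hau hbu hy hf hfu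
  refine ⟨w₁ - w₂ + q • w₃, κ₁ - κ₂ + (q : F) * κ₃, ?_⟩
  have e1 : ρ t = ρ t₁ - ρ e + (q : F) • ρ f := by
    rw [← R.smul, ← R.sub, ← R.add, ← htd]
  have e2 : ρ (w₁ - w₂ + q • w₃) + (κ₁ - κ₂ + (q : F) * κ₃) • ρ u =
      (ρ w₁ + κ₁ • ρ u) - (ρ w₂ + κ₂ • ρ u) + (q : F) • (ρ w₃ + κ₃ • ρ u) := by
    rw [R.add, R.sub, R.smul]
    module
  rw [e2, ← h₁, ← h₂, ← h₃, e1]
  simp only [map_add, map_sub, map_smul, LinearMap.add_apply, LinearMap.sub_apply,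
    LinearMap.smul_apply, smul_eq_mul]
  module

end Main

/-- a vector orthogonal to all rational vectors orthogonal to a rational singular point is a
multiple of that point -/
lemma perp_perp_point (R : OSet B Q Q₀ ρ) {s : W} (hs : Q₀ s = 0) (hs0 : s ≠ 0) {x : V}
    (hx : ∀ t : W, pol (⇑Q₀) t s = 0 → B x (ρ t) = 0) : ∃ κ : F, x = κ • ρ s := by
  have pc := QuadraticMap.polar_comm (⇑Q₀)
  obtain ⟨s', hQs', hss'⟩ := exists_hyp_partner Q₀ R.nd₀ s hs0 hs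
  refine ⟨B x (ρ s'), ?_⟩
  have h0 : x - B x (ρ s') • ρ s = 0 := by
    apply R.sep
    intro w
    obtain ⟨t, ht⟩ : ∃ t : W, t = w - pol (⇑Q₀) w s • s' := ⟨_, rfl⟩
    have hts : pol (⇑Q₀) t s = 0 := by
      rw [ht, QuadraticMap.polar_sub_left, QuadraticMap.polar_smul_left, pc s' s, hss']
      simp
    have e1 : ρ w = ρ t + ((pol (⇑Q₀) w s : F₀) : F) • ρ s' := by
      rw [← R.smul, ← R.add, ht]
      congr 1
      abel
    have e2 : B (ρ s) (ρ t) = 0 := R.orth (by rw [pc]; exact hts)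
    have e3 : B (ρ s) (ρ w) = ((pol (⇑Q₀) w s : F₀) : F) := R.form' s w
    rw [map_sub, LinearMap.sub_apply, map_smul, LinearMap.smul_apply, e3, e1, map_add, map_smul,
      hx t hts]
    simp only [smul_eq_mul]
    ring
  exact sub_eq_zero.1 h0

section Main

variable [Finite F₀] [FiniteDimensional F₀ W]
variable (R : OSet B Q Q₀ ρ) (h13 : 13 ≤ finrank F₀ W) {M : Subgroup (V ≃ₗ[F] V)}
  (hM : Over Q ρ M) (hT : Tight B Q Q₀ ρ M)

include R h13 hM hT in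
/-- the case where the rational point lies on the line -/
lemma star1_on {a b : V} (ha : Q a = 0) (hb : Q b = 0) (hab : B a b = 0) {s : W}
    (hs : Q₀ s = 0) (hs0 : s ≠ 0) (has : B a (ρ s) = 0) (hbs : B b (ρ s) = 0)
    (hy : siegel B Q a b ∈ M) {α β : F} (hαβ : ρ s = α • a + β • b) (t : W) :
    ∃ w : W, B (ρ t) a • b - B (ρ t) b • a = ρ w := by
  have hba : B b a = 0 := by rw [R.hQ.symm, hab]
  have key : ∃ c' : V, Q c' = 0 ∧ B c' (ρ s) = 0 ∧
      ∀ x, B x a • b - B x b • a = B x c' • ρ s - B x (ρ s) • c' := by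
    by_cases hα : α = 0
    · have hβ : β ≠ 0 := by
        rintro rfl
        rw [hα, zero_smul, zero_smul, add_zero] at hαβ
        exact R.ne_zero hs0 hαβ
      refine ⟨β⁻¹ • a, sing_smul R.hQ ha _, ?_, fun x => ?_⟩
      · rw [map_smul, LinearMap.smul_apply, has, smul_zero]
      · rw [hαβ, hα]
        simp only [zero_smul, zero_add, map_smul, smul_eq_mul, smul_smul]
        rw [mul_comm (β⁻¹ * B x a) β, ← mul_assoc, mul_inv_cancel₀ hβ, one_mul,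
          mul_comm β (B x b), mul_assoc, mul_inv_cancel₀ hβ, mul_one]
    · refine ⟨-(α⁻¹ • b), ?_, ?_, fun x => ?_⟩
      · rw [R.hQ.neg]; exact sing_smul R.hQ hb _
      · rw [map_neg, map_smul, LinearMap.neg_apply, LinearMap.smul_apply, hbs, smul_zero, neg_zero]
      · rw [hαβ]
        simp only [map_neg, map_smul, map_add, smul_eq_mul, smul_smul, smul_add, neg_smul,
          smul_neg, add_smul, sub_neg_eq_add]
        match_scalars <;> field_simp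
        ring
  obtain ⟨c', hQc', hc's, hc'φ⟩ := key
  have hyc : siegel B Q a b = siegel B Q c' (ρ s) := by
    apply LinearEquiv.ext
    intro x
    rw [siegel_apply R.hQ ha hb hab, siegel_apply R.hQ hQc' (R.sing hs) hc's, add_sub_assoc,
      hc'φ, add_sub_assoc]
  rw [hyc] at hy
  obtain ⟨w, κ, hw⟩ := tight_radical R h13 hM hT hs hs0 hQc' hc's hy
  refine ⟨pol (⇑Q₀) t w • s - pol (⇑Q₀) t s • w, ?_⟩
  rw [hc'φ, hw, R.sub, R.smul, R.smul, map_add, map_smul, R.form, R.form]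
  simp only [smul_eq_mul]
  module

include R h13 hM hT in
/-- **(★₁)**: a root element of `M` whose line is orthogonal to a rational singular point maps
rational vectors to rational vectors -/
theorem star1 {a b : V} (ha : Q a = 0) (hb : Q b = 0) (hab : B a b = 0) {s : W}
    (hs : Q₀ s = 0) (hs0 : s ≠ 0) (has : B a (ρ s) = 0) (hbs : B b (ρ s) = 0)
    (hy : siegel B Q a b ∈ M) : Rat1 ρ (siegel B Q a b) := by
  classical
  have pc := QuadraticMap.polar_comm (⇑Q₀)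
  have hba : B b a = 0 := by rw [R.hQ.symm, hab]
  have haa : B a a = 0 := sing_self R.hQ ha
  have hbb : B b b = 0 := sing_self R.hQ hb
  suffices hall : ∀ t : W, ∃ w : W, B (ρ t) a • b - B (ρ t) b • a = ρ w by
    intro w
    obtain ⟨w', hw'⟩ := hall w
    exact ⟨w + w', by rw [siegel_apply R.hQ ha hb hab, add_sub_assoc, hw', R.add]⟩
  have hG : ∀ u : W, Q₀ u = 0 → u ≠ 0 → B a (ρ u) = 0 → B b (ρ u) = 0 → ∀ t : W,
      pol (⇑Q₀) t u = 0 → ∃ (w : W) (κ : F), B (ρ t) a • b - B (ρ t) b • a = ρ w + κ • ρ u :=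
    fun u hu hu0 hau hbu t htu => star1_perp R h13 hM hT ha hb hab hu hu0 hau hbu hy htu
  by_cases hin : ∃ α β : F, ρ s = α • a + β • b
  · obtain ⟨α, β, hαβ⟩ := hin
    exact fun t => star1_on R h13 hM hT ha hb hab hs hs0 has hbs hy hαβ t
  push Not at hin
  -- the map `φ`
  obtain ⟨φ, hφ⟩ : ∃ φ : V → V, ∀ x, φ x = B x a • b - B x b • a := ⟨_, fun _ => rfl⟩
  simp only [← hφ] at hG ⊢
  have hnl : ∀ (x : V) (κ : F), φ x = κ • ρ s → κ = 0 := by
    intro x κ h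
    by_contra hκ
    apply hin (κ⁻¹ * (-B x b)) (κ⁻¹ * B x a)
    have : ρ s = κ⁻¹ • φ x := by rw [h, smul_smul, inv_mul_cancel₀ hκ, one_smul]
    rw [this, hφ]
    module
  have hφa : ∀ x, B a (φ x) = 0 := by
    intro x
    rw [hφ, map_sub, map_smul, map_smul, hab, haa]; simp
  have hφb : ∀ x, B b (φ x) = 0 := by
    intro x
    rw [hφ, map_sub, map_smul, map_smul, hba, hbb]; simp
  have hφs : ∀ x, B (φ x) (ρ s) = 0 := by
    intro x
    rw [hφ, map_sub, map_smul, map_smul, LinearMap.sub_apply, LinearMap.smul_apply,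
      LinearMap.smul_apply, has, hbs]; simp
  have hφQ : ∀ x, Q (φ x) = 0 := by
    intro x
    rw [hφ, sub_eq_add_neg, ← neg_smul]
    apply sing_add R.hQ (sing_smul R.hQ hb _) (sing_smul R.hQ ha _)
    rw [map_smul, map_smul, LinearMap.smul_apply, hba, smul_zero, smul_zero]
  have hφφ : ∀ x x', B (φ x) (φ x') = 0 := by
    intro x x'
    rw [hφ x, map_sub, map_smul, map_smul, LinearMap.sub_apply, LinearMap.smul_apply,
      LinearMap.smul_apply, hφa, hφb]; simp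
  have hφx : ∀ x x', B x (φ x') = -B x' (φ x) := by
    intro x x'
    rw [hφ, hφ]
    simp only [map_sub, map_smul, smul_eq_mul]
    ring
  by_cases h0 : ∀ t : W, pol (⇑Q₀) t s = 0 → φ (ρ t) = 0
  · -- `φ` vanishes
    have hv : ∀ v, φ v = 0 := by
      intro v
      obtain ⟨κ, hκ⟩ := perp_perp_point R hs hs0 (x := φ v) (by
        intro t hts
        rw [R.hQ.symm, hφx, h0 t hts, map_zero, neg_zero])
      rw [hκ, hnl v κ hκ, zero_smul]
    exact fun t => ⟨0, by rw [hv, R.zero]⟩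
  push Not at h0
  obtain ⟨t₁, ht₁s, hc₁⟩ := h0
  obtain ⟨w₁, κ₁, hw₁⟩ := hG s hs hs0 has hbs t₁ ht₁s
  by_cases h1 : ∀ t : W, pol (⇑Q₀) t s = 0 → ∃ l : F, φ (ρ t) = l • φ (ρ t₁)
  · exfalso
    obtain ⟨κ, hκ⟩ := perp_perp_point R hs hs0 (x := φ (ρ t₁)) (by
      intro t hts
      obtain ⟨l, hl⟩ := h1 t hts
      have e1 : B (ρ t₁) (φ (ρ t₁)) = 0 := by
        have := hφx (ρ t₁) (ρ t₁)
        have h2 : (2 : F) * B (ρ t₁) (φ (ρ t₁)) = 0 := by linear_combination this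
        rw [hφ] at h2 ⊢
        simp only [map_sub, map_smul, smul_eq_mul]
        ring
      rw [R.hQ.symm, hφx, hl, map_smul, e1, smul_zero, neg_zero])
    exact hc₁ (by rw [hκ, hnl _ κ hκ, zero_smul])
  push Not at h1
  obtain ⟨t₂, ht₂s, hc₂⟩ := h1
  obtain ⟨w₂, κ₂, hw₂⟩ := hG s hs hs0 has hbs t₂ ht₂s
  have hφadd : ∀ x y, φ (x + y) = φ x + φ y := by
    intro x y
    rw [hφ, hφ, hφ]
    simp only [map_add, LinearMap.add_apply]
    module
  have hφsmul : ∀ (c : F) x, φ (c • x) = c • φ x := by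
    intro c x
    rw [hφ, hφ]
    simp only [map_smul, LinearMap.smul_apply, smul_eq_mul]
    module
  have hss : B (ρ s) (ρ s) = 0 := sing_self R.hQ (R.sing hs)
  -- the properties of `w₁`, `w₂`
  have prop : ∀ (t w : W) (κ : F), φ (ρ t) = ρ w + κ • ρ s → φ (ρ t) ≠ 0 →
      Q₀ w = 0 ∧ w ≠ 0 ∧ B a (ρ w) = 0 ∧ B b (ρ w) = 0 := by
    intro t w κ h hne
    have e0 : ρ w = φ (ρ t) - κ • ρ s := by rw [h]; abel
    have e1 : B (ρ w) (ρ s) = 0 := by
      rw [e0, map_sub, LinearMap.sub_apply, hφs, map_smul, LinearMap.smul_apply, hss]; simp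
    refine ⟨?_, ?_, ?_, ?_⟩
    · have e2 := hφQ (ρ t)
      rw [h, R.hQ.polar, R.hQ.smul, R.sing hs, map_smul, e1, R.quad] at e2
      simp only [mul_zero, smul_zero, add_zero] at e2
      exact_mod_cast e2
    · rintro rfl
      rw [R.zero, zero_add] at h
      rw [hnl _ κ h, zero_smul] at h
      exact hne h
    · rw [e0, map_sub, hφa, map_smul, has]; simp
    · rw [e0, map_sub, hφb, map_smul, hbs]; simp
  have hc₂0 : φ (ρ t₂) ≠ 0 := by
    intro h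
    apply hc₂ 0
    rw [h, zero_smul]
  obtain ⟨hQw₁, hw₁0, haw₁, hbw₁⟩ := prop t₁ w₁ κ₁ hw₁ hc₁
  obtain ⟨hQw₂, hw₂0, haw₂, hbw₂⟩ := prop t₂ w₂ κ₂ hw₂ hc₂0
  have er₁ : ρ w₁ = φ (ρ t₁) - κ₁ • ρ s := by rw [hw₁]; abel
  have er₂ : ρ w₂ = φ (ρ t₂) - κ₂ • ρ s := by rw [hw₂]; abel
  -- independence
  have I1 : s ∉ Submodule.span F₀ ({w₁, w₂} : Set W) := by
    intro hmem
    obtain ⟨β, γ, hβγ⟩ := Submodule.mem_span_pair.1 hmem
    have e1 : ρ s = (β : F) • ρ w₁ + (γ : F) • ρ w₂ := by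
      rw [← R.smul, ← R.smul, ← R.add, hβγ]
    have e2 : φ ((β : F) • ρ t₁ + (γ : F) • ρ t₂) = (1 + β * κ₁ + γ * κ₂) • ρ s := by
      rw [hφadd, hφsmul, hφsmul]
      have : (1 + (β : F) * κ₁ + γ * κ₂) • ρ s = ρ s + ((β : F) * κ₁ + γ * κ₂) • ρ s := by module
      rw [this]
      nth_rewrite 1 [e1]
      rw [er₁, er₂]
      module
    have e3 := hnl _ _ e2
    rw [e3, zero_smul, hφadd, hφsmul, hφsmul] at e2
    by_cases hγ : (γ : F) = 0
    · rw [hγ, zero_smul, add_zero] at e2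
      rcases smul_eq_zero.1 e2 with h | h
      · rw [hγ, h, zero_smul, zero_smul, add_zero] at e1
        exact R.ne_zero hs0 e1
      · exact hc₁ h
    · apply hc₂ (-(γ : F)⁻¹ * β)
      have : φ (ρ t₂) = (γ : F)⁻¹ • ((β : F) • φ (ρ t₁) + (γ : F) • φ (ρ t₂)) -
          ((γ : F)⁻¹ * β) • φ (ρ t₁) := by
        rw [smul_add, smul_smul, smul_smul, inv_mul_cancel₀ hγ, one_smul]
        abel
      rw [this, e2, smul_zero, zero_sub, neg_mul, neg_smul]
  have I2 : w₁ ∉ Submodule.span F₀ ({s, w₂} : Set W) := by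
    intro hmem
    obtain ⟨α, γ, hαγ⟩ := Submodule.mem_span_pair.1 hmem
    have e1 : ρ w₁ = (α : F) • ρ s + (γ : F) • ρ w₂ := by
      rw [← R.smul, ← R.smul, ← R.add, hαγ]
    have e2 : φ (ρ t₁ + (-(γ : F)) • ρ t₂) = (κ₁ + α - γ * κ₂) • ρ s := by
      rw [hφadd, hφsmul]
      have : φ (ρ t₁) = ρ w₁ + κ₁ • ρ s := hw₁
      rw [this, e1, er₂]
      module
    have e3 := hnl _ _ e2
    rw [e3, zero_smul, hφadd, hφsmul] at e2
    by_cases hγ : (γ : F) = 0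
    · rw [hγ, neg_zero, zero_smul, add_zero] at e2
      exact hc₁ e2
    · apply hc₂ ((γ : F)⁻¹)
      have : φ (ρ t₂) = (γ : F)⁻¹ • φ (ρ t₁) -
          (γ : F)⁻¹ • (φ (ρ t₁) + (-(γ : F)) • φ (ρ t₂)) := by
        rw [smul_add, smul_smul, mul_neg, inv_mul_cancel₀ hγ]
        module
      rw [this, e2, smul_zero, sub_zero]
  -- dual vectors
  have hD := quadData_of_form Q₀
  obtain ⟨x₁, hx₁S, hx₁s⟩ := hD.exists_dual_vec R.nd₀.1 _ I1
  obtain ⟨x₂, hx₂S, hx₂w⟩ := hD.exists_dual_vec R.nd₀.1 _ I2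
  have a1 : pol (⇑Q₀) x₁ s = 1 := by rw [pc]; exact hx₁s
  have a2 : pol (⇑Q₀) x₁ w₁ = 0 := by
    rw [pc]; exact hx₁S w₁ (Submodule.subset_span (by simp))
  have a3 : pol (⇑Q₀) x₁ w₂ = 0 := by
    rw [pc]; exact hx₁S w₂ (Submodule.subset_span (by simp))
  have b1 : pol (⇑Q₀) x₂ w₁ = 1 := by rw [pc]; exact hx₂w
  have b2 : pol (⇑Q₀) x₂ s = 0 := by
    rw [pc]; exact hx₂S s (Submodule.subset_span (by simp))
  have b3 : pol (⇑Q₀) x₂ w₂ = 0 := by
    rw [pc]; exact hx₂S w₂ (Submodule.subset_span (by simp))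
  -- the three pairs
  have C : ∀ (u₁ u₂ x : W), Q₀ u₁ = 0 → u₁ ≠ 0 → B a (ρ u₁) = 0 → B b (ρ u₁) = 0 →
      Q₀ u₂ = 0 → u₂ ≠ 0 → B a (ρ u₂) = 0 → B b (ρ u₂) = 0 → pol (⇑Q₀) x u₁ = 1 →
      pol (⇑Q₀) x u₂ = 0 → ∀ t : W, pol (⇑Q₀) t u₁ = 0 → pol (⇑Q₀) t u₂ = 0 →
      ∃ w : W, φ (ρ t) = ρ w := by
    intro u₁ u₂ x q1 n1 ha1 hb1 q2 n2 ha2 hb2 hx1 hx2 t ht1 ht2
    obtain ⟨w, κ, hw⟩ := hG u₁ q1 n1 ha1 hb1 t ht1
    obtain ⟨w', κ', hw'⟩ := hG u₂ q2 n2 ha2 hb2 t ht2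
    obtain ⟨w'', hw''⟩ := rat_of_two R hx1 hx2 (hw.symm.trans hw')
    exact ⟨w'', hw.trans hw''⟩
  intro t
  obtain ⟨ta, hta⟩ : ∃ ta : W, ta = pol (⇑Q₀) t s • x₁ := ⟨_, rfl⟩
  obtain ⟨tb, htb⟩ : ∃ tb : W, tb = pol (⇑Q₀) t w₁ • x₂ := ⟨_, rfl⟩
  obtain ⟨tc, htc⟩ : ∃ tc : W, tc = t - ta - tb := ⟨_, rfl⟩
  obtain ⟨wa, hwa⟩ := C w₁ w₂ x₂ hQw₁ hw₁0 haw₁ hbw₁ hQw₂ hw₂0 haw₂ hbw₂ b1 b3 ta
    (by rw [hta, QuadraticMap.polar_smul_left, a2, smul_zero])
    (by rw [hta, QuadraticMap.polar_smul_left, a3, smul_zero])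
  obtain ⟨wb, hwb⟩ := C s w₂ x₁ hs hs0 has hbs hQw₂ hw₂0 haw₂ hbw₂ a1 a3 tb
    (by rw [htb, QuadraticMap.polar_smul_left, b2, smul_zero])
    (by rw [htb, QuadraticMap.polar_smul_left, b3, smul_zero])
  obtain ⟨wc, hwc⟩ := C s w₁ x₁ hs hs0 has hbs hQw₁ hw₁0 haw₁ hbw₁ a1 a2 tc
    (by rw [htc, hta, htb]
        simp only [QuadraticMap.polar_sub_left, QuadraticMap.polar_smul_left, a1, b2, smul_eq_mul]
        ring)
    (by rw [htc, hta, htb]
        simp only [QuadraticMap.polar_sub_left, QuadraticMap.polar_smul_left, a2, b1, smul_eq_mul]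
        ring)
  refine ⟨wa + wb + wc, ?_⟩
  have : ρ t = ρ ta + ρ tb + ρ tc := by
    rw [← R.add, ← R.add, htc]
    congr 1
    abel
  rw [this, hφadd, hφadd, hwa, hwb, hwc, R.add, R.add]

end Main

end Cfsg.Agent.Lib.Helper95.OSub
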