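/-
Helper95: overgroups of the rational orthogonal group, part S: the image trick with one rational
singular point, and elements of `M` adapted to an isometry with a rational singular vector in
its commutator space.
-/
import Mathlib
import Cfsg.Agent.Lib.Helper95.OSubR

set_option autoImplicit false
set_option linter.unusedSimpArgs false
set_option linter.unusedSectionVars false
set_option linter.unusedVariables false

namespace Cfsg.Agent.Lib.Helper95.OSub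

open LinearMap (BilinForm)
open Module
open Cfsg.Agent.Lib.Helper94 Cfsg.Agent.Lib.Helper94.QuadData Cfsg.Agent.Lib.Helper44
open scoped commutatorElement

variable {F : Type*} [Field F] {V : Type*} [AddCommGroup V] [Module F V]
variable {F₀ : Subfield F} {W : Type*} [AddCommGroup W] [Module F₀ W]
variable {B : BilinForm F V} {Q : V → F} {Q₀ : QuadraticForm F₀ W} {ρ : W → V}

local notation "pol" => QuadraticMap.polar

section Main

variable [Finite F₀] [FiniteDimensional F₀ W]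
variable (R : OSet B Q Q₀ ρ) (h13 : 13 ≤ finrank F₀ W) {M : Subgroup (V ≃ₗ[F] V)}
  (hM : Over Q ρ M) (hT : Tight B Q Q₀ ρ M)

include R h13 hM hT in
/-- **the image trick, one point**: `k ∈ M` maps a rational singular point to a rational point as
soon as the images of the point and of a rational hyperbolic pair orthogonal to it are orthogonal
to a rational singular point -/
theorem image_trick1 {k : V ≃ₗ[F] V} (hk : k ∈ M) {p e f s : W} (hp : Q₀ p = 0) (hp0 : p ≠ 0)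
    (he : Q₀ e = 0) (hf : Q₀ f = 0) (hef : pol (⇑Q₀) e f = 1) (hpe : pol (⇑Q₀) p e = 0)
    (hpf : pol (⇑Q₀) p f = 0) (hs : Q₀ s = 0) (hs0 : s ≠ 0)
    (h1 : B (k (ρ p)) (ρ s) = 0) (h2 : B (k (ρ e)) (ρ s) = 0) (h3 : B (k (ρ f)) (ρ s) = 0) :
    ∃ (l : F) (p' : W), k (ρ p) = l • ρ p' := by
  have pc := QuadraticMap.polar_comm (⇑Q₀)
  have hkO : k ∈ OG Q := commutator_le_OG (hM.le hk)
  have hQp : Q (k (ρ p)) = 0 := by rw [hkO (ρ p)]; exact R.sing hp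
  have hQe : Q (k (ρ e)) = 0 := by rw [hkO (ρ e)]; exact R.sing he
  have hQf : Q (k (ρ f)) = 0 := by rw [hkO (ρ f)]; exact R.sing hf
  have hBpe : B (k (ρ p)) (k (ρ e)) = 0 := by rw [R.hQ.B_map hkO]; exact R.orth hpe
  have hBfp : B (k (ρ f)) (k (ρ p)) = 0 := by
    rw [R.hQ.B_map hkO]; exact R.orth (by rw [pc]; exact hpf)
  have hBfe : B (k (ρ f)) (k (ρ e)) = 1 := by
    rw [R.hQ.B_map hkO]; exact R.one (by rw [pc]; exact hef)
  have hBpp : B (k (ρ p)) (k (ρ p)) = 0 := sing_self R.hQ hQp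
  have hy₁ : siegel B Q (k (ρ p)) (k (ρ e)) ∈ M := by
    rw [← conj_siegel R.hQ hkO (R.sing hp) (R.sing he) (R.orth hpe)]
    exact mul_mem (mul_mem hk (ratSiegel_mem R h13 hM hp he hpe)) (inv_mem hk)
  have hy₂ : siegel B Q (k (ρ f)) (k (ρ p)) ∈ M := by
    rw [← conj_siegel R.hQ hkO (R.sing hf) (R.sing hp) (R.orth (by rw [pc]; exact hpf))]
    exact mul_mem (mul_mem hk (ratSiegel_mem R h13 hM hf hp (by rw [pc]; exact hpf))) (inv_mem hk)
  have r₁ := star1 R h13 hM hT hQp hQe hBpe hs hs0 h1 h2 hy₁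
  have r₂ := star1 R h13 hM hT hQf hQp hBfp hs hs0 h3 h1 hy₂
  -- a rational vector not orthogonal to `k (ρ p)`
  have hkp0 : k (ρ p) ≠ 0 := by
    intro h0
    exact R.ne_zero hp0 (k.injective (h0.trans (map_zero k).symm))
  obtain ⟨w, hw⟩ : ∃ w : W, B (k (ρ p)) (ρ w) ≠ 0 := by
    by_contra hcon
    push Not at hcon
    exact hkp0 (R.sep hcon)
  obtain ⟨w₂, hw₂⟩ := r₂ w
  rw [siegel_apply R.hQ hQf hQp hBfp] at hw₂
  obtain ⟨β, hβ⟩ : ∃ β : F, β = B (ρ w) (k (ρ p)) := ⟨_, rfl⟩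
  obtain ⟨α, hα⟩ : ∃ α : F, α = B (ρ w) (k (ρ f)) := ⟨_, rfl⟩
  have hβ0 : β ≠ 0 := by rw [hβ, R.hQ.symm]; exact hw
  rw [← hβ, ← hα] at hw₂
  have hu : ρ (w₂ - w) = α • k (ρ p) - β • k (ρ f) := by
    rw [R.sub, ← hw₂]; abel
  obtain ⟨u₁, hu₁⟩ := r₁ (w₂ - w)
  rw [siegel_apply R.hQ hQp hQe hBpe, hu] at hu₁
  have e1 : B (α • k (ρ p) - β • k (ρ f)) (k (ρ p)) = 0 := by
    simp only [map_sub, map_smul, LinearMap.sub_apply, LinearMap.smul_apply, hBpp, hBfp,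
      smul_eq_mul, mul_zero, sub_zero]
  have e2 : B (α • k (ρ p) - β • k (ρ f)) (k (ρ e)) = -β := by
    simp only [map_sub, map_smul, LinearMap.sub_apply, LinearMap.smul_apply, hBpe, hBfe,
      smul_eq_mul, mul_zero, mul_one, zero_sub]
  rw [e1, e2, zero_smul, add_zero, ← hu] at hu₁
  have e3 : β • k (ρ p) = ρ (u₁ - (w₂ - w)) := by
    rw [R.sub u₁, ← hu₁]
    simp only [neg_smul]
    abel
  refine ⟨β⁻¹, u₁ - (w₂ - w), ?_⟩
  rw [← e3, smul_smul, inv_mul_cancel₀ hβ0, one_smul]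

include R h13 hM hT in
/-- an element of `M` mapping two orthogonal rational hyperbolic pairs into the orthogonal of a
rational singular point is in the rational group -/
theorem ratU_of_perp {k : V ≃ₗ[F] V} (hk : k ∈ M) {e₁ f₁ e₂ f₂ s : W} (he₁ : Q₀ e₁ = 0)
    (hf₁ : Q₀ f₁ = 0) (he₂ : Q₀ e₂ = 0)
    (hf₂ : Q₀ f₂ = 0) (h11 : pol (⇑Q₀) e₁ f₁ = 1) (h22 : pol (⇑Q₀) e₂ f₂ = 1)
    (h12 : pol (⇑Q₀) e₁ e₂ = 0) (h12' : pol (⇑Q₀) e₁ f₂ = 0) (h21 : pol (⇑Q₀) f₁ e₂ = 0)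
    (h21' : pol (⇑Q₀) f₁ f₂ = 0) (hs : Q₀ s = 0) (hs0 : s ≠ 0)
    (z1 : B (k (ρ e₁)) (ρ s) = 0) (z2 : B (k (ρ f₁)) (ρ s) = 0)
    (z3 : B (k (ρ e₂)) (ρ s) = 0) (z4 : B (k (ρ f₂)) (ρ s) = 0) : RatU ρ k := by
  have he₁0 : e₁ ≠ 0 := by
    rintro rfl
    rw [QuadraticMap.polar_zero_left] at h11
    exact zero_ne_one h11
  have hf₁0 : f₁ ≠ 0 := by
    rintro rfl
    rw [QuadraticMap.polar_zero_right] at h11
    exact zero_ne_one h11
  obtain ⟨l₁, p₁, hp₁⟩ := image_trick1 R h13 hM hT hk he₁ he₁0 he₂ hf₂ h22 h12 h12' hs hs0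
    z1 z3 z4
  obtain ⟨l₂, p₂, hp₂⟩ := image_trick1 R h13 hM hT hk hf₁ hf₁0 he₂ hf₂ h22 h21 h21' hs hs0
    z2 z3 z4
  exact ratU_of_pair R h13 hM hT hk he₁ hf₁ h11 hp₁ hp₂

include R h13 hM hT in
/-- **elements adapted to an isometry**: if `z k = k h` where `h` fixes two orthogonal rational
hyperbolic pairs and the commutator space of `z` contains a rational singular vector, then
`k ∈ M` is in the rational group -/
theorem ratU_of_fix {k z h : V ≃ₗ[F] V} (hk : k ∈ M) (hz : z ∈ OG Q) (hzk : z * k = k * h)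
    {e₁ f₁ e₂ f₂ s : W} (he₁ : Q₀ e₁ = 0)
    (hf₁ : Q₀ f₁ = 0) (he₂ : Q₀ e₂ = 0)
    (hf₂ : Q₀ f₂ = 0) (h11 : pol (⇑Q₀) e₁ f₁ = 1) (h22 : pol (⇑Q₀) e₂ f₂ = 1)
    (h12 : pol (⇑Q₀) e₁ e₂ = 0) (h12' : pol (⇑Q₀) e₁ f₂ = 0) (h21 : pol (⇑Q₀) f₁ e₂ = 0)
    (h21' : pol (⇑Q₀) f₁ f₂ = 0) (hs : Q₀ s = 0) (hs0 : s ≠ 0) {v₀ : V} (hv₀ : z v₀ - v₀ = ρ s)
    (x1 : h (ρ e₁) = ρ e₁) (x2 : h (ρ f₁) = ρ f₁) (x3 : h (ρ e₂) = ρ e₂)
    (x4 : h (ρ f₂) = ρ f₂) : RatU ρ k := by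
  have key : ∀ x : V, h x = x → B (k x) (ρ s) = 0 := by
    intro x hx
    have e1 : z (k x) = k x := by
      have := congrArg (fun g : V ≃ₗ[F] V => g x) hzk
      simp only [LinearEquiv.mul_apply] at this
      rw [this, hx]
    rw [← hv₀, map_sub]
    nth_rewrite 1 [← e1]
    rw [R.hQ.B_map hz, sub_self]
  exact ratU_of_perp R h13 hM hT hk he₁ hf₁ he₂ hf₂ h11 h22 h12 h12' h21 h21' hs hs0
    (key _ x1) (key _ x2) (key _ x3) (key _ x4)

end Main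

end Cfsg.Agent.Lib.Helper95.OSub
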