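/-
Helper95: overgroups of the rational orthogonal group, part T: characteristic two.  The two
rational involutions (a long root element and a product of two commuting reflections), their
centralisers in `M`, and the dihedral trick with a general non-conjugacy hypothesis.
-/
import Mathlib
import Cfsg.Agent.Lib.Helper95.OSubS

set_option autoImplicit false
set_option linter.unusedSimpArgs false
set_option linter.unusedSectionVars false
set_option linter.unusedVariables false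

namespace Cfsg.Agent.Lib.Helper95.OSub

open LinearMap (BilinForm)
open Module
open Cfsg.Agent.Lib.Helper94 Cfsg.Agent.Lib.Helper94.QuadData Cfsg.Agent.Lib.Helper44
open Cfsg.Agent.Lib.Helper13 (fixSub mem_fixSub)
open scoped commutatorElement

variable {F : Type*} [Field F] {V : Type*} [AddCommGroup V] [Module F V]
variable {F₀ : Subfield F} {W : Type*} [AddCommGroup W] [Module F₀ W]
variable {B : BilinForm F V} {Q : V → F} {Q₀ : QuadraticForm F₀ W} {ρ : W → V}

local notation "pol" => QuadraticMap.polar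

/-- **the dihedral trick**, with a general non-conjugacy hypothesis -/
theorem dihedral' [Finite (V ≃ₗ[F] V)] (M : Subgroup (V ≃ₗ[F] V)) {z₁ ζ g : V ≃ₗ[F] V}
    (hg : g ∈ M) (hz₁ : z₁ ∈ M) (hζ : ζ ∈ M) (sq₁ : z₁ * z₁ = 1) (sq₂ : ζ * ζ = 1)
    (hnc : ∀ c ∈ M, c * z₁ * c⁻¹ ≠ g * ζ * g⁻¹) :
    ∃ z ∈ M, z * z = 1 ∧ z ≠ 1 ∧ z * z₁ = z₁ * z ∧ (g⁻¹ * z * g) * ζ = ζ * (g⁻¹ * z * g) ∧
      ∀ v, z₁ v = v → (g * ζ * g⁻¹) v = v → z v = v := by
  obtain ⟨z₂, hz₂⟩ : ∃ z₂, z₂ = g * ζ * g⁻¹ := ⟨_, rfl⟩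
  have hz₂M : z₂ ∈ M := by rw [hz₂]; exact mul_mem (mul_mem hg hζ) (inv_mem hg)
  have sq₂' : z₂ * z₂ = 1 := by
    rw [hz₂]
    calc g * ζ * g⁻¹ * (g * ζ * g⁻¹) = g * (ζ * ζ) * g⁻¹ := by group
      _ = 1 := by rw [sq₂]; group
  have i₁ : z₁⁻¹ = z₁ := inv_eq_of_mul_eq_one_right sq₁
  have i₂ : z₂⁻¹ = z₂ := inv_eq_of_mul_eq_one_right sq₂'
  obtain ⟨u, hu⟩ : ∃ u, u = z₁ * z₂ := ⟨_, rfl⟩
  have huM : u ∈ M := by rw [hu]; exact mul_mem hz₁ hz₂M
  have c₁ : z₁ * u * z₁⁻¹ = u⁻¹ := by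
    rw [hu, mul_inv_rev, i₁, i₂]
    calc z₁ * (z₁ * z₂) * z₁ = (z₁ * z₁) * z₂ * z₁ := by group
      _ = z₂ * z₁ := by rw [sq₁, one_mul]
  have c₂ : z₂ * u * z₂⁻¹ = u⁻¹ := by
    rw [hu, mul_inv_rev, i₁, i₂]
    calc z₂ * (z₁ * z₂) * z₂ = z₂ * z₁ * (z₂ * z₂) := by group
      _ = z₂ * z₁ := by rw [sq₂', mul_one]
  have p₁ : ∀ m : ℕ, z₁ * u ^ m * z₁⁻¹ = (u ^ m)⁻¹ := by
    intro m
    rw [← conj_pow, c₁, inv_pow]
  have p₂ : ∀ m : ℕ, z₂ * u ^ m * z₂⁻¹ = (u ^ m)⁻¹ := by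
    intro m
    rw [← conj_pow, c₂, inv_pow]
  have hN : 0 < orderOf u := orderOf_pos u
  rcases Nat.even_or_odd (orderOf u) with hev | hodd
  · obtain ⟨m, hm⟩ := hev
    have hm0 : m ≠ 0 := by omega
    obtain ⟨z, hzdef⟩ : ∃ z, z = u ^ m := ⟨_, rfl⟩
    have hzz : z * z = 1 := by
      rw [hzdef, ← pow_add, ← hm, pow_orderOf_eq_one]
    have iz : z⁻¹ = z := inv_eq_of_mul_eq_one_right hzz
    have hz1 : z ≠ 1 := by
      rw [hzdef]
      exact pow_ne_one_of_lt_orderOf hm0 (by omega)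
    have k₁ : z * z₁ = z₁ * z := by
      have := p₁ m
      rw [← hzdef, iz, i₁] at this
      calc z * z₁ = (z₁ * z * z₁) * z₁ := by rw [this]
        _ = z₁ * z * (z₁ * z₁) := by group
        _ = z₁ * z := by rw [sq₁, mul_one]
    have k₂ : z * z₂ = z₂ * z := by
      have := p₂ m
      rw [← hzdef, iz, i₂] at this
      calc z * z₂ = (z₂ * z * z₂) * z₂ := by rw [this]
        _ = z₂ * z * (z₂ * z₂) := by group
        _ = z₂ * z := by rw [sq₂', mul_one]
    refine ⟨z, by rw [hzdef]; exact pow_mem huM m, hzz, hz1, k₁, ?_, ?_⟩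
    · have e1 : g⁻¹ * z * g * ζ = g⁻¹ * (z * z₂) * g := by rw [hz₂]; group
      have e2 : ζ * (g⁻¹ * z * g) = g⁻¹ * (z₂ * z) * g := by rw [hz₂]; group
      rw [e1, e2, k₂]
    · intro v hv1 hv2
      rw [← hz₂] at hv2
      have huv : u v = v := by rw [hu, LinearEquiv.mul_apply, hv2, hv1]
      rw [hzdef]
      have hpow : ∀ k : ℕ, (u ^ k) v = v := by
        intro k
        induction k with
        | zero => simp
        | succ k ih => rw [pow_succ, LinearEquiv.mul_apply, huv, ih]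
      exact hpow m
  · exfalso
    obtain ⟨j, hj⟩ := hodd
    obtain ⟨c, hc⟩ : ∃ c, c = u ^ (j + 1) := ⟨_, rfl⟩
    have hcM : c ∈ M := by rw [hc]; exact pow_mem huM _
    have hcc : c * c = u := by
      rw [hc, ← pow_add]
      have : j + 1 + (j + 1) = orderOf u + 1 := by omega
      rw [this, pow_succ, pow_orderOf_eq_one, one_mul]
    have h1 : z₁ * c = c⁻¹ * z₁ := by
      have := p₁ (j + 1)
      rw [← hc, i₁] at this
      calc z₁ * c = (z₁ * c * z₁) * z₁ := by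
            rw [mul_assoc (z₁ * c), sq₁, mul_one]
        _ = c⁻¹ * z₁ := by rw [this]
    have h2 : c⁻¹ * z₁ * c⁻¹⁻¹ = z₂ := by
      rw [inv_inv, mul_assoc, h1, ← mul_assoc, ← mul_inv_rev, hcc, hu, mul_inv_rev, i₁, i₂,
        mul_assoc, sq₁, mul_one]
    exact hnc c⁻¹ (inv_mem hcM) (h2.trans hz₂)

/-- a bound for the codimension of the fixed space -/
lemma finrank_fixSub_ge' [FiniteDimensional F V] (hQ : QuadData B Q)
    (hnd : ∀ x, (∀ y, B x y = 0) → x = 0) {z : V ≃ₗ[F] V} {l : List V}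
    (h : ∀ x, (∀ a ∈ l, B x a = 0) → z x = x) :
    finrank F V ≤ finrank F (fixSub z) + l.length := by
  have hN : B.Nondegenerate := by
    have := hQ.nondeg_toQF hnd
    rwa [polarBilin_toQF] at this
  have hle : B.orthogonal (Submodule.span F {x : V | x ∈ l}) ≤ fixSub z := by
    intro x hx
    rw [LinearMap.BilinForm.mem_orthogonal_iff] at hx
    rw [mem_fixSub]
    apply h
    intro a ha
    rw [hQ.symm]
    exact hx a (Submodule.subset_span ha)
  have h1 := LinearMap.BilinForm.finrank_orthogonal hN (Submodule.span F {x : V | x ∈ l})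
  have h2 := Submodule.finrank_mono hle
  have h3 := finrank_span_list_le (F := F) l
  omega

/-- the data of a rational involution of `M` with a fixed space of codimension at most two -/
structure InvData2 (ρ : W → V) (M : Subgroup (V ≃ₗ[F] V)) (z : V ≃ₗ[F] V) : Prop where
  mem : z ∈ M
  sq : z * z = 1
  cent : ∀ c ∈ M, c * z = z * c → RatU ρ c
  fix_ge : finrank F V ≤ finrank F (fixSub z) + 2

section Main

variable [Finite F₀] [FiniteDimensional F₀ W] [FiniteDimensional F V]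
variable (R : OSet B Q Q₀ ρ) (h13 : 13 ≤ finrank F₀ W) {M : Subgroup (V ≃ₗ[F] V)}
  (hM : Over Q ρ M) (hT : Tight B Q Q₀ ρ M) (h2 : (2 : F) = 0)

include R h13 hM hT h2 in
/-- the rational long root involution -/
theorem exists_invA {e f : Fin 4 → W} (h : HypSys Q₀ e f) :
    ∃ x : V ≃ₗ[F] V, InvData2 ρ M x ∧ ∀ v, Q (x v - v) = 0 := by
  have pc := QuadraticMap.polar_comm (⇑Q₀)
  have he0 := (h.1 0).1
  have he1 := (h.1 1).1
  have h01 : pol (⇑Q₀) (e 0) (e 1) = 0 := (h.2.2 0 1).1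
  have hB01 : B (ρ (e 0)) (ρ (e 1)) = 0 := R.orth h01
  have hx := fun v => siegel_apply R.hQ (R.sing he0) (R.sing he1) hB01 v
  refine ⟨siegel B Q (ρ (e 0)) (ρ (e 1)), ⟨ratSiegel_mem R h13 hM he0 he1 h01, ?_, ?_, ?_⟩, ?_⟩
  · rw [← siegel_add_left R.hQ (R.sing he0) (R.sing he0) (R.sing he1) hB01 hB01
      (sing_self R.hQ (R.sing he0))]
    have : ρ (e 0) + ρ (e 0) = 0 := by
      rw [← two_smul F, h2, zero_smul]
    rw [this]
    exact siegel_zero_left R.hQ (R.sing he1)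
  · intro c hc hcomm
    have hfix : ∀ w : W, pol (⇑Q₀) w (e 0) = 0 → pol (⇑Q₀) w (e 1) = 0 →
        siegel B Q (ρ (e 0)) (ρ (e 1)) (ρ w) = ρ w := by
      intro w h0 h1
      rw [hx, R.orth h0, R.orth h1]
      simp
    refine ratU_of_fix R h13 hM hT hc
      (siegel_mem_OG R.hQ (R.sing he0) (R.sing he1) hB01) hcomm.symm (h.1 2).1 (h.1 2).2
      (h.1 3).1 (h.1 3).2 (by rw [hyp_ef h]; simp) (by rw [hyp_ef h]; simp) (h.2.2 2 3).1
      (by rw [hyp_ef h]; simp) (by rw [hyp_fe h]; simp) (h.2.2 2 3).2 (s := e 1) he1 ?_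
      (v₀ := ρ (f 0)) ?_ ?_ ?_ ?_ ?_
    · rintro h0
      have := hyp_ef h 1 1
      rw [h0, QuadraticMap.polar_zero_left] at this
      simp at this
    · rw [hx, R.one (by rw [hyp_fe h]; simp), R.orth (by rw [hyp_fe h]; simp)]
      simp
    · exact hfix _ (h.2.2 2 0).1 (h.2.2 2 1).1
    · exact hfix _ (by rw [hyp_fe h]; simp) (by rw [hyp_fe h]; simp)
    · exact hfix _ (h.2.2 3 0).1 (h.2.2 3 1).1
    · exact hfix _ (by rw [hyp_fe h]; simp) (by rw [hyp_fe h]; simp)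
  · have := finrank_fixSub_ge' (z := siegel B Q (ρ (e 0)) (ρ (e 1))) R.hQ R.nd
      (l := [ρ (e 0), ρ (e 1)]) (by
        intro v hv
        rw [hx, hv _ (by simp), hv _ (by simp)]
        simp)
    simpa using this
  · intro v
    rw [hx]
    have : v + B v (ρ (e 0)) • ρ (e 1) - B v (ρ (e 1)) • ρ (e 0) - v =
        B v (ρ (e 0)) • ρ (e 1) + (-B v (ρ (e 1))) • ρ (e 0) := by module
    rw [this]
    apply sing_add R.hQ (sing_smul R.hQ (R.sing he1) _) (sing_smul R.hQ (R.sing he0) _)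
    rw [map_smul, map_smul, LinearMap.smul_apply, R.hQ.symm (ρ (e 1)) (ρ (e 0)), hB01, smul_zero,
      smul_zero]

include R h13 hM hT h2 in
/-- the rational involution which is a product of two commuting reflections -/
theorem exists_invC {e f : Fin 4 → W} (h : HypSys Q₀ e f) :
    ∃ x : V ≃ₗ[F] V, InvData2 ρ M x ∧ ∃ v, Q (x v - v) ≠ 0 := by
  have pc := QuadraticMap.polar_comm (⇑Q₀)
  have hD := quadData_of_form Q₀
  have h20 : (2 : F₀) = 0 := by
    apply Subtype.ext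
    push_cast
    exact h2
  have h01 : (0 : Fin 4) ≠ 1 := by decide
  obtain ⟨a, ha⟩ : ∃ a : W, a = e 0 + f 0 := ⟨_, rfl⟩
  obtain ⟨b, hb⟩ : ∃ b : W, b = e 1 + f 1 := ⟨_, rfl⟩
  obtain ⟨d, hd⟩ : ∃ d : W, d = (e 0 + e 1) + (e 2 + f 2) := ⟨_, rfl⟩
  have hQa : Q₀ a = 1 := by rw [ha]; exact hyp_Q_p h 0
  have hQb : Q₀ b = 1 := by rw [hb]; exact hyp_Q_p h 1
  have hab : pol (⇑Q₀) a b = 0 := by rw [ha, hb]; exact hyp_pol_pp h h01
  have hQd : Q₀ d = 1 := by
    rw [hd, QuadraticMap.map_add (⇑Q₀), QuadraticMap.map_add (⇑Q₀) (e 0) (e 1), hyp_Q_p h 2,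
      (h.1 0).1, (h.1 1).1, (h.2.2 0 1).1]
    simp only [QuadraticMap.polar_add_left, QuadraticMap.polar_add_right, hyp_ef h, hyp_fe h,
      (h.2.2 _ _).1, (h.2.2 _ _).2]
    simp
  have hpad : pol (⇑Q₀) a d = 1 := by
    rw [ha, hd]
    simp only [QuadraticMap.polar_add_left, QuadraticMap.polar_add_right, hyp_ef h, hyp_fe h,
      (h.2.2 _ _).1, (h.2.2 _ _).2]
    simp
  have hpdb : pol (⇑Q₀) d b = 1 := by
    rw [hb, hd]
    simp only [QuadraticMap.polar_add_left, QuadraticMap.polar_add_right, hyp_ef h, hyp_fe h,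
      (h.2.2 _ _).1, (h.2.2 _ _).2]
    simp
  have hQad : Q₀ (a - d) = 1 := by
    have := hD.sub a d
    rw [QuadraticMap.polarBilin_apply_apply, hpad, hQa, hQd] at this
    rw [this]; ring
  have hQdb : Q₀ (d - b) = 1 := by
    have := hD.sub d b
    rw [QuadraticMap.polarBilin_apply_apply, hpdb, hQb, hQd] at this
    rw [this]; ring
  have na : Q (ρ a) ≠ 0 := by rw [R.quad, hQa]; simp
  have nb : Q (ρ b) ≠ 0 := by rw [R.quad, hQb]; simp
  have nd : Q (ρ d) ≠ 0 := by rw [R.quad, hQd]; simp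
  have nad : Q (ρ a - ρ d) ≠ 0 := by rw [← R.sub, R.quad, hQad]; simp
  have ndb : Q (ρ d - ρ b) ≠ 0 := by rw [← R.sub, R.quad, hQdb]; simp
  set L : List W := [a, b] with hLdef
  have hL : POrth B Q (L.map ρ) := by
    constructor
    · intro y hy
      simp only [hLdef, List.map_cons, List.map_nil, List.mem_cons, List.not_mem_nil,
        or_false] at hy
      rcases hy with rfl | rfl
      · exact na
      · exact nb
    · simp only [hLdef, List.map_cons, List.map_nil, List.pairwise_cons, List.mem_cons,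
        List.not_mem_nil, or_false, forall_eq_or_imp, forall_eq, IsEmpty.forall_iff,
        implies_true, List.Pairwise.nil, and_true]
      exact R.orth hab
  have hxdef : reflList R.hQ (L.map ρ) = R.hQ.refl (ρ a) na * R.hQ.refl (ρ b) nb := by
    simp only [hLdef, List.map_cons, List.map_nil]
    rw [reflList_cons, reflList_cons, reflList_nil, mul_one, reflD_of_ne R.hQ na,
      reflD_of_ne R.hQ nb]
  have hΩ : reflList R.hQ (L.map ρ) ∈ ⁅OG Q, OG Q⁆ := by
    have e1 : R.hQ.refl (ρ a) na * R.hQ.refl (ρ b) nb =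
        (R.hQ.refl (ρ a) na * R.hQ.refl (ρ d) nd) * (R.hQ.refl (ρ d) nd * R.hQ.refl (ρ b) nb) := by
      have : R.hQ.refl (ρ d) nd * R.hQ.refl (ρ d) nd = 1 := by
        nth_rewrite 1 [← R.hQ.refl_inv (ρ d) nd]
        exact inv_mul_cancel _
      calc R.hQ.refl (ρ a) na * R.hQ.refl (ρ b) nb
          = R.hQ.refl (ρ a) na * (R.hQ.refl (ρ d) nd * R.hQ.refl (ρ d) nd) * R.hQ.refl (ρ b) nb := by
            rw [this, mul_one]
        _ = _ := by group
    rw [hxdef, e1]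
    exact mul_mem (R.hQ.refl_mul_refl_mem na nd (by rw [R.quad, R.quad, hQa, hQd]) nad)
      (R.hQ.refl_mul_refl_mem nd nb (by rw [R.quad, R.quad, hQd, hQb]) ndb)
  obtain ⟨x, hx⟩ : ∃ x, x = reflList R.hQ (L.map ρ) := ⟨_, rfl⟩
  rw [← hx] at hxdef hΩ
  have hneg : NegOn B x {y | y ∈ L.map ρ} := by rw [hx]; exact negOn_reflList R.hQ _ hL
  have hxO : x ∈ OG Q := by rw [hx]; exact reflList_mem_OG R.hQ _ hL
  have hxM : x ∈ M := hM.ge x hΩ (by rw [hx]; exact (rat1_reflList R L hL).ratU)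
  have hfixw : ∀ w : W, pol (⇑Q₀) w a = 0 → pol (⇑Q₀) w b = 0 → x (ρ w) = ρ w := by
    intro w h0 h1
    apply hneg.2
    intro y hy
    simp only [hLdef, List.map_cons, List.map_nil, List.mem_cons, List.not_mem_nil,
      or_false, Set.mem_ofPred_eq] at hy
    rcases hy with rfl | rfl
    · exact R.orth h0
    · exact R.orth h1
  have hpa : ∀ i : Fin 4, i ≠ 0 → pol (⇑Q₀) (e i) a = 0 ∧ pol (⇑Q₀) (f i) a = 0 := by
    intro i hi
    rw [ha]
    simp only [QuadraticMap.polar_add_right, hyp_ef h, hyp_fe h, (h.2.2 _ _).1, (h.2.2 _ _).2,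
      if_neg hi]
    simp
  have hpb : ∀ i : Fin 4, i ≠ 1 → pol (⇑Q₀) (e i) b = 0 ∧ pol (⇑Q₀) (f i) b = 0 := by
    intro i hi
    rw [hb]
    simp only [QuadraticMap.polar_add_right, hyp_ef h, hyp_fe h, (h.2.2 _ _).1, (h.2.2 _ _).2,
      if_neg hi]
    simp
  -- the image of `f 0 + f 1`
  have himg : x (ρ (f 0 + f 1)) - ρ (f 0 + f 1) = ρ (-(a + b)) := by
    rw [hxdef, LinearEquiv.mul_apply, refl_apply, refl_apply]
    have e1 : B (ρ (f 0 + f 1)) (ρ b) = 1 := by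
      apply R.one
      rw [hb]
      simp only [QuadraticMap.polar_add_left, QuadraticMap.polar_add_right, hyp_ef h, hyp_fe h,
        (h.2.2 _ _).1, (h.2.2 _ _).2]
      simp
    have e2 : B (ρ (f 0 + f 1)) (ρ a) = 1 := by
      apply R.one
      rw [ha]
      simp only [QuadraticMap.polar_add_left, QuadraticMap.polar_add_right, hyp_ef h, hyp_fe h,
        (h.2.2 _ _).1, (h.2.2 _ _).2]
      simp
    have e3 : B (ρ b) (ρ a) = 0 := R.orth (by rw [pc]; exact hab)
    rw [e1, R.quad, R.quad, hQa, hQb]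
    simp only [map_sub, map_smul, LinearMap.sub_apply, LinearMap.smul_apply, e1, e2, e3]
    rw [R.neg, R.add a b]
    push_cast
    simp only [inv_one, mul_one, one_smul, smul_eq_mul, mul_zero, sub_zero]
    module
  have hsQ : Q₀ (-(a + b)) = 0 := by
    rw [QuadraticMap.map_neg, QuadraticMap.map_add (⇑Q₀), hQa, hQb, hab]
    rw [add_zero, ← two_mul, h20, zero_mul]
  have hs0 : -(a + b) ≠ 0 := by
    intro h0
    have e1 : pol (⇑Q₀) (f 0) (-(a + b)) = -1 := by
      rw [ha, hb]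
      simp only [QuadraticMap.polar_neg_right, QuadraticMap.polar_add_right, hyp_ef h, hyp_fe h,
        (h.2.2 _ _).1, (h.2.2 _ _).2]
      simp
    rw [h0, QuadraticMap.polar_zero_right] at e1
    exact one_ne_zero (neg_eq_zero.1 e1.symm)
  refine ⟨x, ⟨hxM, by rw [hx]; exact reflList_mul_self R.hQ _ hL, ?_, ?_⟩, ?_⟩
  · intro c hc hcomm
    have n20 : (2 : Fin 4) ≠ 0 := by decide
    have n21 : (2 : Fin 4) ≠ 1 := by decide
    have n30 : (3 : Fin 4) ≠ 0 := by decide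
    have n31 : (3 : Fin 4) ≠ 1 := by decide
    exact ratU_of_fix R h13 hM hT hc hxO hcomm.symm (h.1 2).1 (h.1 2).2
      (h.1 3).1 (h.1 3).2 (by rw [hyp_ef h]; simp) (by rw [hyp_ef h]; simp) (h.2.2 2 3).1
      (by rw [hyp_ef h]; simp) (by rw [hyp_fe h]; simp) (h.2.2 2 3).2 hsQ hs0 himg
      (hfixw _ (hpa 2 n20).1 (hpb 2 n21).1) (hfixw _ (hpa 2 n20).2 (hpb 2 n21).2)
      (hfixw _ (hpa 3 n30).1 (hpb 3 n31).1) (hfixw _ (hpa 3 n30).2 (hpb 3 n31).2)
  · have := finrank_fixSub_ge R.hQ R.nd hneg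
    simpa [hLdef] using this
  · refine ⟨ρ (f 0), ?_⟩
    have e1 : x (ρ (f 0)) - ρ (f 0) = -ρ a := by
      rw [hxdef, LinearEquiv.mul_apply, refl_apply, refl_apply]
      have e1 : B (ρ (f 0)) (ρ b) = 0 := R.orth (hpb 0 h01).2
      have e2 : B (ρ (f 0)) (ρ a) = 1 := by
        apply R.one
        rw [ha]
        simp only [QuadraticMap.polar_add_right, hyp_ef h, hyp_fe h, (h.2.2 _ _).1, (h.2.2 _ _).2]
        simp
      rw [e1, R.quad, R.quad, hQa]
      simp only [mul_zero, zero_smul, sub_zero, e2]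
      push_cast
      simp
    rw [e1, R.hQ.neg]
    exact na

end Main

end Cfsg.Agent.Lib.Helper95.OSub
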