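/-
Helper95: overgroups of the rational orthogonal group, part U: the tight case when every element
of the subfield is a square in the subfield and `2 = 0` (characteristic two).
-/
import Mathlib
import Cfsg.Agent.Lib.Helper95.OSubT

set_option autoImplicit false
set_option linter.unusedSimpArgs false
set_option linter.unusedSectionVars false
set_option linter.unusedVariables false

namespace Cfsg.Agent.Lib.Helper95.OSub

open LinearMap (BilinForm)
open Module
open Cfsg.Agent.Lib.Helper94 Cfsg.Agent.Lib.Helper94.QuadData Cfsg.Agent.Lib.Helper44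
open Cfsg.Agent.Lib.Helper13 (fixSub mem_fixSub)
open scoped commutatorElement

variable {F : Type*} [Field F] {V : Type*} [AddCommGroup V] [Module F V]
variable {F₀ : Subfield F} {W : Type*} [AddCommGroup W] [Module F₀ W]
variable {B : BilinForm F V} {Q : V → F} {Q₀ : QuadraticForm F₀ W} {ρ : W → V}

local notation "pol" => QuadraticMap.polar

/-- when the subfield is closed under square roots, an element of the rational group whose square
is trivial maps rational vectors to rational vectors -/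
lemma rat1_of_ratU_sq (R : OSet B Q Q₀ ρ) (hperf : ∀ k : F₀, ∃ d : F₀, d * d = k)
    {z : V ≃ₗ[F] V} (hr : RatU ρ z) (hsq : z * z = 1) : Rat1 ρ z := by
  obtain ⟨μ, hμ⟩ := hr
  by_cases hW : ∀ w : W, w = 0
  · intro w
    refine ⟨0, ?_⟩
    rw [hW w, R.zero, map_zero]
  push Not at hW
  obtain ⟨w₀, hw₀⟩ := hW
  obtain ⟨w₁, hw₁⟩ := hμ w₀
  obtain ⟨w₂, hw₂⟩ := hμ w₁
  have e1 : (μ * μ) • ρ w₂ = ρ w₀ := by
    have : z (z (ρ w₀)) = ρ w₀ := by
      rw [← LinearEquiv.mul_apply, hsq]; rfl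
    rw [hw₁, map_smul, hw₂, smul_smul] at this
    exact this
  have hw₂0 : w₂ ≠ 0 := by
    rintro rfl
    rw [R.zero, smul_zero] at e1
    exact R.ne_zero hw₀ e1.symm
  obtain ⟨k, hk⟩ := R.coeff_mem hw₂0 e1
  obtain ⟨d, hd⟩ := hperf k
  have hμd : μ = d ∨ μ = -d := by
    have : (μ - d) * (μ + d) = 0 := by
      have : ((d * d : F₀) : F) = (d : F) * d := by push_cast; rfl
      rw [hd] at this
      linear_combination hk + this
    rcases mul_eq_zero.1 this with h | h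
    · left; exact sub_eq_zero.1 h
    · right; exact eq_neg_of_add_eq_zero_left h
  obtain ⟨m, hm⟩ : ∃ m : F₀, μ = m := by
    rcases hμd with h | h
    · exact ⟨d, h⟩
    · exact ⟨-d, by rw [h]; push_cast; rfl⟩
  intro w
  obtain ⟨w', hw'⟩ := hμ w
  exact ⟨m • w', by rw [hw', R.smul, hm]⟩

/-- the rational commutator space of a rational map -/
def rangeSub (R : OSet B Q Q₀ ρ) (h : V ≃ₗ[F] V) : Submodule F₀ W where
  carrier := {d | ∃ w w' : W, h (ρ w) = ρ w' ∧ d = w' - w}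
  add_mem' := by
    rintro a b ⟨w₁, w₁', h₁, rfl⟩ ⟨w₂, w₂', h₂, rfl⟩
    refine ⟨w₁ + w₂, w₁' + w₂', ?_, by abel⟩
    rw [R.add, map_add, h₁, h₂, R.add]
  zero_mem' := ⟨0, 0, by rw [R.zero, map_zero], by simp⟩
  smul_mem' := by
    rintro c a ⟨w, w', h₁, rfl⟩
    refine ⟨c • w, c • w', ?_, by rw [smul_sub]⟩
    rw [R.smul, map_smul, h₁, R.smul]

lemma mem_rangeSub (R : OSet B Q Q₀ ρ) (h : V ≃ₗ[F] V) (d : W) :
    d ∈ rangeSub R h ↔ ∃ w w' : W, h (ρ w) = ρ w' ∧ d = w' - w := Iff.rfl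

lemma finrank_rangeSub_le [FiniteDimensional F₀ W] [FiniteDimensional F V] (R : OSet B Q Q₀ ρ)
    (h : V ≃ₗ[F] V) : finrank F₀ (rangeSub R h) + finrank F (fixSub h) ≤ finrank F V := by
  have h1 := finrank_le_of_maps R (rangeSub R h)
    (LinearMap.range ((h : V →ₗ[F] V) - LinearMap.id)) (by
      rintro d ⟨w, w', hw, rfl⟩
      refine ⟨ρ w, ?_⟩
      rw [LinearMap.sub_apply, LinearMap.id_apply, R.sub, ← hw]
      rfl)
  have h2 := LinearMap.finrank_range_add_finrank_ker ((h : V →ₗ[F] V) - LinearMap.id)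
  unfold fixSub
  omega

/-- rational vectors orthogonal to the rational commutator space are fixed -/
lemma fix_of_perp_range (R : OSet B Q Q₀ ρ) {h : V ≃ₗ[F] V} (hO : h ∈ OG Q) (hsq : h * h = 1)
    (hr : Rat1 ρ h) {e : W} (he : ∀ d ∈ rangeSub R h, pol (⇑Q₀) e d = 0) : h (ρ e) = ρ e := by
  obtain ⟨e', he'⟩ := hr e
  have hhh : ∀ y, h (h y) = y := by
    intro y
    rw [← LinearEquiv.mul_apply, hsq]; rfl
  have h0 : e' - e = 0 := by
    apply R.nd₀.1
    intro y
    obtain ⟨y', hy'⟩ := hr y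
    have e1 : B (ρ (e' - e)) (ρ y) = B (ρ e) (ρ (y' - y)) := by
      rw [R.sub, R.sub, ← he', ← hy', map_sub, LinearMap.sub_apply, map_sub]
      have := R.hQ.B_map hO (h (ρ e)) (ρ y)
      rw [hhh] at this
      rw [this]
    rw [R.form, R.form, he (y' - y) ⟨y, y', hy', rfl⟩] at e1
    have e2 : pol (⇑Q₀) (e' - e) y = 0 := by exact_mod_cast e1
    exact e2
  rw [he', sub_eq_zero.1 h0]

section Main

variable [Finite F] [FiniteDimensional F₀ W] [FiniteDimensional F V] [Finite (V ≃ₗ[F] V)]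
variable (R : OSet B Q Q₀ ρ) (h13 : 13 ≤ finrank F₀ W) {M : Subgroup (V ≃ₗ[F] V)}
  (hM : Over Q ρ M) (hT : Tight B Q Q₀ ρ M) (h2 : (2 : F) = 0)
  (hperf : ∀ k : F₀, ∃ d : F₀, d * d = k) (hdim : finrank F V = finrank F₀ W)

include R h13 h2 hperf hdim in
/-- the commutator space of a non-trivial rational involution of `Ω` contains a rational singular
vector -/
lemma exists_sing_range {z : V ≃ₗ[F] V} (hz : z ∈ ⁅OG Q, OG Q⁆) (hsq : z * z = 1) (hz1 : z ≠ 1)
    (hr : Rat1 ρ z) : ∃ s w : W, Q₀ s = 0 ∧ s ≠ 0 ∧ z (ρ w) - ρ w = ρ s := by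
  have pc := QuadraticMap.polar_comm (⇑Q₀)
  have hzO : z ∈ OG Q := commutator_le_OG hz
  have h20 : (2 : F₀) = 0 := by
    apply Subtype.ext
    push_cast
    exact h2
  have hzz : ∀ y, z (z y) = y := by
    intro y
    rw [← LinearEquiv.mul_apply, hsq]; rfl
  have hadj : ∀ v y, B (z v) y = B v (z y) := by
    intro v y
    have := R.hQ.B_map hzO v (z y)
    rw [hzz] at this
    exact this
  -- a rational vector which is not fixed
  obtain ⟨w₁, hw₁⟩ : ∃ w₁ : W, z (ρ w₁) ≠ ρ w₁ := by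
    by_contra hcon
    push Not at hcon
    apply hz1
    apply LinearEquiv.ext
    intro v
    have : z v - v = 0 := by
      apply R.sep
      intro a
      rw [map_sub, LinearMap.sub_apply, hadj, hcon, sub_self]
    exact sub_eq_zero.1 this
  obtain ⟨w₁', hw₁'⟩ := hr w₁
  obtain ⟨d₁, hd₁⟩ : ∃ d₁ : W, d₁ = w₁' - w₁ := ⟨_, rfl⟩
  have hρd₁ : ρ d₁ = z (ρ w₁) - ρ w₁ := by rw [hd₁, R.sub, hw₁']
  have hd₁0 : d₁ ≠ 0 := by
    rintro h0
    rw [h0, R.zero] at hρd₁
    exact hw₁ (sub_eq_zero.1 hρd₁.symm)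
  by_cases hall : ∀ w w' : W, z (ρ w) = ρ w' → ∃ c : F₀, w' - w = c • d₁
  · exfalso
    have hfix : ∀ v : V, (∀ a ∈ [ρ d₁], B v a = 0) → z v = v := by
      intro v hv
      have hv' : B v (ρ d₁) = 0 := hv _ (by simp)
      have : z v - v = 0 := by
        apply R.sep
        intro a
        obtain ⟨a', ha'⟩ := hr a
        obtain ⟨c, hc⟩ := hall a a' ha'
        rw [map_sub, LinearMap.sub_apply, hadj, ← map_sub, ha', ← R.sub, hc, R.smul, map_smul, hv',
          smul_zero]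
      exact sub_eq_zero.1 this
    have h1 := finrank_fixSub_ge' R.hQ R.nd hfix
    have h3 : finrank F (fixSub z) < finrank F V := by
      apply Submodule.finrank_lt
      intro htop
      apply hz1
      apply LinearEquiv.ext
      intro v
      have : v ∈ fixSub z := by rw [htop]; trivial
      exact (mem_fixSub z v).1 this
    have hpar := par_eq_zero_of_mem R.hQ R.nd (Or.inr (by omega)) hz
    unfold Cfsg.Agent.Lib.Helper13.par at hpar
    simp only [List.length_cons, List.length_nil] at h1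
    have h4 : finrank F V = finrank F (fixSub z) + 1 := by omega
    rw [h4, ← Nat.cast_add, ZMod.natCast_eq_zero_iff_even] at hpar
    obtain ⟨m, hm⟩ := hpar
    omega
  push Not at hall
  obtain ⟨w₂, w₂', hw₂', hd₂⟩ := hall
  obtain ⟨d₂, hd₂def⟩ : ∃ d₂ : W, d₂ = w₂' - w₂ := ⟨_, rfl⟩
  rw [← hd₂def] at hd₂
  have hρd₂ : ρ d₂ = z (ρ w₂) - ρ w₂ := by rw [hd₂def, R.sub, hw₂']
  have hd12 : pol (⇑Q₀) d₁ d₂ = 0 := by
    have e1 : B (ρ d₁) (ρ d₂) = 0 := by
      rw [hρd₁, hρd₂]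
      simp only [map_sub, LinearMap.sub_apply]
      rw [R.hQ.B_map hzO, hadj (ρ w₁) (ρ w₂)]
      have : B (ρ w₁) (ρ w₂) - B (ρ w₁) (z (ρ w₂)) - (B (ρ w₁) (z (ρ w₂)) - B (ρ w₁) (ρ w₂)) =
          2 * (B (ρ w₁) (ρ w₂) - B (ρ w₁) (z (ρ w₂))) := by ring
      rw [this, h2, zero_mul]
    rw [R.form] at e1
    exact_mod_cast e1
  by_cases hQ1 : Q₀ d₁ = 0
  · exact ⟨d₁, w₁, hQ1, hd₁0, hρd₁.symm⟩
  · obtain ⟨c, hc⟩ := hperf (Q₀ d₂ * (Q₀ d₁)⁻¹)
    refine ⟨c • d₁ + d₂, c • w₁ + w₂, ?_, ?_, ?_⟩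
    · rw [QuadraticMap.map_add (⇑Q₀), QuadraticMap.map_smul, QuadraticMap.polar_smul_left, hd12,
        hc, smul_eq_mul, smul_eq_mul, mul_zero, add_zero, mul_assoc, inv_mul_cancel₀ hQ1, mul_one,
        ← two_mul, h20, zero_mul]
    · intro h0
      apply hd₂ (-c)
      rw [neg_smul]
      exact eq_neg_of_add_eq_zero_right h0
    · rw [R.add, R.smul, R.add, R.smul, map_add, map_smul, hρd₁, hρd₂]
      module

include R h13 hM hT h2 hperf hdim in
/-- the last step in characteristic two -/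
lemma final2 {g z : V ≃ₗ[F] V} (hg : g ∈ M) (hz : z ∈ M) (hsq : z * z = 1) (hz1 : z ≠ 1)
    (hr : Rat1 ρ z) (hr' : Rat1 ρ (g⁻¹ * z * g))
    (hfix : finrank F V ≤ finrank F (fixSub z) + 4) : RatU ρ g := by
  have pc := QuadraticMap.polar_comm (⇑Q₀)
  have hzO : z ∈ OG Q := commutator_le_OG (hM.le hz)
  obtain ⟨h, hh⟩ : ∃ h, h = g⁻¹ * z * g := ⟨_, rfl⟩
  rw [← hh] at hr'
  have hhM : h ∈ M := by rw [hh]; exact mul_mem (mul_mem (inv_mem hg) hz) hg
  have hhO : h ∈ OG Q := commutator_le_OG (hM.le hhM)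
  have hhsq : h * h = 1 := by rw [hh]; exact conj_sq hsq
  have hfixh : finrank F (fixSub h) = finrank F (fixSub z) := by
    have := finrank_fixSub_conj (F := F) g⁻¹ z
    rw [inv_inv] at this
    rw [hh]
    exact this
  have hS : finrank F₀ (rangeSub R h) ≤ 4 := by
    have := finrank_rangeSub_le R h
    omega
  obtain ⟨e₁, f₁, e₂, f₂, p1, p2, h12, h12', h21, h21'⟩ :=
    exists_hyp2 Q₀ R.nd₀ h13 (rangeSub R h) hS
  obtain ⟨he₁, hf₁, h11, hS₁⟩ := p1
  obtain ⟨he₂, hf₂, h22, hS₂⟩ := p2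
  obtain ⟨s, w, hQs, hs0, hsw⟩ := exists_sing_range R h13 h2 hperf hdim (hM.le hz) hsq hz1 hr
  have hzk : z * g = g * h := by rw [hh]; group
  exact ratU_of_fix R h13 hM hT hg hzO hzk he₁ hf₁ he₂ hf₂ h11 h22 h12 h12' h21 h21' hQs hs0 hsw
    (fix_of_perp_range R hhO hhsq hr' (fun d hd => by rw [pc]; exact (hS₁ d hd).1))
    (fix_of_perp_range R hhO hhsq hr' (fun d hd => by rw [pc]; exact (hS₁ d hd).2))
    (fix_of_perp_range R hhO hhsq hr' (fun d hd => by rw [pc]; exact (hS₂ d hd).1))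
    (fix_of_perp_range R hhO hhsq hr' (fun d hd => by rw [pc]; exact (hS₂ d hd).2))

include R h13 hM hT h2 hperf hdim in
/-- **the tight case in characteristic two**: `M` consists of rational elements -/
theorem tight_le2 {g : V ≃ₗ[F] V} (hg : g ∈ M) : RatU ρ g := by
  have : Finite F₀ := Finite.of_injective (fun x : F₀ => (x : F)) Subtype.val_injective
  have hgO : g ∈ OG Q := commutator_le_OG (hM.le hg)
  obtain ⟨e, f, h4, -⟩ := exists_frame Q₀ R.nd₀ 4 ⊥ 0 inf_le_left (by rw [finrank_bot])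
    (by omega)
  obtain ⟨x, DA, hxs⟩ := exists_invA R h13 hM hT h2 h4
  obtain ⟨x', DC, v', hv'⟩ := exists_invC R h13 hM hT h2 h4
  have hnc : ∀ c ∈ M, c * x * c⁻¹ ≠ g * x' * g⁻¹ := by
    intro c hc heq
    have hcO : c ∈ OG Q := commutator_le_OG (hM.le hc)
    have e1 := congrArg (fun k : V ≃ₗ[F] V => k (g v')) heq
    simp only [LinearEquiv.mul_apply] at e1
    rw [← LinearEquiv.mul_apply g⁻¹ g, inv_mul_cancel, LinearEquiv.coe_one, id_eq] at e1
    apply hv'
    have e2 : Q (g (x' v') - g v') = 0 := by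
      rw [← e1]
      have : c (x (c⁻¹ (g v'))) - g v' = c (x (c⁻¹ (g v')) - c⁻¹ (g v')) := by
        rw [map_sub, ← LinearEquiv.mul_apply c c⁻¹, mul_inv_cancel]
        rfl
      rw [this, hcO, hxs]
    rw [← map_sub, hgO] at e2
    exact e2
  obtain ⟨z, hzM, hsq, hz1, k₁, k₂, hfix⟩ := dihedral' M hg DA.mem DC.mem DA.sq DC.sq hnc
  have hhM : g⁻¹ * z * g ∈ M := mul_mem (mul_mem (inv_mem hg) hzM) hg
  have r1 : Rat1 ρ z := rat1_of_ratU_sq R hperf (DA.cent z hzM k₁) hsq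
  have r2 : Rat1 ρ (g⁻¹ * z * g) := rat1_of_ratU_sq R hperf (DC.cent _ hhM k₂) (conj_sq hsq)
  refine final2 R h13 hM hT h2 hperf hdim hg hzM hsq hz1 r1 r2 ?_
  have hle : fixSub x ⊓ fixSub (g * x' * g⁻¹) ≤ fixSub z := by
    intro v hv
    rw [Submodule.mem_inf, mem_fixSub, mem_fixSub] at hv
    rw [mem_fixSub]
    exact hfix v hv.1 hv.2
  have e1 := Submodule.finrank_sup_add_finrank_inf_eq (fixSub x) (fixSub (g * x' * g⁻¹))
  have e2 := Submodule.finrank_le (fixSub x ⊔ fixSub (g * x' * g⁻¹))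
  have e3 := finrank_fixSub_conj (F := F) g x'
  have e4 := Submodule.finrank_mono hle
  have e5 := DA.fix_ge
  have e6 := DC.fix_ge
  omega

include R h13 hM h2 hperf hdim in
/-- **the dichotomy for overgroups of the rational group, characteristic two** -/
theorem overgroup_dichotomy2 (hprime : ∀ S : Subfield F, F₀ ≤ S → S = F₀ ∨ S = ⊤) :
    (∀ g ∈ M, RatU ρ g) ∨ ⁅OG Q, OG Q⁆ ≤ M := by
  have : Finite F₀ := Finite.of_injective (fun x : F₀ => (x : F)) Subtype.val_injective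
  rcases tight_or_full R h13 hM hprime with hT | hF
  · left
    intro g hg
    exact tight_le2 R h13 hM hT h2 hperf hdim hg
  · right
    exact full_le R h13 hM hF (by omega)

end Main

end Cfsg.Agent.Lib.Helper95.OSub
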