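/-
Helper95: overgroups of the rational orthogonal group, part V: odd characteristic, general
dimension.  Rational involutions negating a rational hyperbolic plane, elements of the rational
group fixing a large subspace, and the tight case with general involution sizes.
-/
import Mathlib
import Cfsg.Agent.Lib.Helper95.OSubU

set_option autoImplicit false
set_option linter.unusedSimpArgs false
set_option linter.unusedSectionVars false
set_option linter.unusedVariables false

namespace Cfsg.Agent.Lib.Helper95.OSub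

open LinearMap (BilinForm)
open Module
open Cfsg.Agent.Lib.Helper94 Cfsg.Agent.Lib.Helper94.QuadData Cfsg.Agent.Lib.Helper44
open Cfsg.Agent.Lib.Helper13 (fixSub mem_fixSub)
open scoped commutatorElement

variable {F : Type*} [Field F] {V : Type*} [AddCommGroup V] [Module F V]
variable {F₀ : Subfield F} {W : Type*} [AddCommGroup W] [Module F₀ W]
variable {B : BilinForm F V} {Q : V → F} {Q₀ : QuadraticForm F₀ W} {ρ : W → V}

local notation "pol" => QuadraticMap.polar

/-- when the subfield contains the square roots (in `F`) of its elements, an element of the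
rational group whose square is trivial maps rational vectors to rational vectors -/
lemma rat1_of_ratU_closed (R : OSet B Q Q₀ ρ) (hcl : ∀ μ : F, μ * μ ∈ F₀ → μ ∈ F₀)
    {z : V ≃ₗ[F] V} (hr : RatU ρ z) (hsq : z * z = 1) : Rat1 ρ z := by
  obtain ⟨μ, hμ⟩ := hr
  by_cases hW : ∀ w : W, w = 0
  · intro w
    refine ⟨0, ?_⟩
    rw [hW w, R.zero, map_zero]
  push Not at hW
  obtain ⟨w₀, hw₀⟩ := hW
  obtain ⟨w₁, hw₁⟩ := hμ w₀
  obtain ⟨w₂, hw₂⟩ := hμ w₁
  have e1 : (μ * μ) • ρ w₂ = ρ w₀ := by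
    have : z (z (ρ w₀)) = ρ w₀ := by
      rw [← LinearEquiv.mul_apply, hsq]; rfl
    rw [hw₁, map_smul, hw₂, smul_smul] at this
    exact this
  have hw₂0 : w₂ ≠ 0 := by
    rintro rfl
    rw [R.zero, smul_zero] at e1
    exact R.ne_zero hw₀ e1.symm
  obtain ⟨k, hk⟩ := R.coeff_mem hw₂0 e1
  have hm : μ ∈ F₀ := hcl μ (by rw [hk]; exact k.2)
  intro w
  obtain ⟨w', hw'⟩ := hμ w
  exact ⟨(⟨μ, hm⟩ : F₀) • w', by rw [hw', R.smul]⟩

/-- an element of the rational group fixing a non-zero rational vector maps rational vectors to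
rational vectors -/
lemma rat1_of_fix_rat (R : OSet B Q Q₀ ρ) {z : V ≃ₗ[F] V} (hr : RatU ρ z) {w : W} (hw0 : w ≠ 0)
    (hw : z (ρ w) = ρ w) : Rat1 ρ z := by
  obtain ⟨μ, hμ⟩ := hr
  obtain ⟨w₁, hw₁⟩ := hμ w
  rw [hw] at hw₁
  have hw₁0 : w₁ ≠ 0 := by
    rintro rfl
    rw [R.zero, smul_zero] at hw₁
    exact R.ne_zero hw0 hw₁
  obtain ⟨m, hm⟩ := R.coeff_mem hw₁0 hw₁.symm
  intro a
  obtain ⟨a', ha'⟩ := hμ a
  exact ⟨m • a', by rw [ha', R.smul, hm]⟩

/-- the rational vectors, as a linear map over the subfield -/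
def rhoLin (R : OSet B Q Q₀ ρ) : W →ₗ[F₀] V where
  toFun := ρ
  map_add' := R.add
  map_smul' := fun c a => by rw [R.smul]; rfl

/-- a subspace of small codimension contains a non-zero rational vector, when `[F : F₀] = 2` -/
lemma exists_rat_mem [FiniteDimensional F₀ W] [FiniteDimensional F V] [FiniteDimensional F₀ F]
    (R : OSet B Q Q₀ ρ) (hfr : finrank F₀ F = 2) (U : Submodule F V) {k : ℕ}
    (hU : finrank F V ≤ finrank F U + k) (hk : 2 * k < finrank F₀ W) :
    ∃ w : W, w ≠ 0 ∧ ρ w ∈ U := by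
  have : FiniteDimensional F₀ (V ⧸ U) := Module.Finite.trans F (V ⧸ U)
  set φ : W →ₗ[F₀] (V ⧸ U) := (U.mkQ.restrictScalars F₀).comp (rhoLin R) with hφ
  have h1 : finrank F₀ (V ⧸ U) = 2 * finrank F (V ⧸ U) := by
    rw [← hfr]
    exact (Module.finrank_mul_finrank F₀ F (V ⧸ U)).symm
  have h2 := Submodule.finrank_quotient_add_finrank U
  have h3 : LinearMap.ker φ ≠ ⊥ := LinearMap.ker_ne_bot_of_finrank_lt (by omega)
  obtain ⟨w, hw, hw0⟩ := (Submodule.ne_bot_iff _).1 h3
  refine ⟨w, hw0, ?_⟩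
  rw [LinearMap.mem_ker] at hw
  have : U.mkQ (ρ w) = 0 := hw
  rwa [Submodule.mkQ_apply, Submodule.Quotient.mk_eq_zero] at this

/-- an element of the rational group with a large fixed space maps rational vectors to rational
vectors, when `[F : F₀] = 2` -/
lemma rat1_of_fix_large [FiniteDimensional F₀ W] [FiniteDimensional F V] [FiniteDimensional F₀ F]
    (R : OSet B Q Q₀ ρ) (hfr : finrank F₀ F = 2) {z : V ≃ₗ[F] V} (hr : RatU ρ z) {k : ℕ}
    (hfix : finrank F V ≤ finrank F (fixSub z) + k) (hk : 2 * k < finrank F₀ W) : Rat1 ρ z := by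
  obtain ⟨w, hw0, hw⟩ := exists_rat_mem R hfr (fixSub z) hfix hk
  exact rat1_of_fix_rat R hr hw0 ((mem_fixSub z _).1 hw)

/-- reflections along proportional vectors agree -/
lemma refl_smul (hQ : QuadData B Q) {a : V} (ha : Q a ≠ 0) {c : F} (hc : c ≠ 0)
    (hca : Q (c • a) ≠ 0) : hQ.refl (c • a) hca = hQ.refl a ha := by
  apply LinearEquiv.ext
  intro x
  rw [refl_apply, refl_apply, hQ.smul, map_smul, smul_smul, smul_eq_mul]
  congr 2
  field_simp

section Main

variable [Finite F₀] [FiniteDimensional F₀ W] [FiniteDimensional F V]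
variable (R : OSet B Q Q₀ ρ) (h13 : 13 ≤ finrank F₀ W) {M : Subgroup (V ≃ₗ[F] V)}
  (hM : Over Q ρ M) (hT : Tight B Q Q₀ ρ M) (h2 : (2 : F) ≠ 0)

include R h13 hM hT h2 in
/-- the involution negating a rational hyperbolic pair, when `-1` is a square -/
theorem exists_inv2 (hi : ∃ i : F, i * i = -1) {e f : Fin 4 → W} (h : HypSys Q₀ e f) :
    ∃ z : V ≃ₗ[F] V, InvData B ρ M z 2 {e 0, f 0} := by
  have pc := QuadraticMap.polar_comm (⇑Q₀)
  obtain ⟨i, hi⟩ := hi
  have hi0 : i ≠ 0 := by
    rintro rfl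
    rw [mul_zero] at hi
    exact one_ne_zero (neg_eq_zero.1 hi.symm)
  set L : List W := [e 0 + f 0, e 0 - f 0] with hLdef
  have na := quad_ne_p R h 0
  have nb := quad_ne_m R h 0
  have hab : B (ρ (e 0 + f 0)) (ρ (e 0 - f 0)) = 0 := R.orth (hyp_pol_pm h 0 0)
  have hL : POrth B Q (L.map ρ) := by
    constructor
    · intro a ha
      simp only [hLdef, List.map_cons, List.map_nil, List.mem_cons, List.not_mem_nil,
        or_false] at ha
      rcases ha with rfl | rfl
      · exact na
      · exact nb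
    · simp only [hLdef, List.map_cons, List.map_nil, List.pairwise_cons, List.mem_cons,
        List.not_mem_nil, or_false, forall_eq_or_imp, forall_eq, IsEmpty.forall_iff,
        implies_true, List.Pairwise.nil, and_true]
      exact hab
  have hQib : Q (i • ρ (e 0 - f 0)) = 1 := by
    rw [R.hQ.smul, R.quad, hyp_Q_m h]
    push_cast
    linear_combination -hi
  have nib : Q (i • ρ (e 0 - f 0)) ≠ 0 := by rw [hQib]; exact one_ne_zero
  have hΩ : reflList R.hQ (L.map ρ) ∈ ⁅OG Q, OG Q⁆ := by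
    simp only [hLdef, List.map_cons, List.map_nil]
    rw [reflList_cons, reflList_cons, reflList_nil, mul_one, reflD_of_ne R.hQ na,
      reflD_of_ne R.hQ nb, ← refl_smul R.hQ nb hi0 nib]
    apply R.hQ.refl_mul_refl_mem na nib
    · rw [hQib, R.quad, hyp_Q_p h]; simp
    · rw [R.hQ.sub, hQib, R.quad, hyp_Q_p h, map_smul, hab]
      push_cast
      simp only [smul_zero, sub_zero]
      have : (1 : F) + 1 = 2 := by norm_num
      rw [this]
      exact h2
  refine ⟨reflList R.hQ (L.map ρ), ?_⟩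
  have key := invData_core R h13 hM hT h2 L hL hΩ (e₁ := e 2) (f₁ := f 2) (e₂ := e 3) (f₂ := f 3)
    (s := e 0) (s' := f 0) (h.1 2).1 (h.1 2).2 (h.1 3).1 (h.1 3).2
    (by rw [hyp_ef h]; simp) (by rw [hyp_ef h]; simp) (h.2.2 2 3).1
    (by rw [hyp_ef h]; simp) (by rw [hyp_fe h]; simp) (h.2.2 2 3).2 (h.1 0).1 (h.1 0).2
    (by rw [hyp_ef h]; simp) (by simp [hLdef]) (by simp [hLdef]) ?_ {e 0, f 0} ?_
  · exact key
  · intro x hx
    simp only [hLdef, List.mem_cons, List.not_mem_nil, or_false] at hx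
    rcases hx with rfl | rfl <;>
    simp [QuadraticMap.polar_add_left, QuadraticMap.polar_sub_left, hyp_ef h, hyp_fe h,
      (h.2.2 _ _).1, (h.2.2 _ _).2]
  · intro v hv x hx
    have v0 := hv (e 0) (by simp)
    have v1 := hv (f 0) (by simp)
    simp only [hLdef, List.mem_cons, List.not_mem_nil, or_false] at hx
    rcases hx with rfl | rfl <;>
    simp [R.add, R.sub, v0, v1]

end Main

end Cfsg.Agent.Lib.Helper95.OSub
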