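/-
Helper95: overgroups of the rational orthogonal group, part W: the tight case in odd
characteristic with general involution sizes, and the resulting dichotomy.
-/
import Mathlib
import Cfsg.Agent.Lib.Helper95.OSubV

set_option autoImplicit false
set_option linter.unusedSimpArgs false
set_option linter.unusedSectionVars false
set_option linter.unusedVariables false

namespace Cfsg.Agent.Lib.Helper95.OSub

open LinearMap (BilinForm)
open Module
open Cfsg.Agent.Lib.Helper94 Cfsg.Agent.Lib.Helper94.QuadData Cfsg.Agent.Lib.Helper44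
open Cfsg.Agent.Lib.Helper13 (fixSub mem_fixSub)
open scoped commutatorElement

variable {F : Type*} [Field F] {V : Type*} [AddCommGroup V] [Module F V]
variable {F₀ : Subfield F} {W : Type*} [AddCommGroup W] [Module F₀ W]
variable {B : BilinForm F V} {Q : V → F} {Q₀ : QuadraticForm F₀ W} {ρ : W → V}

local notation "pol" => QuadraticMap.polar

lemma InvData.mono {M : Subgroup (V ≃ₗ[F] V)} {z : V ≃ₗ[F] V} {k : ℕ} {S S' : Set W}
    (hSS : S ⊆ S') (D : InvData B ρ M z k S) : InvData B ρ M z k S' :=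
  ⟨D.mem, D.sq, D.cent, D.fix_ge, D.fix_le, fun v hv => D.fixes v fun x hx => hv x (hSS hx)⟩

section Main

variable [Finite F₀] [FiniteDimensional F₀ W] [FiniteDimensional F V] [Finite (V ≃ₗ[F] V)]
variable (R : OSet B Q Q₀ ρ) (h13 : 13 ≤ finrank F₀ W) {M : Subgroup (V ≃ₗ[F] V)}
  (hM : Over Q ρ M) (hT : Tight B Q Q₀ ρ M) (h2 : (2 : F) ≠ 0)
  (hdim : finrank F V = finrank F₀ W) {k₁ k₂ : ℕ} (hk : k₁ < k₂) (hk10 : k₁ + k₂ ≤ 10)
  (hInv : ∀ z ∈ ⁅OG Q, OG Q⁆, RatU ρ z → z * z = 1 →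
    finrank F V ≤ finrank F (fixSub z) + (k₁ + k₂) → Rat1 ρ z)
  (prov₁ : ∀ {e f : Fin 4 → W}, HypSys Q₀ e f →
    ∃ z : V ≃ₗ[F] V, InvData B ρ M z k₁ {e 0, f 0, e 1, f 1})
  (prov₂ : ∀ {e f : Fin 4 → W}, HypSys Q₀ e f → ∀ {e' f' : Fin 2 → W}, HypSys Q₀ e' f' →
    (∀ i i', pol (⇑Q₀) (e i) (e' i') = 0 ∧ pol (⇑Q₀) (e i) (f' i') = 0 ∧
      pol (⇑Q₀) (f i) (e' i') = 0 ∧ pol (⇑Q₀) (f i) (f' i') = 0) →
    ∃ z : V ≃ₗ[F] V, InvData B ρ M z k₂ {e 0, f 0, e 1, f 1, e 2, f 2, e 3, f 3})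

include R h13 hM hT h2 hdim hk hInv in
/-- one level of the dihedral argument, general involutions -/
lemma levelG {g : V ≃ₗ[F] V} (hg : g ∈ M) {z₁ ζ : V ≃ₗ[F] V} {S₁ S₂ : Set W}
    (D₁ : InvData B ρ M z₁ k₁ S₁) (D₂ : InvData B ρ M ζ k₂ S₂) :
    ∃ z ∈ M, z * z = 1 ∧ z ≠ 1 ∧ Rat1 ρ z ∧ Rat1 ρ (g⁻¹ * z * g) ∧
      finrank F V ≤ finrank F (fixSub z) + (k₁ + k₂) ∧
      ∀ v : V, (∀ x ∈ S₁, B v (ρ x) = 0) → (∀ x ∈ S₂, B (g⁻¹ v) (ρ x) = 0) → z v = v := by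
  have hnc : finrank F (fixSub z₁) ≠ finrank F (fixSub ζ) := by
    have := D₁.fix_ge
    have := D₂.fix_le
    omega
  obtain ⟨z, hzM, hsq, hz1, k₁', k₂', hfix⟩ := dihedral M hg D₁.mem D₂.mem D₁.sq D₂.sq hnc
  have hhM : g⁻¹ * z * g ∈ M := mul_mem (mul_mem (inv_mem hg) hzM) hg
  have hbound : finrank F V ≤ finrank F (fixSub z) + (k₁ + k₂) := by
    have hle : fixSub z₁ ⊓ fixSub (g * ζ * g⁻¹) ≤ fixSub z := by
      intro v hv
      rw [Submodule.mem_inf, mem_fixSub, mem_fixSub] at hv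
      rw [mem_fixSub]
      exact hfix v hv.1 hv.2
    have e1 := Submodule.finrank_sup_add_finrank_inf_eq (fixSub z₁) (fixSub (g * ζ * g⁻¹))
    have e2 := Submodule.finrank_le (fixSub z₁ ⊔ fixSub (g * ζ * g⁻¹))
    have e3 := finrank_fixSub_conj (F := F) g ζ
    have e4 := Submodule.finrank_mono hle
    have e5 := D₁.fix_ge
    have e6 := D₂.fix_ge
    omega
  have hbound' : finrank F V ≤ finrank F (fixSub (g⁻¹ * z * g)) + (k₁ + k₂) := by
    have := finrank_fixSub_conj (F := F) g⁻¹ z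
    rw [inv_inv] at this
    rw [this]
    exact hbound
  have r1 : Rat1 ρ z := hInv z (hM.le hzM) (D₁.cent z hzM k₁') hsq hbound
  have r2 : Rat1 ρ (g⁻¹ * z * g) :=
    hInv _ (hM.le hhM) (D₂.cent _ hhM k₂') (conj_sq hsq) hbound'
  refine ⟨z, hzM, hsq, hz1, r1, r2, hbound, ?_⟩
  intro v hv1 hv2
  apply hfix v (D₁.fixes v hv1)
  have := D₂.fixes (g⁻¹ v) hv2
  simp only [LinearEquiv.mul_apply]
  rw [this, ← LinearEquiv.mul_apply, mul_inv_cancel]
  rfl

include R h13 hM hT h2 hdim hk hInv prov₁ prov₂ in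
/-- one level of the dihedral argument, from frames -/
lemma levelG' {g : V ≃ₗ[F] V} (hg : g ∈ M) {e f : Fin 4 → W} (h4 : HypSys Q₀ e f)
    {e' f' : Fin 4 → W} (h4' : HypSys Q₀ e' f') {e'' f'' : Fin 2 → W} (hx : HypSys Q₀ e'' f'')
    (hc : ∀ i i', pol (⇑Q₀) (e' i) (e'' i') = 0 ∧ pol (⇑Q₀) (e' i) (f'' i') = 0 ∧
      pol (⇑Q₀) (f' i) (e'' i') = 0 ∧ pol (⇑Q₀) (f' i) (f'' i') = 0) :
    ∃ z ∈ M, z * z = 1 ∧ z ≠ 1 ∧ Rat1 ρ z ∧ Rat1 ρ (g⁻¹ * z * g) ∧
      finrank F V ≤ finrank F (fixSub z) + (k₁ + k₂) ∧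
      ∀ v : V, (∀ x ∈ ({e 0, f 0, e 1, f 1} : Set W), B v (ρ x) = 0) →
        (∀ x ∈ ({e' 0, f' 0, e' 1, f' 1, e' 2, f' 2, e' 3, f' 3} : Set W),
          B (g⁻¹ v) (ρ x) = 0) → z v = v := by
  obtain ⟨z₁, D₁⟩ := prov₁ h4
  obtain ⟨ζ, D₂⟩ := prov₂ h4' hx hc
  exact levelG R h13 hM hT h2 hdim hk hInv hg D₁ D₂

include R h13 hM hT h2 hdim hk hk10 hInv prov₁ prov₂ in
/-- **the tight case**, general involution sizes -/
theorem tight_leG {g : V ≃ₗ[F] V} (hg : g ∈ M) : RatU ρ g := by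
  have pc := QuadraticMap.polar_comm (⇑Q₀)
  -- level one
  obtain ⟨e, f, h4, -⟩ := exists_frame Q₀ R.nd₀ 4 ⊥ 0 inf_le_left (by rw [finrank_bot])
    (by omega)
  obtain ⟨e'', f'', hx, hc⟩ := exists_frame_perp_frame Q₀ R.nd₀ e f h4 2 (by omega)
  obtain ⟨z', hz'M, hsq', hz'1, r', rh', hd', -⟩ :=
    levelG' R h13 hM hT h2 hdim hk hInv prov₁ prov₂ hg h4 h4 hx hc
  obtain ⟨a1, a2, a3, a4⟩ := inv_dims R h13 hM h2 hdim hz'M hsq' hz'1 r'
  by_cases hb : 3 ≤ finrank F₀ (Wm R z')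
  · exact final_step R h13 hM hT h2 hdim hg hz'M hsq' r' rh' (by omega) hb
  have hb2 : finrank F₀ (Wm R z') = 2 := by omega
  have hz'O : z' ∈ OG Q := commutator_le_OG (hM.le hz'M)
  obtain ⟨h', hh'⟩ : ∃ h', h' = g⁻¹ * z' * g := ⟨_, rfl⟩
  rw [← hh'] at rh'
  have hh'M : h' ∈ M := by rw [hh']; exact mul_mem (mul_mem (inv_mem hg) hz'M) hg
  have hh'O : h' ∈ OG Q := commutator_le_OG (hM.le hh'M)
  have hh'sq : h' * h' = 1 := by rw [hh']; exact conj_sq hsq'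
  have hfixh : finrank F (fixSub h') = finrank F (fixSub z') := by
    have := finrank_fixSub_conj (F := F) g⁻¹ z'
    rw [inv_inv] at this
    rw [hh']
    exact this
  obtain ⟨c1, c2⟩ := finrank_eigen R h2 rh' hh'sq hdim
  -- level two
  obtain ⟨e₂, f₂, g4, gmem⟩ := exists_frame_sub Q₀ (Wp R z') (nondeg_Wp R h2 hz'O r' hsq') 4
    (by omega)
  obtain ⟨e₃, f₃, g4', gmem'⟩ := exists_frame_sub Q₀ (Wp R h') (nondeg_Wp R h2 hh'O rh' hh'sq) 4
    (by omega)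
  obtain ⟨e₄, f₄, gx, gc⟩ := exists_frame_perp_frame Q₀ R.nd₀ e₃ f₃ g4' 2 (by omega)
  obtain ⟨z'', hz''M, hsq'', hz''1, r'', rh'', hd'', hfix''⟩ :=
    levelG' R h13 hM hT h2 hdim hk hInv prov₁ prov₂ hg g4 g4' gx gc
  have hz''O : z'' ∈ OG Q := commutator_le_OG (hM.le hz''M)
  have hneg : ∀ v, z' v = -v → z'' v = v := by
    intro v hv
    apply hfix''
    · intro x hx'
      have hxm : x ∈ Wp R z' := by
        simp only [Set.mem_insert_iff, Set.mem_singleton_iff] at hx'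
        rcases hx' with rfl | rfl | rfl | rfl
        · exact (gmem 0).1
        · exact (gmem 0).2
        · exact (gmem 1).1
        · exact (gmem 1).2
      exact orth_of_eigen R.hQ h2 hz'O hv ((mem_Wp R z' x).1 hxm)
    · intro x hx'
      have hxm : x ∈ Wp R h' := by
        simp only [Set.mem_insert_iff, Set.mem_singleton_iff] at hx'
        rcases hx' with rfl | rfl | rfl | rfl | rfl | rfl | rfl | rfl
        · exact (gmem' 0).1
        · exact (gmem' 0).2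
        · exact (gmem' 1).1
        · exact (gmem' 1).2
        · exact (gmem' 2).1
        · exact (gmem' 2).2
        · exact (gmem' 3).1
        · exact (gmem' 3).2
      have hv' : h' (g⁻¹ v) = -(g⁻¹ v) := by
        rw [hh']
        simp only [LinearEquiv.mul_apply]
        rw [← LinearEquiv.mul_apply g g⁻¹, mul_inv_cancel]
        show g⁻¹ (z' v) = _
        rw [hv, map_neg]
      exact orth_of_eigen R.hQ h2 hh'O hv' ((mem_Wp R h' x).1 hxm)
  obtain ⟨b1, b2, b3, b4⟩ := inv_dims R h13 hM h2 hdim hz''M hsq'' hz''1 r''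
  by_cases hb' : 3 ≤ finrank F₀ (Wm R z'')
  · exact final_step R h13 hM hT h2 hdim hg hz''M hsq'' r'' rh'' (by omega) hb'
  have hb2' : finrank F₀ (Wm R z'') = 2 := by omega
  -- the product of the two involutions
  have hcomm : z' * z'' = z'' * z' := comm_of_fix R.hQ R.nd h2 hz'O hz''O hsq' hneg
  obtain ⟨zs, hzs⟩ : ∃ zs, zs = z' * z'' := ⟨_, rfl⟩
  have hzsM : zs ∈ M := by rw [hzs]; exact mul_mem hz'M hz''M
  have hzssq : zs * zs = 1 := by
    rw [hzs]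
    calc z' * z'' * (z' * z'') = z' * (z'' * z') * z'' := by group
      _ = z' * (z' * z'') * z'' := by rw [hcomm]
      _ = (z' * z') * (z'' * z'') := by group
      _ = 1 := by rw [hsq', hsq'', mul_one]
  have rs : Rat1 ρ zs := by rw [hzs]; exact r'.mul r''
  have rhs : Rat1 ρ (g⁻¹ * zs * g) := by
    have : g⁻¹ * zs * g = h' * (g⁻¹ * z'' * g) := by rw [hzs, hh']; group
    rw [this]
    exact rh'.mul rh''
  have hzsO : zs ∈ OG Q := commutator_le_OG (hM.le hzsM)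
  -- the eigenspaces of the product
  have hm1 : Wm R z' ≤ Wm R zs := by
    intro w hw
    rw [mem_Wm] at hw ⊢
    rw [hzs, LinearEquiv.mul_apply, hneg _ hw, hw]
  have hz'fix : ∀ w ∈ Wm R z'', z' (ρ w) = ρ w := by
    intro w hw
    rw [mem_Wm] at hw
    apply fix_of_orth_neg R.hQ R.nd hz'O hsq'
    intro y hy
    exact orth_of_eigen R.hQ h2 hz''O hw (hneg y hy)
  have hm2 : Wm R z'' ≤ Wm R zs := by
    intro w hw
    have hw' := (mem_Wm R z'' w).1 hw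
    rw [mem_Wm, hzs, LinearEquiv.mul_apply, hw', map_neg, hz'fix w hw]
  have hdisj : Wm R z' ⊓ Wm R z'' = ⊥ := by
    rw [eq_bot_iff]
    intro w hw
    rw [Submodule.mem_inf, mem_Wm, mem_Wm] at hw
    have h1 := hneg _ hw.1
    rw [hw.2] at h1
    have h4' : (2 : F) • ρ w = 0 := by
      rw [two_smul]
      nth_rewrite 1 [← h1]
      exact neg_add_cancel _
    rcases smul_eq_zero.1 h4' with h5 | h5
    · exact absurd h5 h2
    · rw [Submodule.mem_bot]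
      apply R.inj
      rw [h5, R.zero]
  have hbs : 3 ≤ finrank F₀ (Wm R zs) := by
    have e1 := Submodule.finrank_sup_add_finrank_inf_eq (Wm R z') (Wm R z'')
    rw [hdisj, finrank_bot] at e1
    have e2 := Submodule.finrank_mono (sup_le hm1 hm2)
    omega
  have has : 3 ≤ finrank F₀ (Wp R zs) := by
    have hle : Wp R z' ⊓ Wp R z'' ≤ Wp R zs := by
      intro w hw
      rw [Submodule.mem_inf, mem_Wp, mem_Wp] at hw
      rw [mem_Wp, hzs, LinearEquiv.mul_apply, hw.2, hw.1]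
    have e1 := Submodule.finrank_sup_add_finrank_inf_eq (Wp R z') (Wp R z'')
    have e2 := Submodule.finrank_le (Wp R z' ⊔ Wp R z'')
    have e3 := Submodule.finrank_mono hle
    omega
  exact final_step R h13 hM hT h2 hdim hg hzsM hzssq rs rhs has hbs


include R h13 hM h2 hdim hk hk10 hInv in
/-- **the dichotomy for overgroups of the rational group**, odd characteristic, general
involution sizes -/
theorem overgroup_dichotomyG [Finite F]
    (prov₁' : Tight B Q Q₀ ρ M → ∀ {e f : Fin 4 → W}, HypSys Q₀ e f →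
      ∃ z : V ≃ₗ[F] V, InvData B ρ M z k₁ {e 0, f 0, e 1, f 1})
    (prov₂' : Tight B Q Q₀ ρ M → ∀ {e f : Fin 4 → W}, HypSys Q₀ e f → ∀ {e' f' : Fin 2 → W},
      HypSys Q₀ e' f' →
      (∀ i i', pol (⇑Q₀) (e i) (e' i') = 0 ∧ pol (⇑Q₀) (e i) (f' i') = 0 ∧
        pol (⇑Q₀) (f i) (e' i') = 0 ∧ pol (⇑Q₀) (f i) (f' i') = 0) →
      ∃ z : V ≃ₗ[F] V, InvData B ρ M z k₂ {e 0, f 0, e 1, f 1, e 2, f 2, e 3, f 3})
    (hprime : ∀ S : Subfield F, F₀ ≤ S → S = F₀ ∨ S = ⊤) :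
    (∀ g ∈ M, RatU ρ g) ∨ ⁅OG Q, OG Q⁆ ≤ M := by
  rcases tight_or_full R h13 hM hprime with hT | hF
  · left
    intro g hg
    exact tight_leG R h13 hM hT h2 hdim hk hk10 hInv (prov₁' hT) (prov₂' hT) hg
  · right
    exact full_le R h13 hM hF (by omega)

end Main

end Cfsg.Agent.Lib.Helper95.OSub
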