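/-
Helper95: the subfield subgroups of `Ω_n(q)`, `n ≥ 13`, any `q` and any type, are maximal (bridge to
the Prelude).
-/
import Mathlib
import Cfsg.Agent.Lib.Helper95.OSubQ
import Cfsg.Agent.Lib.Helper95.OSubW

set_option autoImplicit false
set_option linter.unusedSimpArgs false
set_option linter.unusedSectionVars false
set_option linter.unusedVariables false

namespace Cfsg.Agent.Lib.Helper95.OSub

open LinearMap (BilinForm)
open Module Matrix
open Cfsg.Agent.Lib.Helper94 Cfsg.Agent.Lib.Helper94.QuadData Cfsg.Agent.Lib.Helper44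
open Cfsg.Agent.Lib.Helper13 (fixSub mem_fixSub)
open scoped commutatorElement

variable {ι : Type} [Fintype ι] [DecidableEq ι] {F : Type*} [Field F]
variable {F₀ : Subfield F} {P : GL ι F} {Q : (ι → F) → F}

/-- square roots of elements of a subfield of odd prime index lie in the subfield -/
lemma mem_of_sq_mem [Fintype F] (F₀ : Subfield F) {r : ℕ} (hfr : Module.finrank F₀ F = r)
    (hr : r.Prime) (hr2 : r ≠ 2) {μ : F} (hμ : μ * μ ∈ F₀) : μ ∈ F₀ := by
  have : IsSimpleOrder (IntermediateField F₀ F) :=
    IntermediateField.isSimpleOrder_of_finrank_prime F₀ F (by rw [hfr]; exact hr)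
  rcases eq_bot_or_eq_top (IntermediateField.adjoin F₀ {μ}) with h | h
  · have h1 : μ ∈ IntermediateField.adjoin F₀ {μ} := IntermediateField.mem_adjoin_simple_self F₀ μ
    rw [h, IntermediateField.mem_bot] at h1
    obtain ⟨x, rfl⟩ := h1
    exact x.2
  · exfalso
    have hint : IsIntegral F₀ μ := IsIntegral.of_finite F₀ μ
    have h1 := IntermediateField.adjoin.finrank hint
    rw [h, IntermediateField.finrank_top', hfr] at h1
    -- the minimal polynomial has degree at most two
    let k : F₀ := ⟨μ * μ, hμ⟩
    have hp : Polynomial.aeval μ (Polynomial.X ^ 2 - Polynomial.C k : Polynomial F₀) = 0 := by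
      simp only [map_sub, map_pow, Polynomial.aeval_X, Polynomial.aeval_C]
      show μ ^ 2 - μ * μ = 0
      ring
    have hmon : (Polynomial.X ^ 2 - Polynomial.C k : Polynomial F₀).Monic :=
      Polynomial.monic_X_pow_sub_C k (by norm_num)
    have h2 := minpoly.min F₀ μ hmon hp
    have h3 : (minpoly F₀ μ).natDegree ≤ 2 := by
      have := Polynomial.natDegree_le_natDegree h2
      rwa [Polynomial.natDegree_X_pow_sub_C] at this
    have h4 := hr.two_le
    omega

/-- **Maximality of the subfield subgroups of `Ω_n(q)`, `n ≥ 13`, any `q`.** -/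
theorem subfield_isMaximalIn_gen [Fintype F] (hQ : Cfsg.Geo.IsNondegenerateQuadraticForm Q)
    (h13 : 13 ≤ Fintype.card ι)
    (F₀ : Subfield F) (r : ℕ) (hr : r.Prime) (hcard : Fintype.card F = Nat.card F₀ ^ r)
    (P : GL ι F) (hP : Cfsg.Geo.IsQuadFormRationalStructure Q F₀ P) :
    Cfsg.Geo.IsMaximalIn (Cfsg.Geo.omegaGL Q)
      (Cfsg.Geo.subfieldSubgroup F₀ P ⊓ Cfsg.Geo.omegaGL Q) := by
  classical
  have : Nonempty ι := by
    rw [← Fintype.card_pos_iff]; omega
  let _ : Fintype F₀ := Fintype.ofFinite F₀
  have R := oset_ratP hQ hP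
  apply isMaximalIn_of_map (glEquiv ι F)
  rw [map_inf_equiv, map_omegaGL]
  have hHs : ∀ g : (ι → F) ≃ₗ[F] (ι → F),
      g ∈ (Cfsg.Geo.subfieldSubgroup F₀ P).map (glEquiv ι F).toMonoidHom ↔
        RatU (ratP F₀ P) g := by
    intro g
    rw [Subgroup.mem_map_equiv]
    exact mem_subfield_iff g
  have : Finite ((ι → F) ≃ₗ[F] (ι → F)) :=
    Finite.of_injective (fun g : (ι → F) ≃ₗ[F] (ι → F) => (g : (ι → F) → (ι → F)))
      DFunLike.coe_injective
  have h13' : 13 ≤ finrank F₀ (ι → F₀) := by
    rw [Module.finrank_fintype_fun_eq_card]; exact h13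
  have hdim : finrank F (ι → F) = finrank F₀ (ι → F₀) := by
    rw [Module.finrank_fintype_fun_eq_card, Module.finrank_fintype_fun_eq_card]
  -- the degree of the extension
  have hfr : Module.finrank F₀ F = r := by
    have h1 : Fintype.card F = Fintype.card F₀ ^ Module.finrank F₀ F := Module.card_eq_pow_finrank
    rw [Nat.card_eq_fintype_card] at hcard
    rw [hcard] at h1
    have h2' : 2 ≤ Fintype.card F₀ := Fintype.one_lt_card
    exact (Nat.pow_right_injective h2' h1).symm
  have : IsSimpleOrder (IntermediateField F₀ F) :=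
    IntermediateField.isSimpleOrder_of_finrank_prime F₀ F (by rw [hfr]; exact hr)
  have hprime : ∀ S : Subfield F, F₀ ≤ S → S = F₀ ∨ S = ⊤ := by
    intro S hS
    let SI : IntermediateField F₀ F := Subfield.toIntermediateField S (fun x => hS x.2)
    rcases eq_bot_or_eq_top SI with h | h
    · left
      apply le_antisymm _ hS
      intro c hc
      have : c ∈ SI := hc
      rw [h, IntermediateField.mem_bot] at this
      obtain ⟨x, rfl⟩ := this
      exact x.2
    · right
      rw [eq_top_iff]
      intro c _
      have : c ∈ SI := by rw [h]; trivial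
      exact this
  have hne : ∃ c : F, c ∉ F₀ := by
    by_contra hcon
    push Not at hcon
    have h1 : Fintype.card F₀ = Fintype.card F :=
      Fintype.card_of_bijective (f := fun x : F₀ => (x : F))
        ⟨Subtype.val_injective, fun c => ⟨⟨c, hcon c⟩, rfl⟩⟩
    rw [Nat.card_eq_fintype_card, h1] at hcard
    have h3 : 2 ≤ Fintype.card F := Fintype.one_lt_card
    have h4 : Fintype.card F ^ 1 = Fintype.card F ^ r := by rw [pow_one]; exact hcard
    have h5 := Nat.pow_right_injective h3 h4
    rw [← h5] at hr
    exact Nat.not_prime_one hr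
  constructor
  · refine lt_of_le_of_ne inf_le_right ?_
    intro heq
    obtain ⟨g, hg, hng⟩ := exists_not_ratU R h13' hne
    rw [← heq] at hg
    exact hng ((hHs g).1 hg.1)
  · intro M hHM hMΩ
    have hOver : Over Q (ratP F₀ P) M := ⟨hMΩ, fun g hg hr' => hHM ⟨(hHs g).2 hr', hg⟩⟩
    have hdich : (∀ g ∈ M, RatU (ratP F₀ P) g) ∨ ⁅OG Q, OG Q⁆ ≤ M := by
      by_cases h2 : (2 : F) = 0
      · -- characteristic two
        have h20 : (2 : F₀) = 0 := by
          apply Subtype.ext
          push_cast
          exact h2
        have hch : ringChar F₀ = 2 := by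
          have : CharP F₀ 2 := CharTwo.of_one_ne_zero_of_two_eq_zero one_ne_zero h20
          exact ringChar.eq F₀ 2
        have hperf : ∀ k : F₀, ∃ d : F₀, d * d = k := by
          intro k
          obtain ⟨d, hd⟩ := FiniteField.isSquare_of_char_two hch k
          exact ⟨d, hd.symm⟩
        exact overgroup_dichotomy2 R h13' hOver h2 hperf hdim hprime
      · by_cases hr2 : r = 2
        · -- quadratic extension
          have hfr2 : Module.finrank F₀ F = 2 := by rw [hfr, hr2]
          have hi : ∃ i : F, i * i = -1 := by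
            have hchF : ringChar F ≠ 2 := by
              intro hc
              have : CharP F 2 := ringChar.of_eq hc
              exact h2 (CharTwo.two_eq_zero)
            have hchF₀ : ringChar F₀ ≠ 2 := by
              intro hc
              have : CharP F₀ 2 := ringChar.of_eq hc
              apply h2
              have h20 : (2 : F₀) = 0 := CharTwo.two_eq_zero
              have h3 : (2 : F) = ((2 : F₀) : F) := rfl
              rw [h3, h20]; rfl
            have hodd := FiniteField.odd_card_of_char_ne_two hchF₀
            have hsq : IsSquare (-1 : F) := by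
              rw [FiniteField.isSquare_neg_one_iff, hcard, Nat.card_eq_fintype_card, hr2]
              have : Fintype.card F₀ ^ 2 % 4 = 1 := by
                rw [Nat.pow_mod]
                have h4 : Fintype.card F₀ % 4 = 1 ∨ Fintype.card F₀ % 4 = 3 := by omega
                rcases h4 with h | h <;> rw [h]
              omega
            obtain ⟨i, hi⟩ := hsq
            exact ⟨i, hi.symm⟩
          have hInv : ∀ z ∈ ⁅OG Q, OG Q⁆, RatU (ratP F₀ P) z → z * z = 1 →
              finrank F (ι → F) ≤ finrank F (fixSub z) + (2 + 4) → Rat1 (ratP F₀ P) z :=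
            fun z _ hr' _ hb => rat1_of_fix_large R hfr2 hr' hb (by omega)
          refine overgroup_dichotomyG R h13' hOver h2 hdim (k₁ := 2) (k₂ := 4) (by norm_num)
            (by norm_num) hInv ?_ ?_ hprime
          · intro hT e f h
            obtain ⟨z, D⟩ := exists_inv2 R h13' hOver hT h2 hi h
            exact ⟨z, D.mono (by intro x hx; simp only [Set.mem_insert_iff,
              Set.mem_singleton_iff] at hx ⊢; tauto)⟩
          · intro hT e f h e' f' _ _
            obtain ⟨z, D⟩ := exists_inv4 R h13' hOver hT h2 h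
            exact ⟨z, D.mono (by intro x hx; simp only [Set.mem_insert_iff,
              Set.mem_singleton_iff] at hx ⊢; tauto)⟩
        · -- odd degree
          have hcl : ∀ μ : F, μ * μ ∈ F₀ → μ ∈ F₀ := fun μ hμ => mem_of_sq_mem F₀ hfr hr hr2 hμ
          have hInv : ∀ z ∈ ⁅OG Q, OG Q⁆, RatU (ratP F₀ P) z → z * z = 1 →
              finrank F (ι → F) ≤ finrank F (fixSub z) + (4 + 6) → Rat1 (ratP F₀ P) z :=
            fun z _ hr' hsq _ => rat1_of_ratU_closed R hcl hr' hsq
          exact overgroup_dichotomyG R h13' hOver h2 hdim (k₁ := 4) (k₂ := 6) (by norm_num)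
            (by norm_num) hInv (fun hT e f h => exists_inv4 R h13' hOver hT h2 h)
            (fun hT e f h e' f' hx hc => exists_inv6 R h13' hOver hT h2 h hx hc) hprime
    rcases hdich with h | h
    · left
      exact le_antisymm (fun g hg => ⟨(hHs g).2 (h g hg), hMΩ hg⟩) hHM
    · right
      exact le_antisymm hMΩ h

end Cfsg.Agent.Lib.Helper95.OSub
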