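import Mathlib

/-!
# Involutions of `PSL(2, F)` over a finite field (helper95)

Matrix-level tools for products of involutions of `PSL(2,F)`:
* `isConj_of_odd_mul`: two involutions with a product of odd order are conjugate;
* `OddPow g`: some odd power of `g : SL(2,F)` is scalar, hence `proj g` has odd order
  (unipotent `unip_pow`, split semisimple `split_pow_scalar`, nonzero trace in characteristic two
  `odd_order_char_two`);
* `tz a b c h`: the trace-zero element `!![a, b; c, -a]`; every involution of `PSL(2,F)` is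
  `proj (tz ..)` (`exists_lift_trace_zero`, `exists_tz`);
* `common_nbr_char_two`, `common_nbr_odd`: any two trace-zero elements `A`, `B` admit a trace-zero `C`
  with `A * C` and `C * B` of odd order modulo scalars;
* `commuting_char_two`, `commuting_odd_core`: a trace-zero `Y` with `A * Y` again of trace zero.
-/

set_option autoImplicit false

namespace Cfsg.Agent.Lib.Helper95.PSL2Inv

open Matrix

/-! ## Part 0: group lemmas -/

theorem odd_orderOf_of_pow {G : Type*} [Monoid G] (g : G) (n : ℕ) (hn : Odd n) (h : g ^ n = 1) :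
    Odd (orderOf g) := by
  have hd : orderOf g ∣ n := orderOf_dvd_of_pow_eq_one h
  exact Odd.of_dvd_nat hn hd

/-- Dihedral lemma: involutions with odd-order product are conjugate. -/
theorem isConj_of_odd_mul {G : Type*} [Group G] (x z : G) (hx : x * x = 1) (hz : z * z = 1)
    (h : Odd (orderOf (x * z))) : IsConj x z := by
  obtain ⟨m, hm⟩ := h
  set r := x * z with hr
  have hxinv : x⁻¹ = x := inv_eq_of_mul_eq_one_right hx
  have hzinv : z⁻¹ = z := inv_eq_of_mul_eq_one_right hz
  have hrinv : r⁻¹ = z * x := by rw [hr, _root_.mul_inv_rev, hxinv, hzinv]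
  have hconj : x * r * x⁻¹ = r⁻¹ := by
    rw [hrinv, hr, hxinv, ← mul_assoc, hx, one_mul]
  have hone : r ^ (2 * m + 1) = 1 := by rw [← hm]; exact pow_orderOf_eq_one r
  have hinvpow : (r ^ m)⁻¹ = x * r ^ m * x⁻¹ := by
    rw [← inv_pow, ← hconj, conj_pow]
  rw [isConj_iff]
  refine ⟨r ^ m, ?_⟩
  rw [hinvpow, hxinv]
  have h3 : r ^ m * r ^ m = r⁻¹ := by
    rw [eq_inv_iff_mul_eq_one, ← pow_add, ← pow_succ]
    rw [show m + m + 1 = 2 * m + 1 by ring]; exact hone
  calc r ^ m * x * (x * r ^ m * x) = r ^ m * (x * x) * r ^ m * x := by group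
    _ = r⁻¹ * x := by rw [hx, mul_one, h3]
    _ = z := by rw [hrinv, mul_assoc, hx, mul_one]


variable {F : Type*} [Field F]

/-! ## Part 1: 2×2 matrices -/

/-- Cayley–Hamilton for 2×2 matrices. -/
theorem ch2 (G : Matrix (Fin 2) (Fin 2) F) :
    G * G = G.trace • G - G.det • (1 : Matrix (Fin 2) (Fin 2) F) := by
  ext i j
  fin_cases i <;> fin_cases j <;>
    simp [Matrix.mul_apply, Fin.sum_univ_two, Matrix.trace, Matrix.det_fin_two] <;> ring

/-- Unipotent: trace 2, det 1 implies `G ^ p = 1` in characteristic `p`. -/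
theorem unip_pow (p : ℕ) [Fact p.Prime] [CharP F p] (G : Matrix (Fin 2) (Fin 2) F)
    (hdet : G.det = 1) (htr : G.trace = 2) : G ^ p = 1 := by
  have hN : (G - 1) * (G - 1) = 0 := by
    have := ch2 G
    rw [hdet, htr] at this
    rw [sub_mul, mul_sub, mul_sub, this]
    simp only [mul_one, one_mul, one_smul]
    rw [two_smul]; abel
  have hG : G = 1 + (G - 1) := by abel
  have hp2 : 2 ≤ p := (Fact.out : p.Prime).two_le
  have hNp : (G - 1) ^ p = 0 := by
    obtain ⟨k, hk⟩ := Nat.exists_eq_add_of_le hp2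
    rw [hk, pow_add, pow_two, hN, zero_mul]
  have hcomm : Commute (1 : Matrix (Fin 2) (Fin 2) F) (G - 1) := Commute.one_left _
  rw [hG, add_pow_char_of_commute _ hcomm, one_pow, hNp, add_zero]

/-- Split semisimple: eigenvalue formula for powers. -/
theorem split_pow (G : Matrix (Fin 2) (Fin 2) F) (hdet : G.det = 1) (l m : F)
    (htr : G.trace = l + m) (hlm : l * m = 1) (n : ℕ) :
    (l - m) • G ^ n = l ^ n • (G - m • (1 : Matrix (Fin 2) (Fin 2) F)) -
      m ^ n • (G - l • (1 : Matrix (Fin 2) (Fin 2) F)) := by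
  have hch := ch2 G
  rw [hdet, htr] at hch
  have h1 : G * (G - m • (1 : Matrix (Fin 2) (Fin 2) F)) = l • (G - m • (1 : Matrix (Fin 2) (Fin 2) F)) := by
    rw [mul_sub, hch]
    simp only [mul_smul_comm, mul_one, smul_sub, smul_smul, hlm, add_smul, one_smul]
    abel
  have h2 : G * (G - l • (1 : Matrix (Fin 2) (Fin 2) F)) = m • (G - l • (1 : Matrix (Fin 2) (Fin 2) F)) := by
    rw [mul_sub, hch]
    simp only [mul_smul_comm, mul_one, smul_sub, smul_smul, mul_comm m l, hlm, add_smul, one_smul]
    abel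
  induction n with
  | zero =>
    simp only [pow_zero, one_smul]
    rw [sub_smul]; abel
  | succ n ih =>
    rw [pow_succ', ← mul_smul_comm, ih, mul_sub, mul_smul_comm, mul_smul_comm, h1, h2,
      smul_smul, smul_smul, ← pow_succ, ← pow_succ]

theorem split_pow_scalar (G : Matrix (Fin 2) (Fin 2) F) (hdet : G.det = 1) (l m : F)
    (htr : G.trace = l + m) (hlm : l * m = 1) (hne : l ≠ m) (n : ℕ) (e : F)
    (hl : l ^ n = e) (hm : m ^ n = e) : G ^ n = e • (1 : Matrix (Fin 2) (Fin 2) F) := by
  have h := split_pow G hdet l m htr hlm n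
  rw [hl, hm] at h
  have h' : (l - m) • G ^ n = (l - m) • (e • (1 : Matrix (Fin 2) (Fin 2) F)) := by
    rw [h, smul_smul, sub_mul, sub_smul, mul_smul, mul_smul]
    simp only [smul_sub, smul_smul, mul_comm e]
    abel
  have hne' : l - m ≠ 0 := sub_ne_zero.mpr hne
  have := congrArg (fun X => (l - m)⁻¹ • X) h'
  simp only [smul_smul, inv_mul_cancel₀ hne', one_smul] at this
  rw [this, ← mul_assoc, inv_mul_cancel₀ hne', one_mul]

/-- powers of a 2×2 matrix of determinant one are linear in the matrix. -/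
theorem pow_lin (G : Matrix (Fin 2) (Fin 2) F) (n : ℕ) :
    ∃ a b : F, G ^ n = a • (1 : Matrix (Fin 2) (Fin 2) F) + b • G := by
  induction n with
  | zero => exact ⟨1, 0, by simp⟩
  | succ n ih =>
    obtain ⟨a, b, h⟩ := ih
    refine ⟨- b * G.det, a + b * G.trace, ?_⟩
    rw [pow_succ, h, add_mul, smul_mul_assoc, smul_mul_assoc, one_mul, ch2 G]
    simp only [smul_sub, smul_smul, add_smul, neg_smul, neg_mul]
    abel

/-- In characteristic 2, a matrix of det 1 with `H * H = 1` and `H ≠ 1` has trace zero. -/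
theorem trace_zero_of_sq (G : Matrix (Fin 2) (Fin 2) F) (hdet : G.det = 1) (r : F)
    (hsq : G * G = r • (1 : Matrix (Fin 2) (Fin 2) F))
    (hns : ∀ c : F, G ≠ c • (1 : Matrix (Fin 2) (Fin 2) F)) : G.trace = 0 := by
  by_contra htr
  have h := ch2 G
  rw [hdet, hsq, one_smul] at h
  apply hns ((r + 1) / G.trace)
  have h2 : G.trace • G = (r + 1) • (1 : Matrix (Fin 2) (Fin 2) F) := by
    rw [add_smul, one_smul, h]; abel
  have := congrArg (fun X => (G.trace)⁻¹ • X) h2
  simp only [smul_smul, inv_mul_cancel₀ htr, one_smul] at this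
  rw [div_eq_inv_mul]; exact this

/-- In characteristic 2, an element of `SL(2,F)` of nonzero trace has odd order. -/
theorem odd_order_char_two [Finite F] [CharP F 2] (g : SpecialLinearGroup (Fin 2) F)
    (htr : (g : Matrix (Fin 2) (Fin 2) F).trace ≠ 0) : Odd (orderOf g) := by
  have h2 : (2 : F) = 0 := by
    have := CharP.cast_eq_zero F 2
    exact_mod_cast this
  have hpos : 0 < orderOf g := orderOf_pos g
  by_contra hodd
  rw [Nat.not_odd_iff_even] at hodd
  obtain ⟨m, hm⟩ := hodd
  have hmpos : 0 < m := by omega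
  have hmlt : m < orderOf g := by omega
  have hne : g ^ m ≠ 1 := pow_ne_one_of_lt_orderOf hmpos.ne' hmlt
  have hsq : g ^ m * g ^ m = 1 := by rw [← pow_add, ← hm]; exact pow_orderOf_eq_one g
  set H : Matrix (Fin 2) (Fin 2) F := (g : Matrix (Fin 2) (Fin 2) F) ^ m with hH
  have hHdet : H.det = 1 := by
    rw [hH, Matrix.det_pow, Matrix.SpecialLinearGroup.det_coe, one_pow]
  have hHsq : H * H = (1 : F) • (1 : Matrix (Fin 2) (Fin 2) F) := by
    rw [one_smul]
    have := congrArg (fun x : SpecialLinearGroup (Fin 2) F => (x : Matrix (Fin 2) (Fin 2) F)) hsq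
    simpa using this
  have hns : ∀ c : F, H ≠ c • (1 : Matrix (Fin 2) (Fin 2) F) := by
    intro c hc
    have hdet : c * c = 1 := by
      have := hHdet
      rw [hc] at this
      simpa [Matrix.det_smul, pow_two] using this
    have hc1 : c = 1 := by
      have : (c - 1) * (c - 1) = 0 := by linear_combination hdet - (c - 1) * h2
      have := mul_self_eq_zero.mp this
      linear_combination this
    apply hne
    apply Subtype.ext
    rw [Matrix.SpecialLinearGroup.coe_pow, ← hH, hc, hc1, one_smul]; rfl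
  have htrH : H.trace = 0 := trace_zero_of_sq H hHdet 1 hHsq hns
  obtain ⟨a, b, hab⟩ := pow_lin (g : Matrix (Fin 2) (Fin 2) F) m
  have hH' : H = a • (1 : Matrix (Fin 2) (Fin 2) F) + b • (g : Matrix (Fin 2) (Fin 2) F) := by
    rw [← hab]
  have : b * (g : Matrix (Fin 2) (Fin 2) F).trace = 0 := by
    have h := htrH
    rw [hH'] at h
    simp only [Matrix.trace_add, Matrix.trace_smul, Matrix.trace_one, Fintype.card_fin,
      smul_eq_mul] at h
    have h2' : ((2 : ℕ) : F) = 0 := by exact_mod_cast h2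
    rw [h2', mul_zero, zero_add] at h
    exact h
  have hb : b = 0 := by
    rcases mul_eq_zero.mp this with h | h
    · exact h
    · exact absurd h htr
  apply hns a
  rw [hH', hb, zero_smul, add_zero]


/-! ## Part 2: the interface with `SL(2,F)` and `PSL(2,F)` -/

/-- the quotient map `SL(2,F) → PSL(2,F)` -/
def proj : SpecialLinearGroup (Fin 2) F →* ProjectiveSpecialLinearGroup (Fin 2) F :=
  QuotientGroup.mk' _

theorem proj_surj : Function.Surjective (proj (F := F)) := QuotientGroup.mk'_surjective _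

theorem proj_eq_one_iff (g : SpecialLinearGroup (Fin 2) F) :
    proj g = 1 ↔ g ∈ Subgroup.center (SpecialLinearGroup (Fin 2) F) := by
  unfold proj
  rw [QuotientGroup.mk'_apply, QuotientGroup.eq_one_iff]

theorem scalar_mem_center (g : SpecialLinearGroup (Fin 2) F) (e : F)
    (h : (g : Matrix (Fin 2) (Fin 2) F) = e • (1 : Matrix (Fin 2) (Fin 2) F)) :
    g ∈ Subgroup.center (SpecialLinearGroup (Fin 2) F) := by
  rw [Matrix.SpecialLinearGroup.mem_center_iff]
  refine ⟨e, ?_, ?_⟩
  · have := Matrix.SpecialLinearGroup.det_coe g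
    rw [h] at this
    simpa [Matrix.det_smul] using this
  · rw [h, Matrix.scalar_apply, Matrix.smul_one_eq_diagonal]

theorem center_scalar (g : SpecialLinearGroup (Fin 2) F)
    (h : g ∈ Subgroup.center (SpecialLinearGroup (Fin 2) F)) :
    ∃ e : F, (g : Matrix (Fin 2) (Fin 2) F) = e • (1 : Matrix (Fin 2) (Fin 2) F) := by
  rw [Matrix.SpecialLinearGroup.mem_center_iff] at h
  obtain ⟨r, _, hr⟩ := h
  refine ⟨r, ?_⟩
  rw [← hr, Matrix.scalar_apply, Matrix.smul_one_eq_diagonal]

/-- some odd power is a scalar matrix -/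
def OddPow (g : SpecialLinearGroup (Fin 2) F) : Prop :=
  ∃ n : ℕ, Odd n ∧ ∃ e : F, (g : Matrix (Fin 2) (Fin 2) F) ^ n = e • (1 : Matrix (Fin 2) (Fin 2) F)

theorem OddPow.odd_order {g : SpecialLinearGroup (Fin 2) F} (h : OddPow g) :
    Odd (orderOf (proj g)) := by
  obtain ⟨n, hn, e, he⟩ := h
  apply odd_orderOf_of_pow _ n hn
  rw [← map_pow, proj_eq_one_iff]
  apply scalar_mem_center _ e
  rw [Matrix.SpecialLinearGroup.coe_pow, he]

/-- every involution of `PSL(2,F)` lifts to a matrix of trace zero -/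
theorem exists_lift_trace_zero (t : ProjectiveSpecialLinearGroup (Fin 2) F) (ht : orderOf t = 2) :
    ∃ g : SpecialLinearGroup (Fin 2) F, proj g = t ∧ (g : Matrix (Fin 2) (Fin 2) F).trace = 0 := by
  obtain ⟨g, rfl⟩ := proj_surj t
  refine ⟨g, rfl, ?_⟩
  have h1 : proj g ≠ 1 := by
    intro h
    rw [h, orderOf_one] at ht
    omega
  have h2 : proj (g * g) = 1 := by
    rw [map_mul, ← pow_two]
    have := pow_orderOf_eq_one (proj g)
    rwa [ht] at this
  rw [proj_eq_one_iff] at h2
  obtain ⟨r, hr⟩ := center_scalar _ h2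
  rw [Matrix.SpecialLinearGroup.coe_mul] at hr
  apply trace_zero_of_sq _ (Matrix.SpecialLinearGroup.det_coe g) r hr
  intro c hc
  apply h1
  rw [proj_eq_one_iff]
  exact scalar_mem_center g c hc

/-- a non-central element of trace zero gives an involution -/
theorem orderOf_proj_eq_two (g : SpecialLinearGroup (Fin 2) F)
    (htr : (g : Matrix (Fin 2) (Fin 2) F).trace = 0)
    (hnc : g ∉ Subgroup.center (SpecialLinearGroup (Fin 2) F)) : orderOf (proj g) = 2 := by
  apply orderOf_eq_prime
  · rw [pow_two, ← map_mul, proj_eq_one_iff]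
    apply scalar_mem_center _ (-1)
    rw [Matrix.SpecialLinearGroup.coe_mul, ch2, htr, Matrix.SpecialLinearGroup.det_coe]
    simp
  · rw [Ne, proj_eq_one_iff]; exact hnc


/-! ## Part 3: trace-zero elements in coordinates -/

/-- the trace-zero element `!![a, b; c, -a]` of `SL(2,F)` -/
def tz (a b c : F) (h : a * a + b * c = -1) : SpecialLinearGroup (Fin 2) F :=
  ⟨!![a, b; c, -a], by rw [Matrix.det_fin_two_of]; linear_combination -h⟩

theorem tz_coe (a b c : F) (h : a * a + b * c = -1) :
    (tz a b c h : Matrix (Fin 2) (Fin 2) F) = !![a, b; c, -a] := rfl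

theorem tz_trace (a b c : F) (h : a * a + b * c = -1) :
    (tz a b c h : Matrix (Fin 2) (Fin 2) F).trace = 0 := by
  rw [tz_coe, Matrix.trace_fin_two_of]; ring

theorem exists_tz (g : SpecialLinearGroup (Fin 2) F)
    (htr : (g : Matrix (Fin 2) (Fin 2) F).trace = 0) :
    ∃ (a b c : F) (h : a * a + b * c = -1), g = tz a b c h := by
  induction g using Matrix.SpecialLinearGroup.fin_two_induction with
  | h a b c d hdet =>
    have hd : d = -a := by
      have : a + d = 0 := by simpa [Matrix.trace_fin_two_of] using htr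
      linear_combination this
    subst hd
    refine ⟨a, b, c, by linear_combination -hdet, ?_⟩
    rfl

theorem tz_mul_trace (a b c a' b' c' : F) (h : a * a + b * c = -1) (h' : a' * a' + b' * c' = -1) :
    ((tz a b c h * tz a' b' c' h' : SpecialLinearGroup (Fin 2) F) :
      Matrix (Fin 2) (Fin 2) F).trace = 2 * a * a' + b * c' + c * b' := by
  rw [Matrix.SpecialLinearGroup.coe_mul, tz_coe, tz_coe, Matrix.mul_fin_two,
    Matrix.trace_fin_two_of]
  ring

theorem tz_not_center (a b c : F) (h : a * a + b * c = -1) (hbc : b ≠ 0 ∨ c ≠ 0) :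
    tz a b c h ∉ Subgroup.center (SpecialLinearGroup (Fin 2) F) := by
  intro hc
  obtain ⟨e, he⟩ := center_scalar _ hc
  rw [tz_coe] at he
  have h01 := congrFun (congrFun he 0) 1
  have h10 := congrFun (congrFun he 1) 0
  simp at h01 h10
  rcases hbc with hb | hc'
  · exact hb h01
  · exact hc' h10

theorem tz_not_center_odd (h2 : (2 : F) ≠ 0) (a b c : F) (h : a * a + b * c = -1) :
    tz a b c h ∉ Subgroup.center (SpecialLinearGroup (Fin 2) F) := by
  intro hc
  obtain ⟨e, he⟩ := center_scalar _ hc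
  rw [tz_coe] at he
  have h01 := congrFun (congrFun he 0) 1
  have h10 := congrFun (congrFun he 1) 0
  have h00 := congrFun (congrFun he 0) 0
  have h11 := congrFun (congrFun he 1) 1
  simp at h01 h10 h00 h11
  have ha : a = 0 := by
    have : 2 * a = 0 := by linear_combination h00 - h11
    rcases mul_eq_zero.mp this with h | h
    · exact absurd h h2
    · exact h
  rw [ha, h01, h10] at h
  have : (1 : F) = 0 := by linear_combination h
  exact one_ne_zero this

theorem tz_bc_of_not_center_char_two [CharP F 2] (a b c : F) (h : a * a + b * c = -1)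
    (hnc : tz a b c h ∉ Subgroup.center (SpecialLinearGroup (Fin 2) F)) : b ≠ 0 ∨ c ≠ 0 := by
  have h2 : (2 : F) = 0 := by
    have := CharP.cast_eq_zero F 2
    exact_mod_cast this
  by_contra hcon
  push Not at hcon
  obtain ⟨hb, hc⟩ := hcon
  apply hnc
  have ha : a = 1 := by
    have : (a - 1) * (a - 1) = 0 := by
      rw [hb] at h
      linear_combination h - a * h2
    have := mul_self_eq_zero.mp this
    linear_combination this
  apply scalar_mem_center _ 1
  rw [tz_coe, ha, hb, hc, one_smul, Matrix.one_fin_two]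
  have : (-1 : F) = 1 := by linear_combination -h2
  rw [this]

theorem tz_mul_coe (a b c e f g : F) (h : a * a + b * c = -1) (hC : e * e + f * g = -1) :
    ((tz a b c h * tz e f g hC : SpecialLinearGroup (Fin 2) F) : Matrix (Fin 2) (Fin 2) F) =
      !![a * e + b * g, a * f - b * e; c * e - a * g, c * f + a * e] := by
  rw [Matrix.SpecialLinearGroup.coe_mul, tz_coe, tz_coe, Matrix.mul_fin_two]
  congr 1
  ext i j
  fin_cases i <;> fin_cases j <;> simp <;> ring

theorem tz_mul_not_center (a b c e f g : F) (h : a * a + b * c = -1) (hC : e * e + f * g = -1)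
    (hne : a * f - b * e ≠ 0 ∨ c * e - a * g ≠ 0) :
    tz a b c h * tz e f g hC ∉ Subgroup.center (SpecialLinearGroup (Fin 2) F) := by
  intro hc
  obtain ⟨r, hr⟩ := center_scalar _ hc
  rw [tz_mul_coe] at hr
  have h01 := congrFun (congrFun hr 0) 1
  have h10 := congrFun (congrFun hr 1) 0
  simp at h01 h10
  rcases hne with h1 | h1
  · exact h1 h01
  · exact h1 h10

theorem oddpow_char_two [Finite F] [CharP F 2] (g : SpecialLinearGroup (Fin 2) F)
    (htr : (g : Matrix (Fin 2) (Fin 2) F).trace ≠ 0) : OddPow g := by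
  refine ⟨orderOf g, odd_order_char_two g htr, 1, ?_⟩
  rw [← Matrix.SpecialLinearGroup.coe_pow, pow_orderOf_eq_one, one_smul]
  rfl

theorem common_nbr_char_two [Finite F] [CharP F 2] (a b c a' b' c' : F)
    (h : a * a + b * c = -1) (h' : a' * a' + b' * c' = -1)
    (hbc : b ≠ 0 ∨ c ≠ 0) (hbc' : b' ≠ 0 ∨ c' ≠ 0) :
    ∃ (e f g : F) (hC : e * e + f * g = -1), (f ≠ 0 ∨ g ≠ 0) ∧
      OddPow (tz a b c h * tz e f g hC) ∧ OddPow (tz e f g hC * tz a' b' c' h') := by
  have h2 : (2 : F) = 0 := by
    have := CharP.cast_eq_zero F 2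
    exact_mod_cast this
  -- it suffices to find `(f, g)` with both linear forms nonzero, among three candidates
  have key : ∀ (e f g : F) (hC : e * e + f * g = -1), (f ≠ 0 ∨ g ≠ 0) →
      b * g + c * f ≠ 0 → f * c' + g * b' ≠ 0 →
      ∃ (e f g : F) (hC : e * e + f * g = -1), (f ≠ 0 ∨ g ≠ 0) ∧
      OddPow (tz a b c h * tz e f g hC) ∧ OddPow (tz e f g hC * tz a' b' c' h') := by
    intro e f g hC hfg h1 h2'
    refine ⟨e, f, g, hC, hfg, ?_, ?_⟩
    · apply oddpow_char_two
      rw [tz_mul_trace]
      intro hz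
      apply h1
      linear_combination hz - a * e * h2
    · apply oddpow_char_two
      rw [tz_mul_trace]
      intro hz
      apply h2'
      linear_combination hz - e * a' * h2
  have hC10 : (1 : F) * 1 + 1 * 0 = -1 := by linear_combination h2
  have hC01 : (1 : F) * 1 + 0 * 1 = -1 := by linear_combination h2
  have hC11 : (0 : F) * 0 + 1 * 1 = -1 := by linear_combination h2
  by_cases hc : c = 0
  · have hb : b ≠ 0 := by
      rcases hbc with hb | hc'
      · exact hb
      · exact absurd hc hc'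
    by_cases hb' : b' = 0
    · have hc' : c' ≠ 0 := by
        rcases hbc' with hb'' | hc'
        · exact absurd hb' hb''
        · exact hc'
      apply key 0 1 1 hC11 (Or.inl one_ne_zero)
      · rw [hc]; simpa using hb
      · rw [hb']; simpa using hc'
    · apply key 1 0 1 hC01 (Or.inr one_ne_zero)
      · rw [hc]; simpa using hb
      · simpa using hb'
  · by_cases hc' : c' = 0
    · have hb' : b' ≠ 0 := by
        rcases hbc' with hb'' | hc''
        · exact hb''
        · exact absurd hc' hc''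
      by_cases hb : b = 0
      · apply key 0 1 1 hC11 (Or.inl one_ne_zero)
        · rw [hb]; simpa using hc
        · rw [hc']; simpa using hb'
      · apply key 1 0 1 hC01 (Or.inr one_ne_zero)
        · simpa using hb
        · simpa using hb'
    · apply key 1 1 0 hC10 (Or.inl one_ne_zero)
      · simpa using hc
      · simpa using hc'

theorem commuting_char_two [CharP F 2] (k : F) (hk0 : k ≠ 0) (hk : k ≠ 1) (a b c : F)
    (h : a * a + b * c = -1) (hbc : b ≠ 0 ∨ c ≠ 0) :
    ∃ (e f g : F) (hC : e * e + f * g = -1),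
      tz e f g hC ∉ Subgroup.center (SpecialLinearGroup (Fin 2) F) ∧
      ((tz a b c h * tz e f g hC : SpecialLinearGroup (Fin 2) F) :
        Matrix (Fin 2) (Fin 2) F).trace = 0 ∧
      tz a b c h * tz e f g hC ∉ Subgroup.center (SpecialLinearGroup (Fin 2) F) := by
  have h2 : (2 : F) = 0 := by
    have := CharP.cast_eq_zero F 2
    exact_mod_cast this
  have hk1 : 1 + k ≠ 0 := by
    intro hz
    apply hk
    linear_combination hz - h2
  have hC : (1 + k * (a + 1)) * (1 + k * (a + 1)) + (k * b) * (k * c) = -1 := by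
    linear_combination k ^ 2 * h + (1 + k * (a + 1) + k^2 * a) * h2
  have hoff : a * (k * b) - b * (1 + k * (a + 1)) ≠ 0 ∨
      c * (1 + k * (a + 1)) - a * (k * c) ≠ 0 := by
    rcases hbc with hb | hc
    · left
      have : a * (k * b) - b * (1 + k * (a + 1)) = -(b * (1 + k)) := by ring
      rw [this]
      exact neg_ne_zero.mpr (mul_ne_zero hb hk1)
    · right
      have : c * (1 + k * (a + 1)) - a * (k * c) = c * (1 + k) := by ring
      rw [this]
      exact mul_ne_zero hc hk1
  refine ⟨1 + k * (a + 1), k * b, k * c, hC, ?_, ?_, ?_⟩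
  · apply tz_not_center
    rcases hbc with hb | hc
    · exact Or.inl (mul_ne_zero hk0 hb)
    · exact Or.inr (mul_ne_zero hk0 hc)
  · rw [tz_mul_trace]
    linear_combination (a * (1 + k * (a + 1)) + k * b * c) * h2
  · exact tz_mul_not_center _ _ _ _ _ _ _ _ hoff

theorem oddpow_of_trace_pm_two (p : ℕ) [Fact p.Prime] [CharP F p] (hp : p ≠ 2)
    (g : SpecialLinearGroup (Fin 2) F)
    (h : (g : Matrix (Fin 2) (Fin 2) F).trace = 2 ∨ (g : Matrix (Fin 2) (Fin 2) F).trace = -2) :
    OddPow g := by
  have hodd : Odd p := (Fact.out : p.Prime).odd_of_ne_two hp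
  rcases h with h | h
  · refine ⟨p, hodd, 1, ?_⟩
    rw [one_smul]
    exact unip_pow p _ (Matrix.SpecialLinearGroup.det_coe g) h
  · refine ⟨p, hodd, -1, ?_⟩
    have hdet : (-(g : Matrix (Fin 2) (Fin 2) F)).det = 1 := by
      rw [Matrix.det_neg, Matrix.SpecialLinearGroup.det_coe]; simp
    have htr : (-(g : Matrix (Fin 2) (Fin 2) F)).trace = 2 := by
      rw [Matrix.trace_neg, h]; ring
    have := unip_pow p _ hdet htr
    rw [Odd.neg_pow hodd] at this
    rw [neg_smul, one_smul, ← this, neg_neg]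

theorem oddpow_of_split [Fintype F] (p : ℕ) [Fact p.Prime] [CharP F p] (hp : p ≠ 2)
    (hq : Fintype.card F % 4 = 3)
    (g : SpecialLinearGroup (Fin 2) F) (l : F) (hl : l ≠ 0)
    (htr : (g : Matrix (Fin 2) (Fin 2) F).trace = l + l⁻¹) : OddPow g := by
  by_cases hll : l = l⁻¹
  · have hl2 : l * l = 1 := by
      nth_rewrite 2 [hll]; exact mul_inv_cancel₀ hl
    have : (l - 1) * (l + 1) = 0 := by linear_combination hl2
    apply oddpow_of_trace_pm_two p hp
    rcases mul_eq_zero.mp this with h1 | h1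
    · left
      have : l = 1 := by linear_combination h1
      rw [htr, this]; norm_num
    · right
      have : l = -1 := by linear_combination h1
      rw [htr, this]; norm_num
  · set n := (Fintype.card F - 1) / 2 with hn
    have hnodd : Odd n := by
      rw [Nat.odd_iff]; omega
    have hnn : n + n = Fintype.card F - 1 := by omega
    have he : l ^ n * l ^ n = 1 := by
      rw [← pow_add, hnn]; exact FiniteField.pow_card_sub_one_eq_one l hl
    refine ⟨n, hnodd, l ^ n, ?_⟩
    apply split_pow_scalar _ (Matrix.SpecialLinearGroup.det_coe g) l l⁻¹ htr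
      (mul_inv_cancel₀ hl) hll n (l ^ n) rfl
    rw [inv_pow]
    exact inv_eq_of_mul_eq_one_right he

theorem isSquare_or_neg [Fintype F] (hni : ¬ IsSquare (-1 : F)) (x : F) :
    IsSquare x ∨ IsSquare (-x) := by
  classical
  by_cases hx : x = 0
  · left; rw [hx]; exact IsSquare.zero
  · rcases quadraticChar_dichotomy hx with h | h
    · left; exact (quadraticChar_one_iff_isSquare hx).mp h
    · right
      have h1 : quadraticChar F (-1) = -1 := quadraticChar_neg_one_iff_not_isSquare.mpr hni
      have : quadraticChar F (-x) = 1 := by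
        rw [show -x = (-1) * x by ring, map_mul, h1, h]; norm_num
      exact (quadraticChar_one_iff_isSquare (neg_ne_zero.mpr hx)).mp this

theorem br_core (a b c a' b' c' τ α γ s : F) (h : a * a + b * c = -1)
    (h' : a' * a' + b' * c' = -1) (hτ : τ = 2 * a * a' + b * c' + c * b')
    (hα : (2 - τ) * α = -s)
    (hN : (2 - τ) * α ^ 2 + (2 - τ) * (2 + τ) * γ ^ 2 = 1) :
    ∃ (e f g : F), e * e + f * g = -1 ∧ 2 * a * e + b * g + c * f = s ∧
      2 * e * a' + f * c' + g * b' = s := by
  subst hτ
  refine ⟨α * (a + a') + γ * (b * c' - c * b'), α * (b + b') + 2 * γ * (a * b' - b * a'),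
    α * (c + c') + 2 * γ * (c * a' - a * c'), ?_, ?_, ?_⟩
  · linear_combination (-1) * hN + (α ^ 2 + 4 * γ ^ 2 - 4 * γ ^ 2 * (a' * a' + b' * c' + 1)) * h +
      (α ^ 2 + 4 * γ ^ 2) * h'
  · linear_combination 2 * α * h - hα
  · linear_combination 2 * α * h' - hα

theorem br_exists (a b c a' b' c' τ s w : F) (h : a * a + b * c = -1)
    (h' : a' * a' + b' * c' = -1) (hτ : τ = 2 * a * a' + b * c' + c * b')
    (hu : 2 - τ ≠ 0) (hv : 2 + τ ≠ 0)
    (hw : w * w = (2 - τ - s * s) * (2 + τ)) :
    ∃ (e f g : F), e * e + f * g = -1 ∧ 2 * a * e + b * g + c * f = s ∧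
      2 * e * a' + f * c' + g * b' = s := by
  apply br_core a b c a' b' c' τ (-s / (2 - τ)) (w / ((2 - τ) * (2 + τ))) s h h' hτ
  · field_simp
  · field_simp
    linear_combination hw

/-- the key existence statement over a field with `q ≡ 3 mod 4` -/
theorem exists_rho [Fintype F] (hni : ¬ IsSquare (-1 : F)) (h2 : (2 : F) ≠ 0)
    (hcard : 4 ≤ Fintype.card F) (τ : F) (hu : 2 - τ ≠ 0) (hv : 2 + τ ≠ 0) :
    ∃ ρ : F, ρ ≠ 0 ∧ IsSquare (-(ρ ^ 2 + τ * ρ + 1) * (2 + τ)) := by
  classical
  have h4 : (4 : F) ≠ 0 := by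
    have : (4 : F) = 2 * 2 := by norm_num
    rw [this]; exact mul_ne_zero h2 h2
  by_cases hvs : IsSquare (2 + τ)
  · -- need a `ρ` with `-(ρ² + τρ + 1)` a square
    by_contra hcon
    push Not at hcon
    have hall : ∀ ρ : F, IsSquare (ρ ^ 2 + τ * ρ + 1) := by
      intro ρ
      by_cases hρ : ρ = 0
      · rw [hρ]; simp
      · rcases isSquare_or_neg hni (ρ ^ 2 + τ * ρ + 1) with h | h
        · exact h
        · exfalso
          apply hcon ρ hρ
          rw [neg_mul]
          rw [← neg_mul]
          exact h.mul hvs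
    -- the map `S ↦ ((2-τ)(2+τ)/S - S - 2τ)/4` from the units is onto
    have hsurj : Function.Surjective
        (fun S : Fˣ => ((2 - τ) * (2 + τ) / (S : F) - S - 2 * τ) / 4) := by
      intro ρ
      obtain ⟨y, hy⟩ := hall ρ
      have hprod : (2 * y - 2 * ρ - τ) * (2 * y + 2 * ρ + τ) = (2 - τ) * (2 + τ) := by
        linear_combination (-4) * hy
      have hS : 2 * y - 2 * ρ - τ ≠ 0 := by
        intro hz
        rw [hz, zero_mul] at hprod
        exact (mul_ne_zero hu hv) hprod.symm
      refine ⟨Units.mk0 _ hS, ?_⟩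
      simp only [Units.val_mk0]
      rw [← hprod, mul_div_cancel_left₀ _ hS]
      field_simp
      ring
    have hle := Fintype.card_le_of_surjective _ hsurj
    rw [Fintype.card_units] at hle
    have : 0 < Fintype.card F := Fintype.card_pos
    omega
  · -- `-(2+τ)` is a square; need `ρ ≠ 0` with `ρ² + τρ + 1` a square
    have hvs' : IsSquare (-(2 + τ)) := by
      rcases isSquare_or_neg hni (2 + τ) with h | h
      · exact absurd h hvs
      · exact h
    -- pick `S ∉ {0, 2 - τ, -(2+τ)}`
    have hS : ∃ S : F, S ≠ 0 ∧ S ≠ 2 - τ ∧ S ≠ -(2 + τ) := by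
      by_contra hcon
      push Not at hcon
      have hsub : (Finset.univ : Finset F) ⊆ {0, 2 - τ, -(2 + τ)} := by
        intro S _
        simp only [Finset.mem_insert, Finset.mem_singleton]
        by_cases h0 : S = 0
        · exact Or.inl h0
        · by_cases h1 : S = 2 - τ
          · exact Or.inr (Or.inl h1)
          · exact Or.inr (Or.inr (hcon S h0 h1))
      have := Finset.card_le_card hsub
      rw [Finset.card_univ] at this
      have h3 : ({0, 2 - τ, -(2 + τ)} : Finset F).card ≤ 3 := Finset.card_le_three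
      omega
    obtain ⟨S, hS0, hS1, hS2⟩ := hS
    refine ⟨-((S - (2 - τ)) * (S + (2 + τ))) / (4 * S), ?_, ?_⟩
    · apply div_ne_zero
      · apply neg_ne_zero.mpr
        apply mul_ne_zero
        · exact sub_ne_zero.mpr hS1
        · intro hz; apply hS2; linear_combination hz
      · exact mul_ne_zero h4 hS0
    · have hf : (-((S - (2 - τ)) * (S + (2 + τ))) / (4 * S)) ^ 2 +
          τ * (-((S - (2 - τ)) * (S + (2 + τ))) / (4 * S)) + 1 =
          ((S ^ 2 + (2 - τ) * (2 + τ)) / (4 * S)) * ((S ^ 2 + (2 - τ) * (2 + τ)) / (4 * S)) := by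
        field_simp
        ring
      rw [hf, neg_mul, ← mul_neg]
      exact (IsSquare.mul_self _).mul hvs'

theorem exists_split_param [Fintype F] (hni : ¬ IsSquare (-1 : F)) (h2 : (2 : F) ≠ 0)
    (hcard : 4 ≤ Fintype.card F) (τ : F) (hu : 2 - τ ≠ 0) (hv : 2 + τ ≠ 0)
    (hsq : IsSquare ((2 - τ) * (2 + τ))) :
    ∃ l w : F, l ≠ 0 ∧ (w * w = (2 - τ - (l + l⁻¹) * (l + l⁻¹)) * (2 + τ) ∨
      w * w = (2 + τ - (l + l⁻¹) * (l + l⁻¹)) * (2 - τ)) := by
  obtain ⟨ρ, hρ, w₀, hw₀⟩ := exists_rho hni h2 hcard τ hu hv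
  rcases isSquare_or_neg hni ρ with ⟨l, hl⟩ | ⟨l, hl⟩
  · have hl0 : l ≠ 0 := by
      intro hz; apply hρ; rw [hl, hz, mul_zero]
    refine ⟨l, w₀ / l, hl0, Or.inl ?_⟩
    subst hl
    field_simp
    linear_combination -hw₀
  · have hl0 : l ≠ 0 := by
      intro hz; apply hρ
      have : -ρ = 0 := by rw [hl, hz, mul_zero]
      exact neg_eq_zero.mp this
    obtain ⟨d, hd⟩ := hsq
    have hρ' : ρ = -(l * l) := by rw [← hl, neg_neg]
    refine ⟨l, w₀ * d / ((2 + τ) * l), hl0, Or.inr ?_⟩
    subst hρ'
    field_simp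
    linear_combination (-(2 - τ) * (2 + τ)) * hw₀ - w₀ ^ 2 * hd

theorem common_nbr_odd [Fintype F] (p : ℕ) [Fact p.Prime] [CharP F p] (hp : p ≠ 2)
    (hcard : 4 ≤ Fintype.card F) (a b c a' b' c' : F)
    (h : a * a + b * c = -1) (h' : a' * a' + b' * c' = -1) :
    ∃ (e f g : F) (hC : e * e + f * g = -1),
      OddPow (tz a b c h * tz e f g hC) ∧ OddPow (tz e f g hC * tz a' b' c' h') := by
  have hchar : ringChar F ≠ 2 := by rw [ringChar.eq F p]; exact hp
  have h2 : (2 : F) ≠ 0 := Ring.two_ne_zero hchar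
  obtain ⟨τ, hτ⟩ : ∃ τ : F, τ = 2 * a * a' + b * c' + c * b' := ⟨_, rfl⟩
  have hAA : ((tz a b c h * tz a b c h : SpecialLinearGroup (Fin 2) F) :
      Matrix (Fin 2) (Fin 2) F).trace = -2 := by
    rw [tz_mul_trace]; linear_combination 2 * h
  by_cases hτ2 : τ = 2 ∨ τ = -2
  · refine ⟨a, b, c, h, ?_, ?_⟩
    · exact oddpow_of_trace_pm_two p hp _ (Or.inr hAA)
    · apply oddpow_of_trace_pm_two p hp
      rw [tz_mul_trace, ← hτ]; exact hτ2
  · push Not at hτ2
    have hu : 2 - τ ≠ 0 := by
      intro hz; apply hτ2.1; linear_combination -hz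
    have hv : 2 + τ ≠ 0 := by
      intro hz; apply hτ2.2; linear_combination hz
    by_cases hi : IsSquare (-1 : F)
    · obtain ⟨i, hi⟩ := hi
      obtain ⟨e, f, g, hC, h1, h2'⟩ := br_exists a b c a' b' c' τ 2 (i * (2 + τ)) h h' hτ hu hv
        (by linear_combination (-(2 + τ) ^ 2) * hi)
      refine ⟨e, f, g, hC, ?_, ?_⟩
      · apply oddpow_of_trace_pm_two p hp
        rw [tz_mul_trace]; exact Or.inl h1
      · apply oddpow_of_trace_pm_two p hp
        rw [tz_mul_trace]; exact Or.inl h2'
    · have hq : Fintype.card F % 4 = 3 := by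
        by_contra hq
        exact hi (FiniteField.isSquare_neg_one_iff.mpr hq)
      by_cases hsq : IsSquare (τ * τ - 4)
      · obtain ⟨r, hr⟩ := hsq
        refine ⟨a, b, c, h, ?_, ?_⟩
        · exact oddpow_of_trace_pm_two p hp _ (Or.inr hAA)
        · have hl : (τ + r) / 2 * ((τ - r) / 2) = 1 := by
            field_simp
            linear_combination hr
          have hl0 : (τ + r) / 2 ≠ 0 := left_ne_zero_of_mul_eq_one hl
          have hinv : ((τ + r) / 2)⁻¹ = (τ - r) / 2 := inv_eq_of_mul_eq_one_right hl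
          apply oddpow_of_split p hp hq _ ((τ + r) / 2) hl0
          rw [tz_mul_trace, ← hτ, hinv]
          field_simp
          ring
      · have hsq' : IsSquare ((2 - τ) * (2 + τ)) := by
          rcases isSquare_or_neg hi (τ * τ - 4) with h0 | h0
          · exact absurd h0 hsq
          · have : (2 - τ) * (2 + τ) = -(τ * τ - 4) := by ring
            rw [this]; exact h0
        obtain ⟨l, w, hl0, hw | hw⟩ := exists_split_param hi h2 hcard τ hu hv hsq'
        · obtain ⟨e, f, g, hC, h1, h2'⟩ :=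
            br_exists a b c a' b' c' τ (l + l⁻¹) w h h' hτ hu hv hw
          refine ⟨e, f, g, hC, ?_, ?_⟩
          · apply oddpow_of_split p hp hq _ l hl0
            rw [tz_mul_trace]; exact h1
          · apply oddpow_of_split p hp hq _ l hl0
            rw [tz_mul_trace]; exact h2'
        · have h'' : (-a') * (-a') + (-b') * (-c') = -1 := by linear_combination h'
          obtain ⟨e, f, g, hC, h1, h2'⟩ :=
            br_exists a b c (-a') (-b') (-c') (-τ) (l + l⁻¹) w h h'' (by rw [hτ]; ring)
              (by rw [sub_neg_eq_add]; exact hv) (by rw [← sub_eq_add_neg]; exact hu)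
              (by rw [hw]; ring)
          refine ⟨e, f, g, hC, ?_, ?_⟩
          · apply oddpow_of_split p hp hq _ l hl0
            rw [tz_mul_trace]; exact h1
          · apply oddpow_of_split p hp hq _ (-l) (neg_ne_zero.mpr hl0)
            rw [tz_mul_trace, inv_neg]
            linear_combination -h2'

theorem commuting_odd_core (p : ℕ) [Fact p.Prime] [CharP F p] (h2 : (2 : F) ≠ 0) (a b c : F)
    (h : a * a + b * c = -1) :
    ∃ (e f g : F), e * e + f * g = -1 ∧ 2 * a * e + b * g + c * f = 0 := by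
  have : NeZero p := ⟨(Fact.out : p.Prime).ne_zero⟩
  obtain ⟨m, n, hmn⟩ := CharP.sq_add_sq F p (-1)
  have hmn' : (m : F) ^ 2 + (n : F) ^ 2 = -1 := by
    rw [hmn]; simp
  by_cases hc : c = 0
  · have ha : a ≠ 0 := by
      intro hz
      rw [hz, hc] at h
      have : (1 : F) = 0 := by linear_combination h
      exact one_ne_zero this
    refine ⟨-b / (2 * a), -1 - (-b / (2 * a)) * (-b / (2 * a)), 1, by ring, ?_⟩
    rw [hc]
    field_simp
    ring
  · refine ⟨m + a * n, -(2 * a * (m + a * n) + b * c * n) / c, c * n, ?_, ?_⟩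
    · field_simp
      linear_combination hmn' - (n : F) ^ 2 * h
    · field_simp
      ring


end Cfsg.Agent.Lib.Helper95.PSL2Inv
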