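import Mathlib
import Cfsg.Prelude.Def_Local
import Cfsg.Prelude.Def_Transfer
import Cfsg.Agent.Lib.Helper26.PGV.End2Defs
import Cfsg.Agent.Lib.Helper6.PgvE5Alg

/-!
# Project PGV (S3086), sub-project END2 (helper26's sheet): module [SIMPLE-STRUCT], front part (helper95)

* [SS-A] `simple_of_sigma_simple`: a `σ`-simple ring (with the data of `simple_struct`) is simple;
* [SS-B] `exists_matrix_field`: Wedderburn + little Wedderburn: `R ≃+* M_n(F)`, `F` a finite field of characteristic `2`;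
* [SS-C] `norm_central`, `eq_two_of_equiv`: `x σ(x)` is central, hence `n = 2`.
-/

set_option autoImplicit false

namespace Cfsg.Agent.Lib.Helper26.PGV.H95

open Cfsg Cfsg.Agent.Lib.Helper26.PGV

universe u

variable {R : Type u} [Ring R]

/-- `σ 1 = 1` for an anti-multiplicative involution -/
theorem sigma_one (σ : R →+ R) (hσmul : ∀ x y, σ (x * y) = σ y * σ x) (hσσ : ∀ x, σ (σ x) = x) :
    σ 1 = 1 := by
  have h1 : σ (σ 1 * 1) = σ 1 * σ (σ 1) := hσmul (σ 1) 1
  rw [mul_one, hσσ, mul_one] at h1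
  exact h1.symm

/-- a commutative ring has no perfect nontrivial group of units -/
theorem K_eq_bot_of_comm (hcomm : ∀ x y : R, x * y = y * x) (K : Subgroup Rˣ) (hKperf : ⁅K, K⁆ = K) :
    K = ⊥ := by
  rw [← hKperf, Subgroup.commutator_eq_bot_iff_le_centralizer]
  intro u _
  rw [Subgroup.mem_centralizer_iff]
  intro v _
  apply Units.ext
  simp only [Units.val_mul]
  exact hcomm _ _

/-- **[SS-A]** a `σ`-simple ring is simple -/
theorem simple_of_sigma_simple
    (σ : R →+ R) (hσmul : ∀ x y, σ (x * y) = σ y * σ x) (hσσ : ∀ x, σ (σ x) = x)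
    (hT : ∀ x, x + σ x ∈ Subring.center R)
    (K : Subgroup Rˣ) (hKperf : ⁅K, K⁆ = K) (hKne : K ≠ ⊥)
    (hsimple : ∀ I : AddSubgroup R, IsTwoSided I → (∀ x ∈ I, σ x ∈ I) → I = ⊥ ∨ I = ⊤) :
    ∀ P : AddSubgroup R, IsTwoSided P → P = ⊥ ∨ P = ⊤ := by
  intro P hP
  by_contra hcon
  push Not at hcon
  obtain ⟨hPbot, hPtop⟩ := hcon
  set Q : AddSubgroup R := P.comap σ with hQdef
  have hmemQ : ∀ y, y ∈ Q ↔ σ y ∈ P := fun y => Iff.rfl
  have hQ : IsTwoSided Q := by
    intro y hy z
    rw [hmemQ] at hy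
    constructor
    · rw [hmemQ, hσmul]
      exact (hP _ hy (σ z)).2
    · rw [hmemQ, hσmul]
      exact (hP _ hy (σ z)).1
  -- `P ⊓ Q = ⊥`
  have hinf : P ⊓ Q = ⊥ := by
    have h2s : IsTwoSided (P ⊓ Q) := by
      intro x hx y
      have hx' := AddSubgroup.mem_inf.1 hx
      exact ⟨AddSubgroup.mem_inf.2 ⟨(hP x hx'.1 y).1, (hQ x hx'.2 y).1⟩,
        AddSubgroup.mem_inf.2 ⟨(hP x hx'.1 y).2, (hQ x hx'.2 y).2⟩⟩
    have hσ : ∀ x ∈ P ⊓ Q, σ x ∈ P ⊓ Q := by
      intro x hx
      have hx' := AddSubgroup.mem_inf.1 hx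
      exact AddSubgroup.mem_inf.2 ⟨(hmemQ x).1 hx'.2, (hmemQ _).2 (by rw [hσσ]; exact hx'.1)⟩
    rcases hsimple _ h2s hσ with h | h
    · exact h
    · exfalso
      apply hPtop
      rw [eq_top_iff, ← h]
      exact inf_le_left
  have hzero : ∀ x, x ∈ P → x ∈ Q → x = 0 := by
    intro x hxP hxQ
    have : x ∈ P ⊓ Q := AddSubgroup.mem_inf.2 ⟨hxP, hxQ⟩
    rw [hinf] at this
    exact AddSubgroup.mem_bot.1 this
  -- `P ⊔ Q = ⊤`
  have hsup : P ⊔ Q = ⊤ := by
    have h2s : IsTwoSided (P ⊔ Q) := by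
      intro x hx y
      obtain ⟨p, hp, q, hq, rfl⟩ := AddSubgroup.mem_sup.1 hx
      constructor
      · rw [mul_add]
        exact AddSubgroup.add_mem _ (AddSubgroup.mem_sup_left (hP p hp y).1)
          (AddSubgroup.mem_sup_right (hQ q hq y).1)
      · rw [add_mul]
        exact AddSubgroup.add_mem _ (AddSubgroup.mem_sup_left (hP p hp y).2)
          (AddSubgroup.mem_sup_right (hQ q hq y).2)
    have hσ : ∀ x ∈ P ⊔ Q, σ x ∈ P ⊔ Q := by
      intro x hx
      obtain ⟨p, hp, q, hq, rfl⟩ := AddSubgroup.mem_sup.1 hx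
      rw [map_add, add_comm]
      exact AddSubgroup.add_mem _ (AddSubgroup.mem_sup_left ((hmemQ q).1 hq))
        (AddSubgroup.mem_sup_right ((hmemQ _).2 (by rw [hσσ]; exact hp)))
    rcases hsimple _ h2s hσ with h | h
    · exfalso
      apply hPbot
      rw [eq_bot_iff, ← h]
      exact le_sup_left
    · exact h
  -- the idempotents
  obtain ⟨e, heP, e', he'Q, hee'⟩ : ∃ e ∈ P, ∃ e' ∈ Q, e + e' = 1 := by
    have : (1 : R) ∈ P ⊔ Q := by rw [hsup]; trivial
    exact AddSubgroup.mem_sup.1 this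
  have hxe : ∀ x ∈ P, x * e = x ∧ e * x = x := by
    intro x hx
    have h1 : x * e' = 0 := hzero _ (hP x hx e').2 (hQ e' he'Q x).1
    have h2 : e' * x = 0 := hzero _ (hP x hx e').1 (hQ e' he'Q x).2
    constructor
    · calc x * e = x * e + x * e' := by rw [h1, add_zero]
        _ = x * (e + e') := by rw [mul_add]
        _ = x := by rw [hee', mul_one]
    · calc e * x = e * x + e' * x := by rw [h2, add_zero]
        _ = (e + e') * x := by rw [add_mul]
        _ = x := by rw [hee', one_mul]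
  have hye' : ∀ y ∈ Q, e' * y = y := by
    intro y hy
    have h2 : e * y = 0 := hzero _ (hP e heP y).2 (hQ y hy e).1
    calc e' * y = e * y + e' * y := by rw [h2, zero_add]
      _ = (e + e') * y := by rw [add_mul]
      _ = y := by rw [hee', one_mul]
  have hecomm : ∀ z, z * e = e * z := by
    intro z
    have h1 : e * z ∈ P := (hP e heP z).2
    have h2 : z * e ∈ P := (hP e heP z).1
    calc z * e = e * (z * e) := ((hxe _ h2).2).symm
      _ = (e * z) * e := by rw [mul_assoc]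
      _ = e * z := (hxe _ h1).1
  have hecen : e ∈ Subring.center R := Subring.mem_center_iff.2 hecomm
  have he'eq : e' = 1 - e := by rw [← hee']; abel
  have he'cen : e' ∈ Subring.center R := by
    rw [he'eq]
    exact Subring.sub_mem _ (Subring.one_mem _) hecen
  -- `σ e = e'`
  have hσ1 := sigma_one σ hσmul hσσ
  have hσeQ : σ e ∈ Q := (hmemQ _).2 (by rw [hσσ]; exact heP)
  have hσe'P : σ e' ∈ P := (hmemQ e').1 he'Q
  have hσe : σ e = e' := by
    have h1 : σ e + σ e' = 1 := by rw [← map_add, hee', hσ1]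
    have h2 : e - σ e' = σ e - e' := by
      have : e + e' = σ e + σ e' := by rw [hee', h1]
      calc e - σ e' = (e + e') - e' - σ e' := by abel
        _ = (σ e + σ e') - e' - σ e' := by rw [this]
        _ = σ e - e' := by abel
    have h3 : e - σ e' ∈ P := AddSubgroup.sub_mem _ heP hσe'P
    have h4 : e - σ e' ∈ Q := by rw [h2]; exact AddSubgroup.sub_mem _ hσeQ he'Q
    have h5 := hzero _ h3 h4
    rw [h2] at h5
    exact sub_eq_zero.1 h5
  have hσe' : σ e' = e := by rw [← hσe, hσσ]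
  have horth : e * σ e = 0 := by
    rw [hσe]
    exact hzero _ (hP e heP e').2 (hQ e' he'Q e).1
  have horth' : e' * σ e' = 0 := by
    rw [hσe']
    exact hzero _ (hP e heP e').1 (hQ e' he'Q e).2
  -- everything is central
  have hPcen : ∀ x ∈ P, x ∈ Subring.center R := fun x hx =>
    Cfsg.Agent.Lib.Helper6.PGV.central_of_swapped_idempotent σ hσmul hT e hecen horth x (hxe x hx).2
  have hQcen : ∀ y ∈ Q, y ∈ Subring.center R := fun y hy =>
    Cfsg.Agent.Lib.Helper6.PGV.central_of_swapped_idempotent σ hσmul hT e' he'cen horth' y (hye' y hy)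
  have hallcen : ∀ z : R, z ∈ Subring.center R := by
    intro z
    have : z ∈ P ⊔ Q := by rw [hsup]; trivial
    obtain ⟨p, hp, q, hq, rfl⟩ := AddSubgroup.mem_sup.1 this
    exact Subring.add_mem _ (hPcen p hp) (hQcen q hq)
  apply hKne
  apply K_eq_bot_of_comm _ K hKperf
  intro x y
  exact (Subring.mem_center_iff.1 (hallcen y) x)

/-- **[SS-C1]** `x σ(x)` is central -/
theorem norm_central
    (σ : R →+ R) (hσmul : ∀ x y, σ (x * y) = σ y * σ x) (hσσ : ∀ x, σ (σ x) = x)
    (hT : ∀ x, x + σ x ∈ Subring.center R)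
    (K : Subgroup Rˣ) (hKspan : AddSubgroup.closure {x : R | ∃ u ∈ K, (u : R) = x} = ⊤)
    (hKσ : ∀ u ∈ K, σ (u : R) = ((u⁻¹ : Rˣ) : R)) :
    ∀ x, x * σ x ∈ Subring.center R := by
  intro x
  have hx : x ∈ AddSubgroup.closure {x : R | ∃ u ∈ K, (u : R) = x} := by rw [hKspan]; trivial
  induction hx using AddSubgroup.closure_induction with
  | mem y hy =>
    obtain ⟨u, hu, rfl⟩ := hy
    rw [hKσ u hu, Units.mul_inv]
    exact Subring.one_mem _
  | zero =>
    rw [zero_mul]
    exact Subring.zero_mem _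
  | add a b _ _ ha hb =>
    have h1 : (a + b) * σ (a + b) = a * σ a + b * σ b + (a * σ b + σ (a * σ b)) := by
      rw [hσmul, hσσ, map_add]
      noncomm_ring
    rw [h1]
    exact Subring.add_mem _ (Subring.add_mem _ ha hb) (hT _)
  | neg a _ ha =>
    rw [map_neg, neg_mul_neg]
    exact ha

/-- central elements go to scalar matrices -/
theorem exists_scalar_of_central {F : Type*} [Field F] {n : ℕ}
    (φ : R ≃+* Matrix (Fin n) (Fin n) F) (z : R) (hz : z ∈ Subring.center R) :
    ∃ c : F, φ z = c • (1 : Matrix (Fin n) (Fin n) F) := by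
  have h1 : φ z ∈ Set.center (Matrix (Fin n) (Fin n) F) := by
    rw [Semigroup.mem_center_iff]
    intro ξ
    obtain ⟨y, rfl⟩ := φ.surjective ξ
    rw [← map_mul, ← map_mul, Subring.mem_center_iff.1 hz y]
  rw [Matrix.center_eq_range] at h1
  obtain ⟨c, hc⟩ := h1
  refine ⟨c, ?_⟩
  rw [← hc, Matrix.smul_one_eq_diagonal]
  rfl

/-- **[SS-B]** Wedderburn–Artin + little Wedderburn -/
theorem exists_matrix_field [Finite R] [Nontrivial R] (h2 : (2 : R) = 0)
    (hall : ∀ P : AddSubgroup R, IsTwoSided P → P = ⊥ ∨ P = ⊤) :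
    ∃ (n : ℕ) (_ : NeZero n) (F : Type u) (_ : Field F) (_ : Finite F) (_ : CharP F 2),
      Nonempty (R ≃+* Matrix (Fin n) (Fin n) F) := by
  have hsimple : IsSimpleRing R := by
    rw [isSimpleRing_iff_isTwoSided_imp]
    refine ⟨inferInstance, ?_⟩
    intro I hI
    have h2s : IsTwoSided I.toAddSubgroup := by
      intro x hx y
      exact ⟨I.mul_mem_left y hx, Ideal.IsTwoSided.mul_mem_of_left y hx⟩
    rcases hall _ h2s with h | h
    · left
      apply Submodule.toAddSubgroup_injective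
      rw [h]
      rfl
    · right
      apply Submodule.toAddSubgroup_injective
      rw [h]
      rfl
  obtain ⟨n, hn, D, hD, ⟨e⟩⟩ := IsSimpleRing.exists_ringEquiv_matrix_divisionRing R
  have hfinM : Finite (Matrix (Fin n) (Fin n) D) := Finite.of_equiv R e.toEquiv
  have hfinD : Finite D := by
    have hinj : Function.Injective (fun d : D => (Matrix.of fun _ _ => d : Matrix (Fin n) (Fin n) D)) := by
      intro d d' hdd
      have := congrFun (congrFun hdd 0) 0
      simpa using this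
    exact Finite.of_injective _ hinj
  have h2D : (2 : D) = 0 := by
    have h3 : (1 : Matrix (Fin n) (Fin n) D) + 1 = 0 := by
      rw [← map_one e, ← map_add, one_add_one_eq_two, h2, map_zero]
    have h4 := congrFun (congrFun h3 0) 0
    rw [Matrix.add_apply, Matrix.one_apply_eq, Matrix.zero_apply, one_add_one_eq_two] at h4
    exact h4
  have hchar : CharP D 2 := CharTwo.of_one_ne_zero_of_two_eq_zero one_ne_zero h2D
  exact ⟨n, hn, D, inferInstance, hfinD, hchar, ⟨e⟩⟩

/-- **[SS-C2]** `n = 2` -/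
theorem eq_two_of_equiv {F : Type*} [Field F] {n : ℕ} [NeZero n]
    (φ : R ≃+* Matrix (Fin n) (Fin n) F)
    (σ : R →+ R) (hT : ∀ x, x + σ x ∈ Subring.center R) (hN : ∀ x, x * σ x ∈ Subring.center R)
    (K : Subgroup Rˣ) (hKperf : ⁅K, K⁆ = K) (hKne : K ≠ ⊥) : n = 2 := by
  have hle : n ≤ 2 := by
    apply Cfsg.Agent.Lib.Helper6.PGV.le_two_of_forall_quadratic (F := F)
    intro ξ
    obtain ⟨x, rfl⟩ := φ.surjective ξ
    obtain ⟨cT, hcT⟩ := exists_scalar_of_central φ _ (hT x)
    obtain ⟨cN, hcN⟩ := exists_scalar_of_central φ _ (hN x)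
    refine ⟨-cT, cN, ?_⟩
    have h1 := Cfsg.Agent.Lib.Helper6.PGV.quad_relation σ x (hT x)
    have h2 : φ (x * x - (x + σ x) * x + x * σ x) = 0 := by rw [h1, map_zero]
    rw [map_add, map_sub, map_mul φ x x, map_mul φ (x + σ x) x, hcT, hcN, smul_mul_assoc, one_mul] at h2
    rw [neg_smul, ← sub_eq_add_neg]
    exact h2
  have hne0 : n ≠ 0 := NeZero.ne n
  have hne1 : n ≠ 1 := by
    rintro rfl
    apply hKne
    apply K_eq_bot_of_comm _ K hKperf
    intro x y
    apply φ.injective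
    rw [map_mul, map_mul]
    ext i j
    have hi : i = 0 := Subsingleton.elim _ _
    have hj : j = 0 := Subsingleton.elim _ _
    subst hi hj
    simp [Matrix.mul_apply, mul_comm]
  omega

/-- **[SS-ABC]** the front part of `simple_struct`: `R ≃+* M_2(F)` with `F` a finite field of characteristic `2`,
together with the centrality of the norm -/
theorem exists_matrix_two [Finite R] (h2 : (2 : R) = 0)
    (σ : R →+ R) (hσmul : ∀ x y, σ (x * y) = σ y * σ x) (hσσ : ∀ x, σ (σ x) = x)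
    (hT : ∀ x, x + σ x ∈ Subring.center R)
    (K : Subgroup Rˣ) (hKspan : AddSubgroup.closure {x : R | ∃ u ∈ K, (u : R) = x} = ⊤)
    (hKσ : ∀ u ∈ K, σ (u : R) = ((u⁻¹ : Rˣ) : R))
    (hKperf : ⁅K, K⁆ = K) (hKne : K ≠ ⊥)
    (hsimple : ∀ I : AddSubgroup R, IsTwoSided I → (∀ x ∈ I, σ x ∈ I) → I = ⊥ ∨ I = ⊤) :
    (∀ x, x * σ x ∈ Subring.center R) ∧
    ∃ (F : Type u) (_ : Field F) (_ : Finite F) (_ : CharP F 2),
      Nonempty (R ≃+* Matrix (Fin 2) (Fin 2) F) := by
  have hN := norm_central σ hσmul hσσ hT K hKspan hKσ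
  refine ⟨hN, ?_⟩
  have hnt : Nontrivial R := by
    by_contra hcon
    rw [not_nontrivial_iff_subsingleton] at hcon
    apply hKne
    rw [eq_bot_iff]
    intro u _
    rw [Subgroup.mem_bot]
    exact Subsingleton.elim _ _
  have hall := simple_of_sigma_simple σ hσmul hσσ hT K hKperf hKne hsimple
  obtain ⟨n, hn, F, hF, hfin, hchar, ⟨φ⟩⟩ := exists_matrix_field h2 hall
  have hn2 : n = 2 := eq_two_of_equiv φ σ hT hN K hKperf hKne
  subst hn2
  exact ⟨F, hF, hfin, hchar, ⟨φ⟩⟩

end Cfsg.Agent.Lib.Helper26.PGV.H95
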