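import Mathlib
import Cfsg.Prelude.Def_Local
import Cfsg.Prelude.Def_Transfer
import Cfsg.Agent.Lib.Helper26.PGV.End2Defs
import Cfsg.Agent.Lib.Helper6.PgvE5Alg
import Cfsg.Agent.Lib.Helper95.PgvSimpleStructA

/-!
# Project PGV (S3086), sub-project END2 (helper26's sheet): module [SIMPLE-STRUCT] (helper95)

Back part ([SS-D] the trace criterion, [SS-E] `|F| > 2`) and the exact statement `simple_struct`.
-/

set_option autoImplicit false

namespace Cfsg.Agent.Lib.Helper26.PGV.H95

open Cfsg Cfsg.Agent.Lib.Helper26.PGV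

universe u

section groups

/-- a nontrivial finite group of order dividing `6` is not perfect -/
theorem commutator_ne_top_of_card_dvd_six {K : Type*} [Group K] [Finite K] [Nontrivial K]
    (h : Nat.card K ∣ 6) : commutator K ≠ ⊤ := by
  have hpos : 0 < Nat.card K := Nat.card_pos
  have hle : Nat.card K ≤ 6 := Nat.le_of_dvd (by norm_num) h
  have h1 : Nat.card K ≠ 1 := by
    intro h1
    have := (Nat.card_eq_one_iff_unique.1 h1).1
    exact not_subsingleton K this
  -- the abelian cases
  have hcomm_case : (∀ a b : K, a * b = b * a) → commutator K ≠ ⊤ := by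
    intro hc htop
    have : commutator K = ⊥ := by
      rw [commutator_eq_closure, Subgroup.closure_eq_bot_iff]
      rintro g ⟨a, b, rfl⟩
      rw [Set.mem_singleton_iff, commutatorElement_def, hc a b]
      group
    rw [this] at htop
    exact bot_ne_top htop
  have hprime_case : ∀ p : ℕ, p.Prime → Nat.card K = p → commutator K ≠ ⊤ := by
    intro p hp hc
    have : Fact p.Prime := ⟨hp⟩
    have hcyc : IsCyclic K := isCyclic_of_prime_card hc
    apply hcomm_case
    intro a b
    obtain ⟨g, hg⟩ := hcyc.exists_generator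
    obtain ⟨m, rfl⟩ := Subgroup.mem_zpowers_iff.1 (hg a)
    obtain ⟨n, rfl⟩ := Subgroup.mem_zpowers_iff.1 (hg b)
    rw [← zpow_add, ← zpow_add, add_comm]
  have hcases : Nat.card K = 2 ∨ Nat.card K = 3 ∨ Nat.card K = 6 := by
    have : Nat.card K ∈ Nat.divisors 6 := Nat.mem_divisors.2 ⟨h, by norm_num⟩
    have hd : Nat.divisors 6 = {1, 2, 3, 6} := by decide
    rw [hd] at this
    simp only [Finset.mem_insert, Finset.mem_singleton] at this
    rcases this with h | h | h | h
    · exact absurd h h1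
    · exact Or.inl h
    · exact Or.inr (Or.inl h)
    · exact Or.inr (Or.inr h)
  rcases hcases with h2 | h3 | h6
  · exact hprime_case 2 Nat.prime_two h2
  · exact hprime_case 3 Nat.prime_three h3
  · -- order 6: a subgroup of index 2
    have : Fact (Nat.Prime 3) := ⟨Nat.prime_three⟩
    obtain ⟨g, hg⟩ := exists_prime_orderOf_dvd_card' 3 (by rw [h6]; norm_num : 3 ∣ Nat.card K)
    set H : Subgroup K := Subgroup.zpowers g with hH
    have hHcard : Nat.card H = 3 := by rw [hH, Nat.card_zpowers, hg]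
    have hidx : H.index = 2 := by
      have := H.card_mul_index
      rw [hHcard, h6] at this
      omega
    have hnorm : H.Normal := Subgroup.normal_of_index_eq_two hidx
    have hqcard : Nat.card (K ⧸ H) = 2 := by rw [← Subgroup.index_eq_card]; exact hidx
    have : Fact (Nat.Prime 2) := ⟨Nat.prime_two⟩
    have hcyc : IsCyclic (K ⧸ H) := isCyclic_of_prime_card hqcard
    let _ : CommGroup (K ⧸ H) := hcyc.commGroup
    have hle' : commutator K ≤ (QuotientGroup.mk' H).ker := Abelianization.commutator_subset_ker _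
    rw [QuotientGroup.ker_mk'] at hle'
    intro htop
    rw [htop, top_le_iff] at hle'
    have : Nat.card H = Nat.card K := by rw [hle']; exact Subgroup.card_top
    rw [hHcard, h6] at this
    omega

end groups

variable {R : Type u} [Ring R]

/-- **[SS-E]** `|F| > 2` -/
theorem card_gt_two {F : Type*} [Field F] [Finite F]
    (φ : R ≃+* Matrix (Fin 2) (Fin 2) F)
    (K : Subgroup Rˣ) (hKperf : ⁅K, K⁆ = K) (hKne : K ≠ ⊥) : 2 < Nat.card F := by
  by_contra hcon
  have h1 : 1 < Nat.card F := Finite.one_lt_card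
  have hF2 : Nat.card F = 2 := by omega
  let _ : Fintype F := Fintype.ofFinite F
  have hF2' : Fintype.card F = 2 := by rw [← Nat.card_eq_fintype_card]; exact hF2
  have hGL : Nat.card (GL (Fin 2) F) = 6 := by
    rw [Matrix.card_GL_field, hF2', Fin.prod_univ_two]
    norm_num
  have hunits : Nat.card Rˣ = 6 := by
    rw [← hGL]
    exact Nat.card_congr (Units.mapEquiv φ.toMulEquiv).toEquiv
  have hfinU : Finite Rˣ := Nat.finite_of_card_ne_zero (by rw [hunits]; norm_num)
  have hdvd : Nat.card K ∣ 6 := by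
    rw [← hunits]
    exact Subgroup.card_subgroup_dvd_card K
  have hnt : Nontrivial K := by
    rw [Subgroup.nontrivial_iff_ne_bot]
    exact hKne
  have hperf : commutator K = ⊤ := by
    have : Group.IsPerfect K := Subgroup.isPerfect_iff.2 hKperf
    exact Group.IsPerfect.commutator_eq_top
  exact commutator_ne_top_of_card_dvd_six hdvd hperf

/-- **[SS-D]** the trace criterion -/
theorem fixed_iff_trace {F : Type*} [Field F] [CharP F 2]
    (φ : R ≃+* Matrix (Fin 2) (Fin 2) F) (h2 : (2 : R) = 0)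
    (σ : R →+ R) (hσmul : ∀ x y, σ (x * y) = σ y * σ x)
    (hT : ∀ x, x + σ x ∈ Subring.center R) (hN : ∀ x, x * σ x ∈ Subring.center R) :
    ∀ x, σ x = x ↔ (φ x).trace = 0 := by
  have hxx : ∀ x : R, x + x = 0 := by
    intro x
    rw [← two_mul, h2, zero_mul]
  have hFF : ∀ c : F, c + c = 0 := fun c => CharTwo.add_self_eq_zero c
  -- a witness for `sigma_eq_self_of_central`
  set E : Matrix (Fin 2) (Fin 2) F := Matrix.single 0 1 1 with hE
  have hEns : ∀ c : F, E ≠ c • (1 : Matrix (Fin 2) (Fin 2) F) := by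
    intro c hc
    have h01 := congrFun (congrFun hc 0) 1
    rw [hE] at h01
    simp at h01
  set ξ₀ : R := φ.symm E with hξ₀
  have hwit : ∀ c ∈ Subring.center R, c * ξ₀ ∈ Subring.center R → c = 0 := by
    intro c hc hcξ
    obtain ⟨γ, hγ⟩ := exists_scalar_of_central φ c hc
    obtain ⟨δ, hδ⟩ := exists_scalar_of_central φ _ hcξ
    rw [map_mul, hγ, hξ₀, RingEquiv.apply_symm_apply, smul_mul_assoc, one_mul] at hδ
    have hγ0 : γ = 0 := Cfsg.Agent.Lib.Helper6.PGV.eq_zero_of_smul_scalar E hEns γ δ hδ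
    apply φ.injective
    rw [hγ, hγ0, zero_smul, map_zero]
  intro x
  have hfix : σ x = x ↔ x + σ x = 0 := by
    constructor
    · intro h
      rw [h]
      exact hxx x
    · intro h
      have : σ x = -x := by
        rw [eq_neg_iff_add_eq_zero, add_comm]
        exact h
      rw [this]
      exact neg_eq_of_add_eq_zero_left (hxx x)
  by_cases hsc : ∃ c : F, φ x = c • (1 : Matrix (Fin 2) (Fin 2) F)
  · -- scalar case: `x` is central, `σ x = x`, trace `= 0`
    obtain ⟨c, hc⟩ := hsc
    have hxcen : x ∈ Subring.center R := by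
      rw [Subring.mem_center_iff]
      intro y
      apply φ.injective
      rw [map_mul, map_mul, hc, smul_mul_assoc, one_mul, mul_smul_comm, mul_one]
    have hσxcen : σ x ∈ Subring.center R := by
      have : σ x = (x + σ x) - x := by abel
      rw [this]
      exact Subring.sub_mem _ (hT x) hxcen
    have h1 : σ x = x :=
      Cfsg.Agent.Lib.Helper6.PGV.sigma_eq_self_of_central σ hσmul hT x hxcen hσxcen ξ₀ hwit
    have h2' : (φ x).trace = 0 := by
      rw [hc, Matrix.trace_smul, Matrix.trace_one, Fintype.card_fin]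
      simp only [smul_eq_mul, Nat.cast_ofNat]
      rw [mul_two]
      exact hFF c
    exact ⟨fun _ => h2', fun _ => h1⟩
  · push Not at hsc
    obtain ⟨cT, hcT⟩ := exists_scalar_of_central φ _ (hT x)
    obtain ⟨cN, hcN⟩ := exists_scalar_of_central φ _ (hN x)
    have h1 := Cfsg.Agent.Lib.Helper6.PGV.quad_relation σ x (hT x)
    have h3 : φ (x * x - (x + σ x) * x + x * σ x) = 0 := by rw [h1, map_zero]
    rw [map_add, map_sub, map_mul φ x x, map_mul φ (x + σ x) x, hcT, hcN, smul_mul_assoc, one_mul] at h3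
    have htr := (Cfsg.Agent.Lib.Helper6.PGV.trace_eq_of_quadratic (φ x) hsc cT cN h3).1
    rw [hfix, ← htr]
    constructor
    · intro h
      have h4 : φ (x + σ x) = 0 := by rw [h, map_zero]
      rw [hcT] at h4
      have h5 := congrFun (congrFun h4 0) 0
      simpa using h5
    · intro h
      apply φ.injective
      rw [hcT, h, zero_smul, map_zero]

end Cfsg.Agent.Lib.Helper26.PGV.H95

namespace Cfsg.Agent.Lib.Helper26.PGV

open Cfsg

universe u

/-- **[SIMPLE-STRUCT]** (exact statement of helper26's END2 sheet) -/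
theorem simple_struct {R : Type u} [Ring R] [Finite R] (h2 : (2 : R) = 0)
    (σ : R →+ R) (hσmul : ∀ x y, σ (x * y) = σ y * σ x) (hσσ : ∀ x, σ (σ x) = x)
    (hT : ∀ x, x + σ x ∈ Subring.center R)
    (K : Subgroup Rˣ) (hKspan : AddSubgroup.closure {x : R | ∃ u ∈ K, (u : R) = x} = ⊤)
    (hKσ : ∀ u ∈ K, σ (u : R) = ((u⁻¹ : Rˣ) : R))
    (hKperf : ⁅K, K⁆ = K) (hKne : K ≠ ⊥)
    (hsimple : ∀ I : AddSubgroup R, IsTwoSided I → (∀ x ∈ I, σ x ∈ I) → I = ⊥ ∨ I = ⊤) :
    ∃ (F : Type u) (_ : Field F) (_ : Finite F) (_ : CharP F 2) (φ : R ≃+* Matrix (Fin 2) (Fin 2) F),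
      2 < Nat.card F ∧ ∀ x, σ x = x ↔ (φ x).trace = 0 := by
  obtain ⟨hN, F, hF, hfin, hchar, ⟨φ⟩⟩ :=
    H95.exists_matrix_two h2 σ hσmul hσσ hT K hKspan hKσ hKperf hKne hsimple
  exact ⟨F, hF, hfin, hchar, φ, H95.card_gt_two φ K hKperf hKne,
    H95.fixed_iff_trace φ h2 σ hσmul hT hN⟩

end Cfsg.Agent.Lib.Helper26.PGV
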