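import Mathlib

/-!
# Split extensions `V ⋊ G` with the same prime graph as `G` (helper95)

If `V` is a finite elementary abelian `2`-group on which `G` acts so that no element of odd prime order
fixes a non-zero vector, and `|G|` is even, then `V ⋊ G` has the same prime divisors and the same
edges `r — s` (elements of order `r * s`) as `G`.  `exists_same_prime_graph` packages this with a
type-level-`0` copy of `V ⋊ G`.
-/

set_option autoImplicit false

namespace Cfsg.Agent.Lib.Helper95.PrimeGraphExt

universe u v

variable {G : Type u} [Group G] {V : Type v} [AddCommGroup V] [DistribMulAction G V]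

/-- the action of `G` on `Multiplicative V` by automorphisms -/
def phi (G : Type*) [Group G] (V : Type*) [AddCommGroup V] [DistribMulAction G V] :
    G →* MulAut (Multiplicative V) where
  toFun g :=
    { toFun := fun n => Multiplicative.ofAdd (g • Multiplicative.toAdd n)
      invFun := fun n => Multiplicative.ofAdd (g⁻¹ • Multiplicative.toAdd n)
      left_inv := fun n => by simp
      right_inv := fun n => by simp
      map_mul' := fun a b => by simp [smul_add] }
  map_one' := by ext n; simp
  map_mul' g h := by ext n; simp [mul_smul]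

theorem phi_apply (g : G) (n : Multiplicative V) :
    phi G V g n = Multiplicative.ofAdd (g • Multiplicative.toAdd n) := rfl

/-- the split extension `V ⋊ G` -/
abbrev Ext (G : Type*) [Group G] (V : Type*) [AddCommGroup V] [DistribMulAction G V] : Type _ :=
  SemidirectProduct (Multiplicative V) G (phi G V)

theorem card_ext [Finite G] [Finite V] : Nat.card (Ext G V) = Nat.card V * Nat.card G := by
  rw [SemidirectProduct.card]
  rfl

/-- an element of order `r * s` in `V ⋊ G` gives one in `G`, when `V` is an elementary abelian
`2`-group on which the elements of odd prime order act without fixed points -/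
theorem exists_orderOf_of_ext (h2 : ∀ v : V, v + v = 0)
    (hfpf : ∀ g : G, (orderOf g).Prime → orderOf g ≠ 2 → ∀ v : V, g • v = v → v = 0)
    {r s : ℕ} (hr : r.Prime) (hs : s.Prime) (hrs : r ≠ s)
    (y : Ext G V) (hy : orderOf y = r * s) : ∃ x : G, orderOf x = r * s := by
  classical
  set g : G := SemidirectProduct.rightHom y with hg
  have hdvd : orderOf g ∣ r * s := by
    rw [← hy]; exact orderOf_map_dvd _ y
  by_cases hgo : orderOf g = r * s
  · exact ⟨g, hgo⟩
  exfalso
  have hrs0 : 0 < r * s := Nat.mul_pos hr.pos hs.pos
  have hy0 : 0 < orderOf y := hy ▸ hrs0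
  set d := orderOf g with hd
  have hdpos : 0 < d := Nat.pos_of_dvd_of_pos hdvd hrs0
  -- y ^ d is in the kernel
  have hker : SemidirectProduct.rightHom (y ^ d) = 1 := by
    rw [map_pow, ← hg, hd, pow_orderOf_eq_one]
  obtain ⟨n, hn⟩ : ∃ n : Multiplicative V, SemidirectProduct.inl n = y ^ d := by
    have : y ^ d ∈ (SemidirectProduct.rightHom (N := Multiplicative V) (G := G) (φ := phi G V)).ker := hker
    rw [← SemidirectProduct.range_inl_eq_ker_rightHom] at this
    exact this
  have hn2 : n * n = 1 := by
    have := h2 (Multiplicative.toAdd n)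
    exact congrArg Multiplicative.ofAdd this
  have hyd2 : (y ^ d) ^ 2 = 1 := by
    rw [← hn, ← map_pow, pow_two, hn2, map_one]
  have hord : orderOf (y ^ d) = r * s / d := by
    rw [orderOf_pow' y hdpos.ne', hy, Nat.gcd_eq_right hdvd]
  have h2' : r * s / d ∣ 2 := by
    rw [← hord]; exact orderOf_dvd_of_pow_eq_one hyd2
  -- d ∈ {1, r, s}
  have hcases : d = 1 ∨ d = r ∨ d = s := by
    have := (Nat.dvd_mul).mp hdvd
    obtain ⟨a, b, ha, hb, hab⟩ := this
    rcases (Nat.dvd_prime hr).mp ha with rfl | rfl <;> rcases (Nat.dvd_prime hs).mp hb with rfl | rfl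
    · left; simpa using hab.symm
    · right; right; simpa using hab.symm
    · right; left; simpa using hab.symm
    · exact absurd hab.symm hgo
  have hdprime : d.Prime ∧ d ≠ 2 := by
    rcases hcases with h | h | h
    · rw [h, Nat.div_one] at h2'
      have := Nat.le_of_dvd (by norm_num) h2'
      have h2r := hr.two_le
      have h2s := hs.two_le
      nlinarith
    · rw [h, Nat.mul_div_cancel_left _ hr.pos] at h2'
      have hs2 : s = 2 := ((Nat.prime_dvd_prime_iff_eq hs Nat.prime_two).mp h2')
      refine ⟨h ▸ hr, ?_⟩
      rw [h]; intro hr2; exact hrs (hr2.trans hs2.symm)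
    · rw [h, Nat.mul_div_cancel _ hs.pos] at h2'
      have hr2 : r = 2 := ((Nat.prime_dvd_prime_iff_eq hr Nat.prime_two).mp h2')
      refine ⟨h ▸ hs, ?_⟩
      rw [h]; intro hs2; exact hrs (hr2.trans hs2.symm)
  -- n ≠ 1
  have hn1 : n ≠ 1 := by
    rintro rfl
    rw [map_one] at hn
    have : orderOf y ∣ d := orderOf_dvd_of_pow_eq_one hn.symm
    rw [hy] at this
    exact hgo (Nat.dvd_antisymm hdvd this)
  -- commutation
  have hcomm : y * SemidirectProduct.inl n = SemidirectProduct.inl n * y := by
    rw [hn, ← pow_succ', ← pow_succ]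
  have hfix : phi G V g n = n := by
    have e1 : y = SemidirectProduct.inl y.left * SemidirectProduct.inr g := by
      rw [hg, SemidirectProduct.rightHom_eq_right, SemidirectProduct.inl_left_mul_inr_right]
    have e2 : SemidirectProduct.inr g * SemidirectProduct.inl n =
        SemidirectProduct.inl n * SemidirectProduct.inr (N := Multiplicative V) (φ := phi G V) g := by
      have h3 := hcomm
      rw [e1] at h3
      have h4 : SemidirectProduct.inl (φ := phi G V) (G := G) y.left * SemidirectProduct.inl n =
          SemidirectProduct.inl n * SemidirectProduct.inl y.left := by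
        rw [← map_mul, ← map_mul, mul_comm]
      rw [mul_assoc, ← mul_assoc (SemidirectProduct.inl n), ← h4, mul_assoc] at h3
      exact mul_left_cancel h3
    have e3 := SemidirectProduct.inl_aut (φ := phi G V) g n
    apply SemidirectProduct.inl_injective (φ := phi G V) (G := G)
    rw [e3, e2, mul_assoc, ← map_mul, mul_inv_cancel, map_one, mul_one]
  have hv := hfpf g hdprime.1 hdprime.2 (Multiplicative.toAdd n) (by
    have := congrArg Multiplicative.toAdd hfix
    simpa [phi_apply] using this)
  exact hn1 (by
    have := congrArg Multiplicative.ofAdd hv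
    simpa using this)

/-- a group of type-level `0` with the same prime graph as `G` and more than `N` elements -/
theorem exists_same_prime_graph [Finite G] [Finite V] (h2 : ∀ v : V, v + v = 0)
    (hfpf : ∀ g : G, (orderOf g).Prime → orderOf g ≠ 2 → ∀ v : V, g • v = v → v = 0)
    (hV : ∃ a : ℕ, Nat.card V = 2 ^ a) (h2G : 2 ∣ Nat.card G) (N : ℕ) (hN : N < Nat.card V) :
    ∃ (H : Type) (_ : Group H) (_ : Fintype H), N < Fintype.card H ∧
      ((∀ r : ℕ, r.Prime → (r ∣ Nat.card G ↔ r ∣ Nat.card H)) ∧
      (∀ r s : ℕ, r.Prime → s.Prime → r ≠ s →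
        ((∃ x : G, orderOf x = r * s) ↔ (∃ y : H, orderOf y = r * s)))) := by
  classical
  have : Finite (Ext G V) := by
    have : Finite (Multiplicative V × G) := inferInstance
    exact Finite.of_equiv _ (SemidirectProduct.equivProd (φ := phi G V)).symm
  let H := Shrink.{0} (Ext G V)
  let e : H ≃* Ext G V := Shrink.mulEquiv
  have : Finite H := Finite.of_equiv _ e.symm.toEquiv
  have hcard : Nat.card H = Nat.card V * Nat.card G := by
    rw [Nat.card_congr e.toEquiv, card_ext]
  have hGpos : 0 < Nat.card G := Nat.card_pos
  refine ⟨H, inferInstance, Fintype.ofFinite H, ?_, ?_, ?_⟩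
  · have hc := @Nat.card_eq_fintype_card H (Fintype.ofFinite H)
    rw [← hc, hcard]
    calc N < Nat.card V := hN
      _ ≤ Nat.card V * Nat.card G := Nat.le_mul_of_pos_right _ hGpos
  · intro r hr
    rw [hcard]
    constructor
    · intro h; exact Dvd.dvd.mul_left h _
    · intro h
      rcases (Nat.Prime.dvd_mul hr).mp h with h | h
      · obtain ⟨a, ha⟩ := hV
        rw [ha] at h
        have := hr.dvd_of_dvd_pow h
        rw [(Nat.prime_dvd_prime_iff_eq hr Nat.prime_two).mp this]
        exact h2G
      · exact h
  · intro r s hr hs hrs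
    constructor
    · rintro ⟨x, hx⟩
      refine ⟨e.symm (SemidirectProduct.inr x), ?_⟩
      rw [MulEquiv.orderOf_eq, orderOf_injective _ SemidirectProduct.inr_injective, hx]
    · rintro ⟨y, hy⟩
      apply exists_orderOf_of_ext h2 hfpf hr hs hrs (e y)
      rw [MulEquiv.orderOf_eq, hy]

open MulAction in
theorem card_modEq_fixedBy {G α : Type*} [Group G] [MulAction G α] [Finite α] (g : G) (p : ℕ)
    [Fact p.Prime] (hg : orderOf g = p) :
    Nat.card α ≡ Nat.card {a : α // g • a = a} [MOD p] := by
  have hP : IsPGroup p (Subgroup.zpowers g) := by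
    apply IsPGroup.of_card (n := 1)
    rw [Nat.card_zpowers, hg, pow_one]
  have h1 := hP.card_modEq_card_fixedPoints α
  have e : fixedPoints (Subgroup.zpowers g) α ≃ {a : α // g • a = a} := by
    apply Equiv.subtypeEquivRight
    intro a
    rw [mem_fixedPoints]
    constructor
    · intro h
      exact h ⟨g, Subgroup.mem_zpowers g⟩
    · intro h x
      have : Subgroup.zpowers g ≤ stabilizer G a := by
        rw [Subgroup.zpowers_le]; exact h
      exact this x.2
  rwa [Nat.card_congr e] at h1

end Cfsg.Agent.Lib.Helper95.PrimeGraphExt
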