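/-
helper95: S1936 modules LOC-[U1] `le_pCoreOf_of_centralizer_normalizes` and LOC-[U2] `factor_pCoreOf_normalizer`
(sheet notes/helper22_S1936_sheet.md, §A: A1-A5), exact skeleton statements, namespace Cfsg.Agent.Lib.Helper95.S1936.
Type-level versions: `le_pCore_of_centralizer_normalizes`, `exists_mul_normalizer_sylow`; tools: `normal_le_hall`,
`hall_eq_fitting`, `pCore_quotient_pCore`, `hall_quot_structure`, `le_pCore_of_hall_normalizes` (A4),
`exists_mul_normalizer_hall` (A3), `exists_abelian_hall`, `normalizer_le_normalizer_sylow` (A5).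
-/
import Mathlib
import Cfsg.Agent.Lib.Helper22.S1936Defs
import Cfsg.Agent.Lib.Helper55.Cores
import Cfsg.Agent.S0003
import Cfsg.Agent.S0004
import Cfsg.Agent.S0005
import Cfsg.Agent.S0009
import Cfsg.Agent.S0044
import Cfsg.Agent.S0050

set_option autoImplicit false
set_option linter.style.haveILetI false
set_option linter.unusedSectionVars false
set_option linter.unusedVariables false

universe u

namespace Cfsg.Agent.Lib.Helper95.S1936

open Cfsg.Agent.Lib.Helper22.S1936 Cfsg.Agent.Lib.Helper55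

variable {L : Type*} [Group L] [Finite L]

/-- a normal `p'`-subgroup lies in every Hall `p'`-subgroup of a solvable group -/
theorem normal_le_hall [Group.IsSolvable L] {p : ℕ} [Fact p.Prime] (K : Subgroup L)
    (hKp : (Nat.card K).Coprime p) (e : ℕ) (hKi : K.index = p ^ e) (N : Subgroup L) [N.Normal]
    (hN : (Nat.card N).Coprime p) : N ≤ K := by
  have hG : Nat.card L = Nat.card K * p ^ e := by rw [← hKi, K.card_mul_index]
  have hmn : (Nat.card K).Coprime (p ^ e) := Nat.Coprime.pow_right e hKp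
  obtain ⟨H', hH', hNH'⟩ := Cfsg.Agent.S0005.result (Nat.card K) (p ^ e) hG hmn N
    (Nat.Coprime.pow_right e hN)
  obtain ⟨g, hg⟩ := Cfsg.Agent.S0004.result (Nat.card K) (p ^ e) hG hmn H' K hH' rfl
  intro x hx
  rw [← hg, Subgroup.mem_pointwise_smul_iff_inv_smul_mem]
  apply hNH'
  have : (MulAut.conj g)⁻¹ • x = g⁻¹ * x * g⁻¹⁻¹ := by
    rw [MulAut.smul_def, ← map_inv, MulAut.conj_apply]
  rw [this]
  exact ‹N.Normal›.conj_mem x hx g⁻¹

/-- Key lemma: with `O_p(L) = 1`, an abelian Hall `p'`-subgroup of a solvable group is the Fitting subgroup -/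
theorem hall_eq_fitting [Group.IsSolvable L] {p : ℕ} [Fact p.Prime]
    (hcore : Cfsg.pCore p L = ⊥) (K : Subgroup L) (hKc : ∀ x ∈ K, ∀ y ∈ K, x * y = y * x)
    (hKp : (Nat.card K).Coprime p) (e : ℕ) (hKi : K.index = p ^ e) :
    K = Cfsg.fittingSubgroup L := by
  have hFK : Cfsg.fittingSubgroup L ≤ K := by
    rw [Cfsg.Agent.S0009.result, iSup_le_iff]
    intro q
    by_cases hqp : (q : ℕ) = p
    · rw [hqp, hcore]; exact bot_le
    · haveI : Fact (q : ℕ).Prime := ⟨q.2⟩
      haveI : (Cfsg.pCore (q : ℕ) L).Normal := pCore_normal' _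
      apply normal_le_hall K hKp e hKi
      obtain ⟨k, hk⟩ := IsPGroup.iff_card.mp (isPGroup_pCore (G := L) (q : ℕ))
      rw [hk]
      apply Nat.Coprime.pow_left
      exact (Nat.coprime_primes q.2 (Fact.out : p.Prime)).mpr hqp
  apply le_antisymm _ hFK
  refine le_trans ?_ (Cfsg.Agent.S0044.result (G := L))
  intro k hk
  rw [Subgroup.mem_centralizer_iff]
  intro f hf
  exact hKc f (hFK hf) k hk

end Cfsg.Agent.Lib.Helper95.S1936

namespace Cfsg.Agent.Lib.Helper95.S1936

open Cfsg.Agent.Lib.Helper22.S1936 Cfsg.Agent.Lib.Helper55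

variable {L : Type*} [Group L] [Finite L]

/-- `O_p(L / O_p(L)) = 1` -/
theorem pCore_quotient_pCore {p : ℕ} [Fact p.Prime] [hn : (Cfsg.pCore p L).Normal] :
    Cfsg.pCore p (L ⧸ Cfsg.pCore p L) = ⊥ := by
  set R := Cfsg.pCore p L with hR
  set π := QuotientGroup.mk' R with hπ
  have hsurj : Function.Surjective π := QuotientGroup.mk'_surjective _
  set M := Cfsg.pCore p (L ⧸ R) with hM
  have hMn : M.Normal := pCore_normal' p
  have hMp : IsPGroup p M := isPGroup_pCore p
  have hker : IsPGroup p π.ker := by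
    rw [hπ, QuotientGroup.ker_mk']
    exact isPGroup_pCore p
  have h1 : IsPGroup p (M.comap π) := hMp.comap_of_ker_isPGroup π hker
  have h2 : (M.comap π).Normal := hMn.comap π
  have h3 : M.comap π ≤ R := le_pCore h2 h1
  have h4 : M = (M.comap π).map π := (Subgroup.map_comap_eq_self_of_surjective hsurj M).symm
  rw [h4, eq_bot_iff]
  refine le_trans (Subgroup.map_mono h3) ?_
  rw [hπ, QuotientGroup.map_mk'_self]

/-- structure of the image of an abelian Hall `p'`-subgroup in `L / O_p(L)` -/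
theorem hall_quot_structure [Group.IsSolvable L] {p : ℕ} [Fact p.Prime]
    [hn : (Cfsg.pCore p L).Normal] (K : Subgroup L) (hKc : ∀ x ∈ K, ∀ y ∈ K, x * y = y * x)
    (hKp : (Nat.card K).Coprime p) (e : ℕ) (hKi : K.index = p ^ e) :
    (K.map (QuotientGroup.mk' (Cfsg.pCore p L))).Normal ∧
      Subgroup.centralizer ((K.map (QuotientGroup.mk' (Cfsg.pCore p L)) : Subgroup _) : Set _) ≤
        K.map (QuotientGroup.mk' (Cfsg.pCore p L)) := by
  set R := Cfsg.pCore p L with hR
  set π := QuotientGroup.mk' R with hπ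
  have hsurj : Function.Surjective π := QuotientGroup.mk'_surjective _
  have hKbc : ∀ x ∈ K.map π, ∀ y ∈ K.map π, x * y = y * x := by
    rintro _ ⟨x, hx, rfl⟩ _ ⟨y, hy, rfl⟩
    rw [← map_mul, ← map_mul, hKc x hx y hy]
  have hKbp : (Nat.card (K.map π)).Coprime p :=
    Nat.Coprime.coprime_dvd_left (Subgroup.card_map_dvd (H := K) π) hKp
  obtain ⟨e', -, hKbi⟩ := (Nat.dvd_prime_pow (Fact.out : p.Prime)).mp
    (hKi ▸ Subgroup.index_map_dvd K hsurj)
  have hF := hall_eq_fitting (L := L ⧸ R) (p := p) pCore_quotient_pCore (K.map π) hKbc hKbp e' hKbi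
  constructor
  · rw [hF]
    exact Subgroup.sSup_normal _ (fun _ h => h.1)
  · rw [hF]
    exact Cfsg.Agent.S0044.result

end Cfsg.Agent.Lib.Helper95.S1936

namespace Cfsg.Agent.Lib.Helper95.S1936

open Cfsg.Agent.Lib.Helper22.S1936 Cfsg.Agent.Lib.Helper55

variable {L : Type*} [Group L] [Finite L]

/-- an element of a `p`-subgroup and of a `p'`-subgroup is trivial -/
theorem eq_one_of_mem_of_mem {p : ℕ} [Fact p.Prime] {X K : Subgroup L} (hX : IsPGroup p X)
    (hK : (Nat.card K).Coprime p) {g : L} (hgX : g ∈ X) (hgK : g ∈ K) : g = 1 := by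
  obtain ⟨k, hk⟩ := hX ⟨g, hgX⟩
  have hk' : g ^ p ^ k = 1 := by
    have := congrArg Subtype.val hk
    simpa using this
  have h1 : orderOf g ∣ p ^ k := orderOf_dvd_of_pow_eq_one hk'
  have h2 : orderOf g ∣ Nat.card K := by
    have := orderOf_dvd_natCard (⟨g, hgK⟩ : K)
    rwa [Subgroup.orderOf_mk] at this
  have h3 : orderOf g ∣ 1 := by
    have hc : (p ^ k).Coprime (Nat.card K) := (Nat.Coprime.pow_right k hK).symm
    rw [← hc.gcd_eq_one]
    exact Nat.dvd_gcd h1 h2
  exact orderOf_eq_one_iff.mp (Nat.dvd_one.mp h3)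

/-- A4: a `p`-subgroup normalized by an abelian Hall `p'`-subgroup lies in `O_p` -/
theorem le_pCore_of_hall_normalizes [Group.IsSolvable L] {p : ℕ} [Fact p.Prime] (K : Subgroup L)
    (hKc : ∀ x ∈ K, ∀ y ∈ K, x * y = y * x) (hKp : (Nat.card K).Coprime p) (e : ℕ)
    (hKi : K.index = p ^ e) (X : Subgroup L) (hX : IsPGroup p X)
    (hnorm : K ≤ Subgroup.normalizer (X : Set L)) : X ≤ Cfsg.pCore p L := by
  haveI hn : (Cfsg.pCore p L).Normal := pCore_normal' p
  obtain ⟨hKn, hKcent⟩ := hall_quot_structure K hKc hKp e hKi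
  set R := Cfsg.pCore p L with hR
  set π := QuotientGroup.mk' R with hπ
  have hXb : IsPGroup p (X.map π) := hX.map π
  have hKbp : (Nat.card (K.map π)).Coprime p :=
    Nat.Coprime.coprime_dvd_left (Subgroup.card_map_dvd (H := K) π) hKp
  intro x hx
  have hcent : π x ∈ Subgroup.centralizer ((K.map π : Subgroup _) : Set _) := by
    rw [Subgroup.mem_centralizer_iff]
    rintro _ ⟨k, hk, rfl⟩
    -- the commutator lies in both images
    have hc1 : π (x * k * x⁻¹ * k⁻¹) ∈ K.map π := by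
      have h1 : π x * π k * (π x)⁻¹ ∈ K.map π := hKn.conj_mem _ ⟨k, hk, rfl⟩ _
      have h2 : (π k)⁻¹ ∈ K.map π := inv_mem ⟨k, hk, rfl⟩
      have := mul_mem h1 h2
      simpa [map_mul, map_inv] using this
    have hc2 : π (x * k * x⁻¹ * k⁻¹) ∈ X.map π := by
      refine ⟨x * k * x⁻¹ * k⁻¹, ?_, rfl⟩
      have hkn := hnorm hk
      rw [Subgroup.mem_normalizer_iff] at hkn
      have h1 : k * x⁻¹ * k⁻¹ ∈ X := (hkn x⁻¹).mp (inv_mem hx)
      have := mul_mem hx h1
      simpa [mul_assoc] using this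
    have h1 := eq_one_of_mem_of_mem hXb hKbp hc2 hc1
    rw [map_mul, map_mul, map_mul, map_inv, map_inv] at h1
    -- π x π k (π x)⁻¹ (π k)⁻¹ = 1
    have h2 : π x * π k = π k * π x := by
      have := congrArg (fun z => z * π k * π x) h1
      simpa [mul_assoc] using this
    exact h2.symm
  have hxK : π x ∈ K.map π := hKcent hcent
  have hxX : π x ∈ X.map π := ⟨x, hx, rfl⟩
  have h1 := eq_one_of_mem_of_mem hXb hKbp hxX hxK
  rw [hπ, QuotientGroup.mk'_apply, QuotientGroup.eq_one_iff] at h1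
  exact h1

/-- A3: `L = O_p(L) · N_L(K)` for an abelian Hall `p'`-subgroup `K` -/
theorem exists_mul_normalizer_hall [Group.IsSolvable L] {p : ℕ} [Fact p.Prime] (K : Subgroup L)
    (hKc : ∀ x ∈ K, ∀ y ∈ K, x * y = y * x) (hKp : (Nat.card K).Coprime p) (e : ℕ)
    (hKi : K.index = p ^ e) (x : L) :
    ∃ r ∈ Cfsg.pCore p L, ∃ n ∈ Subgroup.normalizer (K : Set L), x = r * n := by
  haveI hn : (Cfsg.pCore p L).Normal := pCore_normal' p
  obtain ⟨hKn, -⟩ := hall_quot_structure K hKc hKp e hKi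
  set R := Cfsg.pCore p L with hR
  set π := QuotientGroup.mk' R with hπ
  set M := (K.map π).comap π with hM
  haveI hMn : M.Normal := hKn.comap π
  have hKM : K ≤ M := fun k hk => ⟨k, hk, rfl⟩
  have hMs : Group.IsSolvable M := inferInstance
  have hHall : (Nat.card K).Coprime (K.relIndex M) := by
    have h1 : K.relIndex M ∣ p ^ e := hKi ▸ Subgroup.relIndex_dvd_index_of_le hKM
    exact Nat.Coprime.coprime_dvd_right h1 (Nat.Coprime.pow_right e hKp)
  have htop := Cfsg.Agent.S0050.result M hMs K hKM hHall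
  have hx : x ∈ ((M ⊔ Subgroup.normalizer (K : Set L) : Subgroup L) : Set L) := by
    rw [htop]; trivial
  rw [Subgroup.normal_mul] at hx
  obtain ⟨y, hy, n, hn', rfl⟩ := Set.mem_mul.mp hx
  obtain ⟨k, hk, hky⟩ := hy
  refine ⟨y * k⁻¹, ?_, k * n, mul_mem (Subgroup.le_normalizer hk) hn', by group⟩
  have : π (y * k⁻¹) = 1 := by
    rw [map_mul, map_inv, hky, mul_inv_cancel]
  rw [hπ, QuotientGroup.mk'_apply, QuotientGroup.eq_one_iff] at this
  exact this

end Cfsg.Agent.Lib.Helper95.S1936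

namespace Cfsg.Agent.Lib.Helper95.S1936

open Cfsg.Agent.Lib.Helper22.S1936 Cfsg.Agent.Lib.Helper55

variable {L : Type*} [Group L] [Finite L]

/-- an abelian Hall `p'`-subgroup through a given `p'`-subgroup (solvable group with `HP`) -/
theorem exists_abelian_hall [Group.IsSolvable L] {p : ℕ} [Fact p.Prime] (h : HP p L)
    (A : Subgroup L) (hA : (Nat.card A).Coprime p) :
    ∃ (K : Subgroup L) (e : ℕ), A ≤ K ∧ (∀ x ∈ K, ∀ y ∈ K, x * y = y * x) ∧
      (Nat.card K).Coprime p ∧ K.index = p ^ e := by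
  have hp : p.Prime := Fact.out
  obtain ⟨e, m, hm, hcard⟩ := Nat.exists_eq_pow_mul_and_not_dvd (Nat.card_pos (α := L)).ne' p
    hp.ne_one
  have hmp : m.Coprime p := ((Nat.Prime.coprime_iff_not_dvd hp).mpr hm).symm
  have hG : Nat.card L = m * p ^ e := by rw [hcard, mul_comm]
  have hmn : m.Coprime (p ^ e) := Nat.Coprime.pow_right e hmp
  obtain ⟨K, hK, hAK⟩ := Cfsg.Agent.S0005.result m (p ^ e) hG hmn A (Nat.Coprime.pow_right e hA)
  have hKp : (Nat.card K).Coprime p := by rw [hK]; exact hmp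
  have hm0 : 0 < m := by
    rcases Nat.eq_zero_or_pos m with h0 | h0
    · rw [h0, zero_mul] at hG
      exact absurd hG (Nat.card_pos (α := L)).ne'
    · exact h0
  have hKi : K.index = p ^ e := by
    have h1 := K.card_mul_index
    rw [hK, hG] at h1
    exact Nat.eq_of_mul_eq_mul_left hm0 h1
  obtain ⟨hc, -⟩ := h K hKp
  refine ⟨K, e, hAK, ?_, hKp, hKi⟩
  intro x hx y hy
  have := hc.is_comm.comm ⟨x, hx⟩ ⟨y, hy⟩
  exact congrArg Subtype.val this

/-- type-level U1 -/
theorem le_pCore_of_centralizer_normalizes [Group.IsSolvable L] {p : ℕ} [Fact p.Prime]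
    (h : HP p L) (a : L) (hacop : (orderOf a).Coprime p) (X : Subgroup L) (hX : IsPGroup p X)
    (hnorm : Subgroup.centralizer ({a} : Set L) ≤ Subgroup.normalizer (X : Set L)) :
    X ≤ Cfsg.pCore p L := by
  have hA : (Nat.card (Subgroup.zpowers a)).Coprime p := by
    rw [Nat.card_zpowers]; exact hacop
  obtain ⟨K, e, hAK, hKc, hKp, hKi⟩ := exists_abelian_hall h (Subgroup.zpowers a) hA
  have haK : a ∈ K := hAK (Subgroup.mem_zpowers a)
  apply le_pCore_of_hall_normalizes K hKc hKp e hKi X hX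
  refine le_trans ?_ hnorm
  intro k hk
  rw [Subgroup.mem_centralizer_iff]
  intro y hy
  rw [Set.mem_singleton_iff] at hy
  rw [hy]
  exact hKc a haK k hk

/-- a `2`-element commuting with a Sylow `2`-subgroup `S` (odd index) lies in `S` -/
theorem mem_of_commute_of_odd_index (S : Subgroup L) (hS : IsPGroup 2 S) (hodd : Odd S.index)
    (t : L) (ht : ∃ k : ℕ, t ^ 2 ^ k = 1) (hcomm : ∀ s ∈ S, t * s = s * t) : t ∈ S := by
  have htp : IsPGroup 2 (Subgroup.zpowers t) := by
    obtain ⟨k, hk⟩ := ht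
    rintro ⟨g, hg⟩
    obtain ⟨j, rfl⟩ := Subgroup.mem_zpowers_iff.mp hg
    refine ⟨k, Subtype.ext ?_⟩
    show (t ^ j) ^ 2 ^ k = 1
    rw [← zpow_natCast, ← zpow_mul, mul_comm, zpow_mul, zpow_natCast, hk, one_zpow]
  have hle : Subgroup.zpowers t ≤ Subgroup.normalizer (S : Set L) := by
    rw [Subgroup.zpowers_le]
    rw [Subgroup.mem_normalizer_iff]
    intro s
    constructor
    · intro hs
      rw [hcomm s hs, mul_inv_cancel_right]
      exact hs
    · intro hs
      have h1 := hcomm _ hs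
      have h2 : t * s * t⁻¹ = s := by
        have : t * (t * s * t⁻¹) = t * s := by
          rw [h1]; group
        exact mul_left_cancel (a := t) (by rw [this])
      rw [h2] at hs
      exact hs
  have hS' : IsPGroup 2 (Subgroup.zpowers t ⊔ S : Subgroup L) :=
    IsPGroup.to_sup_of_normal_right' htp hS hle
  have hSle : S ≤ Subgroup.zpowers t ⊔ S := le_sup_right
  obtain ⟨j, hj⟩ := IsPGroup.iff_card.mp hS'
  have hdvd : Nat.card (Subgroup.zpowers t ⊔ S : Subgroup L) ∣ Nat.card S := by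
    have h1 : Nat.card (Subgroup.zpowers t ⊔ S : Subgroup L) ∣ Nat.card L :=
      Subgroup.card_subgroup_dvd_card _
    rw [← S.card_mul_index] at h1
    have hc : (Nat.card (Subgroup.zpowers t ⊔ S : Subgroup L)).Coprime S.index := by
      rw [hj]
      exact Nat.Coprime.pow_left j (Nat.coprime_two_left.mpr hodd)
    exact hc.dvd_of_dvd_mul_right h1
  have heq : S = Subgroup.zpowers t ⊔ S :=
    Subgroup.eq_of_le_of_card_ge hSle (Nat.le_of_dvd Nat.card_pos hdvd)
  rw [heq]
  exact le_sup_left (a := Subgroup.zpowers t) (Subgroup.mem_zpowers t)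

/-- A5: the normalizer of an abelian subgroup `K ≥ S` normalizes the Sylow `2`-subgroup `S` -/
theorem normalizer_le_normalizer_sylow (K S : Subgroup L)
    (hKc : ∀ x ∈ K, ∀ y ∈ K, x * y = y * x) (hSK : S ≤ K) (hS : IsPGroup 2 S)
    (hodd : Odd S.index) :
    Subgroup.normalizer (K : Set L) ≤ Subgroup.normalizer (S : Set L) := by
  have key : ∀ n ∈ Subgroup.normalizer (K : Set L), ∀ s ∈ S, n * s * n⁻¹ ∈ S := by
    intro n hn s hs
    apply mem_of_commute_of_odd_index S hS hodd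
    · obtain ⟨k, hk⟩ := hS ⟨s, hs⟩
      refine ⟨k, ?_⟩
      have hk' : s ^ 2 ^ k = 1 := by
        have := congrArg Subtype.val hk
        simpa using this
      rw [conj_pow, hk', mul_one, mul_inv_cancel]
    · intro s' hs'
      have h1 : n * s * n⁻¹ ∈ K := (Subgroup.mem_normalizer_iff.mp hn s).mp (hSK hs)
      exact hKc _ h1 _ (hSK hs')
  intro n hn
  rw [Subgroup.mem_normalizer_iff]
  intro s
  constructor
  · exact key n hn s
  · intro hs
    have := key n⁻¹ (inv_mem hn) _ hs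
    simpa [mul_assoc] using this

/-- type-level U2 -/
theorem exists_mul_normalizer_sylow [Group.IsSolvable L] {p : ℕ} [Fact p.Prime] (h : HP p L)
    (hp2 : p ≠ 2) (S : Subgroup L) (hS : IsPGroup 2 S) (hodd : Odd S.index) (x : L) :
    ∃ r ∈ Cfsg.pCore p L, ∃ n ∈ Subgroup.normalizer (S : Set L), x = r * n := by
  have hp : p.Prime := Fact.out
  have hA : (Nat.card S).Coprime p := by
    obtain ⟨k, hk⟩ := IsPGroup.iff_card.mp hS
    rw [hk]
    exact Nat.Coprime.pow_left k ((Nat.coprime_primes Nat.prime_two hp).mpr (Ne.symm hp2))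
  obtain ⟨K, e, hSK, hKc, hKp, hKi⟩ := exists_abelian_hall h S hA
  obtain ⟨r, hr, n, hn, hx⟩ := exists_mul_normalizer_hall K hKc hKp e hKi x
  exact ⟨r, hr, n, normalizer_le_normalizer_sylow K S hKc hSK hS hodd hn, hx⟩

end Cfsg.Agent.Lib.Helper95.S1936

namespace Cfsg.Agent.Lib.Helper95.S1936

open Cfsg.Agent.Lib.Helper22.S1936 Cfsg.Agent.Lib.Helper55

variable {G : Type u} [Group G] [Finite G] {p : ℕ} [Fact p.Prime]

/-- LOC-[U1] (A4 via a Hall `p'`-subgroup through `a`): a `p`-subgroup `X` of the solvable subgroup `H`, normalized by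
`C_H(a)` for some `p'`-element `a ∈ H`, lies in `O_p(H)`. -/
theorem le_pCoreOf_of_centralizer_normalizes (h : HP p G) (hp2 : p ≠ 2) (H : Subgroup G)
    (hs : Group.IsSolvable ↥H) (a : G) (haH : a ∈ H) (hacop : (orderOf a).Coprime p)
    (X : Subgroup G) (hXH : X ≤ H) (hX : IsPGroup p ↥X)
    (hnorm : H ⊓ Subgroup.centralizer ({a} : Set G) ≤ Subgroup.normalizer (X : Set G)) :
    X ≤ Cfsg.pCoreOf p H := by
  have hHP : HP p ↥H := h.subgroup H
  have hX' : IsPGroup p (X.subgroupOf H) := hX.comap_subtype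
  have hacop' : (orderOf (⟨a, haH⟩ : H)).Coprime p := by
    rw [Subgroup.orderOf_mk]; exact hacop
  have hnorm' : Subgroup.centralizer ({(⟨a, haH⟩ : H)} : Set H) ≤
      Subgroup.normalizer ((X.subgroupOf H : Subgroup H) : Set H) := by
    intro c hc
    have hcG : (c : G) ∈ H ⊓ Subgroup.centralizer ({a} : Set G) := by
      refine Subgroup.mem_inf.mpr ⟨c.2, ?_⟩
      rw [Subgroup.mem_centralizer_iff] at hc ⊢
      intro y hy
      rw [Set.mem_singleton_iff] at hy
      rw [hy]
      have := hc ⟨a, haH⟩ (Set.mem_singleton _)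
      exact congrArg Subtype.val this
    have hcN := hnorm hcG
    rw [Subgroup.mem_normalizer_iff] at hcN ⊢
    intro y
    rw [Subgroup.mem_subgroupOf, Subgroup.mem_subgroupOf]
    exact hcN y
  have key := le_pCore_of_centralizer_normalizes hHP ⟨a, haH⟩ hacop' (X.subgroupOf H) hX' hnorm'
  intro x hx
  exact ⟨⟨x, hXH hx⟩, key (Subgroup.mem_subgroupOf.mpr hx), rfl⟩

/-- LOC-[U2] (A3 + A5): if `S ≤ H` is a Sylow 2-subgroup of the solvable subgroup `H` then `H = O_p(H) · N_H(S)`. -/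
theorem factor_pCoreOf_normalizer (h : HP p G) (hp2 : p ≠ 2) (H : Subgroup G)
    (hs : Group.IsSolvable ↥H) (S : Subgroup G) (hSH : S ≤ H) (hS : IsPGroup 2 ↥S)
    (hodd : Odd (S.relIndex H)) (x : G) (hx : x ∈ H) :
    ∃ r ∈ Cfsg.pCoreOf p H, ∃ n ∈ H ⊓ Subgroup.normalizer (S : Set G), x = r * n := by
  have hHP : HP p ↥H := h.subgroup H
  have hS' : IsPGroup 2 (S.subgroupOf H) := hS.comap_subtype
  have hodd' : Odd (S.subgroupOf H).index := hodd
  obtain ⟨r, hr, n, hn, hxrn⟩ :=
    exists_mul_normalizer_sylow hHP hp2 (S.subgroupOf H) hS' hodd' ⟨x, hx⟩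
  refine ⟨(r : G), ⟨r, hr, rfl⟩, (n : G), Subgroup.mem_inf.mpr ⟨n.2, ?_⟩, ?_⟩
  · rw [Subgroup.mem_normalizer_iff] at hn ⊢
    intro g
    constructor
    · intro hg
      have := (hn ⟨g, hSH hg⟩).mp (Subgroup.mem_subgroupOf.mpr hg)
      exact Subgroup.mem_subgroupOf.mp this
    · intro hg
      have hgH : g ∈ H := by
        have h1 : (n : G)⁻¹ * ((n : G) * g * (n : G)⁻¹) * (n : G) ∈ H :=
          mul_mem (mul_mem (inv_mem n.2) (hSH hg)) n.2
        have h2 : (n : G)⁻¹ * ((n : G) * g * (n : G)⁻¹) * (n : G) = g := by group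
        rwa [h2] at h1
      have := (hn ⟨g, hgH⟩).mpr (Subgroup.mem_subgroupOf.mpr hg)
      exact Subgroup.mem_subgroupOf.mp this
  · have := congrArg Subtype.val hxrn
    simpa using this

end Cfsg.Agent.Lib.Helper95.S1936
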