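/-
helper95: `SO₄⁺(F) ≤ GL₂(F) ⊗ GL₂(F)` (any field with `2 ≠ 0`), in plain matrix form.
The hyperbolic 4-space is `(M₂(F), det)`, vectors `m : Fin 2 × Fin 2 → F`; `(x ⊗ₖ y) *ᵥ m = x m yᵀ`.
Route: Cartan–Dieudonné (helper13 `isoGroup_le_reflGroup`); the maps `m ↦ x m yᵀ`, `m ↦ x adj(m) yᵀ` form a
group containing all reflections; `det` excludes the second coset.
Sub-leaf of ASCHOE-[E-O3O4P].
-/
import Mathlib
import Cfsg.Agent.Lib.Helper13.Dickson

set_option autoImplicit false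

namespace Cfsg.Agent.Lib.Helper95.SO4

open scoped Matrix Kronecker

variable {F : Type*} [Field F]

/-- index type of `M₂(F)` as a vector space -/
abbrev I4 : Type := Fin 2 × Fin 2

/-- the symplectic Gram matrix `ω` -/
def om : Matrix (Fin 2) (Fin 2) F := !![0, 1; -1, 0]

/-- `det` on `M₂(F)` in vector form -/
def Qd (m : I4 → F) : F := m (0, 0) * m (1, 1) - m (0, 1) * m (1, 0)

/-- the adjugate on `M₂(F)` in vector form -/
def adjv (m : I4 → F) : I4 → F := fun p =>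
  if p.1 = p.2 then m (p.2 + 1, p.1 + 1) else - m p

theorem adjv_adjv (m : I4 → F) : adjv (adjv m) = m := by
  funext ⟨i, j⟩
  fin_cases i <;> fin_cases j <;> simp [adjv]

theorem Qd_adjv (m : I4 → F) : Qd (adjv m) = Qd m := by
  simp [Qd, adjv]
  ring

/-- `(x ⊗ y) m = x m yᵀ`, coordinatewise -/
theorem kron_mulVec (x y : Matrix (Fin 2) (Fin 2) F) (m : I4 → F) (i j : Fin 2) :
    ((x ⊗ₖ y) *ᵥ m) (i, j) = x i 0 * y j 0 * m (0, 0) + x i 0 * y j 1 * m (0, 1) +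
      x i 1 * y j 0 * m (1, 0) + x i 1 * y j 1 * m (1, 1) := by
  simp [Matrix.mulVec, dotProduct, Fintype.sum_prod_type, Fin.sum_univ_two,
    Matrix.kroneckerMap_apply]
  ring

theorem Qd_kron (x y : Matrix (Fin 2) (Fin 2) F) (m : I4 → F) :
    Qd ((x ⊗ₖ y) *ᵥ m) = x.det * y.det * Qd m := by
  simp only [Qd, kron_mulVec, Matrix.det_fin_two]
  ring

/-- commutation of `adj` with `x ⊗ y` -/
theorem adjv_kron (x y : Matrix (Fin 2) (Fin 2) F) (m : I4 → F) :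
    adjv ((x ⊗ₖ y) *ᵥ m) = ((Matrix.adjugate y)ᵀ ⊗ₖ (Matrix.adjugate x)ᵀ) *ᵥ adjv m := by
  funext ⟨i, j⟩
  fin_cases i <;> fin_cases j <;>
    simp [adjv, kron_mulVec, Matrix.adjugate_fin_two] <;> ring

end Cfsg.Agent.Lib.Helper95.SO4

namespace Cfsg.Agent.Lib.Helper95.SO4

open scoped Matrix Kronecker
open Cfsg.Agent.Lib.Helper13

variable {F : Type*} [Field F]

theorem polar_Qd (m n : I4 → F) : QuadraticMap.polar Qd m n =
    m (0, 0) * n (1, 1) + m (1, 1) * n (0, 0) - m (0, 1) * n (1, 0) - m (1, 0) * n (0, 1) := by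
  simp [QuadraticMap.polar, Qd]
  ring

/-- `det` on `M₂(F)` as a quadratic form -/
def QdForm : QuadraticForm F (I4 → F) :=
  QuadraticMap.ofPolar Qd
    (fun a x => by simp [Qd]; ring)
    (fun x x' y => by simp only [polar_Qd, Pi.add_apply]; ring)
    (fun a x y => by simp only [polar_Qd, Pi.smul_apply, smul_eq_mul]; ring)

@[simp] theorem QdForm_apply (m : I4 → F) : QdForm m = Qd m := rfl

theorem polarBilin_QdForm (m n : I4 → F) :
    QuadraticMap.polarBilin (QdForm (F := F)) m n = QuadraticMap.polar Qd m n := rfl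

theorem nondeg_QdForm : (QuadraticMap.polarBilin (QdForm (F := F))).Nondegenerate := by
  constructor
  · intro m hm
    funext ⟨i, j⟩
    have h00 := hm (Pi.single (1, 1) 1)
    have h11 := hm (Pi.single (0, 0) 1)
    have h01 := hm (Pi.single (1, 0) 1)
    have h10 := hm (Pi.single (0, 1) 1)
    rw [polarBilin_QdForm, polar_Qd] at h00 h11 h01 h10
    simp at h00 h11 h01 h10
    fin_cases i <;> fin_cases j <;> simp <;> assumption
  · intro m hm
    funext ⟨i, j⟩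
    have h00 := hm (Pi.single (1, 1) 1)
    have h11 := hm (Pi.single (0, 0) 1)
    have h01 := hm (Pi.single (1, 0) 1)
    have h10 := hm (Pi.single (0, 1) 1)
    rw [polarBilin_QdForm, polar_Qd] at h00 h11 h01 h10
    simp at h00 h11 h01 h10
    fin_cases i <;> fin_cases j <;> simp <;> assumption

/-- matrix of a vector -/
def vmat (v : I4 → F) : Matrix (Fin 2) (Fin 2) F := fun i j => v (i, j)

theorem det_vmat (v : I4 → F) : (vmat v).det = Qd v := by
  simp [Matrix.det_fin_two, vmat, Qd]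

/-- the reflection along `v` is `m ↦ -(det v)⁻¹ v adj(m) v` -/
theorem reflLin_QdForm (v : I4 → F) (hv : Qd v ≠ 0) (z : I4 → F) :
    reflLin QdForm v z = (((-(Qd v)⁻¹) • vmat v) ⊗ₖ (vmat v)ᵀ) *ᵥ adjv z := by
  rw [reflLin_apply]
  funext ⟨i, j⟩
  have hpol : QuadraticMap.polar (⇑(QdForm (F := F))) v z = QuadraticMap.polar Qd v z := rfl
  rw [hpol, polar_Qd, kron_mulVec]
  have hv' : v (0, 0) * v (1, 1) - v (0, 1) * v (1, 0) ≠ 0 := hv
  fin_cases i <;> fin_cases j <;>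
    simp [adjv, vmat, Qd] <;> field_simp <;> ring

end Cfsg.Agent.Lib.Helper95.SO4

namespace Cfsg.Agent.Lib.Helper95.SO4

open scoped Matrix Kronecker
open Cfsg.Agent.Lib.Helper13

variable {F : Type*} [Field F]

/-- `T` is `m ↦ x m yᵀ` or `m ↦ x adj(m) yᵀ` -/
def IsKA (T : (I4 → F) ≃ₗ[F] (I4 → F)) : Prop :=
  ∃ x y : Matrix (Fin 2) (Fin 2) F, x.det ≠ 0 ∧ y.det ≠ 0 ∧
    ((∀ m, T m = (x ⊗ₖ y) *ᵥ m) ∨ (∀ m, T m = (x ⊗ₖ y) *ᵥ adjv m))

theorem isKA_one : IsKA (1 : (I4 → F) ≃ₗ[F] (I4 → F)) :=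
  ⟨1, 1, by simp, by simp, Or.inl (fun m => by simp)⟩

theorem det_adjugate_transpose_ne (x : Matrix (Fin 2) (Fin 2) F) (hx : x.det ≠ 0) :
    ((Matrix.adjugate x)ᵀ).det ≠ 0 := by
  rw [Matrix.det_transpose, Matrix.det_adjugate]
  simpa using hx

theorem kron_kron_mulVec (x y x' y' : Matrix (Fin 2) (Fin 2) F) (m : I4 → F) :
    (x ⊗ₖ y) *ᵥ ((x' ⊗ₖ y') *ᵥ m) = ((x * x') ⊗ₖ (y * y')) *ᵥ m := by
  rw [Matrix.mulVec_mulVec, ← Matrix.mul_kronecker_mul]

theorem isKA_mul {T₁ T₂ : (I4 → F) ≃ₗ[F] (I4 → F)} (h₁ : IsKA T₁) (h₂ : IsKA T₂) :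
    IsKA (T₁ * T₂) := by
  obtain ⟨x, y, hx, hy, h₁⟩ := h₁
  obtain ⟨x', y', hx', hy', h₂⟩ := h₂
  have hmul : ∀ m, (T₁ * T₂) m = T₁ (T₂ m) := fun m => rfl
  rcases h₁ with h₁ | h₁ <;> rcases h₂ with h₂ | h₂
  · refine ⟨x * x', y * y', by rw [Matrix.det_mul]; exact mul_ne_zero hx hx',
      by rw [Matrix.det_mul]; exact mul_ne_zero hy hy', Or.inl fun m => ?_⟩
    rw [hmul, h₂, h₁, kron_kron_mulVec]
  · refine ⟨x * x', y * y', by rw [Matrix.det_mul]; exact mul_ne_zero hx hx',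
      by rw [Matrix.det_mul]; exact mul_ne_zero hy hy', Or.inr fun m => ?_⟩
    rw [hmul, h₂, h₁, kron_kron_mulVec]
  · refine ⟨x * (Matrix.adjugate y')ᵀ, y * (Matrix.adjugate x')ᵀ,
      by rw [Matrix.det_mul]; exact mul_ne_zero hx (det_adjugate_transpose_ne y' hy'),
      by rw [Matrix.det_mul]; exact mul_ne_zero hy (det_adjugate_transpose_ne x' hx'),
      Or.inr fun m => ?_⟩
    rw [hmul, h₂, h₁, adjv_kron, kron_kron_mulVec]
  · refine ⟨x * (Matrix.adjugate y')ᵀ, y * (Matrix.adjugate x')ᵀ,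
      by rw [Matrix.det_mul]; exact mul_ne_zero hx (det_adjugate_transpose_ne y' hy'),
      by rw [Matrix.det_mul]; exact mul_ne_zero hy (det_adjugate_transpose_ne x' hx'),
      Or.inl fun m => ?_⟩
    rw [hmul, h₂, h₁, adjv_kron, adjv_adjv, kron_kron_mulVec]

theorem kron_inv_cancel (x y : Matrix (Fin 2) (Fin 2) F) (hx : x.det ≠ 0) (hy : y.det ≠ 0)
    (m : I4 → F) : (x ⊗ₖ y) *ᵥ ((x⁻¹ ⊗ₖ y⁻¹) *ᵥ m) = m := by
  rw [kron_kron_mulVec, Matrix.mul_nonsing_inv _ (isUnit_iff_ne_zero.mpr hx),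
    Matrix.mul_nonsing_inv _ (isUnit_iff_ne_zero.mpr hy), Matrix.one_kronecker_one,
    Matrix.one_mulVec]

theorem isKA_inv {T : (I4 → F) ≃ₗ[F] (I4 → F)} (h : IsKA T) : IsKA T⁻¹ := by
  obtain ⟨x, y, hx, hy, h⟩ := h
  have hxi : (x⁻¹).det ≠ 0 := by
    rw [Matrix.det_nonsing_inv]; simpa using hx
  have hyi : (y⁻¹).det ≠ 0 := by
    rw [Matrix.det_nonsing_inv]; simpa using hy
  have hinv : ∀ m z, T z = m → T⁻¹ m = z := by
    intro m z hz
    rw [← hz]
    exact T.symm_apply_apply z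
  rcases h with h | h
  · refine ⟨x⁻¹, y⁻¹, hxi, hyi, Or.inl fun m => ?_⟩
    apply hinv
    rw [h, kron_inv_cancel x y hx hy]
  · refine ⟨(Matrix.adjugate y⁻¹)ᵀ, (Matrix.adjugate x⁻¹)ᵀ, det_adjugate_transpose_ne _ hyi,
      det_adjugate_transpose_ne _ hxi, Or.inr fun m => ?_⟩
    apply hinv
    rw [h, ← adjv_kron, adjv_adjv, kron_inv_cancel x y hx hy]

theorem isKA_refl {T : (I4 → F) ≃ₗ[F] (I4 → F)} (hT : T ∈ reflSet (QdForm (F := F))) : IsKA T := by
  obtain ⟨v, hv, hTv⟩ := hT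
  have hv' : Qd v ≠ 0 := hv
  refine ⟨(-(Qd v)⁻¹) • vmat v, (vmat v)ᵀ, ?_, ?_, Or.inr fun m => ?_⟩
  · rw [Matrix.det_smul, det_vmat]
    simp [hv']
  · rw [Matrix.det_transpose, det_vmat]
    exact hv'
  · rw [hTv, reflLin_QdForm v hv']

theorem isKA_of_mem_reflGroup {T : (I4 → F) ≃ₗ[F] (I4 → F)} (hT : T ∈ reflGroup (QdForm (F := F))) :
    IsKA T := by
  unfold reflGroup at hT
  induction hT using Subgroup.closure_induction with
  | mem x hx => exact isKA_refl hx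
  | one => exact isKA_one
  | mul x y _ _ hx hy => exact isKA_mul hx hy
  | inv x _ hx => exact isKA_inv hx

end Cfsg.Agent.Lib.Helper95.SO4

namespace Cfsg.Agent.Lib.Helper95.SO4

open scoped Matrix Kronecker
open Cfsg.Agent.Lib.Helper13

variable {F : Type*} [Field F]

/-- the Gram matrix `ω ⊗ ω` is that of the polar form of `det` -/
theorem dot_J (m n : I4 → F) :
    m ⬝ᵥ (((om : Matrix (Fin 2) (Fin 2) F) ⊗ₖ om) *ᵥ n) = QuadraticMap.polar Qd m n := by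
  rw [polar_Qd]
  simp [dotProduct, Fintype.sum_prod_type, Fin.sum_univ_two, kron_mulVec, om]
  ring

theorem two_mul_Qd (m : I4 → F) :
    2 * Qd m = m ⬝ᵥ (((om : Matrix (Fin 2) (Fin 2) F) ⊗ₖ om) *ᵥ m) := by
  rw [dot_J, polar_Qd, Qd]
  ring

/-- a matrix preserving the Gram matrix `ω ⊗ ω` preserves `det` -/
theorem Qd_mulVec_of_gram (h2 : (2 : F) ≠ 0) (b : Matrix I4 I4 F)
    (hb : bᵀ * ((om : Matrix (Fin 2) (Fin 2) F) ⊗ₖ om) * b = om ⊗ₖ om) (m : I4 → F) :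
    Qd (b *ᵥ m) = Qd m := by
  apply mul_left_cancel₀ h2
  rw [two_mul_Qd, two_mul_Qd]
  conv_rhs => rw [← hb]
  rw [← Matrix.mulVec_mulVec, ← Matrix.mulVec_mulVec,
    Matrix.dotProduct_mulVec m bᵀ, Matrix.vecMul_transpose]

end Cfsg.Agent.Lib.Helper95.SO4

namespace Cfsg.Agent.Lib.Helper95.SO4

open scoped Matrix Kronecker
open Cfsg.Agent.Lib.Helper13

variable {F : Type*} [Field F]

/-- three distinct elements when `2 ≠ 0` -/
theorem exists_ne_ne (h2 : (2 : F) ≠ 0) (a b : F) : ∃ x : F, x ≠ a ∧ x ≠ b := by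
  have h1 : (1 : F) ≠ -1 := by
    intro h
    apply h2
    have : (2 : F) = 1 + 1 := by norm_num
    rw [this]
    nth_rewrite 2 [h]
    ring
  by_cases ha0 : a = 0
  · by_cases hb1 : b = 1
    · exact ⟨-1, by rw [ha0]; simp, by rw [hb1]; exact fun h => h1 h.symm⟩
    · exact ⟨1, by rw [ha0]; simp, fun h => hb1 h.symm⟩
  · by_cases hb0 : b = 0
    · by_cases ha1 : a = 1
      · exact ⟨-1, by rw [ha1]; exact fun h => h1 h.symm, by rw [hb0]; simp⟩
      · exact ⟨1, fun h => ha1 h.symm, by rw [hb0]; simp⟩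
    · exact ⟨0, fun h => ha0 h.symm, fun h => hb0 h.symm⟩

/-- the matrix of `adj` -/
def Aadj : Matrix I4 I4 F :=
  Matrix.diagonal (fun p : I4 => if p.1 = p.2 then (1 : F) else -1) *
    (Equiv.swap ((0, 0) : I4) (1, 1)).permMatrix F

theorem Aadj_mulVec (m : I4 → F) : (Aadj : Matrix I4 I4 F) *ᵥ m = adjv m := by
  unfold Aadj
  rw [← Matrix.mulVec_mulVec, PEquiv.toMatrix_toPEquiv_mulVec]
  funext ⟨i, j⟩
  rw [Matrix.mulVec_diagonal]
  fin_cases i <;> fin_cases j <;> simp [adjv, Equiv.swap_apply_def]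

theorem det_Aadj : (Aadj : Matrix I4 I4 F).det = -1 := by
  unfold Aadj
  rw [Matrix.det_mul, Matrix.det_diagonal, Matrix.det_permutation,
    Equiv.Perm.sign_swap (by decide), Fintype.prod_prod_type]
  simp [Fin.prod_univ_two]

/-- matrices with the same `mulVec` are equal -/
theorem eq_of_mulVec_eq (a b : Matrix I4 I4 F) (h : ∀ m, a *ᵥ m = b *ᵥ m) : a = b := by
  apply Matrix.toLin'.injective
  apply LinearMap.ext
  intro m
  rw [Matrix.toLin'_apply, Matrix.toLin'_apply, h]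

/-- the linear equivalence of a matrix of determinant one -/
theorem exists_linearEquiv (b : Matrix I4 I4 F) (hdet : b.det = 1) :
    ∃ T : (I4 → F) ≃ₗ[F] (I4 → F), ∀ m, T m = b *ᵥ m := by
  have hinv : Invertible b := Matrix.invertibleOfIsUnitDet b (by rw [hdet]; exact isUnit_one)
  refine ⟨Matrix.toLinearEquiv' b hinv, fun m => ?_⟩
  have h1 := congrArg (fun f : (I4 → F) →ₗ[F] (I4 → F) => f m) (Matrix.toLinearEquiv'_apply b hinv)
  simp only [Matrix.toLin'_apply] at h1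
  exact h1

/-- the identity matrix as a vector -/
def m₁ : I4 → F := fun p => if p.1 = p.2 then 1 else 0

theorem Qd_m₁ : Qd (m₁ : I4 → F) = 1 := by simp [Qd, m₁]

theorem det_kron_Aadj (x y : Matrix (Fin 2) (Fin 2) F) (hxy : x.det * y.det = 1) :
    ((x ⊗ₖ y) * Aadj).det = -1 := by
  rw [Matrix.det_mul, Matrix.det_kronecker, det_Aadj]
  simp only [Fintype.card_fin]
  have : x.det ^ 2 * y.det ^ 2 = (x.det * y.det) ^ 2 := by ring
  rw [this, hxy]
  ring

theorem one_ne_neg_one (h2 : (2 : F) ≠ 0) : (1 : F) ≠ -1 := by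
  intro h
  apply h2
  have : (2 : F) = 1 + 1 := by norm_num
  rw [this]
  nth_rewrite 2 [h]
  ring

theorem isoGroup_le_reflGroup_Qd (hF : ∀ a b : F, ∃ x : F, x ≠ a ∧ x ≠ b) :
    isoGroup (QdForm (F := F)) ≤ reflGroup (QdForm (F := F)) := by
  have h1 : (QuadraticMap.polarBilin (QdForm (F := F))).Nondegenerate := nondeg_QdForm
  have h2 : (∀ a b : F, ∃ x : F, x ≠ a ∧ x ≠ b) ∨ Module.finrank F (I4 → F) ≠ 4 := Or.inl hF
  exact isoGroup_le_reflGroup (QdForm (F := F)) h1 h2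

/-- **`SO₄⁺ ≤ GL₂ ⊗ GL₂`**: a matrix of determinant one preserving the Gram matrix `ω ⊗ ω` of the
hyperbolic 4-space `(M₂(F), det)` is a Kronecker product. -/
theorem so4_kronecker (h2 : (2 : F) ≠ 0) (b : Matrix I4 I4 F)
    (hb : bᵀ * ((om : Matrix (Fin 2) (Fin 2) F) ⊗ₖ om) * b = om ⊗ₖ om) (hdet : b.det = 1) :
    ∃ x y : Matrix (Fin 2) (Fin 2) F, x.det ≠ 0 ∧ y.det ≠ 0 ∧ b = x ⊗ₖ y := by
  have hQ : ∀ m, Qd (b *ᵥ m) = Qd m := Qd_mulVec_of_gram h2 b hb
  obtain ⟨T, hT⟩ := exists_linearEquiv b hdet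
  have hiso : T ∈ isoGroup (QdForm (F := F)) := by
    intro z
    rw [hT]
    exact hQ z
  have hrefl : T ∈ reflGroup (QdForm (F := F)) :=
    isoGroup_le_reflGroup_Qd (exists_ne_ne h2) hiso
  obtain ⟨x, y, hx, hy, h | h⟩ := isKA_of_mem_reflGroup hrefl
  · refine ⟨x, y, hx, hy, ?_⟩
    apply eq_of_mulVec_eq
    intro m
    rw [← hT, h]
  · exfalso
    have hbA : b = (x ⊗ₖ y) * Aadj := by
      apply eq_of_mulVec_eq
      intro m
      rw [← hT, h, ← Matrix.mulVec_mulVec, Aadj_mulVec]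
    have hxy : x.det * y.det = 1 := by
      have := hQ m₁
      rw [← hT, h, Qd_kron, Qd_adjv, Qd_m₁, mul_one] at this
      exact this
    have hd : b.det = -1 := by
      rw [hbA]
      exact det_kron_Aadj x y hxy
    rw [hdet] at hd
    exact one_ne_neg_one h2 hd

end Cfsg.Agent.Lib.Helper95.SO4
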