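import Mathlib
import Cfsg.Agent.Lib.Helper56.F4
import Cfsg.Agent.Lib.Helper5.UnitaryCenter
import Cfsg.Agent.Lib.Helper90.Rel54
import Cfsg.Agent.S5555

set_option autoImplicit false
set_option maxRecDepth 100000

namespace Cfsg.Agent.Lib.Helper95.SU54

open Matrix Cfsg Cfsg.Agent.Lib.Helper56 Cfsg.Agent.Lib.Helper5 Cfsg.Agent.Lib.Helper90
open scoped commutatorElement

abbrev K := F4
abbrev M3 := Matrix (Fin 3) (Fin 3) F4

def mx : M3 := !![F4.z, F4.z, F4.o; F4.o, F4.z, F4.z; F4.z, F4.o, F4.z]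
def my : M3 := !![F4.w, F4.z, F4.z; F4.z, F4.v, F4.z; F4.z, F4.z, F4.o]
def mz : M3 := !![F4.w, F4.z, F4.z; F4.z, F4.w, F4.z; F4.z, F4.z, F4.w]
def md : M3 := !![F4.z, F4.o, F4.z; F4.o, F4.z, F4.z; F4.z, F4.z, F4.o]
def ma : M3 := !![F4.w, F4.v, F4.o; F4.v, F4.w, F4.o; F4.o, F4.o, F4.o]
def mb : M3 := !![F4.w, F4.v, F4.w; F4.v, F4.w, F4.w; F4.v, F4.v, F4.o]

theorem hF4 : Fintype.card F4 = 2 ^ 2 := by decide

/-- constructor from decidable matrix facts -/
def mk (M : M3) (hdet : M.det = 1) (hU : Mᵀ * M.map (· ^ 2) = 1) : SU 3 F4 2 :=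
  SUofPreserves M hdet ((isUnitaryMat_iff_preserves hF4 M).mp hU)

theorem mk_coe (M : M3) (hdet : M.det = 1) (hU : Mᵀ * M.map (· ^ 2) = 1) :
    ((mk M hdet hU : SU 3 F4 2) : Matrix.SpecialLinearGroup (Fin 3) F4).1 = M := rfl

theorem det_mx : mx.det = 1 := by rw [Matrix.det_fin_three]; decide
theorem det_my : my.det = 1 := by rw [Matrix.det_fin_three]; decide
theorem det_mz : mz.det = 1 := by rw [Matrix.det_fin_three]; decide
theorem det_md : md.det = 1 := by rw [Matrix.det_fin_three]; decide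
theorem det_ma : ma.det = 1 := by rw [Matrix.det_fin_three]; decide
theorem det_mb : mb.det = 1 := by rw [Matrix.det_fin_three]; decide

theorem un_mx : mxᵀ * mx.map (· ^ 2) = 1 := by decide
theorem un_my : myᵀ * my.map (· ^ 2) = 1 := by decide
theorem un_mz : mzᵀ * mz.map (· ^ 2) = 1 := by decide
theorem un_md : mdᵀ * md.map (· ^ 2) = 1 := by decide
theorem un_ma : maᵀ * ma.map (· ^ 2) = 1 := by decide
theorem un_mb : mbᵀ * mb.map (· ^ 2) = 1 := by decide

def sx : SU 3 F4 2 := mk mx det_mx un_mx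
def sy : SU 3 F4 2 := mk my det_my un_my
def sz : SU 3 F4 2 := mk mz det_mz un_mz
def sd : SU 3 F4 2 := mk md det_md un_md
def sa : SU 3 F4 2 := mk ma det_ma un_ma
def sb : SU 3 F4 2 := mk mb det_mb un_mb


theorem su_ext {g h : SU 3 F4 2} (hm : (g : Matrix.SpecialLinearGroup (Fin 3) F4).1 = h.1.1) : g = h :=
  Subtype.ext (Subtype.ext hm)

theorem coe_mul' (g h : SU 3 F4 2) : (g * h).1.1 = g.1.1 * h.1.1 := rfl

theorem coe_one' : (1 : SU 3 F4 2).1.1 = 1 := rfl

/-! matrix identities (all by `decide`) -/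
theorem m_x3 : mx * mx * mx = 1 := by decide
theorem m_y3 : my * my * my = 1 := by decide
theorem m_z3 : mz * mz * mz = 1 := by decide
theorem m_d2 : md * md = 1 := by decide
theorem m_zx : mz * mx = mx * mz := by decide
theorem m_zy : mz * my = my * mz := by decide
theorem m_zd : mz * md = md * mz := by decide
theorem m_yx : my * mx = mx * my * mz := by decide
theorem m_dx : md * mx = mx * mx * md := by decide
theorem m_dy : md * my = my * my * md := by decide
theorem m_ab : ma * mb = md * mb * ma := by decide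

theorem s_x3 : sx * sx * sx = 1 := su_ext m_x3
theorem s_y3 : sy * sy * sy = 1 := su_ext m_y3
theorem s_z3 : sz * sz * sz = 1 := su_ext m_z3
theorem s_d2 : sd * sd = 1 := su_ext m_d2
theorem s_zx : sz * sx = sx * sz := su_ext m_zx
theorem s_zy : sz * sy = sy * sz := su_ext m_zy
theorem s_zd : sz * sd = sd * sz := su_ext m_zd
theorem s_yx : sy * sx = sx * sy * sz := su_ext m_yx
theorem s_dx : sd * sx = sx * sx * sd := su_ext m_dx
theorem s_dy : sd * sy = sy * sy * sd := su_ext m_dy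
theorem s_ab : sa * sb = sd * sb * sa := su_ext m_ab

theorem sx_inv : sx⁻¹ = sx * sx := by
  rw [inv_eq_iff_mul_eq_one, ← mul_assoc]; exact s_x3
theorem sy_inv : sy⁻¹ = sy * sy := by
  rw [inv_eq_iff_mul_eq_one, ← mul_assoc]; exact s_y3
theorem sd_inv : sd⁻¹ = sd := by
  rw [inv_eq_iff_mul_eq_one]; exact s_d2

abbrev C : Subgroup (SU 3 F4 2) := commutator (SU 3 F4 2)

theorem comm_mem (g h : SU 3 F4 2) : ⁅g, h⁆ ∈ C :=
  Subgroup.commutator_mem_commutator (Subgroup.mem_top g) (Subgroup.mem_top h)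

theorem sx_mem : sx ∈ C := by
  have h : ⁅sd, sx⁆ = sx := by
    rw [commutatorElement_def, s_dx, sd_inv, sx_inv]
    have := s_x3; have := s_d2
    calc sx * sx * sd * sd * (sx * sx) = sx * sx * (sd * sd) * (sx * sx) := by group
      _ = sx * (sx * sx * sx) := by rw [s_d2]; group
      _ = sx := by rw [s_x3, mul_one]
  rw [← h]; exact comm_mem _ _

theorem sy_mem : sy ∈ C := by
  have h : ⁅sd, sy⁆ = sy := by
    rw [commutatorElement_def, s_dy, sd_inv, sy_inv]
    calc sy * sy * sd * sd * (sy * sy) = sy * sy * (sd * sd) * (sy * sy) := by group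
      _ = sy * (sy * sy * sy) := by rw [s_d2]; group
      _ = sy := by rw [s_y3, mul_one]
  rw [← h]; exact comm_mem _ _

theorem sd_mem : sd ∈ C := by
  have h : ⁅sa, sb⁆ = sd := by
    rw [commutatorElement_def, s_ab]; group
  rw [← h]; exact comm_mem _ _

theorem sz_mem : sz ∈ C := by
  have h : ⁅sy⁻¹, sx⁻¹⁆ = sz := by
    rw [commutatorElement_def, inv_inv, inv_inv]
    calc sy⁻¹ * sx⁻¹ * sy * sx = sy⁻¹ * sx⁻¹ * (sy * sx) := by group
      _ = sz := by rw [s_yx]; group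
  rw [← h]; exact comm_mem _ _

def cx : ↥C := ⟨sx, sx_mem⟩
def cy : ↥C := ⟨sy, sy_mem⟩
def cz : ↥C := ⟨sz, sz_mem⟩
def cd : ↥C := ⟨sd, sd_mem⟩

theorem rel : Rel54 cx cy cz cd where
  x3 := by apply Subtype.ext; rw [pow_succ, pow_two]; exact s_x3
  y3 := by apply Subtype.ext; rw [pow_succ, pow_two]; exact s_y3
  z3 := by apply Subtype.ext; rw [pow_succ, pow_two]; exact s_z3
  d2 := by apply Subtype.ext; rw [pow_two]; exact s_d2
  zx := Subtype.ext s_zx
  zy := Subtype.ext s_zy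
  zd := Subtype.ext s_zd
  yx := Subtype.ext s_yx
  dx := by
    apply Subtype.ext
    change sd * sx = sx⁻¹ * sd
    rw [s_dx, sx_inv]
  dy := by
    apply Subtype.ext
    change sd * sy = sy⁻¹ * sd
    rw [s_dy, sy_inv]


/-- the 27 matrices `x^i y^j z^k`. -/
def f27 (t : Fin 3 × Fin 3 × Fin 3) : M3 := mx ^ t.1.1 * my ^ t.2.1.1 * mz ^ t.2.2.1

theorem f27_inj : Function.Injective f27 := by decide

instance finiteSU3F4 : Finite (SU 3 F4 2) := by
  have : Finite (Matrix.SpecialLinearGroup (Fin 3) F4) := Subtype.finite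
  exact Subtype.finite

theorem coe_pow' (g : SU 3 F4 2) (n : ℕ) : (g ^ n).1.1 = g.1.1 ^ n := by
  induction n with
  | zero => rfl
  | succ n ih => rw [pow_succ, pow_succ, coe_mul', ih]

theorem su54 : ∃ x y z d : ↥(commutator ↥(Cfsg.SU 3 Cfsg.Agent.Lib.Helper56.F4 2)), Rel54 x y z d ∧
    Subgroup.closure ({x, y, d} : Set ↥(commutator ↥(Cfsg.SU 3 Cfsg.Agent.Lib.Helper56.F4 2))) = ⊤ ∧
    Nat.card ↥(commutator ↥(Cfsg.SU 3 Cfsg.Agent.Lib.Helper56.F4 2)) = 54 := by
  refine ⟨cx, cy, cz, cd, rel, ?_⟩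
  set Kc : Subgroup ↥C := Subgroup.closure ({cx, cy, cd} : Set ↥C) with hKc
  have hx : cx ∈ Kc := Subgroup.subset_closure (by simp)
  have hy : cy ∈ Kc := Subgroup.subset_closure (by simp)
  have hd : cd ∈ Kc := Subgroup.subset_closure (by simp)
  have hz : cz ∈ Kc := by
    have : cz = cy⁻¹ * cx⁻¹ * cy * cx := by
      have h := rel.yx
      calc cz = (cx * cy)⁻¹ * (cx * cy * cz) := by group
        _ = (cx * cy)⁻¹ * (cy * cx) := by rw [h]
        _ = cy⁻¹ * cx⁻¹ * cy * cx := by group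
    rw [this]
    exact Kc.mul_mem (Kc.mul_mem (Kc.mul_mem (Kc.inv_mem hy) (Kc.inv_mem hx)) hy) hx
  have hdvd : Nat.card ↥C ∣ 54 := Cfsg.Agent.S5555.comm_card_dvd (by decide)
  have hCpos : 0 < Nat.card ↥C := Nat.card_pos
  have hKdvd : Nat.card ↥Kc ∣ Nat.card ↥C := Subgroup.card_subgroup_dvd_card Kc
  -- 27 ≤ card Kc
  have h27 : 27 ≤ Nat.card ↥Kc := by
    let g : Fin 3 × Fin 3 × Fin 3 → ↥Kc := fun t =>
      ⟨cx ^ t.1.1 * cy ^ t.2.1.1 * cz ^ t.2.2.1,
        Kc.mul_mem (Kc.mul_mem (Kc.pow_mem hx _) (Kc.pow_mem hy _)) (Kc.pow_mem hz _)⟩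
    have hg : Function.Injective g := by
      intro t t' h
      apply f27_inj
      have h1 := congrArg (fun k : ↥Kc => ((k : ↥C) : SU 3 F4 2).1.1) h
      simp only [g] at h1
      simpa [f27, coe_mul', coe_pow', cx, cy, cz, sx, sy, sz, mk_coe] using h1
    have := Nat.card_le_card_of_injective g hg
    simpa using this
  -- 2 ∣ card Kc
  have h2 : 2 ∣ Nat.card ↥Kc := by
    have hord : orderOf (⟨cd, hd⟩ : ↥Kc) = 2 := by
      apply orderOf_eq_prime
      · apply Subtype.ext; apply Subtype.ext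
        rw [pow_two]; exact s_d2
      · intro h
        have h1 := congrArg (fun k : ↥Kc => ((k : ↥C) : SU 3 F4 2).1.1) h
        have h2 : md = 1 := h1
        revert h2; decide
    have h3 := orderOf_dvd_natCard (⟨cd, hd⟩ : ↥Kc)
    rwa [hord] at h3
  have hK54 : Nat.card ↥Kc = 54 := by
    have hd54 : Nat.card ↥Kc ∣ 54 := hKdvd.trans hdvd
    have hle : Nat.card ↥Kc ≤ 54 := Nat.le_of_dvd (by norm_num) hd54
    interval_cases h : Nat.card ↥Kc <;> omega
  have hC54 : Nat.card ↥C = 54 := by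
    have h1 : 54 ≤ Nat.card ↥C := by rw [← hK54]; exact Nat.le_of_dvd hCpos hKdvd
    exact le_antisymm (Nat.le_of_dvd (by norm_num) hdvd) h1
  exact ⟨Subgroup.eq_top_of_card_eq Kc (by rw [hK54, hC54]), hC54⟩

end Cfsg.Agent.Lib.Helper95.SU54
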