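import Mathlib
import Cfsg.Agent.Lib.Helper6.SzSylow

/-!
# Stem extensions: generic tools (helper95)

* `map_eq_one_of_transfer`: a central element of the commutator subgroup of order prime to the index of `H`
  is killed by every homomorphism from `H` to an abelian group (transfer).
* `eq_one_of_cyclic`: in a central extension `σ : Γ → G` with kernel inside `Γ'`, kernel elements of order `p`
  are trivial as soon as `G` has a cyclic subgroup of index prime to `p`.
* `pairing_one`, `pairing_sg`: there is no nonzero biadditive pairing `F × F → M` invariant under the torus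
  acting with weights `(1,1)` resp. `(1, 1+θ)` (Suzuki field, `q ≥ 32`).
* `exists_invariant_extension`: the module-theoretic core of the Alperin–Gorenstein argument: an invariant
  homomorphism on a central subgroup `C` with `E/C ≅ (F,+)` (torus acting by a generator) extends to an
  invariant homomorphism on `E`.
-/

set_option autoImplicit false

namespace Cfsg.Agent.Lib.Helper95.StemExt


open Subgroup

/-- Transfer lemma: a central element of `p`-power-free order lying in the commutator subgroup is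
killed by every homomorphism from a subgroup of index prime to `p` into an abelian group. -/
theorem map_eq_one_of_transfer {Γ : Type*} [Group Γ] {A : Type*} [CommGroup A] (H : Subgroup Γ)
    [H.FiniteIndex] (χ : H →* A) {z : Γ} (hzc : z ∈ center Γ) (hzH : z ∈ H)
    (hzcomm : z ∈ commutator Γ) {p : ℕ} (hp : z ^ p = 1) (hcop : Nat.Coprime H.index p) :
    χ ⟨z, hzH⟩ = 1 := by
  have key : ∀ (k : ℕ) (g₀ : Γ), g₀⁻¹ * z ^ k * g₀ ∈ H → g₀⁻¹ * z ^ k * g₀ = z ^ k := by
    intro k g₀ _
    have hk : z ^ k ∈ center Γ := Subgroup.pow_mem _ hzc k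
    rw [mul_assoc, ← Subgroup.mem_center_iff.mp hk g₀, inv_mul_cancel_left]
  have h1 := MonoidHom.transfer_eq_pow χ z key
  have h2 : MonoidHom.transfer χ z = 1 :=
    Abelianization.commutator_subset_ker (MonoidHom.transfer χ) hzcomm
  have h3 : (χ ⟨z, hzH⟩) ^ H.index = 1 := by
    rw [← map_pow, ← h2, h1]
    rfl
  have h4 : (χ ⟨z, hzH⟩) ^ p = 1 := by
    rw [← map_pow]
    have : (⟨z, hzH⟩ : H) ^ p = 1 := Subtype.ext (by simpa using hp)
    rw [this, map_one]
  have h5 := orderOf_dvd_of_pow_eq_one h3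
  have h6 := orderOf_dvd_of_pow_eq_one h4
  have h7 : orderOf (χ ⟨z, hzH⟩) ∣ 1 := by
    have := Nat.dvd_gcd h5 h6
    rwa [hcop] at this
  exact orderOf_eq_one_iff.mp (Nat.dvd_one.mp h7)

/-- Odd part: a cyclic subgroup of index prime to `p` kills central `p`-elements of the commutator
subgroup in a central extension. -/
theorem eq_one_of_cyclic {Γ G : Type*} [Group Γ] [Finite Γ] [Group G] (σ : Γ →* G)
    (hσ : Function.Surjective σ) (hc : σ.ker ≤ center Γ) (hcomm : σ.ker ≤ commutator Γ)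
    (A : Subgroup G) [IsCyclic A] {p : ℕ} (hcop : Nat.Coprime A.index p)
    {z : Γ} (hz : z ∈ σ.ker) (hp : z ^ p = 1) : z = 1 := by
  set P : Subgroup Γ := A.comap σ with hP
  have hidx : P.index = A.index := Subgroup.index_comap_of_surjective A hσ
  have hzP : z ∈ P := by
    rw [hP, Subgroup.mem_comap, MonoidHom.mem_ker.mp hz]
    exact one_mem _
  -- P is commutative
  have hker : (σ.subgroupComap A).ker ≤ center P := by
    intro x hx
    rw [MonoidHom.mem_ker] at hx
    have hx' : σ x.1 = 1 := congrArg Subtype.val hx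
    have hxc : x.1 ∈ center Γ := hc (MonoidHom.mem_ker.mpr hx')
    rw [Subgroup.mem_center_iff]
    intro g
    exact Subtype.ext (Subgroup.mem_center_iff.mp hxc g.1)
  have hcommP : ∀ a b : P, a * b = b * a := by
    have := MonoidHom.isMulCommutative_of_isCyclic_of_ker_le_center (σ.subgroupComap A) hker
    exact fun a b => mul_comm' a b
  have hcb : commutator P = ⊥ := by
    rw [commutator_eq_closure, Subgroup.closure_eq_bot_iff]
    rintro x ⟨a, b, rfl⟩
    rw [Set.mem_singleton_iff, commutatorElement_def, hcommP a b]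
    group
  have hfin : P.FiniteIndex := inferInstance
  have h1 := map_eq_one_of_transfer P (Abelianization.of : P →* Abelianization P)
    (hc hz) hzP (hcomm hz) hp (by rw [hidx]; exact hcop)
  have h2 : (⟨z, hzP⟩ : P) ∈ (Abelianization.of : P →* Abelianization P).ker := h1
  rw [Abelianization.ker_of, hcb, Subgroup.mem_bot] at h2
  exact congrArg Subtype.val h2



open Cfsg.Agent.Lib.Helper6

section pairing

variable {F : Type*} [Field F] [CharP F 2] {M : Type*} [Group M]

/-- core of the "no invariant pairing" lemmas -/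
theorem pairing_core (f : F → F → M)
    (hadd₁ : ∀ a a' b, f (a + a') b = f a b * f a' b)
    (hadd₂ : ∀ a b b', f a (b + b') = f a b * f a b')
    (ν : F → F) (hν : ∀ b : F, b ≠ 0 → ∀ a, f a b = f (ν b * a) 1)
    (b : F) (hb0 : b ≠ 0) (hb1 : b + 1 ≠ 0) (hD : ν (b + 1) + ν b + 1 ≠ 0) :
    ∀ a c, f a c = 1 := by
  have h2 : ∀ y : F, y + y = 0 := fun y => CharTwo.add_self_eq_zero y
  have hz₁ : ∀ c, f 0 c = 1 := by
    intro c
    have := hadd₁ 0 0 c
    rw [add_zero] at this
    exact (mul_eq_left).mp this.symm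
  have hz₂ : ∀ a, f a 0 = 1 := by
    intro a
    have := hadd₂ a 0 0
    rw [add_zero] at this
    exact (mul_eq_left).mp this.symm
  have hℓ : ∀ t, f t 1 = 1 := by
    intro t
    set D := ν (b + 1) + ν b + 1 with hDdef
    set a := D⁻¹ * t with ha
    have e1 : f a (b + 1) = f (ν (b + 1) * a) 1 := hν _ hb1 a
    have e2 : f a (b + 1) = f (ν b * a) 1 * f a 1 := by rw [hadd₂, hν b hb0 a]
    have e3 : f (ν (b + 1) * a) 1 = f (ν b * a + a) 1 := by rw [← e1, e2, hadd₁]
    have e4 : f (ν (b + 1) * a + (ν b * a + a)) 1 = 1 := by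
      rw [hadd₁, e3, ← hadd₁, h2, hz₁]
    have e5 : ν (b + 1) * a + (ν b * a + a) = t := by
      have : ν (b + 1) * a + (ν b * a + a) = D * a := by rw [hDdef]; ring
      rw [this, ha, ← mul_assoc, mul_inv_cancel₀ hD, one_mul]
    rwa [e5] at e4
  intro a c
  by_cases hc : c = 0
  · rw [hc, hz₂]
  · rw [hν c hc a, hℓ]

variable [Fintype F]

/-- no nonzero biadditive pairing invariant under simultaneous scaling -/
theorem pairing_one (hcard : 4 < Fintype.card F) (f : F → F → M)
    (hadd₁ : ∀ a a' b, f (a + a') b = f a b * f a' b)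
    (hadd₂ : ∀ a b b', f a (b + b') = f a b * f a b')
    (hinv : ∀ u : F, u ≠ 0 → ∀ a b, f (u * a) (u * b) = f a b) : ∀ a c, f a c = 1 := by
  have h2 : ∀ y : F, y + y = 0 := fun y => CharTwo.add_self_eq_zero y
  -- find b
  have hex : ∃ b : F, b ≠ 0 ∧ b + 1 ≠ 0 ∧ b ^ 2 + b + 1 ≠ 0 := by
    by_contra hcon
    push Not at hcon
    have hall : ∀ x : Fˣ, x ^ 3 = 1 := by
      intro x
      by_cases hx1 : (x : F) + 1 = 0
      · have : (x : F) = 1 := CharTwo.add_eq_zero.mp hx1
        have : x = 1 := Units.ext this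
        rw [this, one_pow]
      · have h := hcon x x.ne_zero hx1
        apply Units.ext
        push_cast
        linear_combination ((x : F) - 1) * h
    have := (FiniteField.forall_pow_eq_one_iff F 3).mp hall
    have := Nat.le_of_dvd (by norm_num) this
    omega
  obtain ⟨b, hb0, hb1, hb⟩ := hex
  refine pairing_core f hadd₁ hadd₂ (fun b => b⁻¹) ?_ b hb0 hb1 ?_
  · intro c hc a
    have := hinv c⁻¹ (inv_ne_zero hc) a c
    rw [inv_mul_cancel₀ hc] at this
    exact this.symm
  · intro h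
    apply hb
    have : b ^ 2 + b + 1 = ((b + 1)⁻¹ + b⁻¹ + 1) * (b * (b + 1)) - 2 * b := by
      field_simp
      ring
    rw [this, h, zero_mul, (CharTwo.two_eq_zero : (2 : F) = 0), zero_mul, sub_zero]

variable {m : ℕ}

/-- no nonzero biadditive pairing invariant under the torus of the Suzuki group acting with weights
`(1, 1 + θ)`, when `q ≥ 32`. -/
theorem pairing_sg (hm : 2 ≤ m) (hF : Fintype.card F = 2 ^ (2 * m + 1)) (hσ : SgSq (F := F) m)
    (f : F → F → M)
    (hadd₁ : ∀ a a' b, f (a + a') b = f a b * f a' b)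
    (hadd₂ : ∀ a b b', f a (b + b') = f a b * f a b')
    (hinv : ∀ u : F, u ≠ 0 → ∀ a b, f (u * a) (u * sg m u * b) = f a b) : ∀ a c, f a c = 1 := by
  have h2 : ∀ y : F, y + y = 0 := fun y => CharTwo.add_self_eq_zero y
  have hex : ∃ b : F, sg m b ^ 2 ≠ b := by
    by_contra hcon
    push Not at hcon
    have h4 : ∀ b : F, sg m b = b ^ 4 := by
      intro b
      have := hcon (sg m b)
      rw [hσ] at this
      rw [← this]; ring
    have hall : ∀ x : Fˣ, x ^ 7 = 1 := by
      intro x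
      have h8 : (x : F) ^ 8 = x := by
        have := hcon x
        rw [h4] at this
        linear_combination this
      apply Units.ext
      push_cast
      have hx : (x : F) ≠ 0 := x.ne_zero
      have : (x : F) ^ 7 * x = 1 * x := by linear_combination h8
      exact mul_right_cancel₀ hx this
    have := (FiniteField.forall_pow_eq_one_iff F 7).mp hall
    have := Nat.le_of_dvd (by norm_num) this
    have : 2 ^ 5 ≤ 2 ^ (2 * m + 1) := Nat.pow_le_pow_right (by norm_num) (by omega)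
    omega
  obtain ⟨b, hb⟩ := hex
  have hb0 : b ≠ 0 := by
    rintro rfl
    apply hb; simp
  have hb1 : b + 1 ≠ 0 := by
    intro h
    have : b = 1 := CharTwo.add_eq_zero.mp h
    apply hb; rw [this]; simp
  have hs0 : sg m b ≠ 0 := (map_ne_zero (sg m)).mpr hb0
  have hs1 : sg m b + 1 ≠ 0 := by
    have := (map_ne_zero (sg m)).mpr hb1
    rwa [map_add, map_one] at this
  refine pairing_core f hadd₁ hadd₂ (fun b => b / sg m b) ?_ b hb0 hb1 ?_
  · intro c hc a
    have hsc : sg m c ≠ 0 := (map_ne_zero (sg m)).mpr hc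
    have := hinv (c / sg m c) (div_ne_zero hc hsc) a c
    rw [map_div₀, hσ] at this
    have e : c / sg m c * (sg m c / c ^ 2) * c = 1 := by
      field_simp
    rw [e] at this
    exact this.symm
  · intro h
    apply hb
    simp only [map_add, map_one] at h
    have : sg m b ^ 2 + b = ((b + 1) / (sg m b + 1) + b / sg m b + 1) * (sg m b * (sg m b + 1))
        - 2 * (b * sg m b) - 2 * sg m b := by
      field_simp
      ring
    rw [h, zero_mul, (CharTwo.two_eq_zero : (2 : F) = 0), zero_mul, zero_mul, sub_zero, sub_zero] at this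
    exact CharTwo.add_eq_zero.mp this

end pairing

section GM

variable {E : Type*} [Group E] {A : Type*} [CommGroup A] {F : Type*} [Field F] [Fintype F]
  [CharP F 2]

/-- commutator word -/
def cm (x y : E) : E := x * y * x⁻¹ * y⁻¹

theorem central_move {c : E} (hc : c ∈ Subgroup.center E) (a b : E) : a * c * b = a * b * c := by
  rw [mul_assoc, ← Subgroup.mem_center_iff.mp hc b, mul_assoc]

theorem cm_central {c : E} (hc : c ∈ Subgroup.center E) (y : E) : cm y c = 1 := by
  unfold cm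
  rw [central_move hc, mul_inv_cancel, one_mul, mul_inv_cancel]

theorem cm_mul_left (x x' y : E) (h : cm x' y ∈ Subgroup.center E) :
    cm (x * x') y = cm x' y * cm x y := by
  have : cm (x * x') y = x * cm x' y * (y * x⁻¹ * y⁻¹) := by unfold cm; group
  rw [this, central_move h, Subgroup.mem_center_iff.mp h]
  unfold cm; group

theorem cm_mul_right (x y y' : E) (h : cm x y' ∈ Subgroup.center E) :
    cm x (y * y') = cm x y' * cm x y := by
  have : cm x (y * y') = (x * y * x⁻¹) * cm x y' * y⁻¹ := by unfold cm; group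
  rw [this, central_move h, Subgroup.mem_center_iff.mp h]
  unfold cm; group

theorem exists_invariant_extension (hcard : 4 < Fintype.card F)
    (C : Subgroup E) (hC : C ≤ Subgroup.center E) (ρ : C →* A)
    (π : E → F) (hπ : ∀ x y, π (x * y) = π x + π y) (hsurj : Function.Surjective π)
    (hker : ∀ x, π x = 0 ↔ x ∈ C)
    (φ : E →* E) (c₀ : F) (hgen : ∀ u : F, u ≠ 0 → ∃ j : ℕ, c₀ ^ j = u) (hc₀ : c₀ ≠ 1)
    (hπφ : ∀ x, π (φ x) = c₀ * π x)
    (hρφ : ∀ (c : E) (hc : c ∈ C) (hc' : φ c ∈ C), ρ ⟨φ c, hc'⟩ = ρ ⟨c, hc⟩) :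
    (∀ x y : E, ∃ h : x * y * x⁻¹ * y⁻¹ ∈ C, ρ ⟨_, h⟩ = 1) ∧
    ∃ χ : E →* A, (∀ c : C, χ c = ρ c) ∧ ∀ x, χ (φ x) = χ x := by
  classical
  -- basic facts on π
  have hπ1 : π 1 = 0 := by
    have := hπ 1 1
    rw [one_mul] at this
    exact left_eq_add.mp this
  have hπinv : ∀ x, π x⁻¹ = - π x := by
    intro x
    have := hπ x⁻¹ x
    rw [inv_mul_cancel, hπ1] at this
    exact eq_neg_of_add_eq_zero_left this.symm
  have hCφ : ∀ c ∈ C, φ c ∈ C := by
    intro c hc
    rw [← hker, hπφ, (hker c).mpr hc, mul_zero]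
  have hcmC : ∀ x y, cm x y ∈ C := by
    intro x y
    rw [← hker]
    unfold cm
    rw [hπ, hπ, hπ, hπinv, hπinv]; ring
  have hcen : ∀ c ∈ C, c ∈ Subgroup.center E := fun c hc => hC hc
  -- total extension of ρ
  set ρ' : E → A := fun x => if h : x ∈ C then ρ ⟨x, h⟩ else 1 with hρ'
  have ρ'_of : ∀ (x : E) (h : x ∈ C), ρ' x = ρ ⟨x, h⟩ := fun x h => dif_pos h
  have ρ'_mul : ∀ x y, x ∈ C → y ∈ C → ρ' (x * y) = ρ' x * ρ' y := by
    intro x y hx hy
    rw [ρ'_of x hx, ρ'_of y hy, ρ'_of _ (C.mul_mem hx hy), ← map_mul]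
    rfl
  have ρ'_one : ρ' 1 = 1 := by
    rw [ρ'_of 1 C.one_mem]
    exact map_one ρ
  have ρ'_inv : ∀ x, x ∈ C → ρ' x⁻¹ = (ρ' x)⁻¹ := by
    intro x hx
    have := ρ'_mul x⁻¹ x (C.inv_mem hx) hx
    rw [inv_mul_cancel, ρ'_one] at this
    exact eq_inv_of_mul_eq_one_left this.symm
  have ρ'_φ : ∀ x, x ∈ C → ρ' (φ x) = ρ' x := by
    intro x hx
    rw [ρ'_of x hx, ρ'_of _ (hCφ x hx)]
    exact hρφ x hx _
  -- lifts
  set g : F → E := Function.surjInv hsurj with hg
  have hπg : ∀ a, π (g a) = a := Function.surjInv_eq hsurj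
  -- commutator depends only on π
  have hcm_l : ∀ x y c, c ∈ C → cm (x * c) y = cm x y := by
    intro x y c hc
    rw [cm_mul_left _ _ _ (hcen _ (hcmC _ _))]
    have : cm c y = (cm y c)⁻¹ := by unfold cm; group
    rw [this, cm_central (hcen _ hc), inv_one, one_mul]
  have hcm_r : ∀ x y c, c ∈ C → cm x (y * c) = cm x y := by
    intro x y c hc
    rw [cm_mul_right _ _ _ (hcen _ (hcmC _ _)), cm_central (hcen _ hc), one_mul]
  have hcm_congr : ∀ x x' y y', π x = π x' → π y = π y' → cm x y = cm x' y' := by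
    intro x x' y y' hx hy
    have hc : x⁻¹ * x' ∈ C := by rw [← hker, hπ, hπinv, hx]; ring
    have hd : y⁻¹ * y' ∈ C := by rw [← hker, hπ, hπinv, hy]; ring
    have e : cm x' y' = cm (x * (x⁻¹ * x')) (y * (y⁻¹ * y')) := by
      congr 1 <;> group
    rw [e, hcm_l _ _ _ hc, hcm_r _ _ _ hd]
  have hφcm : ∀ x y, φ (cm x y) = cm (φ x) (φ y) := by
    intro x y; unfold cm; simp only [map_mul, map_inv]
  -- the pairing
  set f : F → F → A := fun a b => ρ' (cm (g a) (g b)) with hf
  have hf1 : ∀ a a' b, f (a + a') b = f a b * f a' b := by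
    intro a a' b
    have : cm (g (a + a')) (g b) = cm (g a * g a') (g b) :=
      hcm_congr _ _ _ _ (by rw [hπ, hπg, hπg, hπg]) rfl
    simp only [hf]
    rw [this, cm_mul_left _ _ _ (hcen _ (hcmC _ _)), ρ'_mul _ _ (hcmC _ _) (hcmC _ _), mul_comm]
  have hf2 : ∀ a b b', f a (b + b') = f a b * f a b' := by
    intro a b b'
    have : cm (g a) (g (b + b')) = cm (g a) (g b * g b') :=
      hcm_congr _ _ _ _ rfl (by rw [hπ, hπg, hπg, hπg])
    simp only [hf]
    rw [this, cm_mul_right _ _ _ (hcen _ (hcmC _ _)), ρ'_mul _ _ (hcmC _ _) (hcmC _ _), mul_comm]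
  have hf3 : ∀ a b, f (c₀ * a) (c₀ * b) = f a b := by
    intro a b
    have : cm (g (c₀ * a)) (g (c₀ * b)) = cm (φ (g a)) (φ (g b)) :=
      hcm_congr _ _ _ _ (by rw [hπg, hπφ, hπg]) (by rw [hπg, hπφ, hπg])
    simp only [hf]
    rw [this, ← hφcm, ρ'_φ _ (hcmC _ _)]
  have hf4 : ∀ u : F, u ≠ 0 → ∀ a b, f (u * a) (u * b) = f a b := by
    intro u hu a b
    obtain ⟨j, rfl⟩ := hgen u hu
    clear hu
    induction j with
    | zero => simp
    | succ j ih =>
      rw [pow_succ', mul_assoc, mul_assoc, hf3, ih]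
  have hf0 := pairing_one hcard f hf1 hf2 hf4
  have hcm1 : ∀ x y, ρ' (cm x y) = 1 := by
    intro x y
    have : cm x y = cm (g (π x)) (g (π y)) := hcm_congr _ _ _ _ (hπg _).symm (hπg _).symm
    rw [this]
    exact hf0 _ _
  refine ⟨fun x y => ⟨hcmC x y, ?_⟩, ?_⟩
  · have := hcm1 x y
    rw [ρ'_of _ (hcmC x y)] at this
    exact this
  -- the map τ
  set τ : E → E := fun y => φ y * y⁻¹ with hτ
  have hc₀' : c₀ - 1 ≠ 0 := sub_ne_zero.mpr hc₀
  have hπτ : ∀ y, π (τ y) = (c₀ - 1) * π y := by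
    intro y; simp only [hτ]; rw [hπ, hπφ, hπinv]; ring
  have hτC : ∀ w ∈ C, τ w ∈ C := by
    intro w hw; rw [← hker, hπτ, (hker w).mpr hw, mul_zero]
  have hρτ : ∀ w ∈ C, ρ' (τ w) = 1 := by
    intro w hw
    simp only [hτ]
    rw [ρ'_mul _ _ (hCφ w hw) (C.inv_mem hw), ρ'_φ w hw, ρ'_inv w hw, mul_inv_cancel]
  have hτmul : ∀ y y', τ (y * y') = τ y * cm y (τ y') * τ y' := by
    intro y y'; simp only [hτ, cm, map_mul]; group
  have hτφ : ∀ y, τ (φ y) = φ (τ y) := by
    intro y; simp only [hτ, map_mul, map_inv]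
  set yx : E → E := fun x => g ((c₀ - 1)⁻¹ * π x) with hyx
  have hyx1 : ∀ x, (c₀ - 1) * π (yx x) = π x := by
    intro x; simp only [hyx]; rw [hπg, ← mul_assoc, mul_inv_cancel₀ hc₀', one_mul]
  have hdC : ∀ x y, (c₀ - 1) * π y = π x → x * (τ y)⁻¹ ∈ C := by
    intro x y h
    rw [← hker, hπ, hπinv, hπτ, h]; ring
  set χ₀ : E → A := fun x => ρ' (x * (τ (yx x))⁻¹) with hχ₀
  have hWD : ∀ x y, (c₀ - 1) * π y = π x → ρ' (x * (τ y)⁻¹) = χ₀ x := by
    intro x y h
    have hw : (yx x)⁻¹ * y ∈ C := by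
      rw [← hker, hπ, hπinv]
      have : (c₀ - 1) * (-π (yx x) + π y) = 0 := by rw [mul_add, mul_neg, hyx1, h]; ring
      rcases mul_eq_zero.mp this with h' | h'
      · exact absurd h' hc₀'
      · exact h'
    have e : y = yx x * ((yx x)⁻¹ * y) := by group
    have hτw := hτC _ hw
    have e2 : τ y = τ (yx x) * τ ((yx x)⁻¹ * y) := by
      conv_lhs => rw [e]
      rw [hτmul, cm_central (hcen _ hτw), mul_one]
    have e3 : x * (τ y)⁻¹ = x * (τ (yx x))⁻¹ * (τ ((yx x)⁻¹ * y))⁻¹ := by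
      rw [e2, mul_inv_rev, ← mul_assoc, central_move (hcen _ (C.inv_mem hτw))]
    rw [e3, ρ'_mul _ _ (hdC x _ (hyx1 x)) (C.inv_mem hτw), ρ'_inv _ hτw, hρτ _ hw, inv_one,
      mul_one]
  have hχmul : ∀ x x', χ₀ (x * x') = χ₀ x * χ₀ x' := by
    intro x x'
    have h1 : (c₀ - 1) * π (yx x * yx x') = π (x * x') := by
      rw [hπ, hπ, mul_add, hyx1, hyx1]
    rw [← hWD _ _ h1, hτmul]
    set t := τ (yx x)
    set t' := τ (yx x')
    set k := cm (yx x) t'
    have hk : k ∈ C := hcmC _ _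
    have hd' : x' * t'⁻¹ ∈ C := hdC x' _ (hyx1 x')
    have hd : x * t⁻¹ ∈ C := hdC x _ (hyx1 x)
    have e : x * x' * (t * k * t')⁻¹ = x * (x' * t'⁻¹ * k⁻¹) * t⁻¹ := by group
    rw [e, central_move (hcen _ (C.mul_mem hd' (C.inv_mem hk))),
      ρ'_mul _ _ hd (C.mul_mem hd' (C.inv_mem hk)), ρ'_mul _ _ hd' (C.inv_mem hk), ρ'_inv _ hk,
      hcm1, inv_one, mul_one]
  refine ⟨⟨⟨χ₀, ?_⟩, hχmul⟩, ?_, ?_⟩
  · -- χ₀ 1 = 1
    have := hχmul 1 1
    rw [one_mul] at this
    exact left_eq_mul.mp this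
  · intro c
    change χ₀ c = ρ c
    have h1 : (c₀ - 1) * π (1 : E) = π (c : E) := by
      rw [hπ1, mul_zero, (hker c).mpr c.2]
    rw [← hWD _ _ h1]
    have : τ 1 = 1 := by simp [hτ]
    rw [this, inv_one, mul_one, ρ'_of _ c.2]
  · intro x
    change χ₀ (φ x) = χ₀ x
    have h1 : (c₀ - 1) * π (φ (yx x)) = π (φ x) := by
      rw [hπφ, hπφ, mul_left_comm, hyx1]
    rw [← hWD _ _ h1, hτφ, ← map_inv, ← map_mul, ρ'_φ _ (hdC x _ (hyx1 x))]

end GM


end Cfsg.Agent.Lib.Helper95.StemExt
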