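import Mathlib
import Cfsg.Agent.S2247
import Cfsg.Agent.Lib.Helper6.SzFpf2
import Cfsg.Agent.Lib.Helper95.PrimeGraphExt
import Cfsg.Agent.Lib.Helper95.SzIso

/-!
# Elements of odd prime order of `Sz(q)` fix no non-zero vector of the natural module (helper95)

`fv`: for `g ∈ Sz(q)` of odd prime order, `g • v = v → v = 0` on `F⁴`.
* `p ∣ q² + 1`: the fixed space has `q^d` elements with `q^d ≡ q⁴ (mod p)`, forcing `d ∈ {0, 4}`.
* `p ∣ q - 1`: `g` fixes a point of the ovoid, so is conjugate to an upper triangular `T(a,b) H(k)`;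
  a fixed vector forces `k = 1`, so `g` would be a `2`-element.
-/

set_option autoImplicit false
set_option linter.unusedSectionVars false

namespace Cfsg.Agent.Lib.Helper95.PrimeGraphExt

open Cfsg Matrix MulAction Cfsg.Agent.Lib.Helper6 Cfsg.Agent.S2247

section Lin

variable {F : Type*} [Field F] [Fintype F]

/-- the fixed space of a matrix in `SL₄` -/
def fixSub (g : SpecialLinearGroup (Fin 4) F) : Submodule F (Fin 4 → F) where
  carrier := {v | g • v = v}
  add_mem' := by
    intro a b ha hb
    simp only [Set.mem_ofPred_eq] at *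
    rw [smul_add, ha, hb]
  zero_mem' := smul_zero g
  smul_mem' := by
    intro c v hv
    simp only [Set.mem_ofPred_eq] at *
    rw [smul_comm, hv]

theorem mem_fixSub (g : SpecialLinearGroup (Fin 4) F) (v : Fin 4 → F) :
    v ∈ fixSub g ↔ g • v = v := Iff.rfl

/-- an element of prime order `p ∣ q² + 1`, `p` odd, has no non-zero fixed vector -/
theorem fix_eq_zero_of_dvd (g : SpecialLinearGroup (Fin 4) F) (p : ℕ) [Fact p.Prime]
    (hp2 : p ≠ 2) (hg : orderOf g = p) (hpd : p ∣ Fintype.card F ^ 2 + 1)
    (v : Fin 4 → F) (hv : g • v = v) : v = 0 := by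
  classical
  have hp : p.Prime := Fact.out
  have h1 := card_modEq_fixedBy (α := Fin 4 → F) g p hg
  have e : {a : Fin 4 → F // g • a = a} = ↥(fixSub g) := rfl
  rw [e, Module.natCard_eq_pow_finrank (K := F) (V := ↥(fixSub g)),
    Module.natCard_eq_pow_finrank (K := F) (V := Fin 4 → F)] at h1
  simp only [Module.finrank_fintype_fun_eq_card, Fintype.card_fin, Nat.card_eq_fintype_card] at h1
  set q := Fintype.card F with hq
  set d := Module.finrank F ↥(fixSub g) with hd
  have hd4 : d ≤ 4 := by
    have := Submodule.finrank_le (fixSub g)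
    simpa using this
  have h2 := (ZMod.natCast_eq_natCast_iff _ _ _).mpr h1
  have h3 : ((q ^ 2 + 1 : ℕ) : ZMod p) = 0 := (ZMod.natCast_eq_zero_iff _ _).mpr hpd
  push_cast at h2 h3
  set x : ZMod p := (q : ZMod p) with hx
  have hx2 : x ^ 2 = -1 := by linear_combination h3
  have h2ne : (2 : ZMod p) ≠ 0 := by
    intro h
    have : ((2 : ℕ) : ZMod p) = 0 := by exact_mod_cast h
    rw [ZMod.natCast_eq_zero_iff] at this
    exact hp2 ((Nat.prime_dvd_prime_iff_eq hp Nat.prime_two).mp this)
  have hx4 : x ^ 4 = 1 := by linear_combination (x ^ 2 - 1) * hx2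
  have hd0 : d = 0 ∨ d = 4 := by
    rcases (by omega : d = 0 ∨ d = 1 ∨ d = 2 ∨ d = 3 ∨ d = 4) with h | h | h | h | h
    · exact Or.inl h
    · exfalso
      rw [h, hx4, pow_one] at h2
      apply h2ne
      rw [← h2] at hx2
      linear_combination hx2
    · exfalso
      rw [h, hx4, hx2] at h2
      apply h2ne
      linear_combination h2
    · exfalso
      rw [h, hx4] at h2
      have : x = -1 := by linear_combination x * hx2 + h2
      rw [this] at hx2
      apply h2ne
      linear_combination hx2
    · exact Or.inr h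
  rcases hd0 with h | h
  · have : fixSub g = ⊥ := by
      rw [← Submodule.finrank_eq_zero]; exact h
    have hv' : v ∈ fixSub g := hv
    rw [this] at hv'
    exact (Submodule.mem_bot F).mp hv'
  · exfalso
    have : fixSub g = ⊤ := by
      apply Submodule.eq_top_of_finrank_eq
      rw [← hd, h]; simp
    have hg1 : g = 1 := by
      apply Subtype.ext
      ext i j
      have hm : Pi.single j 1 ∈ fixSub g := by rw [this]; trivial
      have := congrFun ((mem_fixSub g _).mp hm) i
      rw [sl_smul_apply] at this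
      simpa [Pi.single_apply, Matrix.one_apply] using this
    rw [hg1, orderOf_one] at hg
    exact hp.one_lt.ne hg

end Lin

section SzPart

variable {F : Type*} [Field F] [Fintype F] {m : ℕ}

theorem szT_smul_gen [CharP F 2] (a b : F) (w : Fin 4 → F) :
    szT m a b • w = ![w 0 + a * w 1 + (b + a * sg m a) * w 2 + szF m a b * w 3,
      w 1 + sg m a * w 2 + b * w 3, w 2 + a * w 3, w 3] := by
  ext i
  rw [sl_smul_apply, Fin.sum_univ_four]
  fin_cases i <;> simp [szT, szTmat]

theorem pow_eq_one_A [CharP F 2] (hσ : SgSq (F := F) m) {k : F} (h : k ^ (2 ^ m) = 1) : k = 1 := by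
  have := sg_pow_two_pow hσ k
  rw [h, map_one] at this
  exact this.symm

theorem pow_eq_one_B [CharP F 2] (hσ : SgSq (F := F) m) {k : F} (h : k ^ (2 ^ m + 1) = 1) :
    k = 1 := by
  apply eq_one_of_mul_sg_eq_one hσ
  have := congrArg (sg m) h
  rw [pow_succ, map_mul, sg_pow_two_pow hσ, map_one] at this
  exact this

theorem tri_fix [CharP F 2] (hσ : SgSq (F := F) m) (a b : F) (k : Fˣ) (v : Fin 4 → F)
    (hv0 : v ≠ 0) (hv : (szT m a b * szH m k) • v = v) : k = 1 := by
  rw [mul_smul, szH_smul_vec, szT_smul_gen] at hv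
  have r0 := congrFun hv 0
  have r1 := congrFun hv 1
  have r2 := congrFun hv 2
  have r3 := congrFun hv 3
  simp only [Matrix.cons_val_zero, Matrix.cons_val_one, Matrix.cons_val] at r0 r1 r2 r3
  have hinv : ∀ n : ℕ, (((k⁻¹ : Fˣ) : F) ^ n = 1 → ((k⁻¹ : Fˣ) : F) = 1) → ((k⁻¹ : Fˣ) : F) ^ n = 1 → k = 1 := by
    intro n h1 h2
    have := h1 h2
    have h3 : k⁻¹ = 1 := Units.ext this
    exact inv_eq_one.mp h3
  by_cases h3 : v 3 = 0
  · by_cases h2 : v 2 = 0
    · by_cases h1 : v 1 = 0
      · have h0 : v 0 ≠ 0 := by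
          intro h0
          apply hv0
          ext i
          fin_cases i <;> simp [h0, h1, h2, h3]
        rw [h1, h2, h3] at r0
        simp only [mul_zero, add_zero] at r0
        have : (k : F) ^ (2 ^ m + 1) = 1 := by
          apply mul_right_cancel₀ h0
          rw [one_mul]; exact r0
        exact Units.ext (pow_eq_one_B hσ this)
      · rw [h2, h3] at r1
        simp only [mul_zero, add_zero] at r1
        have : (k : F) ^ (2 ^ m) = 1 := by
          apply mul_right_cancel₀ h1
          rw [one_mul]; exact r1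
        exact Units.ext (pow_eq_one_A hσ this)
    · rw [h3] at r2
      simp only [mul_zero, add_zero] at r2
      have : ((k⁻¹ : Fˣ) : F) ^ (2 ^ m) = 1 := by
        apply mul_right_cancel₀ h2
        rw [one_mul]; exact r2
      exact hinv _ (pow_eq_one_A hσ) this
  · have : ((k⁻¹ : Fˣ) : F) ^ (2 ^ m + 1) = 1 := by
      apply mul_right_cancel₀ h3
      rw [one_mul]; exact r3
    exact hinv _ (pow_eq_one_B hσ) this

/-- **Elements of odd prime order of the Suzuki group have no non-zero fixed vector on the natural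
module.** -/
theorem fv (hm : 1 ≤ m) (hF : Fintype.card F = 2 ^ (2 * m + 1)) (g : Sz F m)
    (hp : (orderOf g).Prime) (hp2 : orderOf g ≠ 2) (v : Fin 4 → F) (hv : g • v = v) : v = 0 := by
  classical
  have := sz_charP hF
  have hσ : SgSq (F := F) m := sgSq_of_card m hF
  set p := orderOf g with hpdef
  have : Fact p.Prime := ⟨hp⟩
  set q : ℕ := 2 ^ (2 * m + 1) with hq
  have hq1 : 1 ≤ q := Nat.one_le_two_pow
  have hnq : ¬ p ∣ q := by
    intro h
    have := hp.dvd_of_dvd_pow h
    exact hp2 ((Nat.prime_dvd_prime_iff_eq hp Nat.prime_two).mp this)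
  have hdvd : p ∣ Nat.card (Sz F m) := orderOf_dvd_natCard g
  rw [card_Sz hm hF, ← hq] at hdvd
  have hcases : p ∣ q ^ 2 + 1 ∨ p ∣ q - 1 := by
    rcases (Nat.Prime.dvd_mul hp).mp hdvd with h | h
    · rcases (Nat.Prime.dvd_mul hp).mp h with h | h
      · exact absurd (hp.dvd_of_dvd_pow h) hnq
      · exact Or.inl h
    · exact Or.inr h
  rcases hcases with h | h
  · apply fix_eq_zero_of_dvd (g : SpecialLinearGroup (Fin 4) F) p hp2 (Subgroup.orderOf_coe g) _ v hv
    rw [hF]; exact h
  · -- a fixed point on the ovoid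
    have h1 := card_modEq_fixedBy (α := suzukiOvoid F m) g p rfl
    rw [card_suzukiOvoid, hF] at h1
    have hne : Nonempty {a : suzukiOvoid F m // g • a = a} := by
      by_contra hemp
      rw [not_nonempty_iff] at hemp
      rw [Nat.card_of_isEmpty, Nat.modEq_zero_iff_dvd] at h1
      obtain ⟨t, ht⟩ : ∃ t, q = t + 1 := ⟨q - 1, by omega⟩
      rw [ht] at h h1
      simp only [Nat.add_sub_cancel] at h
      have e : (t + 1) ^ 2 + 1 = t * (t + 2) + 2 := by ring
      rw [e] at h1
      have h2 : p ∣ 2 := (Nat.dvd_add_right (Dvd.dvd.mul_right h _)).mp h1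
      exact hp2 ((Nat.prime_dvd_prime_iff_eq hp Nat.prime_two).mp h2)
    obtain ⟨a, ha⟩ := hne
    obtain ⟨x, hx⟩ := sz_trans hF a (infPt F m)
    by_contra hv0
    set g' : Sz F m := x * g * x⁻¹ with hg'
    have hstab : g' ∈ stabilizer (Sz F m) (infPt F m) := by
      rw [mem_stabilizer_iff, hg', mul_smul, mul_smul, ← hx, inv_smul_smul, ha]
    obtain ⟨c, d, k, hcd⟩ := stab_eq hσ hm hF hstab
    have hv' : g' • (x • v) = x • v := by
      rw [hg', mul_smul, mul_smul, inv_smul_smul, hv]
    have hxv : x • v ≠ 0 := by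
      intro h0
      apply hv0
      have := congrArg (fun w => x⁻¹ • w) h0
      simpa using this
    have hk : k = 1 := by
      apply tri_fix hσ c d k (x • v) hxv
      have : ((tz hσ c d * hz hσ k : Sz F m) : SpecialLinearGroup (Fin 4) F) • (x • v) = x • v := by
        rw [← hcd]; exact hv'
      exact this
    have hT : g' ∈ szTsub hσ := by
      rw [hcd, hk]
      have : hz hσ (1 : Fˣ) = 1 := Subtype.ext szH_one
      rw [this, mul_one]
      exact tz_mem hσ c d
    have ho : orderOf g' = p := by
      rw [hg', ← MulAut.conj_apply, MulEquiv.orderOf_eq]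
    have h2 : p ∣ Nat.card (szTsub hσ) := by
      rw [← ho]
      have := orderOf_dvd_natCard (⟨g', hT⟩ : szTsub hσ)
      rwa [← Subgroup.orderOf_coe] at this
    rw [card_szTsub, Nat.card_eq_fintype_card, hF] at h2
    exact hnq (hp.dvd_of_dvd_pow h2)

end SzPart

end Cfsg.Agent.Lib.Helper95.PrimeGraphExt
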