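import Mathlib
import Cfsg.Agent.S2247
import Cfsg.Agent.Lib.Helper6.SzFpf2
import Cfsg.Agent.Lib.Helper95.SzAut
import Cfsg.Agent.Lib.Helper6.SzSub2
import Cfsg.Agent.Lib.Helper6.SzSub3
import Cfsg.Agent.Lib.Helper95.NilCover
import Cfsg.Agent.Lib.Helper95.SzIso

/-!
# Fixity-2 actions of the Suzuki groups (helper95)

`main_sz`: a transitive action of `Sz(q)` in which every non-identity element fixes at most two points
and some element fixes exactly two is the action on the ovoid (degree `q² + 1`, 2-transitive) or the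
action on the cosets of a torus of order `q - 1` (degree `q²(q² + 1)`).

Key trick (`sq_smul_eq`, `card_le_two_mul`): if `X ⊆ G_α` contains a non-identity element and `N`
normalises `X`, then `N` permutes the (at most two) common fixed points of `X`, so `|N : N ∩ G_α| ≤ 2`.
-/

set_option autoImplicit false
set_option linter.unusedSectionVars false

namespace Cfsg.Agent.Lib.Helper95.Fixity

open Cfsg Matrix MulAction Cfsg.Agent.Lib.Helper6 Cfsg.Agent.S2247 Cfsg.Agent.Lib.Helper95.OutSz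

section General

variable {S : Type*} [Group S] {Ω : Type*} [MulAction S Ω]

/-- the set of common fixed points of `X` -/
def fixSet (Ω : Type*) [MulAction S Ω] (X : Set S) : Set Ω := {β | ∀ x ∈ X, x • β = β}

theorem fixSet_ncard_le [Finite Ω] (hfix : ∀ g : S, g ≠ 1 → Nat.card (fixedBy Ω g) ≤ 2)
    {X : Set S} {x₀ : S} (hx₀ : x₀ ∈ X) (h1 : x₀ ≠ 1) : (fixSet Ω X).ncard ≤ 2 := by
  calc (fixSet Ω X).ncard ≤ (fixedBy Ω x₀).ncard :=
        Set.ncard_le_ncard (fun β hβ => hβ x₀ hx₀) (Set.toFinite _)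
    _ = Nat.card (fixedBy Ω x₀) := (Nat.card_coe_set_eq _).symm
    _ ≤ 2 := hfix x₀ h1

theorem smul_mem_fixSet {X : Set S} {n : S} (hn : ∀ x ∈ X, n⁻¹ * x * n ∈ X) {β : Ω}
    (hβ : β ∈ fixSet Ω X) : n • β ∈ fixSet Ω X := by
  intro x hx
  have := hβ _ (hn x hx)
  calc x • n • β = n • (n⁻¹ * x * n) • β := by simp [mul_smul]
    _ = n • β := by rw [this]

/-- squares of elements normalising `X ⊆ G_α` fix `α` -/
theorem sq_smul_eq [Finite Ω] (hfix : ∀ g : S, g ≠ 1 → Nat.card (fixedBy Ω g) ≤ 2)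
    {α : Ω} {X : Set S} (hXα : α ∈ fixSet Ω X) {x₀ : S} (hx₀ : x₀ ∈ X) (h1 : x₀ ≠ 1)
    {n : S} (hn : ∀ x ∈ X, n⁻¹ * x * n ∈ X) : (n * n) • α = α := by
  have hle := fixSet_ncard_le hfix hx₀ h1 (Ω := Ω)
  have m1 : n • α ∈ fixSet Ω X := smul_mem_fixSet hn hXα
  have m2 : n • n • α ∈ fixSet Ω X := smul_mem_fixSet hn m1
  rw [mul_smul]
  by_contra hne
  have h01 : α ≠ n • α := by
    intro h; apply hne; rw [← h, ← h]
  have h12 : n • α ≠ n • n • α := by
    intro h; exact h01 (smul_left_cancel n h)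
  have h02 : α ≠ n • n • α := fun h => hne h.symm
  have h3 : ({α, n • α, n • n • α} : Set Ω).ncard = 3 :=
    Set.ncard_eq_three.mpr ⟨_, _, _, h01, h02, h12, rfl⟩
  have hsub : ({α, n • α, n • n • α} : Set Ω) ⊆ fixSet Ω X := by
    intro β hβ
    rcases hβ with rfl | rfl | rfl
    · exact hXα
    · exact m1
    · exact m2
  have := Set.ncard_le_ncard hsub (Set.toFinite _)
  omega

/-- the normaliser of `X ⊆ G_α` has at most twice as many elements as its part in `G_α` -/
theorem card_le_two_mul [Finite Ω] [Finite S] (hfix : ∀ g : S, g ≠ 1 → Nat.card (fixedBy Ω g) ≤ 2)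
    {α : Ω} {X : Set S} (hXα : α ∈ fixSet Ω X) {x₀ : S} (hx₀ : x₀ ∈ X) (h1 : x₀ ≠ 1)
    (N : Subgroup S) (hN : ∀ n ∈ N, ∀ x ∈ X, n⁻¹ * x * n ∈ X) :
    Nat.card N ≤ 2 * Nat.card (N ⊓ stabilizer S α : Subgroup S) := by
  classical
  have hle := fixSet_ncard_le hfix hx₀ h1 (Ω := Ω)
  have horb : (orbit N α).ncard ≤ 2 := by
    refine le_trans (Set.ncard_le_ncard ?_ (Set.toFinite _)) hle
    rintro _ ⟨n, rfl⟩
    exact smul_mem_fixSet (hN n.1 n.2) hXα
  have h2 := Subgroup.card_mul_index (stabilizer N α)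
  rw [index_stabilizer] at h2
  have e : (stabilizer N α) ≃ (N ⊓ stabilizer S α : Subgroup S) :=
    { toFun := fun x => ⟨x.1.1, ⟨x.1.2, x.2⟩⟩
      invFun := fun x => ⟨⟨x.1, x.2.1⟩, x.2.2⟩
      left_inv := fun x => rfl
      right_inv := fun x => rfl }
  rw [Nat.card_congr e] at h2
  rw [← h2, mul_comm]
  exact Nat.mul_le_mul_right _ horb

end General

section Sz

variable {F : Type*} [Field F] [Fintype F] [CharP F 2] {m : ℕ} (hσ : SgSq (F := F) m)
  (hm : 1 ≤ m) (hF : Fintype.card F = 2 ^ (2 * m + 1))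

include hm hF in
theorem tzhz_mul (c d : F) (k : Fˣ) (c' d' : F) (k' : Fˣ) :
    (tz hσ c d * hz hσ k) * (tz hσ c' d' * hz hσ k') =
      tz hσ (c + (k : F) * c') (d + (k : F) * sg m (k : F) * d' + sg m c * ((k : F) * c')) *
        hz hσ (k * k') := by
  calc (tz hσ c d * hz hσ k) * (tz hσ c' d' * hz hσ k')
      = tz hσ c d * (hz hσ k * tz hσ c' d') * hz hσ k' := by group
    _ = tz hσ c d * (tz hσ ((k : F) * c') ((k : F) * sg m (k : F) * d') * hz hσ k) * hz hσ k' := by
        rw [hz_tz hσ hm hF]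
    _ = (tz hσ c d * tz hσ ((k : F) * c') ((k : F) * sg m (k : F) * d')) *
          (hz hσ k * hz hσ k') := by group
    _ = _ := by rw [tz_mul, ← hz_mul]

theorem tzhz_inj {a b a' b' : F} {k k' : Fˣ}
    (h : tz hσ a b * hz hσ k = tz hσ a' b' * hz hσ k') : a = a' ∧ b = b' ∧ k = k' := by
  have h1 := congrArg (fun g : Sz F m => g • affPt m (0 : F) 0) h
  simp only [mul_smul, hz_smul_aff, tz_smul_aff, mul_zero, zero_add] at h1
  obtain ⟨e1, e2⟩ := affPt_inj h1
  subst e1
  subst e2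
  refine ⟨rfl, rfl, ?_⟩
  exact hz_inj hσ (mul_left_cancel h)

include hm hF in
/-- an involution fixing `∞` is a central translation -/
theorem inv_eq_tz {t : Sz F m} (ht1 : t ≠ 1) (ht2 : t * t = 1)
    (hinf : t • infPt F m = infPt F m) : ∃ d : F, d ≠ 0 ∧ t = tz hσ 0 d := by
  obtain ⟨c, d, k, rfl⟩ := stab_eq hσ hm hF (mem_stabilizer_iff.mpr hinf)
  rw [tzhz_mul hσ hm hF] at ht2
  have h1 : tz hσ (c + (k : F) * c) (d + (k : F) * sg m (k : F) * d + sg m c * ((k : F) * c)) *
      hz hσ (k * k) = tz hσ 0 0 * hz hσ 1 := by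
    rw [ht2, tz_zero, hz_one, mul_one]
  obtain ⟨e1, e2, e3⟩ := tzhz_inj hσ h1
  have h2F : (2 : F) = 0 := CharTwo.two_eq_zero
  have hk : (k : F) = 1 := by
    have : (k : F) * (k : F) = 1 := by
      have := congrArg (fun u : Fˣ => (u : F)) e3
      simpa using this
    have h8 : ((k : F) - 1) * ((k : F) - 1) = 0 := by
      linear_combination this + (1 - (k : F)) * h2F
    exact sub_eq_zero.mp (mul_self_eq_zero.mp h8)
  have hk1 : k = 1 := Units.ext hk
  subst hk1
  simp only [Units.val_one, one_mul, map_one] at e2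
  have hc : c = 0 := by
    have : sg m c * c = 0 := by linear_combination e2 - d * h2F
    rcases mul_eq_zero.mp this with h | h
    · exact (map_eq_zero (sg m)).mp h
    · exact h
  subst hc
  refine ⟨d, ?_, by rw [hz_one, mul_one]⟩
  rintro rfl
  apply ht1
  rw [tz_zero, hz_one, mul_one]

theorem tz_central (d a b : F) : (tz hσ a b)⁻¹ * tz hσ 0 d * tz hσ a b = tz hσ 0 d := by
  have : tz hσ 0 d * tz hσ a b = tz hσ a b * tz hσ 0 d := by
    rw [tz_mul, tz_mul]
    simp only [map_zero, zero_mul, mul_zero, add_zero, zero_add]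
    rw [add_comm d b]
  rw [mul_assoc, this, ← mul_assoc, inv_mul_cancel, one_mul]

theorem tz_sq (a b : F) : tz hσ a b * tz hσ a b = tz hσ 0 (sg m a * a) := by
  rw [tz_mul]
  have h2F : (2 : F) = 0 := CharTwo.two_eq_zero
  congr 1
  · linear_combination a * h2F
  · linear_combination b * h2F

include hσ in
theorem exists_sg_mul (d : F) : ∃ a : F, sg m a * a = d := by
  have hinj := mul_sg_injective hσ
  have hsurj := Finite.injective_iff_surjective.mp hinj
  obtain ⟨a, ha⟩ := hsurj d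
  exact ⟨a, by rw [mul_comm]; exact ha⟩

include hm hF in
/-- the stabiliser of `∞` normalises the central translations -/
theorem conj_center {g : Sz F m} (hg : g • infPt F m = infPt F m) (b : F) :
    ∃ b' : F, g⁻¹ * tz hσ 0 b * g = tz hσ 0 b' := by
  obtain ⟨c, d, k, rfl⟩ := stab_eq hσ hm hF (mem_stabilizer_iff.mpr hg)
  have hk : (k : F) * sg m (k : F) ≠ 0 :=
    mul_ne_zero k.ne_zero ((_root_.map_ne_zero (sg m)).mpr k.ne_zero)
  refine ⟨b / ((k : F) * sg m (k : F)), ?_⟩
  have e : tz hσ 0 b * (tz hσ c d * hz hσ k) =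
      (tz hσ c d * hz hσ k) * tz hσ 0 (b / ((k : F) * sg m (k : F))) := by
    have h1 : tz hσ 0 b = tz hσ 0 b * hz hσ 1 := by rw [hz_one, mul_one]
    have h2 : tz hσ 0 (b / ((k : F) * sg m (k : F))) =
        tz hσ 0 (b / ((k : F) * sg m (k : F))) * hz hσ 1 := by rw [hz_one, mul_one]
    rw [h1, h2, tzhz_mul hσ hm hF, tzhz_mul hσ hm hF]
    simp only [Units.val_one, one_mul, map_one, map_zero, zero_mul, add_zero, zero_add, mul_zero,
      mul_one]
    congr 2
    field_simp
    ring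
  rw [mul_assoc, e, ← mul_assoc, inv_mul_cancel, one_mul]


section Even

variable {Ω : Type*} [MulAction (Sz F m) Ω] [Finite Ω]

theorem exists_unit_sq (κ : Fˣ) : ∃ k : Fˣ, k * k = κ := by
  have hinj : Function.Injective (fun k : Fˣ => k * k) := by
    intro k l h
    have h2F : (2 : F) = 0 := CharTwo.two_eq_zero
    have h1 : (k : F) * (k : F) = (l : F) * (l : F) := by
      have := congrArg (fun u : Fˣ => (u : F)) h
      simpa using this
    have h8 : ((k : F) - (l : F)) * ((k : F) - (l : F)) = 0 := by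
      linear_combination h1 + ((l : F) * (l : F) - (k : F) * (l : F)) * h2F
    exact Units.ext (sub_eq_zero.mp (mul_self_eq_zero.mp h8))
  exact Finite.injective_iff_surjective.mp hinj κ

include hm hF in
theorem exists_unit_ne_one : ∃ κ : Fˣ, κ ≠ 1 := by
  classical
  have h1 : Fintype.card Fˣ = Fintype.card F - 1 := Fintype.card_units F
  have h9 : 2 ^ 3 ≤ 2 ^ (2 * m + 1) := Nat.pow_le_pow_right (by norm_num) (by omega)
  have : 1 < Fintype.card Fˣ := by
    rw [h1, hF]
    have : (8 : ℕ) ≤ 2 ^ (2 * m + 1) := by simpa using h9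
    omega
  have hnt : Nontrivial Fˣ := Fintype.one_lt_card_iff_nontrivial.mp this
  exact exists_ne 1

include hm hF in
/-- if a central translation fixes `α`, the whole stabiliser of `∞` fixes `α` -/
theorem borel_le_of_inv (hfix : ∀ g : Sz F m, g ≠ 1 → Nat.card (fixedBy Ω g) ≤ 2) {α : Ω} {d₀ : F}
    (hd₀ : d₀ ≠ 0) (ht : tz hσ 0 d₀ • α = α) :
    ∀ g : Sz F m, g • infPt F m = infPt F m → g • α = α := by
  have h2F : (2 : F) = 0 := CharTwo.two_eq_zero
  have ht1 : tz hσ 0 d₀ ≠ 1 := by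
    intro h
    rw [← tz_zero hσ] at h
    exact hd₀ (tz_inj hσ h).2
  -- Step 1
  have step1 : ∀ b : F, tz hσ 0 b • α = α := by
    intro b
    obtain ⟨a, ha⟩ := exists_sg_mul hσ b
    have hX : α ∈ fixSet Ω ({tz hσ 0 d₀} : Set (Sz F m)) := by
      intro x hx
      rw [Set.mem_singleton_iff] at hx
      rw [hx]; exact ht
    have := sq_smul_eq hfix hX (Set.mem_singleton _) ht1 (n := tz hσ a 0) (by
      intro x hx
      rw [Set.mem_singleton_iff] at hx
      rw [hx, tz_central]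
      exact Set.mem_singleton _)
    rwa [tz_sq, ha] at this
  -- Step 2
  have hX2 : α ∈ fixSet Ω (Set.range (tz hσ (0 : F))) := by
    rintro _ ⟨b, rfl⟩
    exact step1 b
  have step2 : ∀ g : Sz F m, g • infPt F m = infPt F m → (g * g) • α = α := by
    intro g hg
    apply sq_smul_eq hfix hX2 ⟨d₀, rfl⟩ ht1
    rintro _ ⟨b, rfl⟩
    obtain ⟨b', hb'⟩ := conj_center hσ hm hF hg b
    exact ⟨b', hb'.symm⟩
  -- Step 3
  have step3 : ∀ (a' b' : F) (κ : Fˣ), κ ≠ 1 → (tz hσ a' b' * hz hσ κ) • α = α := by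
    intro a' b' κ hκ
    obtain ⟨k, rfl⟩ := exists_unit_sq κ
    have hk1 : (k : F) ≠ 1 := by
      intro h
      apply hκ
      have : k = 1 := Units.ext h
      rw [this, one_mul]
    have hu : 1 + (k : F) ≠ 0 := by
      intro h
      apply hk1
      linear_combination h - h2F
    have hw : 1 + (k : F) * sg m (k : F) ≠ 0 := by
      intro h
      apply hk1
      apply eq_one_of_mul_sg_eq_one hσ
      linear_combination h - h2F
    set a := a' / (1 + (k : F)) with ha
    set b := (b' + sg m a * ((k : F) * a)) / (1 + (k : F) * sg m (k : F)) with hb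
    have hg : (tz hσ a b * hz hσ k) • infPt F m = infPt F m := by
      rw [mul_smul, hz_smul_inf, tz_smul_inf]
    have := step2 _ hg
    rw [tzhz_mul hσ hm hF] at this
    have e1 : a + (k : F) * a = a' := by
      rw [ha]; field_simp
    have e2 : b + (k : F) * sg m (k : F) * b + sg m a * ((k : F) * a) = b' := by
      have : b * (1 + (k : F) * sg m (k : F)) = b' + sg m a * ((k : F) * a) := by
        rw [hb]; field_simp
      linear_combination this + (sg m a * ((k : F) * a)) * h2F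
    rwa [e1, e2] at this
  -- Step 4
  intro g hg
  obtain ⟨c, d, κ, rfl⟩ := stab_eq hσ hm hF (mem_stabilizer_iff.mpr hg)
  by_cases hκ : κ = 1
  · obtain ⟨κ', hκ'⟩ := exists_unit_ne_one hm hF
    have h1 := step3 c d κ' hκ'
    have h2 := step3 0 0 κ' hκ'
    rw [tz_zero, one_mul] at h2
    rw [hκ, hz_one, mul_one]
    have : tz hσ c d = (tz hσ c d * hz hσ κ') * (hz hσ κ')⁻¹ := by group
    rw [this, mul_smul, inv_smul_eq_iff.mpr h2.symm, h1]
  · exact step3 c d κ hκ


include hm hF in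
/-- even case: the stabiliser of `α` is the stabiliser of `∞` -/
theorem stabilizer_eq_of_inv (hfix : ∀ g : Sz F m, g ≠ 1 → Nat.card (fixedBy Ω g) ≤ 2) {α : Ω}
    {d₀ : F} (hd₀ : d₀ ≠ 0) (ht : tz hσ 0 d₀ • α = α) (htop : stabilizer (Sz F m) α ≠ ⊤) :
    stabilizer (Sz F m) α = stabilizer (Sz F m) (infPt F m) := by
  have hB := borel_le_of_inv hσ hm hF hfix hd₀ ht
  apply le_antisymm
  · intro h hh
    rw [mem_stabilizer_iff] at hh ⊢
    by_contra hne
    apply htop
    rw [eq_top_iff]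
    intro g _
    rw [mem_stabilizer_iff]
    by_cases hg : g • infPt F m = infPt F m
    · exact hB g hg
    · obtain ⟨x, hx1, hx2⟩ := sz_two_trans hF (infPt F m) (h • infPt F m) (infPt F m)
        (g • infPt F m) (Ne.symm hne) (Ne.symm hg)
      have h1 : (g⁻¹ * x * h) • infPt F m = infPt F m := by
        rw [mul_smul, mul_smul, hx2, inv_smul_smul]
      have h2 := hB _ h1
      have h3 := hB x hx1
      have : g = x * h * (g⁻¹ * x * h)⁻¹ := by group
      rw [this, mul_smul, mul_smul, inv_smul_eq_iff.mpr h2.symm, hh, h3]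
  · intro g hg
    rw [mem_stabilizer_iff] at hg ⊢
    exact hB g hg

include hm hF in
/-- even case: the conclusion -/
theorem concl_of_inv [IsPretransitive (Sz F m) Ω]
    (hfix : ∀ g : Sz F m, g ≠ 1 → Nat.card (fixedBy Ω g) ≤ 2) {α : Ω}
    {d₀ : F} (hd₀ : d₀ ≠ 0) (ht : tz hσ 0 d₀ • α = α) (htop : stabilizer (Sz F m) α ≠ ⊤) :
    Nat.card Ω = Fintype.card F ^ 2 + 1 ∧ IsMultiplyPretransitive (Sz F m) Ω 2 := by
  have hst := stabilizer_eq_of_inv hσ hm hF hfix hd₀ ht htop
  have : IsPretransitive (Sz F m) (suzukiOvoid F m) := ⟨sz_trans hF⟩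
  constructor
  · rw [← index_stabilizer_of_transitive (Sz F m) α, hst,
      index_stabilizer_of_transitive (Sz F m) (infPt F m), card_suzukiOvoid]
  · rw [is_two_pretransitive_iff]
    intro a b c d hab hcd
    obtain ⟨x, rfl⟩ := exists_smul_eq (Sz F m) α a
    obtain ⟨y, rfl⟩ := exists_smul_eq (Sz F m) α b
    obtain ⟨z, rfl⟩ := exists_smul_eq (Sz F m) α c
    obtain ⟨w, rfl⟩ := exists_smul_eq (Sz F m) α d
    have key : ∀ u v : Sz F m, u • α = v • α ↔ u • infPt F m = v • infPt F m := by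
      intro u v
      rw [← inv_smul_eq_iff, ← mul_smul, ← mem_stabilizer_iff, hst, mem_stabilizer_iff, mul_smul,
        inv_smul_eq_iff]
    have h1 : x • infPt F m ≠ y • infPt F m := fun h => hab ((key x y).mpr h)
    have h2 : z • infPt F m ≠ w • infPt F m := fun h => hcd ((key z w).mpr h)
    obtain ⟨g, hg1, hg2⟩ := sz_two_trans hF _ _ _ _ h1 h2
    refine ⟨g, ?_, ?_⟩
    · rw [← mul_smul, key, mul_smul, hg1]
    · rw [← mul_smul, key, mul_smul, hg2]

end Even


section Odd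

variable {Ω : Type*} [MulAction (Sz F m) Ω] [Finite Ω]

omit [Fintype F] [CharP F 2] in
theorem torus_card_odd {U : Subgroup (Sz F m)} (hU : IsSzTorus U) : ¬ 2 ∣ Nat.card U := by
  have h1 : 2 ∣ 2 ^ (2 * m + 1) := dvd_pow_self 2 (by omega)
  have h2 : 2 ∣ 2 ^ (m + 1) := dvd_pow_self 2 (by omega)
  have h3 : 2 ^ (m + 1) ≤ 2 ^ (2 * m + 1) := Nat.pow_le_pow_right (by norm_num) (by omega)
  have h4 : 0 < 2 ^ (2 * m + 1) := by positivity
  rcases hU.card_mem with h | h | h <;> rw [h] <;> omega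

theorem smul_eq_of_sq_of_odd {G : Type*} [Group G] {X : Type*} [MulAction G X] {u : G} {α : X}
    (hodd : ¬ 2 ∣ orderOf u) (hsq : (u * u) • α = α) : u • α = α := by
  have hodd' : Odd (orderOf u) := Nat.odd_iff.mpr (by omega)
  obtain ⟨j, hj⟩ := hodd'
  have e : u = (u * u) ^ (j + 1) := by
    rw [← pow_two, ← pow_mul, show 2 * (j + 1) = orderOf u + 1 by omega, pow_succ,
      pow_orderOf_eq_one, one_mul]
  have hpow : ∀ i : ℕ, (u * u) ^ i • α = α := by
    intro i
    induction i with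
    | zero => simp
    | succ i ih => rw [pow_succ, mul_smul, hsq, ih]
  rw [e]
  exact hpow _

include hm hF in
/-- odd case: the stabiliser is a torus whose normaliser is small -/
theorem torus_of_odd (hfix : ∀ g : Sz F m, g ≠ 1 → Nat.card (fixedBy Ω g) ≤ 2) {α : Ω}
    (hodd : ∀ x ∈ stabilizer (Sz F m) α, ¬ 2 ∣ orderOf x) (hne : stabilizer (Sz F m) α ≠ ⊥) :
    ∃ U : Subgroup (Sz F m), IsSzTorus U ∧ stabilizer (Sz F m) α = U ∧
      Nat.card (Subgroup.normalizer (U : Set (Sz F m))) ≤ 2 * Nat.card U := by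
  obtain ⟨U, hU, hle⟩ := sz_le_torus_of_odd hm hF _ hodd hne
  obtain ⟨h, hh, h1⟩ := (Subgroup.bot_or_exists_ne_one _).resolve_left hne
  have hhU : h ∈ U := hle hh
  have hUodd := torus_card_odd hU
  have hXα : α ∈ fixSet Ω ({h} : Set (Sz F m)) := by
    intro x hx
    rw [Set.mem_singleton_iff] at hx
    rw [hx]; exact mem_stabilizer_iff.mp hh
  have hUle : U ≤ stabilizer (Sz F m) α := by
    intro u hu
    rw [mem_stabilizer_iff]
    have hcomm : u * h = h * u := by
      have : u ∈ Subgroup.centralizer ({h} : Set (Sz F m)) := by rw [hU.cent h hhU h1]; exact hu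
      exact (Subgroup.mem_centralizer_singleton_iff.mp this)
    have hsq := sq_smul_eq hfix hXα (Set.mem_singleton _) h1 (n := u) (by
      intro x hx
      rw [Set.mem_singleton_iff] at hx
      rw [hx, mul_assoc, ← hcomm, ← mul_assoc, inv_mul_cancel, one_mul]
      exact Set.mem_singleton _)
    have huodd : ¬ 2 ∣ orderOf u := by
      intro h2
      apply hUodd
      have := orderOf_dvd_natCard (⟨u, hu⟩ : U)
      rw [Subgroup.orderOf_mk] at this
      exact h2.trans this
    exact smul_eq_of_sq_of_odd huodd hsq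
  have hEq : stabilizer (Sz F m) α = U := le_antisymm hle hUle
  refine ⟨U, hU, hEq, ?_⟩
  have hXα' : α ∈ fixSet Ω (U : Set (Sz F m)) := by
    intro x hx
    exact mem_stabilizer_iff.mp (hUle hx)
  have := card_le_two_mul hfix hXα' (x₀ := h) hhU h1 (Subgroup.normalizer (U : Set (Sz F m))) (by
    intro n hn x hx
    have hn' : n⁻¹ ∈ Subgroup.normalizer (U : Set (Sz F m)) := Subgroup.inv_mem _ hn
    have := (Subgroup.mem_normalizer_iff.mp hn' x).mp hx
    simpa using this)
  rwa [hEq, inf_eq_right.mpr Subgroup.le_normalizer] at this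


include hm hF in
theorem exists_second_fixed {u : Sz F m} (hu1 : u ≠ 1) (hodd : ¬ 2 ∣ orderOf u)
    {a : suzukiOvoid F m} (ha : u • a = a) : ∃ b, b ≠ a ∧ u • b = b := by
  by_contra hcon
  push Not at hcon
  have huniq : ∀ b, u • b = b → b = a := fun b hb => by
    by_contra hne
    exact hcon b hne hb
  obtain ⟨j, hj⟩ := exists_two_pow_of_unique_fixed (sz_card_ovoid hF) (sz_three_pt hm hF) ha huniq
    (Commute.refl u)
  have hdvd : orderOf u ∣ 2 ^ j := orderOf_dvd_of_pow_eq_one hj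
  obtain ⟨i, -, hi⟩ := (Nat.dvd_prime_pow Nat.prime_two).mp hdvd
  rcases Nat.eq_zero_or_pos i with h0 | hpos
  · rw [h0, pow_zero, orderOf_eq_one_iff] at hi
    exact hu1 hi
  · exact hodd (hi ▸ dvd_pow_self 2 hpos.ne')

include hm hF in
/-- odd case: the conclusion -/
theorem concl_of_odd [IsPretransitive (Sz F m) Ω]
    (hfix : ∀ g : Sz F m, g ≠ 1 → Nat.card (fixedBy Ω g) ≤ 2)
    (hodd : ∀ α : Ω, ∀ x ∈ stabilizer (Sz F m) α, ¬ 2 ∣ orderOf x)
    (hne : ∀ α : Ω, stabilizer (Sz F m) α ≠ ⊥) (α₀ : Ω) :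
    Nat.card Ω = Fintype.card F ^ 2 * (Fintype.card F ^ 2 + 1) ∧
      ∀ α : Ω, Nat.card (stabilizer (Sz F m) α) = Fintype.card F - 1 := by
  have hσ : SgSq (F := F) m := sgSq_of_card m hF
  obtain ⟨U₀, hU₀, hst₀, -⟩ := torus_of_odd hm hF hfix (hodd α₀) (hne α₀)
  obtain ⟨u, huU, hu1⟩ : ∃ u ∈ U₀, u ≠ 1 := by
    have := (Subgroup.bot_or_exists_ne_one _).resolve_left (hne α₀)
    rwa [hst₀] at this
  have hcard : Nat.card U₀ = 2 ^ (2 * m + 1) - 1 := by
    by_cases hfpf : SzFpf u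
    · exfalso
      obtain ⟨x₁, x₂, hx₁, hx₂, hc₁, hc₂, hn₁, hn₂, hcov⟩ := sz_fpf_classes hm hF
      have key : ∀ x : Sz F m, SzFpf x →
          Nat.card (Subgroup.normalizer
            (Subgroup.centralizer ({x} : Set (Sz F m)) : Set (Sz F m))) =
            4 * Nat.card (Subgroup.centralizer ({x} : Set (Sz F m))) → u ∈ szY x → False := by
        rintro x hx hn ⟨-, g, hg⟩
        obtain ⟨U', hU', hst', hle'⟩ := torus_of_odd hm hF hfix (hodd (g • α₀)) (hne (g • α₀))
        have hmem : g * u * g⁻¹ ∈ U' := by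
          rw [← hst', mem_stabilizer_iff, mul_smul, mul_smul, inv_smul_smul]
          congr 1
          have : u ∈ stabilizer (Sz F m) α₀ := by rw [hst₀]; exact huU
          exact mem_stabilizer_iff.mp this
        have hT := isSzTorus_of_fpf hm hF hx
        have hEq : U' = Subgroup.centralizer ({x} : Set (Sz F m)) :=
          hU'.eq_of_mem hT hmem hg (conj_ne_one hu1)
        rw [hEq, hn] at hle'
        have hpos : 0 < Nat.card (Subgroup.centralizer ({x} : Set (Sz F m))) := Nat.card_pos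
        omega
      rcases hcov u hfpf with h | h
      · exact key x₁ hx₁ (by rw [hn₁, hc₁]) h
      · exact key x₂ hx₂ (by rw [hn₂, hc₂]) h
    · simp only [SzFpf, not_forall, not_not] at hfpf
      obtain ⟨a, ha⟩ := hfpf
      have huodd : ¬ 2 ∣ orderOf u := hodd α₀ u (by rw [hst₀]; exact huU)
      obtain ⟨b, hba, hb⟩ := exists_second_fixed hm hF hu1 huodd ha
      obtain ⟨U₁, hU₁, hmem₁⟩ := isSzTorus_two_point hm hF a b (Ne.symm hba)
      obtain ⟨U₂, -, hcard₂, hmem₂⟩ := sz_exists_two_point_torus hm hF a b (Ne.symm hba)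
      have h12 : U₁ = U₂ := by
        ext t; rw [hmem₁, hmem₂]
      have hEq : U₀ = U₁ := hU₀.eq_of_mem hU₁ huU ((hmem₁ u).mpr ⟨ha, hb⟩) hu1
      rw [hEq, h12, hcard₂]
  have hS := card_Sz hm hF
  have hidx : ∀ α : Ω, Nat.card (stabilizer (Sz F m) α) * Nat.card Ω = Nat.card (Sz F m) := by
    intro α
    rw [← index_stabilizer_of_transitive (Sz F m) α]
    exact Subgroup.card_mul_index _
  have h0 := hidx α₀
  rw [hst₀, hcard, hS] at h0
  have hq8 : 8 ≤ 2 ^ (2 * m + 1) := by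
    calc 8 = 2 ^ 3 := by norm_num
      _ ≤ 2 ^ (2 * m + 1) := Nat.pow_le_pow_right (by norm_num) (by omega)
  have hqpos : 0 < 2 ^ (2 * m + 1) - 1 := by omega
  have hΩ : Nat.card Ω = (2 ^ (2 * m + 1)) ^ 2 * ((2 ^ (2 * m + 1)) ^ 2 + 1) := by
    apply Nat.eq_of_mul_eq_mul_left hqpos
    rw [h0]; ring
  refine ⟨by rw [hΩ, hF], ?_⟩
  intro α
  have h1 := hidx α
  rw [hΩ, hS] at h1
  rw [hF]
  have hpos : 0 < (2 ^ (2 * m + 1)) ^ 2 * ((2 ^ (2 * m + 1)) ^ 2 + 1) := by positivity
  apply Nat.eq_of_mul_eq_mul_right hpos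
  rw [h1, mul_comm]

end Odd


section Main

include hm hF in
/-- **Fixity-2 actions of the Suzuki group** (ovoid-stabiliser model). -/
theorem main_sz {Ω : Type*} [Fintype Ω] [MulAction (Sz F m) Ω] [IsPretransitive (Sz F m) Ω]
    (hfix : ∀ g : Sz F m, g ≠ 1 → Nat.card (fixedBy Ω g) ≤ 2)
    (hex : ∃ g : Sz F m, g ≠ 1 ∧ Nat.card (fixedBy Ω g) = 2) :
    (Fintype.card Ω = Fintype.card F ^ 2 + 1 ∧ IsMultiplyPretransitive (Sz F m) Ω 2) ∨
    (Fintype.card Ω = Fintype.card F ^ 2 * (Fintype.card F ^ 2 + 1) ∧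
      ∀ α : Ω, Nat.card (stabilizer (Sz F m) α) = Fintype.card F - 1) := by
  have hσ : SgSq (F := F) m := sgSq_of_card m hF
  obtain ⟨g₀, hg₀1, hg₀⟩ := hex
  have hnonempty : Nonempty (fixedBy Ω g₀) := by
    have : 0 < Nat.card (fixedBy Ω g₀) := by omega
    exact (Nat.card_pos_iff.mp this).1
  obtain ⟨⟨β₀, hβ₀⟩⟩ := hnonempty
  rw [mem_fixedBy] at hβ₀
  have hne : ∀ α : Ω, stabilizer (Sz F m) α ≠ ⊥ := by
    intro α h
    obtain ⟨x, rfl⟩ := exists_smul_eq (Sz F m) β₀ α
    have hmem : x * g₀ * x⁻¹ ∈ stabilizer (Sz F m) (x • β₀) := by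
      rw [mem_stabilizer_iff, mul_smul, mul_smul, inv_smul_smul, hβ₀]
    rw [h, Subgroup.mem_bot] at hmem
    exact conj_ne_one hg₀1 hmem
  have htop : ∀ α : Ω, stabilizer (Sz F m) α ≠ ⊤ := by
    intro α h
    have hall : ∀ β : Ω, β = α := by
      intro β
      obtain ⟨x, rfl⟩ := exists_smul_eq (Sz F m) α β
      have : x ∈ stabilizer (Sz F m) α := by rw [h]; trivial
      exact mem_stabilizer_iff.mp this
    have hsub : Subsingleton (fixedBy Ω g₀) := ⟨fun a b => Subtype.ext ((hall a).trans (hall b).symm)⟩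
    have := Finite.card_le_one_iff_subsingleton.mpr hsub
    omega
  by_cases hE : ∃ α : Ω, ∃ t ∈ stabilizer (Sz F m) α, t ≠ 1 ∧ t * t = 1
  · left
    obtain ⟨α, t, htα, ht1, ht2⟩ := hE
    obtain ⟨c, hc, -⟩ := sz_inv_fixed hm hF ht1 ht2
    obtain ⟨g, hg⟩ := sz_trans hF c (infPt F m)
    have ht'1 : g * t * g⁻¹ ≠ 1 := conj_ne_one ht1
    have ht'2 : (g * t * g⁻¹) * (g * t * g⁻¹) = 1 := by
      have : (g * t * g⁻¹) * (g * t * g⁻¹) = g * (t * t) * g⁻¹ := by group
      rw [this, ht2]; group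
    have ht'inf : (g * t * g⁻¹) • infPt F m = infPt F m := by
      rw [mul_smul, mul_smul, ← hg, inv_smul_smul, hc]
    obtain ⟨d, hd, htd⟩ := inv_eq_tz hσ hm hF ht'1 ht'2 ht'inf
    have hfixα : tz hσ 0 d • (g • α) = g • α := by
      rw [← htd, mul_smul, mul_smul, inv_smul_smul, mem_stabilizer_iff.mp htα]
    have := concl_of_inv hσ hm hF hfix hd hfixα (htop _)
    rwa [Nat.card_eq_fintype_card] at this
  · right
    push Not at hE
    have hodd : ∀ α : Ω, ∀ x ∈ stabilizer (Sz F m) α, ¬ 2 ∣ orderOf x := by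
      intro α x hx h2
      obtain ⟨j, hj⟩ := Cfsg.Agent.Lib.Helper95.NilCover.exists_involution_of_even (even_iff_two_dvd.mpr h2)
      have hmem : x ^ j ∈ stabilizer (Sz F m) α := Subgroup.pow_mem _ hx j
      have h1 : x ^ j ≠ 1 := by
        intro h
        rw [h, orderOf_one] at hj
        omega
      have h2' : x ^ j * x ^ j = 1 := by
        rw [← pow_two, ← hj, pow_orderOf_eq_one]
      exact hE α (x ^ j) hmem h1 h2'
    have := concl_of_odd hm hF hfix hodd hne β₀
    rwa [Nat.card_eq_fintype_card] at this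

end Main

end Sz

end Cfsg.Agent.Lib.Helper95.Fixity
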