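import Mathlib
import Cfsg.Prelude.Def_KGroupFacts
import Cfsg.Agent.Lib.Helper95.StemExt
import Cfsg.Agent.Lib.Helper95.SzAut
import Cfsg.Agent.Lib.Helper6.SzTorus
import Cfsg.Agent.Lib.Helper6.SzOrder
import Cfsg.Agent.S0333

set_option autoImplicit false
set_option linter.unusedSectionVars false
set_option linter.unusedSimpArgs false

/-!
# The Schur multiplier of `Sz(q)`, `q ≥ 32`, is trivial (helper95)

Alperin–Gorenstein: for a stem extension `σ : Γ → Sz(q)` with kernel `K`,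
* odd primes: `Sz(q)` has cyclic subgroups (tori) of index prime to `p`, so the transfer kills `K_p`;
* `p = 2`: the torus `H` acts on `σ⁻¹(S)`; there are no `H`-invariant pairings of the relevant weights
  when `q ≥ 32`, so `σ⁻¹(S)` has an `H`-invariant retraction onto `K` (`app1`, `Wt_central`, `app2`)
  and the transfer kills `K_2`.
-/

namespace Cfsg.Agent.Lib.Helper95.SzSchur

open Cfsg Cfsg.Agent.Lib.Helper6 Cfsg.Agent.S2247 Cfsg.Agent.Lib.Helper95.OutSz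
  Cfsg.Agent.Lib.Helper95.StemExt

open scoped IsMulCommutative

/-- conjugation by `h` as an endomorphism of a subgroup it normalises -/
def conjHom {Γ : Type*} [Group Γ] (H : Subgroup Γ) (h : Γ) (hh : ∀ x ∈ H, h * x * h⁻¹ ∈ H) :
    H →* H where
  toFun x := ⟨h * x.1 * h⁻¹, hh x.1 x.2⟩
  map_one' := Subtype.ext (by simp)
  map_mul' x y := Subtype.ext (by simp)

section two

variable {F : Type*} [Field F] [Fintype F] [CharP F 2] {m : ℕ} (hσ : SgSq (F := F) m)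

/-- the subgroup of central translations -/
noncomputable def Z0 : Subgroup (Sz F m) where
  carrier := {g | ∃ b : F, g = tz hσ 0 b}
  one_mem' := ⟨0, (tz_zero hσ).symm⟩
  mul_mem' := by
    rintro _ _ ⟨b, rfl⟩ ⟨d, rfl⟩
    exact ⟨b + d, by rw [tz_mul]; simp⟩
  inv_mem' := by
    rintro _ ⟨b, rfl⟩
    refine ⟨b, ?_⟩
    rw [inv_eq_iff_mul_eq_one, tz_mul, ← tz_zero hσ]
    simp [CharTwo.add_self_eq_zero]

variable {Γ : Type*} [Group Γ] (σ : Γ →* Sz F m)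

/-- preimage of the Sylow 2-subgroup -/
noncomputable def St : Subgroup Γ := (szTsub hσ).comap σ

/-- preimage of the centre of the Sylow 2-subgroup -/
noncomputable def Wt : Subgroup Γ := (Z0 hσ).comap σ

theorem mem_St {x : Γ} : x ∈ St hσ σ ↔ ∃ a b : F, σ x = tz hσ a b := by
  unfold St
  rw [Subgroup.mem_comap, mem_szTsub_iff]

theorem mem_Wt {x : Γ} : x ∈ Wt hσ σ ↔ ∃ b : F, σ x = tz hσ 0 b := Iff.rfl

theorem Wt_le_St : Wt hσ σ ≤ St hσ σ := by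
  intro x hx
  obtain ⟨b, hb⟩ := (mem_Wt hσ σ).mp hx
  exact (mem_St hσ σ).mpr ⟨0, b, hb⟩

theorem ker_le_Wt : σ.ker ≤ Wt hσ σ := by
  intro x hx
  exact (mem_Wt hσ σ).mpr ⟨0, by rw [MonoidHom.mem_ker.mp hx, tz_zero]⟩

theorem map_eq_of_mem_St {x : Γ} (hx : x ∈ St hσ σ) :
    σ x = tz hσ (aOf (σ x)) (bOf (σ x)) := by
  obtain ⟨a, b, h⟩ := (mem_St hσ σ).mp hx
  rw [h, aOf_tz, bOf_tz]

theorem map_eq_of_mem_Wt {x : Γ} (hx : x ∈ Wt hσ σ) :
    σ x = tz hσ 0 (bOf (σ x)) := by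
  obtain ⟨b, h⟩ := (mem_Wt hσ σ).mp hx
  rw [h, bOf_tz]

theorem aOf_mul {x y : Γ} (hx : x ∈ St hσ σ) (hy : y ∈ St hσ σ) :
    aOf (σ (x * y)) = aOf (σ x) + aOf (σ y) := by
  rw [map_mul, map_eq_of_mem_St hσ σ hx, map_eq_of_mem_St hσ σ hy, tz_mul]
  simp only [aOf_tz]

theorem bOf_mul {x y : Γ} (hx : x ∈ Wt hσ σ) (hy : y ∈ Wt hσ σ) :
    bOf (σ (x * y)) = bOf (σ x) + bOf (σ y) := by
  rw [map_mul, map_eq_of_mem_Wt hσ σ hx, map_eq_of_mem_Wt hσ σ hy, tz_mul]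
  simp only [bOf_tz, map_zero, zero_mul, add_zero]

theorem mem_Wt_iff_aOf {x : Γ} (hx : x ∈ St hσ σ) : aOf (σ x) = 0 ↔ x ∈ Wt hσ σ := by
  constructor
  · intro h
    refine (mem_Wt hσ σ).mpr ⟨bOf (σ x), ?_⟩
    conv_lhs => rw [map_eq_of_mem_St hσ σ hx, h]
  · intro h
    rw [map_eq_of_mem_Wt hσ σ h, aOf_tz]

theorem mem_ker_iff_bOf {x : Γ} (hx : x ∈ Wt hσ σ) : bOf (σ x) = 0 ↔ x ∈ σ.ker := by
  constructor
  · intro h
    rw [MonoidHom.mem_ker, map_eq_of_mem_Wt hσ σ hx, h, tz_zero]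
  · intro h
    rw [MonoidHom.mem_ker.mp h, ← tz_zero hσ, bOf_tz]

variable (hm : 1 ≤ m) (hF : Fintype.card F = 2 ^ (2 * m + 1))

include hm hF in
theorem conj_tz (k : Fˣ) (a b : F) :
    hz hσ k * tz hσ a b * (hz hσ k)⁻¹ = tz hσ ((k : F) * a) ((k : F) * sg m (k : F) * b) := by
  rw [hz_tz hσ hm hF, mul_inv_cancel_right]

include hm hF in
theorem conj_mem_St {h : Γ} {k : Fˣ} (hh : σ h = hz hσ k) {x : Γ} (hx : x ∈ St hσ σ) :
    h * x * h⁻¹ ∈ St hσ σ := by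
  obtain ⟨a, b, hab⟩ := (mem_St hσ σ).mp hx
  refine (mem_St hσ σ).mpr ⟨(k : F) * a, (k : F) * sg m (k : F) * b, ?_⟩
  rw [map_mul, map_mul, map_inv, hh, hab, conj_tz hσ hm hF]

include hm hF in
theorem conj_mem_Wt {h : Γ} {k : Fˣ} (hh : σ h = hz hσ k) {x : Γ} (hx : x ∈ Wt hσ σ) :
    h * x * h⁻¹ ∈ Wt hσ σ := by
  obtain ⟨b, hab⟩ := (mem_Wt hσ σ).mp hx
  refine (mem_Wt hσ σ).mpr ⟨(k : F) * sg m (k : F) * b, ?_⟩
  rw [map_mul, map_mul, map_inv, hh, hab, conj_tz hσ hm hF, mul_zero]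

include hm hF in
theorem aOf_conj {h : Γ} {k : Fˣ} (hh : σ h = hz hσ k) {x : Γ} (hx : x ∈ St hσ σ) :
    aOf (σ (h * x * h⁻¹)) = (k : F) * aOf (σ x) := by
  obtain ⟨a, b, hab⟩ := (mem_St hσ σ).mp hx
  rw [map_mul, map_mul, map_inv, hh, hab, conj_tz hσ hm hF, aOf_tz, aOf_tz]

include hm hF in
theorem bOf_conj {h : Γ} {k : Fˣ} (hh : σ h = hz hσ k) {x : Γ} (hx : x ∈ Wt hσ σ) :
    bOf (σ (h * x * h⁻¹)) = ((k : F) * sg m (k : F)) * bOf (σ x) := by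
  obtain ⟨b, hab⟩ := (mem_Wt hσ σ).mp hx
  rw [map_mul, map_mul, map_inv, hh, hab, conj_tz hσ hm hF, bOf_tz, bOf_tz]

theorem tz_comm_center (a b d : F) : tz hσ a b * tz hσ 0 d = tz hσ 0 d * tz hσ a b := by
  rw [tz_mul, tz_mul]
  simp only [map_zero, zero_mul, mul_zero, add_zero, zero_add, add_comm]

end two

section main2

variable {F : Type*} [Field F] [Fintype F] [CharP F 2] {m : ℕ} (hσ : SgSq (F := F) m)
  (hm : 2 ≤ m) (hF : Fintype.card F = 2 ^ (2 * m + 1))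
  {Γ : Type*} [Group Γ] (σ : Γ →* Sz F m) (hsurj : Function.Surjective σ)
  (hc : σ.ker ≤ Subgroup.center Γ)

omit [CharP F 2] in
theorem exists_gen : ∃ κ : Fˣ, ∀ u : F, u ≠ 0 → ∃ j : ℕ, (κ : F) ^ j = u := by
  obtain ⟨κ, hκ⟩ := IsCyclic.exists_generator (α := Fˣ)
  refine ⟨κ, fun u hu => ?_⟩
  have := hκ (Units.mk0 u hu)
  rw [← mem_powers_iff_mem_zpowers] at this
  obtain ⟨j, hj⟩ := this
  refine ⟨j, ?_⟩
  have := congrArg Units.val hj
  simpa using this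

include hm hF in
theorem card_gt : 4 < Fintype.card F := by
  rw [hF]
  calc 4 < 2 ^ 5 := by norm_num
    _ ≤ 2 ^ (2 * m + 1) := Nat.pow_le_pow_right (by norm_num) (by omega)

include hσ in
theorem gen_mul_sg {κ : Fˣ} (hκ : ∀ u : F, u ≠ 0 → ∃ j : ℕ, (κ : F) ^ j = u) :
    ∀ u : F, u ≠ 0 → ∃ j : ℕ, ((κ : F) * sg m (κ : F)) ^ j = u := by
  intro u hu
  have hsur : Function.Surjective (fun k : F => k * sg m k) :=
    Finite.injective_iff_surjective.mp (mul_sg_injective hσ)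
  obtain ⟨v, hv⟩ := hsur u
  simp only at hv
  have hv0 : v ≠ 0 := by
    rintro rfl
    apply hu
    rw [← hv]; simp
  obtain ⟨j, hj⟩ := hκ v hv0
  refine ⟨j, ?_⟩
  rw [mul_pow, ← map_pow, hj, hv]

include hσ hm hF in
theorem gen_ne_one {κ : Fˣ} (hκ : ∀ u : F, u ≠ 0 → ∃ j : ℕ, (κ : F) ^ j = u) :
    (κ : F) ≠ 1 ∧ (κ : F) * sg m (κ : F) ≠ 1 := by
  have h1 : (κ : F) ≠ 1 := by
    intro h
    obtain ⟨c, hc⟩ := exists_sg_ne (by omega : 1 ≤ m) hF hσ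
    have hc0 : c ≠ 0 := by rintro rfl; apply hc; simp
    obtain ⟨j, hj⟩ := hκ c hc0
    rw [h, one_pow] at hj
    apply hc; rw [← hj]; simp
  exact ⟨h1, fun h => h1 (eq_one_of_mul_sg_eq_one hσ h)⟩

include hm hF hsurj hc in
/-- first application: the preimage of `Z(S)` is abelian and has an invariant retraction onto the kernel -/
theorem app1 {κ : Fˣ} (hκ : ∀ u : F, u ≠ 0 → ∃ j : ℕ, (κ : F) ^ j = u) {h : Γ}
    (hh : σ h = hz hσ κ) :
    (∀ x ∈ Wt hσ σ, ∀ y ∈ Wt hσ σ, x * y = y * x) ∧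
    ∃ χ : ↥(Wt hσ σ) →* ↥(Subgroup.center Γ),
      (∀ (z : Γ) (hz : z ∈ σ.ker), (χ ⟨z, ker_le_Wt hσ σ hz⟩ : Γ) = z) ∧
      ∀ (x : Γ) (hx : x ∈ Wt hσ σ) (hx' : h * x * h⁻¹ ∈ Wt hσ σ), χ ⟨h * x * h⁻¹, hx'⟩ = χ ⟨x, hx⟩ := by
  have hm1 : 1 ≤ m := by omega
  set C : Subgroup ↥(Wt hσ σ) := (σ.ker).subgroupOf (Wt hσ σ) with hCdef
  have hC : C ≤ Subgroup.center ↥(Wt hσ σ) := by
    intro c hcm
    rw [Subgroup.mem_center_iff]
    intro g
    exact Subtype.ext (Subgroup.mem_center_iff.mp (hc (Subgroup.mem_subgroupOf.mp hcm)) g.1)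
  let ρ : C →* ↥(Subgroup.center Γ) :=
    { toFun := fun c => ⟨c.1.1, hc (Subgroup.mem_subgroupOf.mp c.2)⟩
      map_one' := rfl
      map_mul' := fun _ _ => rfl }
  have key := exists_invariant_extension (E := ↥(Wt hσ σ)) (A := ↥(Subgroup.center Γ))
    (card_gt hm hF) C hC ρ (fun x => bOf (σ x.1))
    (fun x y => bOf_mul hσ σ x.2 y.2)
    (by
      intro b
      obtain ⟨x, hx⟩ := hsurj (tz hσ 0 b)
      exact ⟨⟨x, (mem_Wt hσ σ).mpr ⟨b, hx⟩⟩, by simp only [hx, bOf_tz]⟩)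
    (by
      intro x
      rw [mem_ker_iff_bOf hσ σ x.2, hCdef, Subgroup.mem_subgroupOf])
    (conjHom (Wt hσ σ) h (fun x hx => conj_mem_Wt hσ σ hm1 hF hh hx))
    ((κ : F) * sg m (κ : F)) (gen_mul_sg hσ hκ) (gen_ne_one hσ hm hF hκ).2
    (fun x => bOf_conj hσ σ hm1 hF hh x.2)
    (by
      intro c hcm hcm'
      apply Subtype.ext
      have hcc : c.1 ∈ Subgroup.center Γ := hc (Subgroup.mem_subgroupOf.mp hcm)
      show h * c.1 * h⁻¹ = c.1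
      rw [Subgroup.mem_center_iff.mp hcc h, mul_inv_cancel_right])
  obtain ⟨hab, χ, hχ1, hχ2⟩ := key
  refine ⟨?_, χ, ?_, ?_⟩
  · intro x hx y hy
    obtain ⟨hmem, h1⟩ := hab ⟨x, hx⟩ ⟨y, hy⟩
    have h2 : x * y * x⁻¹ * y⁻¹ = 1 := by
      have := congrArg (fun t : ↥(Subgroup.center Γ) => (t : Γ)) h1
      simpa [ρ] using this
    calc x * y = (x * y * x⁻¹ * y⁻¹) * (y * x) := by group
      _ = y * x := by rw [h2, one_mul]
  · intro z hz
    have := hχ1 ⟨⟨z, ker_le_Wt hσ σ hz⟩, Subgroup.mem_subgroupOf.mpr hz⟩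
    rw [this]
    rfl
  · intro x hx hx'
    exact hχ2 ⟨x, hx⟩

include hm hF hsurj hc in
/-- the preimage of `Z(S)` is central in the preimage of `S` (no invariant pairing of weights `(1, 1+θ)`) -/
theorem Wt_central (hab : ∀ x ∈ Wt hσ σ, ∀ y ∈ Wt hσ σ, x * y = y * x)
    {κ : Fˣ} (hκ : ∀ u : F, u ≠ 0 → ∃ j : ℕ, (κ : F) ^ j = u) {h : Γ} (hh : σ h = hz hσ κ) :
    ∀ x ∈ St hσ σ, ∀ w ∈ Wt hσ σ, x * w = w * x := by
  have hm1 : 1 ≤ m := by omega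
  have hker : ∀ x ∈ St hσ σ, ∀ w ∈ Wt hσ σ, cm x w ∈ σ.ker := by
    intro x hx w hw
    obtain ⟨a, b, hxab⟩ := (mem_St hσ σ).mp hx
    obtain ⟨d, hwd⟩ := (mem_Wt hσ σ).mp hw
    rw [MonoidHom.mem_ker]
    unfold cm
    rw [map_mul, map_mul, map_mul, map_inv, map_inv, hxab, hwd, tz_comm_center]
    group
  have hcen : ∀ x ∈ St hσ σ, ∀ w ∈ Wt hσ σ, cm x w ∈ Subgroup.center Γ :=
    fun x hx w hw => hc (hker x hx w hw)
  have hl : ∀ x ∈ St hσ σ, ∀ u ∈ Wt hσ σ, ∀ w ∈ Wt hσ σ, cm (x * u) w = cm x w := by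
    intro x hx u hu w hw
    rw [cm_mul_left _ _ _ (hcen u (Wt_le_St hσ σ hu) w hw)]
    have : cm u w = 1 := by unfold cm; rw [hab u hu w hw]; group
    rw [this, one_mul]
  have hr : ∀ x ∈ St hσ σ, ∀ w ∈ Wt hσ σ, ∀ k ∈ σ.ker, cm x (w * k) = cm x w := by
    intro x hx w hw k hk
    rw [cm_mul_right _ _ _ (hcen x hx k (ker_le_Wt hσ σ hk)), cm_central (hc hk), one_mul]
  -- lifts
  have hg₂ : ∀ a : F, ∃ x : Γ, σ x = tz hσ a 0 := fun a => hsurj _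
  have hg₁ : ∀ d : F, ∃ x : Γ, σ x = tz hσ 0 d := fun d => hsurj _
  choose g₂ hg₂ using hg₂
  choose g₁ hg₁ using hg₁
  have hg₂S : ∀ a, g₂ a ∈ St hσ σ := fun a => (mem_St hσ σ).mpr ⟨a, 0, hg₂ a⟩
  have hg₁W : ∀ d, g₁ d ∈ Wt hσ σ := fun d => (mem_Wt hσ σ).mpr ⟨d, hg₁ d⟩
  set f : F → F → Γ := fun a d => cm (g₂ a) (g₁ d) with hf
  have hfeq : ∀ x ∈ St hσ σ, ∀ w ∈ Wt hσ σ, cm x w = f (aOf (σ x)) (bOf (σ w)) := by
    intro x hx w hw
    obtain ⟨a, b, hxab⟩ := (mem_St hσ σ).mp hx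
    obtain ⟨d, hwd⟩ := (mem_Wt hσ σ).mp hw
    rw [hxab, hwd, aOf_tz, bOf_tz]
    have hu : (g₂ a)⁻¹ * x ∈ Wt hσ σ := by
      refine (mem_Wt hσ σ).mpr ⟨b, ?_⟩
      rw [map_mul, map_inv, hg₂, hxab, tz_eq_mul hσ a b, inv_mul_cancel_left]
    have hk : (g₁ d)⁻¹ * w ∈ σ.ker := by
      rw [MonoidHom.mem_ker, map_mul, map_inv, hg₁, hwd, inv_mul_cancel]
    have e : cm x w = cm (g₂ a * ((g₂ a)⁻¹ * x)) (g₁ d * ((g₁ d)⁻¹ * w)) := by
      congr 1 <;> group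
    rw [e, hl _ (hg₂S a) _ hu _ (mul_mem (hg₁W d) (ker_le_Wt hσ σ hk)), hr _ (hg₂S a) _ (hg₁W d) _ hk]
  have hf1 : ∀ a a' d, f (a + a') d = f a d * f a' d := by
    intro a a' d
    have h1 := hfeq (g₂ a * g₂ a') (mul_mem (hg₂S a) (hg₂S a')) (g₁ d) (hg₁W d)
    rw [aOf_mul hσ σ (hg₂S a) (hg₂S a'), hg₂, hg₂, hg₁, aOf_tz, aOf_tz, bOf_tz] at h1
    rw [← h1, cm_mul_left _ _ _ (hcen _ (hg₂S a') _ (hg₁W d))]
    exact (Subgroup.mem_center_iff.mp (hcen _ (hg₂S a') _ (hg₁W d)) _).symm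
  have hf2 : ∀ a d d', f a (d + d') = f a d * f a d' := by
    intro a d d'
    have h1 := hfeq (g₂ a) (hg₂S a) (g₁ d * g₁ d') (mul_mem (hg₁W d) (hg₁W d'))
    rw [bOf_mul hσ σ (hg₁W d) (hg₁W d'), hg₂, hg₁, hg₁, aOf_tz, bOf_tz, bOf_tz] at h1
    rw [← h1, cm_mul_right _ _ _ (hcen _ (hg₂S a) _ (hg₁W d'))]
    exact (Subgroup.mem_center_iff.mp (hcen _ (hg₂S a) _ (hg₁W d')) _).symm
  have hf3 : ∀ a d, f ((κ : F) * a) ((κ : F) * sg m (κ : F) * d) = f a d := by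
    intro a d
    have h1 := hfeq (h * g₂ a * h⁻¹) (conj_mem_St hσ σ hm1 hF hh (hg₂S a))
      (h * g₁ d * h⁻¹) (conj_mem_Wt hσ σ hm1 hF hh (hg₁W d))
    rw [aOf_conj hσ σ hm1 hF hh (hg₂S a), bOf_conj hσ σ hm1 hF hh (hg₁W d), hg₂, hg₁, aOf_tz,
      bOf_tz] at h1
    rw [← h1]
    have e : cm (h * g₂ a * h⁻¹) (h * g₁ d * h⁻¹) = h * cm (g₂ a) (g₁ d) * h⁻¹ := by
      unfold cm; group
    rw [e, Subgroup.mem_center_iff.mp (hcen _ (hg₂S a) _ (hg₁W d)) h, mul_inv_cancel_right]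
  have hf4 : ∀ u : F, u ≠ 0 → ∀ a d, f (u * a) (u * sg m u * d) = f a d := by
    intro u hu a d
    obtain ⟨j, rfl⟩ := hκ u hu
    clear hu
    induction j with
    | zero => simp
    | succ j ih =>
      have e1 : (κ : F) ^ (j + 1) * a = (κ : F) * ((κ : F) ^ j * a) := by ring
      have e2 : (κ : F) ^ (j + 1) * sg m ((κ : F) ^ (j + 1)) * d
          = (κ : F) * sg m (κ : F) * ((κ : F) ^ j * sg m ((κ : F) ^ j) * d) := by
        rw [map_pow, map_pow]; ring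
      rw [e1, e2, hf3, ih]
  have hf0 := pairing_sg hm hF hσ f hf1 hf2 hf4
  intro x hx w hw
  have h1 : cm x w = 1 := by rw [hfeq x hx w hw]; exact hf0 _ _
  calc x * w = cm x w * (w * x) := by unfold cm; group
    _ = w * x := by rw [h1, one_mul]

include hm hF hsurj hc in
/-- second application: an invariant retraction of `σ⁻¹(S)` onto the kernel -/
theorem app2 : ∃ χ : ↥(St hσ σ) →* ↥(Subgroup.center Γ),
      ∀ (z : Γ) (hz : z ∈ σ.ker), (χ ⟨z, Wt_le_St hσ σ (ker_le_Wt hσ σ hz)⟩ : Γ) = z := by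
  have hm1 : 1 ≤ m := by omega
  obtain ⟨κ, hκ⟩ := exists_gen (F := F)
  obtain ⟨h, hh⟩ := hsurj (hz hσ κ)
  obtain ⟨hab, χ₁, hχ1, hχ2⟩ := app1 hσ hm hF σ hsurj hc hκ hh
  have hcentral := Wt_central hσ hm hF σ hsurj hc hab hκ hh
  set C : Subgroup ↥(St hσ σ) := (Wt hσ σ).subgroupOf (St hσ σ) with hCdef
  have hC : C ≤ Subgroup.center ↥(St hσ σ) := by
    intro c hcm
    rw [Subgroup.mem_center_iff]
    intro g
    exact Subtype.ext (hcentral g.1 g.2 c.1 (Subgroup.mem_subgroupOf.mp hcm))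
  let incl : C →* ↥(Wt hσ σ) :=
    { toFun := fun c => ⟨c.1.1, Subgroup.mem_subgroupOf.mp c.2⟩
      map_one' := rfl
      map_mul' := fun _ _ => rfl }
  have key := exists_invariant_extension (E := ↥(St hσ σ)) (A := ↥(Subgroup.center Γ))
    (card_gt hm hF) C hC (χ₁.comp incl) (fun x => aOf (σ x.1))
    (fun x y => aOf_mul hσ σ x.2 y.2)
    (by
      intro a
      obtain ⟨x, hx⟩ := hsurj (tz hσ a 0)
      exact ⟨⟨x, (mem_St hσ σ).mpr ⟨a, 0, hx⟩⟩, by simp only [hx, aOf_tz]⟩)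
    (by
      intro x
      rw [mem_Wt_iff_aOf hσ σ x.2, hCdef, Subgroup.mem_subgroupOf])
    (conjHom (St hσ σ) h (fun x hx => conj_mem_St hσ σ hm1 hF hh hx))
    (κ : F) hκ (gen_ne_one hσ hm hF hκ).1
    (fun x => aOf_conj hσ σ hm1 hF hh x.2)
    (by
      intro c hcm hcm'
      exact hχ2 c.1 (Subgroup.mem_subgroupOf.mp hcm) (Subgroup.mem_subgroupOf.mp hcm'))
  obtain ⟨-, χ, hχ3, -⟩ := key
  refine ⟨χ, fun z hz => ?_⟩
  have := hχ3 ⟨⟨z, Wt_le_St hσ σ (ker_le_Wt hσ σ hz)⟩,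
    Subgroup.mem_subgroupOf.mpr (ker_le_Wt hσ σ hz)⟩
  rw [this]
  exact hχ1 z hz

include hm hF hsurj in
theorem index_St : Nat.Coprime (St hσ σ).index 2 := by
  have hm1 : 1 ≤ m := by omega
  have h0 : (St hσ σ).index = (szTsub hσ).index := Subgroup.index_comap_of_surjective _ hsurj
  have h1 := Subgroup.card_mul_index (szTsub hσ)
  rw [card_szTsub, card_Sz hm1 hF, Nat.card_eq_fintype_card, hF] at h1
  have hq : 0 < (2 ^ (2 * m + 1)) ^ 2 := by positivity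
  have h2 : (szTsub hσ).index = ((2 ^ (2 * m + 1)) ^ 2 + 1) * (2 ^ (2 * m + 1) - 1) :=
    Nat.eq_of_mul_eq_mul_left hq (by rw [h1]; ring)
  rw [h0, h2]
  have hge : 1 ≤ 2 ^ (2 * m + 1) := Nat.one_le_two_pow
  have e1 : Odd ((2 ^ (2 * m + 1)) ^ 2 + 1) := by
    refine Even.add_one ?_
    rw [← pow_mul]
    exact (Nat.even_pow.mpr ⟨even_two, by omega⟩)
  have e2 : Odd (2 ^ (2 * m + 1) - 1) := by
    refine Nat.Even.sub_odd hge ?_ odd_one
    exact (Nat.even_pow.mpr ⟨even_two, by omega⟩)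
  exact Nat.Coprime.mul_left (Nat.coprime_two_right.mpr e1) (Nat.coprime_two_right.mpr e2)

include hσ hm hF hsurj hc in
/-- the `2`-part of the kernel of a stem extension of `Sz(q)`, `q ≥ 32`, is trivial -/
theorem two_part [Finite Γ] (hcomm : σ.ker ≤ commutator Γ) {z : Γ} (hz : z ∈ σ.ker)
    (hz2 : z ^ 2 = 1) : z = 1 := by
  obtain ⟨χ, hχ⟩ := app2 hσ hm hF σ hsurj hc
  have h1 := map_eq_one_of_transfer (St hσ σ) χ (hc hz)
    (Wt_le_St hσ σ (ker_le_Wt hσ σ hz)) (hcomm hz) hz2 (index_St hσ hm hF σ hsurj)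
  have h2 := hχ z hz
  rw [h1] at h2
  exact h2.symm

end main2

section odd

variable {F : Type*} [Field F] [Fintype F] [CharP F 2] {m : ℕ} (hσ : SgSq (F := F) m)
  (hm : 1 ≤ m) (hF : Fintype.card F = 2 ^ (2 * m + 1))

theorem arith_prod (m : ℕ) :
    (2 ^ (2 * m + 1) + 2 ^ (m + 1) + 1) * (2 ^ (2 * m + 1) - 2 ^ (m + 1) + 1)
      = (2 ^ (2 * m + 1)) ^ 2 + 1 := by
  have hR2 : 2 ^ (m + 1) * 2 ^ (m + 1) = 2 * 2 ^ (2 * m + 1) := by
    rw [← pow_add, ← pow_succ']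
    congr 1; omega
  have hle : 2 ^ (m + 1) ≤ 2 ^ (2 * m + 1) := Nat.pow_le_pow_right (by norm_num) (by omega)
  obtain ⟨D, hD⟩ := Nat.exists_eq_add_of_le hle
  rw [hD] at hR2 ⊢
  rw [Nat.add_sub_cancel_left]
  nlinarith [hR2]

include hσ hm hF in
/-- for every odd prime there is a cyclic subgroup of `Sz(q)` of index prime to it -/
theorem exists_cyclic_coprime_index {p : ℕ} (hp : p.Prime) (hp2 : p ≠ 2) :
    ∃ A : Subgroup (Sz F m), IsCyclic A ∧ Nat.Coprime A.index p := by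
  set Q := 2 ^ (2 * m + 1) with hQ
  set R := 2 ^ (m + 1) with hR
  have hcard := card_Sz hm hF
  rw [← hQ] at hcard
  have hprod : (Q + R + 1) * (Q - R + 1) = Q ^ 2 + 1 := arith_prod m
  have hQ1 : 1 ≤ Q := Nat.one_le_two_pow
  have hnd2 : ∀ k : ℕ, ¬ p ∣ 2 ^ k := by
    intro k hk
    have := (Nat.prime_dvd_prime_iff_eq hp Nat.prime_two).mp (hp.dvd_of_dvd_pow hk)
    exact hp2 this
  have hcop : ∀ n : ℕ, ¬ p ∣ n → Nat.Coprime n p := fun n hn =>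
    ((Nat.Prime.coprime_iff_not_dvd hp).mpr hn).symm
  have hQp : Nat.Coprime (Q ^ 2) p := hcop _ (by rw [hQ, ← pow_mul]; exact hnd2 _)
  by_cases h1 : p ∣ Q - 1
  · -- torus of order q - 1
    refine ⟨szHsub hσ, isCyclic_szHsub hσ, ?_⟩
    have hc1 : Nat.card (szHsub hσ) = Q - 1 := by
      rw [card_szHsub, Nat.card_eq_fintype_card, hF]
    have h2 := Subgroup.card_mul_index (szHsub hσ)
    rw [hc1, hcard] at h2
    have hpos : 0 < Q - 1 := Nat.pos_of_ne_zero (by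
      intro h0; rw [h0] at h1
      have : 2 ^ 3 ≤ Q := Nat.pow_le_pow_right (by norm_num) (by omega)
      omega)
    have h3 : (szHsub hσ).index = Q ^ 2 * (Q ^ 2 + 1) :=
      Nat.eq_of_mul_eq_mul_left hpos (by rw [h2]; ring)
    rw [h3]
    refine Nat.Coprime.mul_left hQp (hcop _ ?_)
    intro h4
    -- Q^2 + 1 = (Q - 1) * (Q + 1) + 2
    have e : Q ^ 2 + 1 = (Q - 1) * (Q + 1) + 2 := by
      obtain ⟨t, ht⟩ := Nat.exists_eq_add_of_le hQ1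
      rw [ht, Nat.add_sub_cancel_left]; ring
    rw [e] at h4
    have := (Nat.dvd_add_right (Dvd.dvd.mul_right h1 _)).mp h4
    exact hnd2 1 (by simpa using this)
  · by_cases h2 : p ∣ Q + R + 1
    · obtain ⟨U, hU, hcU, -, -⟩ := Cfsg.Agent.S0333.result hm hF (Q + R + 1) (Or.inl rfl)
      refine ⟨U, hU, ?_⟩
      have h3 := Subgroup.card_mul_index U
      rw [hcU, hcard, ← hprod] at h3
      have h4 : U.index = Q ^ 2 * (Q - R + 1) * (Q - 1) :=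
        Nat.eq_of_mul_eq_mul_left (by omega : 0 < Q + R + 1) (by rw [h3]; ring)
      rw [h4]
      refine Nat.Coprime.mul_left (Nat.Coprime.mul_left hQp (hcop _ ?_)) (hcop _ h1)
      intro h5
      -- (Q + R + 1) = (Q - R + 1) + 2 R
      have hle : R ≤ Q := Nat.pow_le_pow_right (by norm_num) (by omega)
      have e : Q + R + 1 = (Q - R + 1) + 2 * R := by omega
      rw [e] at h2
      have := (Nat.dvd_add_right h5).mp h2
      exact hnd2 (m + 2) (by rw [pow_succ']; exact this)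
    · obtain ⟨U, hU, hcU, -, -⟩ := Cfsg.Agent.S0333.result hm hF (Q - R + 1) (Or.inr rfl)
      refine ⟨U, hU, ?_⟩
      have h3 := Subgroup.card_mul_index U
      rw [hcU, hcard, ← hprod] at h3
      have h4 : U.index = Q ^ 2 * (Q + R + 1) * (Q - 1) :=
        Nat.eq_of_mul_eq_mul_left (by omega : 0 < Q - R + 1) (by rw [h3]; ring)
      rw [h4]
      exact Nat.Coprime.mul_left (Nat.Coprime.mul_left hQp (hcop _ h2)) (hcop _ h1)

end odd


section final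

variable {F : Type*} [Field F] [Fintype F] {m : ℕ}

/-- Every finite stem extension of `Sz(q)`, `q = 2^(2m+1) ≥ 32`, is an isomorphism. -/
theorem ker_eq_bot (hm : 2 ≤ m) (hF : Fintype.card F = 2 ^ (2 * m + 1))
    {Γ : Type*} [Group Γ] [Finite Γ] (σ : Γ →* Sz F m) (hs : Cfsg.IsStemExtension σ) :
    σ.ker = ⊥ := by
  haveI := sz_charP hF
  have hσ : SgSq (F := F) m := sgSq_of_card m hF
  obtain ⟨hsurj, hc, hcomm⟩ := hs
  by_contra hne
  have hcard : Nat.card σ.ker ≠ 1 := fun h => hne (Subgroup.card_eq_one.mp h)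
  obtain ⟨p, hp, hpd⟩ := Nat.exists_prime_and_dvd hcard
  haveI : Fact p.Prime := ⟨hp⟩
  obtain ⟨x, hx⟩ := exists_prime_orderOf_dvd_card' p hpd
  have hz : (x : Γ) ∈ σ.ker := x.2
  have hzp : (x : Γ) ^ p = 1 := by
    have := pow_orderOf_eq_one x
    rw [hx] at this
    exact_mod_cast congrArg Subtype.val this
  have hx1 : (x : Γ) ≠ 1 := by
    intro h
    have : x = 1 := Subtype.ext h
    rw [this, orderOf_one] at hx
    exact hp.one_lt.ne hx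
  apply hx1
  by_cases hp2 : p = 2
  · subst hp2
    exact two_part hσ hm hF σ hsurj hc hcomm hz hzp
  · obtain ⟨A, hA, hcop⟩ := exists_cyclic_coprime_index hσ (by omega : 1 ≤ m) hF hp hp2
    exact eq_one_of_cyclic σ hsurj hc hcomm A hcop hz hzp

end final

end Cfsg.Agent.Lib.Helper95.SzSchur
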